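import Mathlib
import Cfsg.Agent.Lib.Helper21.SylowCount
import Cfsg.Agent.Lib.Helper16.SylowNormal

set_option autoImplicit false

/-! Counting lemmas for the Timmesfeld replacement theorem. -/

namespace Cfsg.Agent.Helper27

open scoped commutatorElement

variable {G : Type*} [Group G]

theorem card_sup_mul_card_inf [Finite G] (H F : Subgroup G)
    (h : H ≤ Subgroup.normalizer (F : Set G)) :
    Nat.card (H ⊔ F : Subgroup G) * Nat.card (H ⊓ F : Subgroup G) = Nat.card H * Nat.card F := by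
  have e1 := Helper16.card_inf_mul_relIndex' H (H ⊔ F)
  rw [inf_of_le_left le_sup_left, Helper21.relIndex_sup_eq_of_le_normalizer H F h] at e1
  have e2 := Helper16.card_inf_mul_relIndex' H F
  rw [← e1, ← e2]; ring

theorem centralizer_sup (H₁ H₂ : Subgroup G) :
    Subgroup.centralizer ((H₁ ⊔ H₂ : Subgroup G) : Set G) =
      Subgroup.centralizer (H₁ : Set G) ⊓ Subgroup.centralizer (H₂ : Set G) := by
  apply le_antisymm
  · exact le_inf (Subgroup.centralizer_le (SetLike.coe_subset_coe.mpr le_sup_left))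
      (Subgroup.centralizer_le (SetLike.coe_subset_coe.mpr le_sup_right))
  · rintro x ⟨h1, h2⟩
    have hle : H₁ ⊔ H₂ ≤ Subgroup.centralizer ({x} : Set G) := by
      apply sup_le
      · intro y hy z hz
        rw [Set.mem_singleton_iff] at hz
        subst hz
        exact (h1 y hy).symm
      · intro y hy z hz
        rw [Set.mem_singleton_iff] at hz
        subst hz
        exact (h2 y hy).symm
    intro y hy
    exact (hle hy x rfl).symm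

/-- `C_V(B)`. -/
abbrev cv (V B : Subgroup G) : Subgroup G := V ⊓ Subgroup.centralizer (B : Set G)

/-- The hypotheses on the pair `(V, A)`. -/
structure TimHyp (V A : Subgroup G) : Prop where
  comm : ∀ x ∈ V, ∀ y ∈ V, x * y = y * x
  norm : A ≤ Subgroup.normalizer (V : Set G)
  ab : ⁅A, A⁆ ≤ Subgroup.centralizer (V : Set G)
  best : ∀ B : Subgroup G, B ≤ A →
    Nat.card B * Nat.card (cv V B) ≤ Nat.card A * Nat.card (cv V A)

/-- `Y` is good if `C_A(Y)` together with `Y C_V(A)` is at least as large as `A` with `C_V(A)`. -/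
def Good (V A Y : Subgroup G) : Prop :=
  Nat.card A * Nat.card (cv V A) ≤
    Nat.card (A ⊓ Subgroup.centralizer (Y : Set G) : Subgroup G) * Nat.card (Y ⊔ cv V A : Subgroup G)

variable {V A : Subgroup G}

theorem good_bot (V A : Subgroup G) : Good V A ⊥ := by
  unfold Good
  have h1 : Subgroup.centralizer (((⊥ : Subgroup G)) : Set G) = ⊤ := by
    rw [eq_top_iff]
    intro x _ y hy
    rw [SetLike.mem_coe, Subgroup.mem_bot] at hy
    subst hy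
    simp
  rw [h1, inf_top_eq, bot_sup_eq]

namespace TimHyp

variable (h : TimHyp V A)
include h

theorem conj_mem {a v : G} (ha : a ∈ A) (hv : v ∈ V) : a * v * a⁻¹ ∈ V :=
  (Subgroup.le_normalizer_iff.mp h.norm) a ha v hv

/-- `A` acts on `V` as an abelian group. -/
theorem conj_comm {a b v : G} (ha : a ∈ A) (hb : b ∈ A) (hv : v ∈ V) :
    a * (b * v * b⁻¹) * a⁻¹ = b * (a * v * a⁻¹) * b⁻¹ := by
  have hk : ⁅a⁻¹, b⁻¹⁆ ∈ Subgroup.centralizer (V : Set G) :=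
    h.ab (Subgroup.commutator_mem_commutator (A.inv_mem ha) (A.inv_mem hb))
  rw [commutatorElement_def] at hk
  have hkv := hk v hv
  simp only [inv_inv] at hkv
  -- hkv : v * (a⁻¹ * b⁻¹ * a * b) = a⁻¹ * b⁻¹ * a * b * v
  calc a * (b * v * b⁻¹) * a⁻¹
      = b * a * ((a⁻¹ * b⁻¹ * a * b) * v) * (a⁻¹ * b⁻¹ * a * b)⁻¹ * a⁻¹ * b⁻¹ := by group
    _ = b * a * (v * (a⁻¹ * b⁻¹ * a * b)) * (a⁻¹ * b⁻¹ * a * b)⁻¹ * a⁻¹ * b⁻¹ := by rw [hkv]
    _ = b * (a * v * a⁻¹) * b⁻¹ := by group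

theorem cv_le (B : Subgroup G) : cv V B ≤ V := inf_le_left

theorem good_sup [Finite G] {Y₁ Y₂ : Subgroup G} (h₁V : Y₁ ≤ V) (h₂V : Y₂ ≤ V)
    (h₁ : Good V A Y₁) (h₂ : Good V A Y₂) : Good V A (Y₁ ⊔ Y₂) := by
  unfold Good at h₁ h₂ ⊢
  set C := cv V A with hC
  set B₁ := A ⊓ Subgroup.centralizer (Y₁ : Set G) with hB₁
  set B₂ := A ⊓ Subgroup.centralizer (Y₂ : Set G) with hB₂
  set W₁ := Y₁ ⊔ C with hW₁
  set W₂ := Y₂ ⊔ C with hW₂
  have hCV : C ≤ V := inf_le_left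
  have hW₁V : W₁ ≤ V := sup_le h₁V hCV
  have hW₂V : W₂ ≤ V := sup_le h₂V hCV
  -- K = C_A(V) lies in both B's
  have hKB : ∀ Y : Subgroup G, Y ≤ V → ∀ k ∈ ⁅A, A⁆, k ∈ A ⊓ Subgroup.centralizer (Y : Set G) := by
    intro Y hY k hk
    refine ⟨?_, ?_⟩
    · have hle : ⁅A, A⁆ ≤ A := by
        rw [Subgroup.commutator_le]
        intro a ha b hb
        rw [commutatorElement_def]
        exact A.mul_mem (A.mul_mem (A.mul_mem ha hb) (A.inv_mem ha)) (A.inv_mem hb)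
      exact hle hk
    · exact Subgroup.centralizer_le (SetLike.coe_subset_coe.mpr hY) (h.ab hk)
  have hBnorm : B₁ ≤ Subgroup.normalizer (B₂ : Set G) := by
    rw [Subgroup.le_normalizer_iff]
    intro b₁ hb₁ b₂ hb₂
    have hc : ⁅b₁, b₂⁆ ∈ B₂ :=
      hKB Y₂ h₂V _ (Subgroup.commutator_mem_commutator hb₁.1 hb₂.1)
    have : b₁ * b₂ * b₁⁻¹ = ⁅b₁, b₂⁆ * b₂ := by rw [commutatorElement_def]; group
    rw [this]
    exact B₂.mul_mem hc hb₂
  have hWnorm : W₁ ≤ Subgroup.normalizer (W₂ : Set G) := by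
    rw [Subgroup.le_normalizer_iff]
    intro w₁ hw₁ w₂ hw₂
    have : w₁ * w₂ * w₁⁻¹ = w₂ := by
      rw [h.comm w₁ (hW₁V hw₁) w₂ (hW₂V hw₂)]; group
    rw [this]; exact hw₂
  have hBinf : A ⊓ Subgroup.centralizer ((Y₁ ⊔ Y₂ : Subgroup G) : Set G) = B₁ ⊓ B₂ := by
    rw [centralizer_sup, hB₁, hB₂]
    ext x
    simp only [Subgroup.mem_inf]
    tauto
  have hWsup : (Y₁ ⊔ Y₂) ⊔ C = W₁ ⊔ W₂ := by
    rw [hW₁, hW₂, sup_sup_sup_comm, sup_idem]
  rw [hBinf, hWsup]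
  -- W₁ ⊓ W₂ ≤ C_V(B₁ ⊔ B₂)
  have hWB : ∀ (Y : Subgroup G), Y ⊔ C ≤ Subgroup.centralizer
      ((A ⊓ Subgroup.centralizer (Y : Set G) : Subgroup G) : Set G) := by
    intro Y
    apply sup_le
    · rw [Subgroup.le_centralizer_iff]
      exact inf_le_right
    · exact inf_le_right.trans (Subgroup.centralizer_le (SetLike.coe_subset_coe.mpr inf_le_left))
  have hWinf : W₁ ⊓ W₂ ≤ cv V (B₁ ⊔ B₂) := by
    apply le_inf
    · exact inf_le_left.trans hW₁V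
    · rw [centralizer_sup]
      exact le_inf (inf_le_left.trans (hWB Y₁)) (inf_le_right.trans (hWB Y₂))
  have hcardW : Nat.card (W₁ ⊓ W₂ : Subgroup G) ≤ Nat.card (cv V (B₁ ⊔ B₂)) :=
    Subgroup.card_le_of_le hWinf
  have hbest := h.best (B₁ ⊔ B₂) (sup_le inf_le_left inf_le_left)
  have eB := card_sup_mul_card_inf B₁ B₂ hBnorm
  have eW := card_sup_mul_card_inf W₁ W₂ hWnorm
  set m := Nat.card A * Nat.card C with hm
  have hmpos : 0 < m := Nat.mul_pos Nat.card_pos Nat.card_pos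
  -- m * m ≤ (|B₁||W₁|) (|B₂||W₂|) = (|B₁⊔B₂||W₁⊓W₂|)(|B₁⊓B₂||W₁⊔W₂|) ≤ m * (|B₁⊓B₂||W₁⊔W₂|)
  have key : m * m ≤ m * (Nat.card (B₁ ⊓ B₂ : Subgroup G) * Nat.card (W₁ ⊔ W₂ : Subgroup G)) := by
    calc m * m ≤ (Nat.card B₁ * Nat.card W₁) * (Nat.card B₂ * Nat.card W₂) :=
          Nat.mul_le_mul h₁ h₂
      _ = (Nat.card B₁ * Nat.card B₂) * (Nat.card W₁ * Nat.card W₂) := by ring
      _ = (Nat.card (B₁ ⊔ B₂ : Subgroup G) * Nat.card (B₁ ⊓ B₂ : Subgroup G)) *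
            (Nat.card (W₁ ⊔ W₂ : Subgroup G) * Nat.card (W₁ ⊓ W₂ : Subgroup G)) := by
          rw [eB, eW]
      _ = (Nat.card (B₁ ⊔ B₂ : Subgroup G) * Nat.card (W₁ ⊓ W₂ : Subgroup G)) *
            (Nat.card (B₁ ⊓ B₂ : Subgroup G) * Nat.card (W₁ ⊔ W₂ : Subgroup G)) := by ring
      _ ≤ (Nat.card (B₁ ⊔ B₂ : Subgroup G) * Nat.card (cv V (B₁ ⊔ B₂))) *
            (Nat.card (B₁ ⊓ B₂ : Subgroup G) * Nat.card (W₁ ⊔ W₂ : Subgroup G)) :=
          Nat.mul_le_mul_right _ (Nat.mul_le_mul_left _ hcardW)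
      _ ≤ m * (Nat.card (B₁ ⊓ B₂ : Subgroup G) * Nat.card (W₁ ⊔ W₂ : Subgroup G)) :=
          Nat.mul_le_mul_right _ hbest
  exact Nat.le_of_mul_le_mul_left key hmpos

/-- The subgroup generated by the commutators `⁅u, a⁆`, `a ∈ A`. -/
def commSub (A : Subgroup G) (u : G) : Subgroup G :=
  Subgroup.closure {g | ∃ a ∈ A, ⁅u, a⁆ = g}

omit h in
theorem comm_mul_eq (u a b : G) : ⁅u, a * b⁆ = ⁅u, a⁆ * (a * ⁅u, b⁆ * a⁻¹) := by
  simp only [commutatorElement_def]; group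

theorem comm_mem {u a : G} (hu : u ∈ V) (ha : a ∈ A) : ⁅u, a⁆ ∈ V := by
  rw [commutatorElement_def]
  have h1 : a * u⁻¹ * a⁻¹ ∈ V := h.conj_mem ha (V.inv_mem hu)
  have : u * a * u⁻¹ * a⁻¹ = u * (a * u⁻¹ * a⁻¹) := by group
  rw [this]
  exact V.mul_mem hu h1

theorem commSub_le {u : G} (hu : u ∈ V) : commSub A u ≤ V := by
  unfold commSub
  rw [Subgroup.closure_le]
  rintro _ ⟨a, ha, rfl⟩
  exact h.comm_mem hu ha

theorem comm_swap {u a b : G} (hu : u ∈ V) (ha : a ∈ A) (hb : b ∈ A) :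
    ⁅u, a * b⁆ = ⁅u, b * a⁆ := by
  have h1 := h.conj_comm ha hb (V.inv_mem hu)
  simp only [commutatorElement_def]
  calc u * (a * b) * u⁻¹ * (a * b)⁻¹ = u * (a * (b * u⁻¹ * b⁻¹) * a⁻¹) := by group
    _ = u * (b * (a * u⁻¹ * a⁻¹) * b⁻¹) := by rw [h1]
    _ = u * (b * a) * u⁻¹ * (b * a)⁻¹ := by group

/-- the symmetric relation `(a - 1) e(b) = (b - 1) e(a)` -/
theorem comm_sym {u a b : G} (hu : u ∈ V) (ha : a ∈ A) (hb : b ∈ A) :
    (a * ⁅u, b⁆ * a⁻¹) * ⁅u, b⁆⁻¹ = (b * ⁅u, a⁆ * b⁻¹) * ⁅u, a⁆⁻¹ := by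
  have h1 := h.comm_swap hu ha hb
  rw [comm_mul_eq, comm_mul_eq] at h1
  -- h1 : e a * (a • e b) = e b * (b • e a)
  have hea := h.comm_mem hu ha
  have heb := h.comm_mem hu hb
  have haeb := h.conj_mem ha heb
  have hbea := h.conj_mem hb hea
  have h2 : a * ⁅u, b⁆ * a⁻¹ = ⁅u, a⁆⁻¹ * (⁅u, b⁆ * (b * ⁅u, a⁆ * b⁻¹)) := by
    rw [← h1]; group
  rw [h2]
  -- everything is in the abelian group V
  have c1 := h.comm ⁅u, b⁆ heb (b * ⁅u, a⁆ * b⁻¹) hbea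
  have c2 := h.comm ⁅u, a⁆⁻¹ (V.inv_mem hea) (b * ⁅u, a⁆ * b⁻¹ * ⁅u, b⁆) (V.mul_mem hbea heb)
  calc ⁅u, a⁆⁻¹ * (⁅u, b⁆ * (b * ⁅u, a⁆ * b⁻¹)) * ⁅u, b⁆⁻¹
      = ⁅u, a⁆⁻¹ * (b * ⁅u, a⁆ * b⁻¹ * ⁅u, b⁆) * ⁅u, b⁆⁻¹ := by rw [c1]
    _ = (b * ⁅u, a⁆ * b⁻¹ * ⁅u, b⁆) * ⁅u, a⁆⁻¹ * ⁅u, b⁆⁻¹ := by rw [c2]
    _ = b * ⁅u, a⁆ * b⁻¹ * (⁅u, b⁆ * ⁅u, a⁆⁻¹) * ⁅u, b⁆⁻¹ := by group
    _ = b * ⁅u, a⁆ * b⁻¹ * (⁅u, a⁆⁻¹ * ⁅u, b⁆) * ⁅u, b⁆⁻¹ := by
        rw [h.comm ⁅u, b⁆ heb ⁅u, a⁆⁻¹ (V.inv_mem hea)]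
    _ = b * ⁅u, a⁆ * b⁻¹ * ⁅u, a⁆⁻¹ := by group

theorem mem_of_comm_mem_cv {u c : G} (hu : u ∈ V) (hc : c ∈ A) (hec : ⁅u, c⁆ ∈ cv V A) :
    c ∈ A ⊓ Subgroup.centralizer (commSub A u : Set G) := by
  refine ⟨hc, ?_⟩
  have hle : commSub A u ≤ Subgroup.centralizer ({c} : Set G) := by
    unfold commSub
    rw [Subgroup.closure_le]
    rintro _ ⟨b, hb, rfl⟩
    intro z hz
    rw [Set.mem_singleton_iff] at hz
    subst hz
    have hs := h.comm_sym hu hc hb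
    have hb' : b * ⁅u, z⁆ * b⁻¹ = ⁅u, z⁆ := by
      have := hec.2 b hb
      rw [this]; group
    rw [hb', mul_inv_cancel] at hs
    -- hs : z * e b * z⁻¹ * (e b)⁻¹ = 1
    have : z * ⁅u, b⁆ * z⁻¹ = ⁅u, b⁆ := mul_inv_eq_one.mp hs
    calc z * ⁅u, b⁆ = (z * ⁅u, b⁆ * z⁻¹) * z := by group
      _ = ⁅u, b⁆ * z := by rw [this]
  intro y hy
  exact (hle hy c rfl).symm

theorem mem_of_comm_div_mem_cv {u a b : G} (hu : u ∈ V) (ha : a ∈ A) (hb : b ∈ A)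
    (hab : ⁅u, a⁆⁻¹ * ⁅u, b⁆ ∈ cv V A) :
    a⁻¹ * b ∈ A ⊓ Subgroup.centralizer (commSub A u : Set G) := by
  have hc : a⁻¹ * b ∈ A := A.mul_mem (A.inv_mem ha) hb
  apply h.mem_of_comm_mem_cv hu hc
  have h1 : ⁅u, b⁆ = ⁅u, a⁆ * (a * ⁅u, a⁻¹ * b⁆ * a⁻¹) := by
    rw [← comm_mul_eq]
    congr 1
    group
  have h2 : ⁅u, a⁆⁻¹ * ⁅u, b⁆ = a * ⁅u, a⁻¹ * b⁆ * a⁻¹ := by rw [h1]; group
  rw [h2] at hab
  -- a • e c is fixed by A, hence equals e c
  have h3 := hab.2 a⁻¹ (A.inv_mem ha)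
  have h4 : ⁅u, a⁻¹ * b⁆ = a * ⁅u, a⁻¹ * b⁆ * a⁻¹ := by
    calc ⁅u, a⁻¹ * b⁆ = a⁻¹ * (a * ⁅u, a⁻¹ * b⁆ * a⁻¹) * a := by group
      _ = (a * ⁅u, a⁻¹ * b⁆ * a⁻¹) * a⁻¹ * a := by rw [h3]
      _ = a * ⁅u, a⁻¹ * b⁆ * a⁻¹ := by group
  rw [h4]
  exact hab

theorem good_single [Finite G] {u : G} (hu : u ∈ V) : Good V A (commSub A u) := by
  classical
  unfold Good
  set Y := commSub A u with hY
  set C := cv V A with hC
  set B := A ⊓ Subgroup.centralizer (Y : Set G) with hB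
  set W := Y ⊔ C with hW
  have hCW : C ≤ W := le_sup_right
  have heW : ∀ a : A, ⁅u, (a : G)⁆ ∈ W := fun a =>
    (le_sup_left : Y ≤ W) (Subgroup.subset_closure ⟨a, a.2, rfl⟩)
  let T := ↥W ⧸ (C.subgroupOf W)
  let φ : A → T := fun a => QuotientGroup.mk (⟨⁅u, (a : G)⁆, heW a⟩ : W)
  have hφ : ∀ a b : A, φ a = φ b → (a : G)⁻¹ * b ∈ B := by
    intro a b hab
    have h1 : (⟨⁅u, (a : G)⁆, heW a⟩ : W)⁻¹ * ⟨⁅u, (b : G)⁆, heW b⟩ ∈ C.subgroupOf W :=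
      QuotientGroup.eq.mp hab
    have h2 : ⁅u, (a : G)⁆⁻¹ * ⁅u, (b : G)⁆ ∈ C := h1
    exact h.mem_of_comm_div_mem_cv hu a.2 b.2 h2
  let sec : T → A := fun t => if ht : ∃ a : A, φ a = t then ht.choose else 1
  have hsec : ∀ a : A, φ (sec (φ a)) = φ a := by
    intro a
    have ht : ∃ a' : A, φ a' = φ a := ⟨a, rfl⟩
    show φ (if ht : ∃ a' : A, φ a' = φ a then ht.choose else 1) = φ a
    rw [dif_pos ht]
    exact ht.choose_spec
  let F : A → B × T := fun a => (⟨(sec (φ a) : G)⁻¹ * a, hφ _ _ (hsec a)⟩, φ a)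
  have hF : Function.Injective F := by
    intro a b hab
    have h1 : φ a = φ b := congrArg Prod.snd hab
    have h2 : ((sec (φ a) : G)⁻¹ * a : G) = (sec (φ b) : G)⁻¹ * b :=
      congrArg (fun x : B × T => (x.1 : G)) hab
    rw [h1] at h2
    exact Subtype.ext (mul_left_cancel h2)
  have hcard1 : Nat.card A ≤ Nat.card B * Nat.card T := by
    have := Nat.card_le_card_of_injective F hF
    rwa [Nat.card_prod] at this
  have hcard2 : Nat.card W = Nat.card T * Nat.card C := by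
    have := Subgroup.card_eq_card_quotient_mul_card_subgroup (C.subgroupOf W)
    rw [this]
    congr 1
    exact Nat.card_congr (Subgroup.subgroupOfEquivOfLe hCW).toEquiv
  calc Nat.card A * Nat.card C ≤ (Nat.card B * Nat.card T) * Nat.card C :=
        Nat.mul_le_mul_right _ hcard1
    _ = Nat.card B * Nat.card W := by rw [hcard2]; ring


theorem good_finset_sup [Finite G] (s : Finset G) (hs : ∀ u ∈ s, u ∈ V) :
    Good V A (s.sup (commSub A)) ∧ s.sup (commSub A) ≤ V := by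
  classical
  induction s using Finset.induction_on with
  | empty => exact ⟨by rw [Finset.sup_empty]; exact good_bot V A, by rw [Finset.sup_empty]; exact bot_le⟩
  | insert u s hus ih =>
    have hu : u ∈ V := hs u (Finset.mem_insert_self u s)
    obtain ⟨ih1, ih2⟩ := ih (fun v hv => hs v (Finset.mem_insert_of_mem hv))
    rw [Finset.sup_insert]
    exact ⟨h.good_sup (h.commSub_le hu) ih2 (h.good_single hu) ih1, sup_le (h.commSub_le hu) ih2⟩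

theorem good_commutator [Finite G] {U : Subgroup G} (hU : U ≤ V) : Good V A ⁅U, A⁆ := by
  classical
  let s : Finset G := (Set.toFinite (U : Set G)).toFinset
  have hs : ∀ u, u ∈ s ↔ u ∈ U := fun u => by simp [s]
  have heq : ⁅U, A⁆ = s.sup (commSub A) := by
    apply le_antisymm
    · rw [Subgroup.commutator_le]
      intro u hu a ha
      have h1 : commSub A u ≤ s.sup (commSub A) := Finset.le_sup ((hs u).mpr hu)
      exact h1 (Subgroup.subset_closure ⟨a, ha, rfl⟩)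
    · apply Finset.sup_le
      intro u hu
      unfold commSub
      rw [Subgroup.closure_le]
      rintro _ ⟨a, ha, rfl⟩
      exact Subgroup.commutator_mem_commutator ((hs u).mp hu) ha
  rw [heq]
  exact (h.good_finset_sup s (fun u hu => hU ((hs u).mp hu))).1


end TimHyp

end Cfsg.Agent.Helper27
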