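import Mathlib

set_option autoImplicit false
set_option linter.unusedSectionVars false

/-! The Möbius action of `GL₂(K)` on the projective line as a homomorphism `mobiusGL`, whose kernel is the centre; affine and antidiagonal matrices; recognition of `GL₂(K)/centre` from a faithful action generated by Möbius maps (`equiv_pgl_of_mobiusGL`); transfer of `GL₂/centre` along ring isomorphisms (`pglTransfer`); the order `4896` over `ZMod 17`. -/

namespace Cfsg.Agent.Helper27.PGL


open Matrix

section

variable (K : Type*) [Field K] [DecidableEq K]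

/-- The Möbius action of `GL₂(K)` on the projective line, as a homomorphism. -/
noncomputable def mobiusGL : GL (Fin 2) K →* Equiv.Perm (OnePoint K) :=
  MulAction.toPermHom (GL (Fin 2) K) (OnePoint K)

variable {K}

theorem mobiusGL_apply (A : GL (Fin 2) K) (q : OnePoint K) : mobiusGL K A q = A • q := rfl

theorem mobiusGL_ker : (mobiusGL K).ker = Subgroup.center (GL (Fin 2) K) := by
  ext A
  rw [MonoidHom.mem_ker, GeneralLinearGroup.mem_center_iff_val_mem_range_scalar]
  have hdet : A 0 0 * A 1 1 - A 0 1 * A 1 0 ≠ 0 := by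
    have := A.det_ne_zero
    rwa [Matrix.det_fin_two] at this
  constructor
  · intro h
    have h1 : A • (OnePoint.infty : OnePoint K) = OnePoint.infty := by
      rw [← mobiusGL_apply, h]; rfl
    have h10 : A 1 0 = 0 := OnePoint.smul_infty_eq_self_iff.1 h1
    rw [h10, mul_zero, sub_zero] at hdet
    have h11 : A 1 1 ≠ 0 := fun h0 => hdet (by rw [h0, mul_zero])
    have h2 : A • (((0 : K)) : OnePoint K) = ((0 : K) : OnePoint K) := by
      rw [← mobiusGL_apply, h]; rfl
    have h01 : A 0 1 = 0 := by
      rw [OnePoint.smul_some_eq_ite, h10] at h2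
      simp only [mul_zero, zero_add] at h2
      rw [if_neg h11] at h2
      have := OnePoint.coe_injective h2
      rcases div_eq_zero_iff.1 this with h | h
      · exact h
      · exact absurd h h11
    have h3 : A • (((1 : K)) : OnePoint K) = ((1 : K) : OnePoint K) := by
      rw [← mobiusGL_apply, h]; rfl
    have h00 : A 0 0 = A 1 1 := by
      rw [OnePoint.smul_some_eq_ite, h10, h01] at h3
      simp only [mul_one, zero_add, add_zero] at h3
      rw [if_neg h11] at h3
      have := OnePoint.coe_injective h3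
      rwa [div_eq_one_iff_eq h11] at this
    refine ⟨A 0 0, ?_⟩
    ext i j
    fin_cases i <;> fin_cases j <;> simp [h01, h10, h00]
  · rintro ⟨r, hr⟩
    have e : ∀ i j, A i j = (Matrix.scalar (Fin 2) r) i j := fun i j => by rw [hr]
    have h00 : A 0 0 = r := by rw [e]; simp
    have h01 : A 0 1 = 0 := by rw [e]; simp
    have h10 : A 1 0 = 0 := by rw [e]; simp
    have h11 : A 1 1 = r := by rw [e]; simp
    have hr0 : r ≠ 0 := by
      intro h0
      apply hdet
      rw [h00, h0, zero_mul, h01, zero_mul, sub_zero]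
    ext q
    rw [mobiusGL_apply]
    induction q using OnePoint.rec with
    | infty =>
      rw [OnePoint.smul_infty_eq_ite, if_pos h10]; rfl
    | coe k =>
      rw [OnePoint.smul_some_eq_ite, h00, h01, h10, h11]
      simp only [zero_mul, zero_add, add_zero]
      rw [if_neg hr0, mul_div_cancel_left₀ _ hr0]
      rfl

/-- the affine matrix -/
noncomputable def affMat (μ β : K) (hμ : μ ≠ 0) : GL (Fin 2) K :=
  GeneralLinearGroup.mkOfDetNeZero !![μ, β; 0, 1] (by simp [Matrix.det_fin_two, hμ])

/-- the antidiagonal matrix -/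
noncomputable def antiMatGL (c : K) (hc : c ≠ 0) : GL (Fin 2) K :=
  GeneralLinearGroup.mkOfDetNeZero !![0, c; 1, 0] (by simp [Matrix.det_fin_two, hc])

theorem affMat_infty (μ β : K) (hμ : μ ≠ 0) :
    mobiusGL K (affMat μ β hμ) OnePoint.infty = OnePoint.infty := by
  rw [mobiusGL_apply, OnePoint.smul_infty_eq_ite]
  simp [affMat]

theorem affMat_coe (μ β : K) (hμ : μ ≠ 0) (k : K) :
    mobiusGL K (affMat μ β hμ) (k : OnePoint K) = ((μ * k + β : K) : OnePoint K) := by
  rw [mobiusGL_apply, OnePoint.smul_some_eq_ite]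
  simp [affMat]

theorem antiMatGL_infty (c : K) (hc : c ≠ 0) :
    mobiusGL K (antiMatGL c hc) OnePoint.infty = ((0 : K) : OnePoint K) := by
  rw [mobiusGL_apply, OnePoint.smul_infty_eq_ite]
  simp [antiMatGL]

theorem antiMatGL_zero (c : K) (hc : c ≠ 0) :
    mobiusGL K (antiMatGL c hc) ((0 : K) : OnePoint K) = OnePoint.infty := by
  rw [mobiusGL_apply, OnePoint.smul_some_eq_ite]
  simp [antiMatGL]

theorem antiMatGL_coe (c : K) (hc : c ≠ 0) (k : K) (hk : k ≠ 0) :
    mobiusGL K (antiMatGL c hc) (k : OnePoint K) = ((c / k : K) : OnePoint K) := by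
  rw [mobiusGL_apply, OnePoint.smul_some_eq_ite]
  simp [antiMatGL, hk]

/-- `PGL₂(K)` is the range of the Möbius homomorphism -/
noncomputable def pglEquivRange :
    (GL (Fin 2) K ⧸ Subgroup.center (GL (Fin 2) K)) ≃* (mobiusGL K).range :=
  (QuotientGroup.quotientMulEquivOfEq (mobiusGL_ker (K := K)).symm).trans
    (QuotientGroup.quotientKerEquivRange (mobiusGL K))

theorem equiv_pgl_of_mobiusGL {G : Type*} [Group G] [Finite G] [Finite K]
    (φ : G →* Equiv.Perm (OnePoint K)) (hφ : Function.Injective φ)
    (S : Set G) (hS : Subgroup.closure S = ⊤) (hSφ : ∀ s ∈ S, φ s ∈ (mobiusGL K).range)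
    (hcard : Nat.card G = Nat.card (GL (Fin 2) K ⧸ Subgroup.center (GL (Fin 2) K))) :
    Nonempty (G ≃* (GL (Fin 2) K ⧸ Subgroup.center (GL (Fin 2) K))) := by
  classical
  have : Fintype K := Fintype.ofFinite K
  have hle : φ.range ≤ (mobiusGL K).range := by
    rw [MonoidHom.range_eq_map, ← hS, MonoidHom.map_closure, Subgroup.closure_le]
    rintro _ ⟨s, hs, rfl⟩
    exact hSφ s hs
  have h1 : Nat.card φ.range = Nat.card G :=
    (Nat.card_congr (MonoidHom.ofInjective hφ).toEquiv).symm
  have h2 : Nat.card (mobiusGL K).range =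
      Nat.card (GL (Fin 2) K ⧸ Subgroup.center (GL (Fin 2) K)) :=
    (Nat.card_congr (pglEquivRange (K := K)).toEquiv).symm
  have heq : φ.range = (mobiusGL K).range := by
    apply Subgroup.eq_of_le_of_card_ge hle
    rw [h1, h2, hcard]
  exact ⟨((MonoidHom.ofInjective hφ).trans (MulEquiv.subgroupCongr heq)).trans
    (pglEquivRange (K := K)).symm⟩

end

theorem map_center_equiv {G H : Type*} [Group G] [Group H] (e : G ≃* H) :
    (Subgroup.center G).map (e : G →* H) = Subgroup.center H := by
  ext y
  rw [Subgroup.mem_map]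
  constructor
  · rintro ⟨z, hz, rfl⟩
    rw [Subgroup.mem_center_iff] at hz ⊢
    intro h
    obtain ⟨g, rfl⟩ := e.surjective h
    show e g * e z = e z * e g
    rw [← map_mul, ← map_mul, hz g]
  · intro hy
    refine ⟨e.symm y, ?_, e.apply_symm_apply y⟩
    rw [Subgroup.mem_center_iff] at hy ⊢
    intro g
    apply e.injective
    rw [map_mul, map_mul, e.apply_symm_apply]
    exact hy (e g)

/-- transfer of `PGL` along a ring isomorphism -/
noncomputable def pglTransfer {R S : Type*} [CommRing R] [CommRing S] (e : R ≃+* S) :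
    (GL (Fin 2) R ⧸ Subgroup.center (GL (Fin 2) R)) ≃*
      (GL (Fin 2) S ⧸ Subgroup.center (GL (Fin 2) S)) :=
  QuotientGroup.congr _ _ (Units.mapEquiv (RingEquiv.mapMatrix e).toMulEquiv)
    (map_center_equiv _)

theorem card_GL17 : Nat.card (GL (Fin 2) (ZMod 17)) = 78336 := by
  haveI : Fact (Nat.Prime 17) := ⟨by norm_num⟩
  rw [Matrix.card_GL_field, Fin.prod_univ_two, ZMod.card]
  norm_num

theorem card_center17 : Nat.card (Subgroup.center (GL (Fin 2) (ZMod 17))) = 16 := by
  haveI : Fact (Nat.Prime 17) := ⟨by norm_num⟩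
  rw [GeneralLinearGroup.center_eq_range_scalar]
  have hinj : Function.Injective (GeneralLinearGroup.scalar (Fin 2) (R := ZMod 17)) := by
    intro a b hab
    have h1 := congrArg (fun g : GL (Fin 2) (ZMod 17) => g 0 0) hab
    simp at h1
    exact Units.ext h1
  rw [← Nat.card_congr (MonoidHom.ofInjective hinj).toEquiv, Nat.card_eq_fintype_card,
    ZMod.card_units]

theorem card_pgl17 :
    Nat.card (GL (Fin 2) (ZMod 17) ⧸ Subgroup.center (GL (Fin 2) (ZMod 17))) = 4896 := by
  have h := Subgroup.card_eq_card_quotient_mul_card_subgroup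
    (Subgroup.center (GL (Fin 2) (ZMod 17)))
  rw [card_GL17, card_center17] at h
  omega


end Cfsg.Agent.Helper27.PGL
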