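import Mathlib

set_option autoImplicit false
set_option linter.unusedSectionVars false

/-! Sylow subgroups and quotients: the kernel `sylKer p G` of the action on Sylow `p`-subgroups, the induced map `qmap` on Sylow subgroups of a quotient (surjective, equivariant, injective when the kernel normalises), faithfulness of the quotient by `sylKer` on its Sylow subgroups, equal Sylow numbers force the kernel to normalise; a normal subgroup normalising all Sylow subgroups of a centreless group is trivial (`ker_trivial`); a congruence excluding extra primes (`modEq_one_of_sylow_le`). -/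

namespace Cfsg.Agent.Helper27.SylNum


open Pointwise

variable {G : Type*} [Group G]

theorem map_conj_smul {H : Type*} [Group H] (f : G →* H) (g : G) (S : Subgroup G) :
    (MulAut.conj g • S).map f = MulAut.conj (f g) • S.map f := by
  ext y
  rw [Subgroup.mem_map, Subgroup.mem_pointwise_smul_iff_inv_smul_mem, Subgroup.mem_map]
  constructor
  · rintro ⟨x, hx, rfl⟩
    rw [Subgroup.mem_pointwise_smul_iff_inv_smul_mem] at hx
    refine ⟨_, hx, ?_⟩
    rw [MulAut.smul_def, MulAut.smul_def, ← map_inv, ← map_inv, MulAut.conj_apply,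
      MulAut.conj_apply, map_mul, map_mul, map_inv, inv_inv, inv_inv]
  · rintro ⟨x, hx, hxy⟩
    refine ⟨g * x * g⁻¹, ?_, ?_⟩
    · rw [Subgroup.mem_pointwise_smul_iff_inv_smul_mem, MulAut.smul_def, ← map_inv,
        MulAut.conj_apply, inv_inv]
      have : g⁻¹ * (g * x * g⁻¹) * g = x := by group
      rw [this]
      exact hx
    · rw [map_mul, map_mul, hxy, MulAut.smul_def, ← map_inv, MulAut.conj_apply, inv_inv, map_inv]
      group

/-- the kernel of the action on the Sylow `p`-subgroups -/
def sylKer (p : ℕ) (G : Type*) [Group G] : Subgroup G := (MulAction.toPermHom G (Sylow p G)).ker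

instance sylKer_normal (p : ℕ) : (sylKer p G).Normal := MonoidHom.normal_ker _

theorem mem_sylKer {p : ℕ} {g : G} : g ∈ sylKer p G ↔ ∀ R : Sylow p G, g • R = R := by
  unfold sylKer
  rw [MonoidHom.mem_ker]
  constructor
  · intro h R
    have := congrArg (fun σ : Equiv.Perm (Sylow p G) => σ R) h
    simpa using this
  · intro h
    apply Equiv.ext
    intro R
    exact h R

theorem sylKer_le_normalizer {p : ℕ} (R : Sylow p G) :
    sylKer p G ≤ Subgroup.normalizer (R : Set G) := by
  intro g hg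
  exact Sylow.smul_eq_iff_mem_normalizer.1 (mem_sylKer.1 hg R)

section quot

variable [Finite G] (N : Subgroup G) [N.Normal] (p : ℕ) [hp : Fact p.Prime]

omit [Finite G] in
theorem mk'_surj : Function.Surjective (QuotientGroup.mk' N) := QuotientGroup.mk'_surjective N

/-- the induced map on Sylow subgroups -/
noncomputable def qmap (R : Sylow p G) : Sylow p (G ⧸ N) := R.mapSurjective (mk'_surj N)

theorem qmap_surjective : Function.Surjective (qmap N p) :=
  Sylow.mapSurjective_surjective (mk'_surj N) p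

theorem qmap_smul (g : G) (R : Sylow p G) :
    qmap N p (g • R) = (QuotientGroup.mk' N g) • qmap N p R := by
  apply Sylow.ext
  rw [Sylow.coe_subgroup_smul]
  show ((g • R : Sylow p G) : Subgroup G).map (QuotientGroup.mk' N) =
    MulAut.conj (QuotientGroup.mk' N g) • (R : Subgroup G).map (QuotientGroup.mk' N)
  rw [Sylow.coe_subgroup_smul, map_conj_smul]

theorem qmap_eq_of_le_normalizer (R R' : Sylow p G)
    (hN : N ≤ Subgroup.normalizer (R : Set G))
    (h : qmap N p R = qmap N p R') : R = R' := by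
  have h1 : (R : Subgroup G).map (QuotientGroup.mk' N) = (R' : Subgroup G).map (QuotientGroup.mk' N) :=
    congrArg (fun S : Sylow p (G ⧸ N) => (S : Subgroup (G ⧸ N))) h
  have h2 : (R' : Subgroup G) ≤ (R : Subgroup G) ⊔ N := by
    have := Subgroup.le_comap_map (QuotientGroup.mk' N) (R' : Subgroup G)
    rw [← h1, Subgroup.comap_map_eq, QuotientGroup.ker_mk'] at this
    exact this
  have h3 : (R' : Subgroup G) ≤ Subgroup.normalizer (R : Set G) :=
    h2.trans (sup_le Subgroup.le_normalizer hN)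
  have h4 := R'.2.inf_normalizer_sylow R
  rw [inf_of_le_left h3] at h4
  have h5 : (R' : Subgroup G) ≤ R := by
    rw [h4]; exact inf_le_right
  exact Sylow.ext (R'.3 R.2 h5)

theorem card_qmap_le : Nat.card (Sylow p (G ⧸ N)) ≤ Nat.card (Sylow p G) :=
  Nat.card_le_card_of_surjective _ (qmap_surjective N p)

theorem le_normalizer_of_card_eq (h : Nat.card (Sylow p (G ⧸ N)) = Nat.card (Sylow p G))
    (R : Sylow p G) : N ≤ Subgroup.normalizer (R : Set G) := by
  have hbij : Function.Bijective (qmap N p) :=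
    (qmap_surjective N p).bijective_of_nat_card_le h.ge
  intro k hk
  rw [← Sylow.smul_eq_iff_mem_normalizer]
  apply hbij.1
  rw [qmap_smul]
  have : QuotientGroup.mk' N k = 1 := (QuotientGroup.eq_one_iff k).2 hk
  rw [this, one_smul]

omit [Finite G] in
theorem sylow_le_of_not_dvd (h : ¬ p ∣ Nat.card (G ⧸ N)) (Y : Sylow p G) :
    (Y : Subgroup G) ≤ N := by
  intro y hy
  rw [← QuotientGroup.eq_one_iff, ← orderOf_eq_one_iff]
  obtain ⟨k, hk⟩ := Y.2 ⟨y, hy⟩
  have hk' : y ^ p ^ k = 1 := by
    have := congrArg Subtype.val hk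
    simpa using this
  have h1 : orderOf (y : G ⧸ N) ∣ p ^ k := by
    apply orderOf_dvd_of_pow_eq_one
    rw [← QuotientGroup.mk_pow, hk', QuotientGroup.mk_one]
  have h2 : orderOf (y : G ⧸ N) ∣ Nat.card (G ⧸ N) := orderOf_dvd_natCard _
  have hcop : Nat.Coprime (p ^ k) (Nat.card (G ⧸ N)) :=
    Nat.Coprime.pow_left _ ((Nat.Prime.coprime_iff_not_dvd hp.out).2 h)
  exact Nat.eq_one_of_dvd_coprimes hcop h1 h2

end quot

section ker

variable [Finite G] (p : ℕ) [hp : Fact p.Prime]

theorem card_sylow_quot_sylKer :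
    Nat.card (Sylow p (G ⧸ sylKer p G)) = Nat.card (Sylow p G) := by
  symm
  apply Nat.card_congr
  refine Equiv.ofBijective (qmap (sylKer p G) p) ⟨?_, qmap_surjective _ p⟩
  intro R R' h
  exact qmap_eq_of_le_normalizer _ p R R' (sylKer_le_normalizer R) h

theorem quot_sylKer_faithful :
    Function.Injective (MulAction.toPermHom (G ⧸ sylKer p G) (Sylow p (G ⧸ sylKer p G))) := by
  rw [← MonoidHom.ker_eq_bot_iff, eq_bot_iff]
  intro q hq
  obtain ⟨g, rfl⟩ := QuotientGroup.mk'_surjective (sylKer p G) q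
  rw [MonoidHom.mem_ker] at hq
  rw [Subgroup.mem_bot]
  apply (QuotientGroup.eq_one_iff g).2
  rw [mem_sylKer]
  intro R
  apply qmap_eq_of_le_normalizer (sylKer p G) p (g • R) R (sylKer_le_normalizer _)
  rw [qmap_smul]
  have := congrArg (fun σ : Equiv.Perm (Sylow p (G ⧸ sylKer p G)) => σ (qmap (sylKer p G) p R)) hq
  simpa using this

end ker




open Pointwise

variable {G : Type*} [Group G]

/-- conjugation action of a subgroup on a subgroup which it normalises -/
def conjAct (Y P : Subgroup G) (h : Y ≤ Subgroup.normalizer (P : Set G)) : MulAction Y P where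
  smul y u := ⟨y.1 * u.1 * y.1⁻¹, (Subgroup.mem_normalizer_iff.1 (h y.2) u.1).1 u.2⟩
  one_smul u := Subtype.ext (by
    show (1 : G) * u.1 * (1 : G)⁻¹ = u.1
    group)
  mul_smul y y' u := Subtype.ext (by
    show (y.1 * y'.1) * u.1 * (y.1 * y'.1)⁻¹ = y.1 * (y'.1 * u.1 * y'.1⁻¹) * y.1⁻¹
    group)

theorem conjAct_smul_val (Y P : Subgroup G) (h : Y ≤ Subgroup.normalizer (P : Set G)) (y : Y)
    (u : P) : ((conjAct Y P h).toSMul.smul y u : G) = y.1 * u.1 * y.1⁻¹ := rfl

variable [Finite G]

theorem eq_top_of_sylow_le (H : Subgroup G)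
    (h : ∀ p : ℕ, p.Prime → ∃ P : Sylow p G, (P : Subgroup G) ≤ H) : H = ⊤ := by
  rw [← Subgroup.index_eq_one]
  by_contra hne
  obtain ⟨p, hp, hpd⟩ := Nat.exists_prime_and_dvd hne
  haveI := Fact.mk hp
  obtain ⟨P, hP⟩ := h p hp
  exact P.not_dvd_index (hpd.trans (Subgroup.index_dvd_of_le hP))

/-- a normal subgroup normalising every Sylow subgroup of a centreless group is trivial -/
theorem ker_trivial (K : Subgroup G) [hKn : K.Normal]
    (hK : ∀ (r : ℕ) [Fact r.Prime] (R : Sylow r G), K ≤ Subgroup.normalizer (R : Set G))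
    (hZ : Subgroup.center G = ⊥) : K = ⊥ := by
  by_contra hne
  have hcard : Nat.card K ≠ 1 := by rwa [Ne, Subgroup.card_eq_one]
  obtain ⟨r, hr, hrd⟩ := Nat.exists_prime_and_dvd hcard
  haveI := Fact.mk hr
  obtain ⟨k, hk⟩ := exists_prime_orderOf_dvd_card' (G := K) r hrd
  have hk' : orderOf (k : G) = r := by rw [Subgroup.orderOf_coe, hk]
  have hkp : IsPGroup r (Subgroup.zpowers (k : G)) :=
    IsPGroup.of_card (n := 1) (by rw [Nat.card_zpowers, hk', pow_one])
  obtain ⟨R₀, hR₀⟩ := hkp.exists_le_sylow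
  set T : Subgroup G := (R₀ : Subgroup G) ⊓ K with hT
  have hkT : (k : G) ∈ T := ⟨hR₀ (Subgroup.mem_zpowers _), k.2⟩
  have hind : ∀ R : Sylow r G, (R : Subgroup G) ⊓ K ≤ T := by
    intro R
    have h1 : (R : Subgroup G) ⊓ K ≤ (R : Subgroup G) ⊓ Subgroup.normalizer (R₀ : Set G) :=
      inf_le_inf_left _ (hK r R₀)
    rw [R.2.inf_normalizer_sylow R₀] at h1
    exact le_inf (h1.trans inf_le_right) inf_le_right
  have hTn : ∀ g : G, ∀ t ∈ T, g * t * g⁻¹ ∈ T := by
    intro g t ht
    apply hind (g • R₀)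
    refine Subgroup.mem_inf.2 ⟨?_, hKn.conj_mem t ht.2 g⟩
    rw [Sylow.coe_subgroup_smul, Subgroup.mem_pointwise_smul_iff_inv_smul_mem, MulAut.smul_def,
      ← map_inv, MulAut.conj_apply, inv_inv]
    have : g⁻¹ * (g * t * g⁻¹) * g = t := by group
    rw [this]
    exact ht.1
  have hTp : IsPGroup r T := R₀.2.to_le inf_le_left
  have hcent : ∀ (s : ℕ) [Fact s.Prime], s ≠ r → ∀ (S : Sylow s G), ∀ y ∈ (S : Subgroup G),
      ∀ t ∈ T, y * t = t * y := by
    intro s _ hsr S y hy t ht
    have h1 : y * t * y⁻¹ * t⁻¹ ∈ T := T.mul_mem (hTn y t ht) (T.inv_mem ht)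
    have h2 : y * t * y⁻¹ * t⁻¹ ∈ (S : Subgroup G) := by
      have ht' : t ∈ Subgroup.normalizer (S : Set G) := hK s S ht.2
      have h3 := (Subgroup.mem_normalizer_iff.1 ht' y⁻¹).1 ((S : Subgroup G).inv_mem hy)
      have h4 := (S : Subgroup G).mul_mem hy h3
      have h5 : y * (t * y⁻¹ * t⁻¹) = y * t * y⁻¹ * t⁻¹ := by group
      rwa [h5] at h4
    have hd : Disjoint T (S : Subgroup G) := IsPGroup.disjoint_of_ne r s hsr.symm T S hTp S.2
    have h3 : y * t * y⁻¹ * t⁻¹ = 1 := by
      have := hd.le_bot ⟨h1, h2⟩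
      exact this
    calc y * t = (y * t * y⁻¹ * t⁻¹) * (t * y) := by group
      _ = t * y := by rw [h3, one_mul]
  have hnorm : (R₀ : Subgroup G) ≤ Subgroup.normalizer (T : Set G) := by
    intro u _
    rw [Subgroup.mem_normalizer_iff]
    intro t
    constructor
    · exact hTn u t
    · intro h
      have := hTn u⁻¹ _ h
      have e : u⁻¹ * (u * t * u⁻¹) * u⁻¹⁻¹ = t := by group
      rwa [e] at this
  letI := conjAct (R₀ : Subgroup G) T hnorm
  have hrT : r ∣ Nat.card T := by
    have := Subgroup.orderOf_dvd_natCard T hkT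
    rwa [hk'] at this
  have h1fix : (1 : T) ∈ MulAction.fixedPoints (R₀ : Subgroup G) T := by
    intro u
    apply Subtype.ext
    show u.1 * (1 : G) * u.1⁻¹ = 1
    group
  obtain ⟨z, hz, hz1⟩ := R₀.2.exists_fixed_point_of_prime_dvd_card_of_fixed_point (α := T) hrT h1fix
  have hzc : ∀ u ∈ (R₀ : Subgroup G), u * z.1 = z.1 * u := by
    intro u hu
    have h1 := hz ⟨u, hu⟩
    have h2 : u * z.1 * u⁻¹ = z.1 := congrArg Subtype.val h1
    calc u * z.1 = (u * z.1 * u⁻¹) * u := by group
      _ = z.1 * u := by rw [h2]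
  have htop : Subgroup.centralizer {(z : G)} = ⊤ := by
    apply eq_top_of_sylow_le
    intro s hs
    haveI := Fact.mk hs
    by_cases hsr : s = r
    · subst hsr
      refine ⟨R₀, fun u hu => ?_⟩
      rw [Subgroup.mem_centralizer_iff]
      intro w hw
      rw [Set.mem_singleton_iff] at hw
      rw [hw]
      exact (hzc u hu).symm
    · obtain ⟨S⟩ : Nonempty (Sylow s G) := inferInstance
      refine ⟨S, fun y hy => ?_⟩
      rw [Subgroup.mem_centralizer_iff]
      intro w hw
      rw [Set.mem_singleton_iff] at hw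
      rw [hw]
      exact (hcent s hsr S y hy z.1 z.2).symm
  have hzZ : (z : G) ∈ Subgroup.center G := by
    rw [Subgroup.mem_center_iff]
    intro g
    have hg : g ∈ Subgroup.centralizer {(z : G)} := by rw [htop]; trivial
    rw [Subgroup.mem_centralizer_iff] at hg
    exact (hg z.1 rfl).symm
  rw [hZ, Subgroup.mem_bot] at hzZ
  exact hz1 (Subtype.ext hzZ.symm)




open Pointwise

variable {G : Type*} [Group G] [Finite G]

/-- If a subgroup `K` normalises every Sylow `p`-subgroup and contains a Sylow `s`-subgroup,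
and the number of Sylow `s`-subgroups is divisible by `p` but less than `p ^ 2`, then
`p ≡ 1 (mod s)`. -/
theorem modEq_one_of_sylow_le (p s : ℕ) [hp : Fact p.Prime] [hs : Fact s.Prime] (hps : p ≠ s)
    (K : Subgroup G) (hK : ∀ P : Sylow p G, K ≤ Subgroup.normalizer (P : Set G))
    (Y : Sylow s G) (hY : (Y : Subgroup G) ≤ K)
    (hn : Nat.card (Sylow s G) < p ^ 2) (hpn : p ∣ Nat.card (Sylow s G)) :
    p ≡ 1 [MOD s] := by
  obtain ⟨P⟩ : Nonempty (Sylow p G) := inferInstance
  set M : Subgroup G := Subgroup.normalizer ((Y : Subgroup G) : Set G) with hM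
  set D : Subgroup G := (P : Subgroup G) ⊓ M with hD
  have hYP : (Y : Subgroup G) ≤ Subgroup.normalizer (P : Set G) := hY.trans (hK P)
  have hdisj : Disjoint (P : Subgroup G) (Y : Subgroup G) :=
    IsPGroup.disjoint_of_ne p s hps (P : Subgroup G) (Y : Subgroup G) P.2 Y.2
  -- elements of D commute with Y
  have hcomm : ∀ u ∈ D, ∀ y ∈ (Y : Subgroup G), y * u * y⁻¹ = u := by
    intro u hu y hy
    have huP : u ∈ (P : Subgroup G) := hu.1
    have huM : u ∈ M := hu.2
    have h1 : y * u * y⁻¹ * u⁻¹ ∈ (P : Subgroup G) :=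
      (P : Subgroup G).mul_mem ((Subgroup.mem_normalizer_iff.1 (hYP hy) u).1 huP)
        ((P : Subgroup G).inv_mem huP)
    have h2 : y * u * y⁻¹ * u⁻¹ ∈ (Y : Subgroup G) := by
      have h3 := (Subgroup.mem_normalizer_iff.1 huM y⁻¹).1 ((Y : Subgroup G).inv_mem hy)
      have h4 := (Y : Subgroup G).mul_mem hy h3
      have h5 : y * (u * y⁻¹ * u⁻¹) = y * u * y⁻¹ * u⁻¹ := by group
      rwa [h5] at h4
    have h3 : y * u * y⁻¹ * u⁻¹ = 1 := hdisj.le_bot ⟨h1, h2⟩
    calc y * u * y⁻¹ = (y * u * y⁻¹ * u⁻¹) * u := by group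
      _ = u := by rw [h3, one_mul]
  letI := conjAct (Y : Subgroup G) (P : Subgroup G) hYP
  have hmod := Y.2.card_modEq_card_fixedPoints (P : Subgroup G)
  -- the fixed points are D
  have hfix : Nat.card (MulAction.fixedPoints (Y : Subgroup G) (P : Subgroup G)) = Nat.card D := by
    apply Nat.card_congr
    refine
      { toFun := fun u => ⟨u.1.1, Subgroup.mem_inf.2 ⟨u.1.2, ?_⟩⟩
        invFun := fun d => ⟨⟨d.1, (Subgroup.mem_inf.1 d.2).1⟩, ?_⟩
        left_inv := fun _ => rfl
        right_inv := fun _ => rfl }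
    · -- a fixed point normalises Y
      have hu := u.2
      have hc : ∀ y ∈ (Y : Subgroup G), y * u.1.1 * y⁻¹ = u.1.1 := by
        intro y hy
        exact congrArg Subtype.val (hu ⟨y, hy⟩)
      rw [hM, Subgroup.mem_normalizer_iff]
      intro y
      have key : ∀ w ∈ (Y : Subgroup G), u.1.1 * w * u.1.1⁻¹ = w := by
        intro w hw
        have h := hc w hw
        have h' : w * u.1.1 = u.1.1 * w := by
          calc w * u.1.1 = (w * u.1.1 * w⁻¹) * w := by group
            _ = u.1.1 * w := by rw [h]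
        calc u.1.1 * w * u.1.1⁻¹ = (w * u.1.1) * u.1.1⁻¹ := by rw [h']
          _ = w := by group
      constructor
      · intro hy
        rw [key y hy]
        exact hy
      · intro hy
        have h2 : u.1.1 * (u.1.1 * y * u.1.1⁻¹) * u.1.1⁻¹ = u.1.1 * y * u.1.1⁻¹ := key _ hy
        have h3 : u.1.1 * y * u.1.1⁻¹ = y := mul_left_cancel (mul_right_cancel h2)
        rw [← h3]
        exact hy
    · intro y
      apply Subtype.ext
      exact hcomm d.1 d.2 y.1 y.2
  rw [hfix] at hmod
  -- the index of D in P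
  have hDP : D ≤ (P : Subgroup G) := inf_le_left
  have hcardD : Nat.card (D.subgroupOf (P : Subgroup G)) = Nat.card D :=
    Nat.card_congr (Subgroup.subgroupOfEquivOfLe hDP).toEquiv
  have hmul := Subgroup.card_mul_index (D.subgroupOf (P : Subgroup G))
  rw [hcardD] at hmul
  have hrel : (D.subgroupOf (P : Subgroup G)).index = M.relIndex (P : Subgroup G) := by
    show D.relIndex (P : Subgroup G) = _
    rw [hD, Subgroup.inf_relIndex_left]
  rw [hrel] at hmul
  have hns : Nat.card (Sylow s G) = M.index := Y.card_eq_index_normalizer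
  have hle : M.relIndex (P : Subgroup G) ≤ M.index := by
    have h0 : M.relIndex ⊤ ≠ 0 := by
      rw [Subgroup.relIndex_top_right]
      exact Subgroup.index_ne_zero_of_finite
    have := Subgroup.relIndex_le_of_le_right (H := M) (le_top : (P : Subgroup G) ≤ ⊤) h0
    rwa [Subgroup.relIndex_top_right] at this
  obtain ⟨a, ha⟩ := P.2.exists_card_eq
  have hkd : M.relIndex (P : Subgroup G) ∣ p ^ a := by
    rw [← ha, ← hmul]
    exact Dvd.intro_left _ rfl
  obtain ⟨j, -, hj⟩ := (Nat.dvd_prime_pow hp.out).1 hkd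
  have hj1 : j ≤ 1 := by
    by_contra hcon
    have h2 : 2 ≤ j := by omega
    have : p ^ 2 ≤ p ^ j := Nat.pow_le_pow_right hp.out.pos h2
    rw [← hj] at this
    omega
  interval_cases j
  · exfalso
    rw [pow_zero, Subgroup.relIndex_eq_one] at hj
    have h1 : M.index ∣ (P : Subgroup G).index := Subgroup.index_dvd_of_le hj
    rw [← hns] at h1
    exact P.not_dvd_index (hpn.trans h1)
  · rw [pow_one] at hj
    rw [hj] at hmul
    rw [← hmul] at hmod
    obtain ⟨i, hi⟩ := (P.2.to_le hDP).exists_card_eq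
    have hcop : Nat.gcd s (Nat.card D) = 1 := by
      rw [hi]
      exact Nat.Coprime.pow_right _ ((Nat.coprime_primes hs.out hp.out).2 hps.symm)
    have h3 : p * Nat.card D ≡ 1 * Nat.card D [MOD s] := by
      rw [one_mul, mul_comm]
      exact hmod
    exact Nat.ModEq.cancel_right_of_coprime hcop h3


end Cfsg.Agent.Helper27.SylNum
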