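import Mathlib
import Cfsg.Agent.Lib.Helper16.Simple168a
import Cfsg.Agent.Lib.Helper16.PSL2Recog
import Cfsg.Agent.Lib.Helper11.DicksonIdx
import Cfsg.Agent.Lib.Helper2.PSLMapEquiv

set_option autoImplicit false
set_option linter.unusedSectionVars false

/-! Recognition of `PSL₂(p)` from the order `p(p²-1)/2` for a prime `p`: a simple group of that order acts on its `p+1` Sylow `p`-subgroups, labelled by the projective line over `ZMod p`; the normaliser of a Sylow subgroup acts by affine maps with square multiplier, and an element swapping two points is pinned down by one double-coset relation together with equivariance under the diagonal subgroup, through a finite check `Stmt p L` (decidable for each concrete `p`). -/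

namespace Cfsg.Agent.Helper27.PSLp


/-- candidate table value at residue `i`, given a discrete-log table `L`. -/
def candT (p : ℕ) (L : List ℕ) (sp c1 c2 : ℕ) (i : ℕ) : ℕ :=
  (sp ^ (L.getD i 0 / 2) * (if L.getD i 0 % 2 = 0 then c1 else c2)) % p

/-- Nat-level functional equation at `b = 1`. -/
def FEn (p : ℕ) (T : ℕ → ℕ) : Prop :=
  ∃ γ < p, γ ≠ 0 ∧ (T γ + T 1) % p = 0 ∧ ∃ u < p, u ≠ 0 ∧ (T u + 1) % p = 0 ∧
   ∃ α < p, (α * u + γ) % p = 0 ∧ α ^ ((p-1)/2) % p = 1 ∧
    ∀ y < p, (y ≠ 0 ∧ (T y + 1) % p ≠ 0) →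
      T ((T y + 1) % p) = (T 1 + T ((α * y + γ) % p)) % p

def MOBn (p : ℕ) (T : ℕ → ℕ) : Prop :=
  ∃ d < p, d ≠ 0 ∧ ∀ i < p, i ≠ 0 → (T i * i + d * d) % p = 0

def Stmt (p : ℕ) (L : List ℕ) : Prop :=
  ∀ sp < p, ∀ c1 < p, ∀ c2 < p, (sp ^ ((p-1)/2) % p = 1 ∧ c1 ≠ 0 ∧ c2 ≠ 0 ∧
    FEn p (candT p L sp c1 c2)) → MOBn p (candT p L sp c1 c2)

instance (p : ℕ) (T : ℕ → ℕ) : Decidable (FEn p T) := by unfold FEn; infer_instance
instance (p : ℕ) (T : ℕ → ℕ) : Decidable (MOBn p T) := by unfold MOBn; infer_instance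
instance (p : ℕ) (L : List ℕ) : Decidable (Stmt p L) := by unfold Stmt; infer_instance

/-- correctness of a discrete-log table with respect to the base `g0`. -/
def DL (p g0 : ℕ) (L : List ℕ) : Prop :=
  g0 % p ≠ 0 ∧ ∀ i < p, i ≠ 0 → g0 ^ (L.getD i 0) % p = i

instance (p g0 : ℕ) (L : List ℕ) : Decidable (DL p g0 L) := by unfold DL; infer_instance

section bridge

variable {p : ℕ} [hp : Fact p.Prime]

theorem val_mod_eq (N : ℕ) : N % p = ((N : ℕ) : ZMod p).val := (ZMod.val_natCast p N).symm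

theorem natCast_ne_zero_of {i : ℕ} (hi : i < p) (h0 : i ≠ 0) : ((i : ℕ) : ZMod p) ≠ 0 := by
  intro h
  rw [ZMod.natCast_eq_zero_iff] at h
  exact h0 (Nat.eq_zero_of_dvd_of_lt h hi)

theorem iter_tau (τ : ZMod p → ZMod p) (s s' : ZMod p) (hs : s ≠ 0)
    (h1 : ∀ i, i ≠ 0 → τ (s * i) = s' * τ i) (j : ℕ) (e : ZMod p) (he : e ≠ 0) :
    τ (s ^ j * e) = s' ^ j * τ e := by
  induction j with
  | zero => simp
  | succ j ih =>
    rw [pow_succ', mul_assoc, h1 _ (mul_ne_zero (pow_ne_zero _ hs) he), ih, pow_succ', mul_assoc]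

theorem cand_eq {g0 : ℕ} {L : List ℕ} (hDL : DL p g0 L)
    (τ : ZMod p → ZMod p) (s' : ZMod p)
    (h1 : ∀ i, i ≠ 0 → τ ((g0 : ZMod p) ^ 2 * i) = s' * τ i)
    (I : ZMod p) (hI : I ≠ 0) :
    candT p L s'.val (τ 1).val (τ (g0 : ZMod p)).val I.val = (τ I).val := by
  have hg0 : (g0 : ZMod p) ≠ 0 := by
    intro h
    rw [ZMod.natCast_eq_zero_iff] at h
    exact hDL.1 (Nat.mod_eq_zero_of_dvd h)
  have hIv : I.val ≠ 0 := by rwa [Ne, ZMod.val_eq_zero]
  have hd := hDL.2 I.val (ZMod.val_lt I) hIv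
  set n := L.getD I.val 0 with hn
  have hIeq : I = (g0 : ZMod p) ^ n := by
    have := congrArg (fun k : ℕ => (k : ZMod p)) hd
    simp only [ZMod.natCast_mod, Nat.cast_pow, ZMod.natCast_val, ZMod.cast_id', id_eq] at this
    exact this.symm
  have hsplit : (g0 : ZMod p) ^ n = ((g0 : ZMod p) ^ 2) ^ (n / 2) * (g0 : ZMod p) ^ (n % 2) := by
    rw [← pow_mul, ← pow_add, Nat.div_add_mod]
  have hτ : τ I = s' ^ (n / 2) * τ ((g0 : ZMod p) ^ (n % 2)) := by
    rw [hIeq, hsplit]
    exact iter_tau τ _ s' (pow_ne_zero _ hg0) h1 _ _ (pow_ne_zero _ hg0)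
  have hcase : τ ((g0 : ZMod p) ^ (n % 2)) =
      (((if n % 2 = 0 then (τ 1).val else (τ (g0 : ZMod p)).val : ℕ)) : ZMod p) := by
    rcases Nat.mod_two_eq_zero_or_one n with h | h
    · rw [h]; simp
    · rw [h]; simp
  unfold candT
  rw [← hn, val_mod_eq, hτ, hcase]
  congr 1
  push_cast
  simp
  
end bridge




section bridge

variable {p : ℕ} [hp : Fact p.Prime]

theorem mod_eq_zero_of_cast {N : ℕ} (h : ((N : ℕ) : ZMod p) = 0) : N % p = 0 := by
  rw [ZMod.natCast_eq_zero_iff] at h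
  exact Nat.mod_eq_zero_of_dvd h

theorem cast_eq_zero_of_mod {N : ℕ} (h : N % p = 0) : ((N : ℕ) : ZMod p) = 0 := by
  rw [ZMod.natCast_eq_zero_iff]
  exact Nat.dvd_of_mod_eq_zero h

theorem val_cast_of_lt {i : ℕ} (hi : i < p) : ((i : ℕ) : ZMod p).val = i := by
  rw [ZMod.val_natCast, Nat.mod_eq_of_lt hi]

theorem tau_mobius {m g0 : ℕ} {L : List ℕ} (hpm : p = 2 * m + 1) (hDL : DL p g0 L)
    (hS : Stmt p L) (τ : ZMod p → ZMod p) (s' α γ : ZMod p)
    (hτ0 : ∀ i, i ≠ 0 → τ i ≠ 0)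
    (h1 : ∀ i, i ≠ 0 → τ ((g0 : ZMod p) ^ 2 * i) = s' * τ i) (hs' : s' ^ m = 1)
    (ha : α ^ m = 1) (hγ : γ ≠ 0) (hγc : τ γ = - τ 1)
    (hb : ∀ y, y ≠ 0 → (τ y = -1 ↔ α * y + γ = 0))
    (hc : ∀ y, y ≠ 0 → τ y ≠ -1 → τ (τ y + 1) = τ 1 + τ (α * y + γ)) :
    ∃ d : ZMod p, d ≠ 0 ∧ ∀ i, i ≠ 0 → τ i = - d ^ 2 / i := by
  haveI : Fact (1 < p) := ⟨hp.out.one_lt⟩
  have hm1 : 1 ≤ m := by
    have := hp.out.two_le
    rcases Nat.eq_zero_or_pos m with h | h
    · subst h; omega
    · exact h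
  have hmm : (p - 1) / 2 = m := by omega
  have hg0 : (g0 : ZMod p) ≠ 0 := by
    intro h
    rw [ZMod.natCast_eq_zero_iff] at h
    exact hDL.1 (Nat.mod_eq_zero_of_dvd h)
  have hα0 : α ≠ 0 := by
    intro h
    rw [h, zero_pow (by omega)] at ha
    exact zero_ne_one ha
  set T := candT p L s'.val (τ 1).val (τ (g0 : ZMod p)).val with hT
  have hTI : ∀ I : ZMod p, I ≠ 0 → T I.val = (τ I).val := fun I hI => cand_eq hDL τ s' h1 I hI
  have hTn : ∀ i : ℕ, i < p → i ≠ 0 → T i = (τ (i : ZMod p)).val := by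
    intro i hi h0
    have := hTI (i : ZMod p) (natCast_ne_zero_of hi h0)
    rwa [val_cast_of_lt hi] at this
  have hT1 : T 1 = (τ 1).val := by
    have := hTn 1 hp.out.one_lt one_ne_zero
    simpa using this
  have hval0 : ∀ I : ZMod p, I ≠ 0 → I.val ≠ 0 := fun I hI => by rwa [Ne, ZMod.val_eq_zero]
  -- the Nat-level functional equation
  have hFE : FEn p T := by
    set u : ZMod p := -γ / α with hu
    have hu0 : u ≠ 0 := by
      rw [hu]; exact div_ne_zero (neg_ne_zero.2 hγ) hα0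
    have hαu : α * u + γ = 0 := by
      rw [hu]; field_simp; ring
    have hτu : τ u = -1 := (hb u hu0).2 hαu
    refine ⟨γ.val, ZMod.val_lt γ, hval0 γ hγ, ?_, u.val, ZMod.val_lt u, hval0 u hu0, ?_,
      α.val, ZMod.val_lt α, ?_, ?_, ?_⟩
    · rw [hTI γ hγ, hT1]
      apply mod_eq_zero_of_cast
      push_cast
      simp only [ZMod.natCast_val, ZMod.cast_id', id_eq]
      rw [hγc]; ring
    · rw [hTI u hu0]
      apply mod_eq_zero_of_cast
      push_cast
      simp only [ZMod.natCast_val, ZMod.cast_id', id_eq]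
      rw [hτu]; ring
    · apply mod_eq_zero_of_cast
      push_cast
      simp only [ZMod.natCast_val, ZMod.cast_id', id_eq]
      exact hαu
    · rw [hmm, val_mod_eq]
      push_cast
      simp only [ZMod.natCast_val, ZMod.cast_id', id_eq]
      rw [ha, ZMod.val_one]
    · rintro y hy ⟨hy0, hguard⟩
      set Y : ZMod p := (y : ZMod p) with hY
      have hY0 : Y ≠ 0 := natCast_ne_zero_of hy hy0
      have hTy : T y = (τ Y).val := hTn y hy hy0
      have hτY : τ Y ≠ -1 := by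
        intro h
        apply hguard
        rw [hTy]
        apply mod_eq_zero_of_cast
        push_cast
        simp only [ZMod.natCast_val, ZMod.cast_id', id_eq]
        rw [h]; ring
      have hne2 : α * Y + γ ≠ 0 := fun h => hτY ((hb Y hY0).2 h)
      have hne1 : τ Y + 1 ≠ 0 := fun h => hτY (eq_neg_of_add_eq_zero_left h)
      have hz1c : (((T y + 1) % p : ℕ) : ZMod p) = τ Y + 1 := by
        rw [hTy]
        simp only [ZMod.natCast_mod, Nat.cast_add, ZMod.natCast_val, ZMod.cast_id', id_eq,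
          Nat.cast_one]
      have hz2c : (((α.val * y + γ.val) % p : ℕ) : ZMod p) = α * Y + γ := by
        simp only [ZMod.natCast_mod, Nat.cast_add, Nat.cast_mul, ZMod.natCast_val, ZMod.cast_id',
          id_eq, hY]
      have hz1 : T ((T y + 1) % p) = (τ (τ Y + 1)).val := by
        have h0 : (T y + 1) % p ≠ 0 := hguard
        have := hTn _ (Nat.mod_lt _ hp.out.pos) h0
        rwa [hz1c] at this
      have hz2 : T ((α.val * y + γ.val) % p) = (τ (α * Y + γ)).val := by
        have h0 : (α.val * y + γ.val) % p ≠ 0 := by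
          intro h
          apply hne2
          rw [← hz2c, h, Nat.cast_zero]
        have := hTn _ (Nat.mod_lt _ hp.out.pos) h0
        rwa [hz2c] at this
      rw [hz1, hz2, hT1, hc Y hY0 hτY, ZMod.val_add]
  -- apply the computed statement
  have hτ1 : τ 1 ≠ 0 := hτ0 1 one_ne_zero
  have hτg : τ (g0 : ZMod p) ≠ 0 := hτ0 _ hg0
  have hsp : s'.val ^ ((p - 1) / 2) % p = 1 := by
    rw [hmm, val_mod_eq]
    push_cast
    simp only [ZMod.natCast_val, ZMod.cast_id', id_eq]
    rw [hs', ZMod.val_one]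
  obtain ⟨d, hd, hd0, hmob⟩ := hS s'.val (ZMod.val_lt _) (τ 1).val (ZMod.val_lt _)
    (τ (g0 : ZMod p)).val (ZMod.val_lt _) ⟨hsp, hval0 _ hτ1, hval0 _ hτg, hFE⟩
  refine ⟨(d : ZMod p), natCast_ne_zero_of hd hd0, ?_⟩
  intro I hI
  have h2 := hmob I.val (ZMod.val_lt I) (hval0 I hI)
  rw [← hT, hTI I hI] at h2
  have h3 := cast_eq_zero_of_mod h2
  push_cast at h3
  simp only [ZMod.natCast_val, ZMod.cast_id', id_eq] at h3
  field_simp
  linear_combination h3

end bridge




open Cfsg.Agent.Helper16.O168 (sylow_eq_of_smul_eq)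

/-- The data of a Sylow `p`-subgroup of order `p` with generator `x`, a second Sylow subgroup,
in a group with exactly `p + 1` Sylow `p`-subgroups. -/
structure Ctx (G : Type*) [Group G] (p : ℕ) [Fact p.Prime] where
  P : Sylow p G
  Q0 : Sylow p G
  x : G
  hxP : x ∈ P
  hox : orderOf x = p
  hPc : Nat.card P = p
  hPQ : Q0 ≠ P
  hcard : Nat.card (Sylow p G) = p + 1

namespace Ctx

variable {G : Type*} [Group G] [Finite G] {p : ℕ} [hp : Fact p.Prime] (C : Ctx G p)

theorem hxp : C.x ^ p = 1 := by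
  have := pow_orderOf_eq_one C.x
  rwa [C.hox] at this

theorem x_ne_one : C.x ≠ 1 := by
  intro h
  have := C.hox
  rw [h, orderOf_one] at this
  exact hp.out.one_lt.ne this

theorem x_smul_P : C.x • C.P = C.P :=
  Sylow.smul_eq_iff_mem_normalizer.2 (Subgroup.le_normalizer C.hxP)

theorem pow_smul_P (n : ℕ) : C.x ^ n • C.P = C.P := by
  induction n with
  | zero => rw [pow_zero, one_smul]
  | succ n ih => rw [pow_succ, mul_smul, C.x_smul_P, ih]

theorem pow_val_natCast (n : ℕ) : C.x ^ ((n : ZMod p)).val = C.x ^ n := by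
  rw [ZMod.val_natCast, ← pow_eq_pow_mod _ C.hxp]

theorem pow_val_add (i j : ZMod p) : C.x ^ (i + j).val = C.x ^ i.val * C.x ^ j.val := by
  rw [← pow_add, ZMod.val_add, ← pow_eq_pow_mod _ C.hxp]

theorem free (n : ℕ) (hn : C.x ^ n • C.Q0 = C.Q0) : p ∣ n := by
  by_contra hdvd
  apply C.hPQ
  apply sylow_eq_of_smul_eq C.P C.Q0 C.hPc (Subgroup.pow_mem _ C.hxP n) _ hn
  intro h1
  apply hdvd
  rw [← C.hox]
  exact orderOf_dvd_of_pow_eq_one h1

/-- The labelling of the Sylow `p`-subgroups by the projective line over `ZMod p`. -/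
noncomputable def lab : OnePoint (ZMod p) → Sylow p G :=
  fun q => q.elim C.P (fun i => C.x ^ i.val • C.Q0)

theorem lab_infty : C.lab OnePoint.infty = C.P := rfl

theorem lab_coe (i : ZMod p) : C.lab (i : OnePoint (ZMod p)) = C.x ^ i.val • C.Q0 := rfl

theorem lab_natCast (n : ℕ) : C.lab (((n : ZMod p)) : OnePoint (ZMod p)) = C.x ^ n • C.Q0 := by
  rw [lab_coe, pow_val_natCast]

theorem lab_coe_ne (i : ZMod p) : C.x ^ i.val • C.Q0 ≠ C.P := by
  intro h
  apply C.hPQ
  have h1 : C.x ^ i.val • C.Q0 = C.x ^ i.val • C.P := by rw [h, C.pow_smul_P]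
  exact smul_left_cancel _ h1

theorem lab_injective : Function.Injective C.lab := by
  intro q q' hqq
  induction q using OnePoint.rec with
  | infty =>
    induction q' using OnePoint.rec with
    | infty => rfl
    | coe j =>
      rw [lab_infty, lab_coe] at hqq
      exact absurd hqq.symm (C.lab_coe_ne j)
  | coe i =>
    induction q' using OnePoint.rec with
    | infty =>
      rw [lab_infty, lab_coe] at hqq
      exact absurd hqq (C.lab_coe_ne i)
    | coe j =>
      rw [lab_coe, lab_coe] at hqq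
      have h1 : C.x ^ i.val = C.x ^ j.val * C.x ^ (i - j).val := by
        rw [← C.pow_val_add]; congr 2; ring
      rw [h1, mul_smul] at hqq
      have h2 := smul_left_cancel _ hqq
      have h3 := C.free _ h2
      have h4 : (i - j).val = 0 := Nat.eq_zero_of_dvd_of_lt h3 (ZMod.val_lt _)
      rw [ZMod.val_eq_zero, sub_eq_zero] at h4
      rw [h4]

theorem lab_bijective : Function.Bijective C.lab := by
  apply C.lab_injective.bijective_of_nat_card_le
  rw [C.hcard, Nat.card_eq_fintype_card]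
  have : Fintype.card (OnePoint (ZMod p)) = p + 1 := by
    show Fintype.card (Option (ZMod p)) = p + 1
    rw [Fintype.card_option, ZMod.card]
  rw [this]

/-- The labelling as an equivalence. -/
noncomputable def e : OnePoint (ZMod p) ≃ Sylow p G := Equiv.ofBijective C.lab C.lab_bijective

theorem e_apply (q : OnePoint (ZMod p)) : C.e q = C.lab q := rfl

/-- The permutation representation on the projective line. -/
noncomputable def ρ : G →* Equiv.Perm (OnePoint (ZMod p)) :=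
  (C.e.symm.permCongrHom).toMonoidHom.comp (MulAction.toPermHom G (Sylow p G))

theorem ρ_apply (g : G) (q : OnePoint (ZMod p)) : C.ρ g q = C.e.symm (g • C.lab q) := rfl

theorem ρ_eq_iff (g : G) (q q' : OnePoint (ZMod p)) : C.ρ g q = q' ↔ g • C.lab q = C.lab q' := by
  rw [ρ_apply, Equiv.symm_apply_eq, e_apply]

theorem ρ_injective_of (hf : Function.Injective (MulAction.toPermHom G (Sylow p G))) :
    Function.Injective C.ρ := by
  intro a b hab
  apply hf
  exact (C.e.symm.permCongrHom).injective hab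

theorem ρ_infty_iff (g : G) : C.ρ g OnePoint.infty = OnePoint.infty ↔ g • C.P = C.P := by
  rw [ρ_eq_iff, lab_infty]

theorem exists_lab_of_ne {R : Sylow p G} (hR : R ≠ C.P) : ∃ j : ZMod p, C.x ^ j.val • C.Q0 = R := by
  obtain ⟨q, hq⟩ := C.lab_bijective.2 R
  induction q using OnePoint.rec with
  | infty => rw [lab_infty] at hq; exact absurd hq.symm hR
  | coe i => exact ⟨i, hq⟩

theorem ρ_x_pow_coe (n : ℕ) (i : ZMod p) :
    C.ρ (C.x ^ n) (i : OnePoint (ZMod p)) = ((i + (n : ZMod p) : ZMod p) : OnePoint (ZMod p)) := by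
  rw [ρ_eq_iff, lab_coe, lab_coe, ← mul_smul, ← pow_add]
  have h1 : C.x ^ (i + (n : ZMod p)).val = C.x ^ (i.val + n) := by
    rw [ZMod.val_add, ZMod.val_natCast, ← pow_eq_pow_mod _ C.hxp]
    rw [pow_add, pow_add, ← pow_eq_pow_mod _ C.hxp]
  rw [h1, add_comm]

theorem ρ_x_pow_infty (n : ℕ) : C.ρ (C.x ^ n) OnePoint.infty = OnePoint.infty := by
  rw [ρ_infty_iff, C.pow_smul_P]

theorem ρ_x_coe (i : ZMod p) :
    C.ρ C.x (i : OnePoint (ZMod p)) = ((i + 1 : ZMod p) : OnePoint (ZMod p)) := by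
  have := C.ρ_x_pow_coe 1 i
  rwa [pow_one, Nat.cast_one] at this

theorem ρ_x_infty : C.ρ C.x OnePoint.infty = OnePoint.infty := by
  have := C.ρ_x_pow_infty 1
  rwa [pow_one] at this

end Ctx




namespace Ctx

variable {G : Type*} [Group G] [Finite G] {p : ℕ} [hp : Fact p.Prime] (C : Ctx G p)

theorem P_eq_zpowers : (C.P : Subgroup G) = Subgroup.zpowers C.x := by
  symm
  apply Subgroup.eq_of_le_of_card_ge (Subgroup.zpowers_le.2 C.hxP)
  rw [Nat.card_zpowers, C.hox, C.hPc]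

theorem exists_conj_pow (w : G) (hw : w • C.P = C.P) : ∃ k : ℕ, w * C.x * w⁻¹ = C.x ^ k := by
  have hwN : w ∈ Subgroup.normalizer ((C.P : Subgroup G) : Set G) :=
    Sylow.smul_eq_iff_mem_normalizer.1 hw
  have h1 : w * C.x * w⁻¹ ∈ (C.P : Subgroup G) := (Subgroup.mem_normalizer_iff.1 hwN C.x).1 C.hxP
  rw [C.P_eq_zpowers] at h1
  have h2 : w * C.x * w⁻¹ ∈ Submonoid.powers C.x :=
    (isOfFinOrder_of_finite C.x).mem_powers_iff_mem_zpowers.2 h1
  obtain ⟨k, hk⟩ := Submonoid.mem_powers_iff _ _ |>.1 h2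
  exact ⟨k, hk.symm⟩

theorem exists_affine (w : G) (hw : w • C.P = C.P) :
    ∃ μ β : ZMod p, μ ≠ 0 ∧ C.ρ w OnePoint.infty = OnePoint.infty ∧
      ∀ i : ZMod p, C.ρ w (i : OnePoint (ZMod p)) = ((μ * i + β : ZMod p) : OnePoint (ZMod p)) := by
  obtain ⟨k, hk⟩ := C.exists_conj_pow w hw
  have hwQ : w • C.Q0 ≠ C.P := by
    intro h
    apply C.hPQ
    have : w • C.Q0 = w • C.P := by rw [h, hw]
    exact smul_left_cancel _ this
  obtain ⟨β, hβ⟩ := C.exists_lab_of_ne hwQ
  refine ⟨(k : ZMod p), β, ?_, (C.ρ_infty_iff w).2 hw, ?_⟩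
  · intro h0
    rw [ZMod.natCast_eq_zero_iff] at h0
    obtain ⟨c, rfl⟩ := h0
    rw [pow_mul, C.hxp, one_pow] at hk
    have : C.x = 1 := by
      have h2 : w * C.x = w := by
        have := congrArg (· * w) hk
        simpa using this
      exact mul_left_cancel (a := w) (by rw [h2, mul_one])
    exact C.x_ne_one this
  · intro i
    rw [ρ_eq_iff, lab_coe]
    have hcast : ((k : ZMod p) * i + β : ZMod p) = ((k * i.val + β.val : ℕ) : ZMod p) := by
      push_cast
      simp only [ZMod.natCast_val, ZMod.cast_id', id_eq]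
    rw [hcast, lab_natCast]
    have hconj : w * C.x ^ i.val = (C.x ^ k) ^ i.val * w := by
      rw [← hk, conj_pow]
      group
    rw [← mul_smul, hconj, mul_smul, ← hβ, ← mul_smul, ← pow_mul, ← pow_add]

/-- powers of an affine permutation are affine -/
theorem aff_pow (σ : Equiv.Perm (OnePoint (ZMod p))) (μ β : ZMod p)
    (h : ∀ i : ZMod p, σ (i : OnePoint (ZMod p)) = ((μ * i + β : ZMod p) : OnePoint (ZMod p)))
    (n : ℕ) : ∃ β' : ZMod p, ∀ i : ZMod p,
      (σ ^ n) (i : OnePoint (ZMod p)) = ((μ ^ n * i + β' : ZMod p) : OnePoint (ZMod p)) := by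
  induction n with
  | zero => exact ⟨0, fun i => by simp⟩
  | succ n ih =>
    obtain ⟨β', hβ'⟩ := ih
    refine ⟨μ * β' + β, fun i => ?_⟩
    rw [pow_succ', Equiv.Perm.mul_apply, hβ', h]
    congr 1
    ring

theorem card_normalizer {m : ℕ} (hG : Nat.card G = (p + 1) * (p * m)) :
    Nat.card (Subgroup.normalizer ((C.P : Subgroup G) : Set G)) = p * m := by
  have h1 : Nat.card (Sylow p G) = (Subgroup.normalizer ((C.P : Subgroup G) : Set G)).index :=
    C.P.card_eq_index_normalizer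
  have h2 := Subgroup.card_mul_index (Subgroup.normalizer ((C.P : Subgroup G) : Set G))
  rw [← h1, C.hcard, hG, mul_comm] at h2
  exact Nat.eq_of_mul_eq_mul_left (Nat.succ_pos p) h2

theorem mult_pow {m : ℕ} (hpm : p = 2 * m + 1) (hG : Nat.card G = (p + 1) * (p * m))
    (w : G) (hw : w • C.P = C.P) (μ β : ZMod p) (hμ : μ ≠ 0)
    (h : ∀ i : ZMod p, C.ρ w (i : OnePoint (ZMod p)) = ((μ * i + β : ZMod p) : OnePoint (ZMod p))) :
    μ ^ m = 1 := by
  have hwN : w ∈ Subgroup.normalizer ((C.P : Subgroup G) : Set G) :=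
    Sylow.smul_eq_iff_mem_normalizer.1 hw
  have h1 : w ^ (p * m) = 1 := by
    have := pow_card_eq_one' (G := Subgroup.normalizer ((C.P : Subgroup G) : Set G)) (x := ⟨w, hwN⟩)
    rw [C.card_normalizer hG] at this
    have h2 := congrArg Subtype.val this
    simpa using h2
  obtain ⟨β', hβ'⟩ := aff_pow (C.ρ w) μ β h (p * m)
  rw [← map_pow, h1, map_one] at hβ'
  have e0 := hβ' 0
  have e1 := hβ' 1
  rw [Equiv.Perm.one_apply] at e0 e1
  have e0' := OnePoint.coe_eq_coe.1 e0
  have e1' := OnePoint.coe_eq_coe.1 e1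
  have hβ0 : β' = 0 := by rw [mul_zero, zero_add] at e0'; exact e0'.symm
  rw [hβ0, add_zero, mul_one] at e1'
  have h3 : μ ^ (p - 1) = 1 := ZMod.pow_card_sub_one_eq_one hμ
  have h4 : p * m = m + (p - 1) * m := by
    have : p - 1 = 2 * m := by omega
    rw [this, hpm]; ring
  rw [h4, pow_add, pow_mul, h3, one_pow, mul_one] at e1'
  exact e1'.symm

end Ctx




/-- the finite part of a point of the projective line (`0` at infinity) -/
def finPart {p : ℕ} (q : OnePoint (ZMod p)) : ZMod p := Option.elim q 0 id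

theorem finPart_coe {p : ℕ} (i : ZMod p) : finPart (i : OnePoint (ZMod p)) = i := rfl

theorem coe_finPart {p : ℕ} (q : OnePoint (ZMod p)) (hq : q ≠ OnePoint.infty) :
    ((finPart q : ZMod p) : OnePoint (ZMod p)) = q := by
  induction q using OnePoint.rec with
  | infty => exact absurd rfl hq
  | coe i => rfl

theorem card_roots_le {p : ℕ} [hp : Fact p.Prime] (m : ℕ) (hm : 0 < m) :
    ({z : ZMod p × ZMod p | z.1 ^ m = 1} : Set (ZMod p × ZMod p)).ncard ≤ m * p := by
  classical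
  have hsub : ({z : ZMod p × ZMod p | z.1 ^ m = 1} : Set (ZMod p × ZMod p)) ⊆
      ((Polynomial.nthRootsFinset m (1 : ZMod p) ×ˢ (Finset.univ : Finset (ZMod p)) :
        Finset (ZMod p × ZMod p)) : Set (ZMod p × ZMod p)) := by
    intro z hz
    simp only [Finset.coe_product, Finset.coe_univ, Set.mem_prod, Finset.mem_coe, Set.mem_univ,
      and_true]
    exact (Polynomial.mem_nthRootsFinset hm 1).2 hz
  refine (Set.ncard_le_ncard hsub (Finset.finite_toSet _)).trans ?_
  rw [Set.ncard_coe_finset, Finset.card_product, Finset.card_univ, ZMod.card]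
  apply Nat.mul_le_mul_right
  rw [Polynomial.nthRootsFinset_def]
  exact (Multiset.toFinset_card_le _).trans (Polynomial.card_nthRoots m 1)

namespace Ctx

variable {G : Type*} [Group G] [Finite G] {p : ℕ} [hp : Fact p.Prime] (C : Ctx G p)

theorem exists_mult {m : ℕ} (hpm : p = 2 * m + 1) (hG : Nat.card G = (p + 1) * (p * m))
    (hinj : Function.Injective C.ρ) (s : ZMod p) (hs : s ^ m = 1) :
    ∃ w : G, w • C.P = C.P ∧
      ∀ i : ZMod p, C.ρ w (i : OnePoint (ZMod p)) = ((s * i : ZMod p) : OnePoint (ZMod p)) := by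
  have hm0 : 0 < m := by
    have := hp.out.two_le
    omega
  set N : Set G := {w | w • C.P = C.P} with hN
  have hNcard : N.ncard = p * m := by
    have h1 : N = ((Subgroup.normalizer ((C.P : Subgroup G) : Set G) : Subgroup G) : Set G) := by
      ext w
      exact Sylow.smul_eq_iff_mem_normalizer
    rw [h1, ← C.card_normalizer hG]
    exact (_root_.Nat.card_coe_set_eq _).symm
  set t : Set (ZMod p × ZMod p) := {z | z.1 ^ m = 1} with ht
  let f : ∀ w ∈ N, ZMod p × ZMod p := fun w _ =>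
    (finPart (C.ρ w ((1 : ZMod p) : OnePoint (ZMod p))) -
      finPart (C.ρ w ((0 : ZMod p) : OnePoint (ZMod p))),
     finPart (C.ρ w ((0 : ZMod p) : OnePoint (ZMod p))))
  have hfval : ∀ w (hw : w ∈ N) (μ β : ZMod p),
      (∀ i : ZMod p, C.ρ w (i : OnePoint (ZMod p)) = ((μ * i + β : ZMod p) : OnePoint (ZMod p))) →
      f w hw = (μ, β) := by
    intro w hw μ β h
    show (finPart (C.ρ w ((1 : ZMod p) : OnePoint (ZMod p))) -
      finPart (C.ρ w ((0 : ZMod p) : OnePoint (ZMod p))),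
     finPart (C.ρ w ((0 : ZMod p) : OnePoint (ZMod p)))) = (μ, β)
    rw [h 1, h 0, finPart_coe, finPart_coe]
    ext
    · simp
    · simp
  have hf : ∀ w (hw : w ∈ N), f w hw ∈ t := by
    intro w hw
    obtain ⟨μ, β, hμ, -, h⟩ := C.exists_affine w hw
    rw [hfval w hw μ β h]
    exact C.mult_pow hpm hG w hw μ β hμ h
  have hfinj : ∀ w₁ w₂ (h₁ : w₁ ∈ N) (h₂ : w₂ ∈ N), f w₁ h₁ = f w₂ h₂ → w₁ = w₂ := by
    intro w₁ w₂ h₁ h₂ h12
    obtain ⟨μ₁, β₁, -, hi₁, ha₁⟩ := C.exists_affine w₁ h₁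
    obtain ⟨μ₂, β₂, -, hi₂, ha₂⟩ := C.exists_affine w₂ h₂
    rw [hfval w₁ h₁ μ₁ β₁ ha₁, hfval w₂ h₂ μ₂ β₂ ha₂] at h12
    have hμ : μ₁ = μ₂ := congrArg Prod.fst h12
    have hβ : β₁ = β₂ := congrArg Prod.snd h12
    apply hinj
    ext q
    induction q using OnePoint.rec with
    | infty => rw [hi₁, hi₂]
    | coe i => rw [ha₁, ha₂, hμ, hβ]
  have hle : t.ncard ≤ N.ncard := by
    rw [hNcard, mul_comm]
    exact card_roots_le m hm0
  obtain ⟨w, hw, hwf⟩ := Set.surj_on_of_inj_on_of_ncard_le f hf hfinj hle (Set.toFinite _) (s, 0) hs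
  obtain ⟨μ, β, -, -, ha⟩ := C.exists_affine w hw
  rw [hfval w hw μ β ha] at hwf
  have hμ : s = μ := congrArg Prod.fst hwf
  have hβ : 0 = β := congrArg Prod.snd hwf
  refine ⟨w, hw, fun i => ?_⟩
  rw [ha, ← hμ, ← hβ, add_zero]

theorem exists_swap : ∃ t : G, t • C.P = C.Q0 ∧ t • C.Q0 = C.P := by
  obtain ⟨g, hg⟩ := MulAction.exists_smul_eq G C.P C.Q0
  have hR : g⁻¹ • C.P ≠ C.P := by
    intro h
    apply C.hPQ
    rw [← hg]
    conv_lhs => rw [← h]
    rw [smul_inv_smul]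
  obtain ⟨j, hj⟩ := C.exists_lab_of_ne hR
  refine ⟨g * C.x ^ j.val, ?_, ?_⟩
  · rw [mul_smul, C.pow_smul_P, hg]
  · rw [mul_smul, hj, smul_inv_smul]

theorem lab_zero : C.lab ((0 : ZMod p) : OnePoint (ZMod p)) = C.Q0 := by
  rw [lab_coe, ZMod.val_zero, pow_zero, one_smul]

end Ctx




namespace Ctx

variable {G : Type*} [Group G] [Finite G] {p : ℕ} [hp : Fact p.Prime] (C : Ctx G p)

theorem swap_form {m g0 : ℕ} {L : List ℕ} (hpm : p = 2 * m + 1)
    (hG : Nat.card G = (p + 1) * (p * m)) (hinj : Function.Injective C.ρ)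
    (hDL : DL p g0 L) (hS : Stmt p L) (t : G) (ht1 : t • C.P = C.Q0) (ht2 : t • C.Q0 = C.P) :
    ∃ d : ZMod p, d ≠ 0 ∧ C.ρ t OnePoint.infty = ((0 : ZMod p) : OnePoint (ZMod p)) ∧
      C.ρ t ((0 : ZMod p) : OnePoint (ZMod p)) = OnePoint.infty ∧
      ∀ k : ZMod p, k ≠ 0 →
        C.ρ t (k : OnePoint (ZMod p)) = ((- d ^ 2 / k : ZMod p) : OnePoint (ZMod p)) := by
  have hTI : C.ρ t OnePoint.infty = ((0 : ZMod p) : OnePoint (ZMod p)) := by
    rw [ρ_eq_iff, lab_infty, lab_zero, ht1]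
  have hT0 : C.ρ t ((0 : ZMod p) : OnePoint (ZMod p)) = OnePoint.infty := by
    rw [ρ_eq_iff, lab_infty, lab_zero, ht2]
  set τ : ZMod p → ZMod p := fun i => finPart (C.ρ t (i : OnePoint (ZMod p))) with hτ
  have hTi : ∀ i : ZMod p, i ≠ 0 →
      C.ρ t (i : OnePoint (ZMod p)) = ((τ i : ZMod p) : OnePoint (ZMod p)) ∧ τ i ≠ 0 := by
    intro i hi
    have h1 : C.ρ t (i : OnePoint (ZMod p)) ≠ OnePoint.infty := by
      intro h
      rw [← hT0] at h
      exact hi (OnePoint.coe_eq_coe.1 ((C.ρ t).injective h))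
    have h2 : ((τ i : ZMod p) : OnePoint (ZMod p)) = C.ρ t (i : OnePoint (ZMod p)) :=
      coe_finPart _ h1
    refine ⟨h2.symm, ?_⟩
    intro h0
    rw [h0, ← hTI] at h2
    exact OnePoint.coe_ne_infty i ((C.ρ t).injective h2).symm
  have hTinf : ∀ q : OnePoint (ZMod p), C.ρ t q = OnePoint.infty →
      q = ((0 : ZMod p) : OnePoint (ZMod p)) := by
    intro q hq
    rw [← hT0] at hq
    exact (C.ρ t).injective hq
  have hg0 : (g0 : ZMod p) ≠ 0 := by
    intro h
    rw [ZMod.natCast_eq_zero_iff] at h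
    exact hDL.1 (Nat.mod_eq_zero_of_dvd h)
  have hs : ((g0 : ZMod p) ^ 2) ^ m = 1 := by
    rw [← pow_mul]
    have : 2 * m = p - 1 := by omega
    rw [this]
    exact ZMod.pow_card_sub_one_eq_one hg0
  have hs0 : (g0 : ZMod p) ^ 2 ≠ 0 := pow_ne_zero _ hg0
  -- the diagonal element
  obtain ⟨h₀, hh₀P, hh₀⟩ := C.exists_mult hpm hG hinj _ hs
  have hh₀Q : h₀ • C.Q0 = C.Q0 := by
    have := hh₀ 0
    rw [mul_zero, ρ_eq_iff, lab_zero] at this
    exact this
  have htinv : t⁻¹ • C.P = C.Q0 := by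
    rw [inv_smul_eq_iff, ht2]
  have hw' : (t * h₀ * t⁻¹) • C.P = C.P := by
    rw [mul_smul, mul_smul, htinv, hh₀Q, ht2]
  obtain ⟨s', β', hs'0, -, hW⟩ := C.exists_affine _ hw'
  have hs'm : s' ^ m = 1 := C.mult_pow hpm hG _ hw' s' β' hs'0 hW
  have hWT : ∀ q, C.ρ (t * h₀ * t⁻¹) (C.ρ t q) = C.ρ t (C.ρ h₀ q) := by
    intro q
    rw [← Equiv.Perm.mul_apply, ← Equiv.Perm.mul_apply, ← map_mul, ← map_mul]
    congr 2
    group
  have hβ' : β' = 0 := by
    have h1 := hWT OnePoint.infty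
    rw [hTI, (C.ρ_infty_iff h₀).2 hh₀P, hTI, hW, mul_zero, zero_add] at h1
    exact OnePoint.coe_eq_coe.1 h1
  have h1 : ∀ i : ZMod p, i ≠ 0 → τ ((g0 : ZMod p) ^ 2 * i) = s' * τ i := by
    intro i hi
    have h2 := hWT (i : OnePoint (ZMod p))
    rw [(hTi i hi).1, hW, hh₀, (hTi _ (mul_ne_zero hs0 hi)).1, hβ', add_zero] at h2
    exact (OnePoint.coe_eq_coe.1 h2).symm
  -- the functional equation
  set c : ZMod p := τ 1 with hc
  have hc0 : c ≠ 0 := (hTi 1 one_ne_zero).2
  have hXc : ∀ i : ZMod p, C.ρ (C.x ^ c.val) (i : OnePoint (ZMod p)) =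
      ((i + c : ZMod p) : OnePoint (ZMod p)) := by
    intro i
    rw [ρ_x_pow_coe, ZMod.natCast_zmod_val]
  have hXcI : C.ρ (C.x ^ c.val) OnePoint.infty = OnePoint.infty := C.ρ_x_pow_infty _
  have hXcinf : ∀ q : OnePoint (ZMod p), C.ρ (C.x ^ c.val) q = OnePoint.infty →
      q = OnePoint.infty := by
    intro q hq
    rw [← hXcI] at hq
    exact (C.ρ (C.x ^ c.val)).injective hq
  set n : G := (C.x ^ c.val * t)⁻¹ * (t * C.x * t) with hn
  have hkey : ∀ q, C.ρ t (C.ρ C.x (C.ρ t q)) = C.ρ (C.x ^ c.val) (C.ρ t (C.ρ n q)) := by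
    intro q
    rw [← Equiv.Perm.mul_apply, ← Equiv.Perm.mul_apply, ← Equiv.Perm.mul_apply,
      ← Equiv.Perm.mul_apply, ← map_mul, ← map_mul, ← map_mul, ← map_mul]
    congr 2
    rw [hn]
    group
  have hnI : C.ρ n OnePoint.infty = OnePoint.infty := by
    have h2 := hkey OnePoint.infty
    rw [hTI, C.ρ_x_coe, zero_add, (hTi 1 one_ne_zero).1] at h2
    -- ↑c = Xc (T (N ∞))
    by_contra hne
    obtain ⟨j, hj⟩ : ∃ j : ZMod p, C.ρ n OnePoint.infty = (j : OnePoint (ZMod p)) := by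
      induction hq : C.ρ n OnePoint.infty using OnePoint.rec with
      | infty => exact absurd hq hne
      | coe j => exact ⟨j, rfl⟩
    rw [hj] at h2
    by_cases hj0 : j = 0
    · rw [hj0, hT0, hXcI] at h2
      exact OnePoint.coe_ne_infty _ h2
    · rw [(hTi j hj0).1, hXc] at h2
      have h3 := OnePoint.coe_eq_coe.1 h2
      apply (hTi j hj0).2
      have : τ j + c = c := h3.symm
      simpa using this
  have hnP : n • C.P = C.P := (C.ρ_infty_iff n).1 hnI
  obtain ⟨α, γ, hα0, -, hN⟩ := C.exists_affine n hnP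
  have hαm : α ^ m = 1 := C.mult_pow hpm hG n hnP α γ hα0 hN
  -- y = 0
  have hy0 := hkey ((0 : ZMod p) : OnePoint (ZMod p))
  rw [hT0, C.ρ_x_infty, hTI, hN, mul_zero, zero_add] at hy0
  have hγ0 : γ ≠ 0 := by
    intro h
    rw [h, hT0, hXcI] at hy0
    exact OnePoint.coe_ne_infty _ hy0
  have hγc : τ γ = - τ 1 := by
    rw [(hTi γ hγ0).1, hXc] at hy0
    have h3 := OnePoint.coe_eq_coe.1 hy0
    exact eq_neg_of_add_eq_zero_left h3.symm
  -- general y
  have hgen : ∀ y : ZMod p, y ≠ 0 →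
      C.ρ t (((τ y + 1 : ZMod p)) : OnePoint (ZMod p)) =
        C.ρ (C.x ^ c.val) (C.ρ t ((α * y + γ : ZMod p) : OnePoint (ZMod p))) := by
    intro y hy
    have h2 := hkey (y : OnePoint (ZMod p))
    rwa [(hTi y hy).1, C.ρ_x_coe, hN] at h2
  have hb : ∀ y : ZMod p, y ≠ 0 → (τ y = -1 ↔ α * y + γ = 0) := by
    intro y hy
    have h2 := hgen y hy
    constructor
    · intro h
      rw [h, neg_add_cancel, hT0] at h2
      exact OnePoint.coe_eq_coe.1 (hTinf _ (hXcinf _ h2.symm))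
    · intro h
      rw [h, hT0, hXcI] at h2
      have h3 := OnePoint.coe_eq_coe.1 (hTinf _ h2)
      exact eq_neg_of_add_eq_zero_left h3
  have hcc : ∀ y : ZMod p, y ≠ 0 → τ y ≠ -1 → τ (τ y + 1) = τ 1 + τ (α * y + γ) := by
    intro y hy hne
    have h2 := hgen y hy
    have hne1 : τ y + 1 ≠ 0 := fun h => hne (eq_neg_of_add_eq_zero_left h)
    have hne2 : α * y + γ ≠ 0 := fun h => hne ((hb y hy).2 h)
    rw [(hTi _ hne1).1, (hTi _ hne2).1, hXc] at h2
    rw [OnePoint.coe_eq_coe.1 h2, add_comm]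
  obtain ⟨d, hd0, hd⟩ := tau_mobius hpm hDL hS τ s' α γ (fun i hi => (hTi i hi).2) h1 hs'm hαm hγ0
    hγc hb hcc
  refine ⟨d, hd0, hTI, hT0, fun k hk => ?_⟩
  rw [(hTi k hk).1, hd k hk]

end Ctx




open Cfsg.Agent.Helper16

theorem affine_mem_range {p : ℕ} [hp : Fact p.Prime] (σ : Equiv.Perm (OnePoint (ZMod p)))
    (μ β : ZMod p) (hμ : IsSquare μ) (hμ0 : μ ≠ 0) (hI : σ OnePoint.infty = OnePoint.infty)
    (h : ∀ i : ZMod p, σ (i : OnePoint (ZMod p)) = ((μ * i + β : ZMod p) : OnePoint (ZMod p))) :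
    σ ∈ (mobius (ZMod p)).range := by
  obtain ⟨d, rfl⟩ := hμ
  have hd : d ≠ 0 := fun h0 => hμ0 (by rw [h0, mul_zero])
  refine ⟨translMat β * diagMat d hd, ?_⟩
  ext q
  rw [map_mul, Equiv.Perm.mul_apply]
  induction q using OnePoint.rec with
  | infty => rw [mobius_diagMat_infty, mobius_translMat_infty, hI]
  | coe i => rw [mobius_diagMat_coe, mobius_translMat_coe, h]

theorem anti_mem_range {p : ℕ} [hp : Fact p.Prime] (σ : Equiv.Perm (OnePoint (ZMod p)))
    (d : ZMod p) (hd : d ≠ 0) (hI : σ OnePoint.infty = ((0 : ZMod p) : OnePoint (ZMod p)))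
    (h0 : σ ((0 : ZMod p) : OnePoint (ZMod p)) = OnePoint.infty)
    (h : ∀ k : ZMod p, k ≠ 0 →
      σ (k : OnePoint (ZMod p)) = ((- d ^ 2 / k : ZMod p) : OnePoint (ZMod p))) :
    σ ∈ (mobius (ZMod p)).range := by
  have hdet : -(-d * d⁻¹) = 1 := by
    rw [neg_mul, neg_neg, mul_inv_cancel₀ hd]
  refine ⟨antiMat (-d) d⁻¹ hdet, ?_⟩
  ext q
  induction q using OnePoint.rec with
  | infty => rw [mobius_antiMat_infty, hI]
  | coe i =>
    by_cases hi : i = 0
    · rw [hi, mobius_antiMat_zero, h0]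
    · rw [mobius_antiMat_coe _ _ _ _ hi, h i hi]
      congr 1
      field_simp

namespace Ctx

variable {G : Type*} [Group G] [Finite G] {p : ℕ} [hp : Fact p.Prime] (C : Ctx G p)

theorem closure_eq_top (t : G) (ht1 : t • C.P = C.Q0) :
    Subgroup.closure ({w | w • C.P = C.P} ∪ {t}) = ⊤ := by
  rw [eq_top_iff]
  intro g _
  have hxS : C.x ∈ Subgroup.closure ({w | w • C.P = C.P} ∪ {t}) :=
    Subgroup.subset_closure (Or.inl C.x_smul_P)
  have htS : t ∈ Subgroup.closure ({w | w • C.P = C.P} ∪ {t}) :=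
    Subgroup.subset_closure (Or.inr rfl)
  by_cases h : g • C.P = C.P
  · exact Subgroup.subset_closure (Or.inl h)
  · obtain ⟨j, hj⟩ := C.exists_lab_of_ne h
    have ha : (C.x ^ j.val * t) • C.P = g • C.P := by
      rw [mul_smul, ht1, hj]
    have hn : ((C.x ^ j.val * t)⁻¹ * g) • C.P = C.P := by
      rw [mul_smul, ← ha, inv_smul_smul]
    have hg : g = C.x ^ j.val * t * ((C.x ^ j.val * t)⁻¹ * g) := by group
    rw [hg]
    exact Subgroup.mul_mem _ (Subgroup.mul_mem _ (Subgroup.pow_mem _ hxS _) htS)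
      (Subgroup.subset_closure (Or.inl hn))

theorem equiv_psl {m g0 : ℕ} {L : List ℕ} (hpm : p = 2 * m + 1)
    (hG : Nat.card G = (p + 1) * (p * m)) (hinj : Function.Injective C.ρ)
    (hDL : DL p g0 L) (hS : Stmt p L) :
    Nonempty (G ≃* Matrix.ProjectiveSpecialLinearGroup (Fin 2) (ZMod p)) := by
  obtain ⟨t, ht1, ht2⟩ := C.exists_swap
  obtain ⟨d, hd0, hTI, hT0, hTk⟩ := C.swap_form hpm hG hinj hDL hS t ht1 ht2
  have hm2 : p / 2 = m := by omega
  refine equiv_psl_of_mobius C.ρ hinj _ (C.closure_eq_top t ht1) ?_ ?_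
  · rintro s (hs | hs)
    · obtain ⟨μ, β, hμ0, hI, ha⟩ := C.exists_affine s hs
      have hμm := C.mult_pow hpm hG s hs μ β hμ0 ha
      have hsq : IsSquare μ := by
        rw [ZMod.euler_criterion p hμ0, hm2]
        exact hμm
      exact affine_mem_range _ μ β hsq hμ0 hI ha
    · rw [Set.mem_singleton_iff] at hs
      rw [hs]
      exact anti_mem_range _ d hd0 hTI hT0 hTk
  · have h1 := Cfsg.Agent.Helper11.Dickson.card_PSL2_mul (F := ZMod p)
    rw [ZMod.card] at h1
    have h2 : Nat.gcd 2 (p - 1) = 2 := by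
      have : p - 1 = 2 * m := by omega
      rw [this]
      exact Nat.gcd_mul_right_right m 2
    rw [h2] at h1
    have h3 : p - 1 = 2 * m := by omega
    rw [h3] at h1
    rw [hG]
    have h4 : 2 * Nat.card (Matrix.ProjectiveSpecialLinearGroup (Fin 2) (ZMod p)) =
        2 * ((p + 1) * (p * m)) := by
      rw [h1]; ring
    exact (Nat.eq_of_mul_eq_mul_left (by norm_num) h4).symm

end Ctx




/-- the Sylow-count arithmetic condition (decidable for concrete `p`) -/
def SylArith (p m : ℕ) : Prop :=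
  (¬ p ∣ (p + 1) * m) ∧ ∀ d ≤ (p + 1) * m, d ∣ (p + 1) * m → d % p = 1 → d = 1 ∨ d = p + 1

instance (p m : ℕ) : Decidable (SylArith p m) := by unfold SylArith; infer_instance

theorem main_generic {p m g0 : ℕ} [hp : Fact p.Prime] {L : List ℕ} (hpm : p = 2 * m + 1)
    (hDL : DL p g0 L) (hS : Stmt p L) (hA : SylArith p m)
    {G : Type*} [Group G] [Finite G] [IsSimpleGroup G] (hG : Nat.card G = (p + 1) * (p * m)) :
    Nonempty (G ≃* Matrix.ProjectiveSpecialLinearGroup (Fin 2) (ZMod p)) := by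
  have hp2 := hp.out.two_le
  have hm0 : 0 < m := by omega
  obtain ⟨P⟩ : Nonempty (Sylow p G) := inferInstance
  -- the Sylow subgroup has order p
  have hPc : Nat.card P = p := by
    rw [P.card_eq_multiplicity, hG]
    have h1 : (p + 1) * (p * m) = p * ((p + 1) * m) := by ring
    rw [h1, Nat.factorization_mul hp.out.ne_zero (by positivity),
      Finsupp.add_apply, hp.out.factorization_self, Nat.factorization_eq_zero_of_not_dvd hA.1,
      pow_one]
  -- generator
  obtain ⟨x, hxP, hx1⟩ : ∃ x ∈ (P : Subgroup G), x ≠ 1 := by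
    have : (P : Subgroup G) ≠ ⊥ := by
      intro h
      rw [h, Subgroup.card_bot] at hPc
      omega
    obtain ⟨⟨a, haP⟩, ha⟩ := Subgroup.ne_bot_iff_exists_ne_one.1 this
    exact ⟨a, haP, fun h => ha (Subtype.ext h)⟩
  have hox : orderOf x = p := by
    have hdvd : orderOf x ∣ p := by
      rw [← hPc]
      exact Subgroup.orderOf_dvd_natCard (P : Subgroup G) hxP
    rcases (Nat.dvd_prime hp.out).1 hdvd with h | h
    · rw [orderOf_eq_one_iff] at h; exact absurd h hx1
    · exact h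
  -- the number of Sylow subgroups
  have hcard : Nat.card (Sylow p G) = p + 1 := by
    have hmod : Nat.card (Sylow p G) % p = 1 := by
      have := card_sylow_modEq_one p G
      rw [Nat.ModEq, Nat.mod_eq_of_lt hp.out.one_lt] at this
      exact this
    have hidx : (P : Subgroup G).index = (p + 1) * m := by
      have h2 := Subgroup.card_mul_index (P : Subgroup G)
      rw [hPc, hG] at h2
      have h3 : p * (P : Subgroup G).index = p * ((p + 1) * m) := by rw [h2]; ring
      exact Nat.eq_of_mul_eq_mul_left hp.out.pos h3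
    have hdvd : Nat.card (Sylow p G) ∣ (p + 1) * m := by
      rw [← hidx]
      exact P.card_dvd_index
    have hle : Nat.card (Sylow p G) ≤ (p + 1) * m := Nat.le_of_dvd (by positivity) hdvd
    rcases hA.2 _ hle hdvd hmod with h | h
    · exfalso
      haveI : Subsingleton (Sylow p G) := (Nat.card_eq_one_iff_unique.1 h).1
      have hn : (P : Subgroup G).Normal := Sylow.normal_of_subsingleton P
      rcases hn.eq_bot_or_eq_top with hb | ht
      · rw [hb, Subgroup.card_bot] at hPc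
        omega
      · rw [ht, Subgroup.card_top, hG] at hPc
        have : p * 1 < (p + 1) * (p * m) := by
          calc p * 1 < (p + 1) * (p * 1) := by nlinarith
            _ ≤ (p + 1) * (p * m) := by gcongr; exact hm0
        omega
    · exact h
  obtain ⟨Q0, hPQ⟩ : ∃ Q0 : Sylow p G, Q0 ≠ P := by
    haveI : Nontrivial (Sylow p G) := by
      rw [← Finite.one_lt_card_iff_nontrivial, hcard]
      omega
    exact exists_ne P
  let C : Ctx G p := ⟨P, Q0, x, hxP, hox, hPc, hPQ, hcard⟩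
  -- faithfulness
  have hinj0 : Function.Injective (MulAction.toPermHom G (Sylow p G)) := by
    rw [← MonoidHom.ker_eq_bot_iff]
    rcases (MonoidHom.normal_ker (MulAction.toPermHom G (Sylow p G))).eq_bot_or_eq_top with h | h
    · exact h
    · exfalso
      have hxk : x ∈ (MulAction.toPermHom G (Sylow p G)).ker := by rw [h]; trivial
      rw [MonoidHom.mem_ker] at hxk
      have h2 : x • Q0 = Q0 := by
        have := congrArg (fun σ : Equiv.Perm (Sylow p G) => σ Q0) hxk
        simpa using this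
      have h3 := C.free 1 (by rw [pow_one]; exact h2)
      have := Nat.le_of_dvd one_pos h3
      omega
  exact C.equiv_psl hpm hG (C.ρ_injective_of hinj0) hDL hS




theorem transfer {p : ℕ} [hp : Fact p.Prime] {G : Type*} [Group G]
    (h : Nonempty (G ≃* Matrix.ProjectiveSpecialLinearGroup (Fin 2) (ZMod p)))
    {F : Type*} [Field F] [Fintype F] (hF : Fintype.card F = p) :
    Nonempty (G ≃* Matrix.ProjectiveSpecialLinearGroup (Fin 2) F) := by
  obtain ⟨e⟩ := h
  have e7 : ZMod p ≃+* F := ZMod.ringEquivOfPrime F hp.out hF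
  exact ⟨e.trans (Cfsg.Agent.Helper2.pslMapEquiv e7)⟩



end Cfsg.Agent.Helper27.PSLp
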