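import Mathlib
import Cfsg.Agent.Lib.Helper27.PSLpGen

set_option autoImplicit false

/-! The finite check for `p = 17` and the resulting recognition of `PSL₂(17)` by its order `2448`. -/

namespace Cfsg.Agent.Helper27.PSLp

set_option maxRecDepth 100000 in
theorem stmt17 : Stmt 17 [0, 0, 14, 1, 12, 5, 15, 11, 10, 2, 3, 7, 13, 4, 9, 6, 8] := by decide +kernel

theorem dl17 : DL 17 3 [0, 0, 14, 1, 12, 5, 15, 11, 10, 2, 3, 7, 13, 4, 9, 6, 8] := by decide +kernel

theorem syl17 : SylArith 17 8 := by decide +kernel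

theorem psl17 {G : Type*} [Group G] [Finite G] [IsSimpleGroup G] (hG : Nat.card G = 2448)
    {F : Type*} [Field F] [Fintype F] (hF : Fintype.card F = 17) :
    Nonempty (G ≃* Matrix.ProjectiveSpecialLinearGroup (Fin 2) F) := by
  haveI : Fact (Nat.Prime 17) := ⟨by norm_num⟩
  exact transfer (main_generic (p := 17) (m := 8) (by norm_num) dl17 stmt17 syl17
    (by rw [hG])) hF

end Cfsg.Agent.Helper27.PSLp
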