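import Mathlib
import Cfsg.Agent.Lib.Helper27.PSLpGen

set_option autoImplicit false
set_option linter.unusedSectionVars false

/-! Groups with `p + 1` Sylow `p`-subgroups of order `p` acting faithfully on them (continuing `PSLpGen`): double transitivity, the two-point stabiliser `Hs` and its multiplier embedding into the units of `ZMod p`, the order formula `|G| = (p+1) p |Hs|`, three fixed points force the identity, involutions swapping two points with prescribed fixed points, the bound `p - 1 ≤ 2 |Hs|` when `-1` is a multiplier, the subgroup `evenKer` of even permutations, the induced context `subCtx` on a normal subgroup containing the generator, and evenness of `|Hs|` when `(p+1)/2` is odd. -/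

namespace Cfsg.Agent.Helper27.PSLp


namespace Ctx

variable {G : Type*} [Group G] [Finite G] {p : ℕ} [hp : Fact p.Prime] (C : Ctx G p)

/-- the action is doubly transitive -/
theorem twoTrans (a b : OnePoint (ZMod p)) (hab : a ≠ b) :
    ∃ g : G, C.ρ g OnePoint.infty = a ∧ C.ρ g ((0 : ZMod p) : OnePoint (ZMod p)) = b := by
  obtain ⟨g1, hg1⟩ := MulAction.exists_smul_eq G C.P (C.lab a)
  have h1 : C.ρ g1 OnePoint.infty = a := by
    rw [ρ_eq_iff, lab_infty, hg1]
  have hb' : (C.ρ g1).symm b ≠ OnePoint.infty := by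
    intro h
    apply hab
    rw [← h1, ← h, Equiv.apply_symm_apply]
  obtain ⟨j, hj⟩ := OnePoint.ne_infty_iff_exists.1 hb'
  refine ⟨g1 * C.x ^ j.val, ?_, ?_⟩
  · rw [map_mul, Equiv.Perm.mul_apply, C.ρ_x_pow_infty, h1]
  · rw [map_mul, Equiv.Perm.mul_apply, C.ρ_x_pow_coe, zero_add, ZMod.natCast_zmod_val, hj,
      Equiv.apply_symm_apply]

/-- the two-point stabiliser -/
def Hs : Subgroup G := MulAction.stabilizer G C.P ⊓ MulAction.stabilizer G C.Q0

theorem mem_Hs (g : G) : g ∈ C.Hs ↔ g • C.P = C.P ∧ g • C.Q0 = C.Q0 := by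
  unfold Hs
  rw [Subgroup.mem_inf, MulAction.mem_stabilizer_iff, MulAction.mem_stabilizer_iff]

theorem mem_Hs_iff (g : G) : g ∈ C.Hs ↔ C.ρ g OnePoint.infty = OnePoint.infty ∧
    C.ρ g ((0 : ZMod p) : OnePoint (ZMod p)) = ((0 : ZMod p) : OnePoint (ZMod p)) := by
  rw [mem_Hs, ρ_eq_iff, ρ_eq_iff, lab_infty, lab_zero]

/-- elements of the two-point stabiliser act by multiplications -/
theorem exists_mul_of_mem_Hs (g : G) (hg : g ∈ C.Hs) :
    ∃ μ : ZMod p, μ ≠ 0 ∧
      ∀ i : ZMod p, C.ρ g (i : OnePoint (ZMod p)) = ((μ * i : ZMod p) : OnePoint (ZMod p)) := by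
  obtain ⟨h1, h2⟩ := (C.mem_Hs g).1 hg
  obtain ⟨μ, β, hμ, -, ha⟩ := C.exists_affine g h1
  have h0 := ha 0
  rw [mul_zero, zero_add] at h0
  have h3 : C.ρ g ((0 : ZMod p) : OnePoint (ZMod p)) = ((0 : ZMod p) : OnePoint (ZMod p)) :=
    ((C.mem_Hs_iff g).1 hg).2
  rw [h3] at h0
  have hβ : β = 0 := (OnePoint.coe_eq_coe.1 h0).symm
  refine ⟨μ, hμ, fun i => ?_⟩
  rw [ha i, hβ, add_zero]

/-- the multiplier of an element (the value at `1`) -/
noncomputable def mult (g : G) : ZMod p := finPart (C.ρ g ((1 : ZMod p) : OnePoint (ZMod p)))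

theorem mult_spec (g : G) (hg : g ∈ C.Hs) : C.mult g ≠ 0 ∧
    ∀ i : ZMod p, C.ρ g (i : OnePoint (ZMod p)) = ((C.mult g * i : ZMod p) : OnePoint (ZMod p)) := by
  obtain ⟨μ, hμ, h⟩ := C.exists_mul_of_mem_Hs g hg
  have : C.mult g = μ := by
    unfold mult
    rw [h 1, mul_one, finPart_coe]
  rw [this]
  exact ⟨hμ, h⟩

theorem mult_mul (g h : G) (hg : g ∈ C.Hs) (hh : h ∈ C.Hs) :
    C.mult (g * h) = C.mult g * C.mult h := by
  have h1 := (C.mult_spec (g * h) (C.Hs.mul_mem hg hh)).2 1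
  rw [map_mul, Equiv.Perm.mul_apply, (C.mult_spec h hh).2 1, (C.mult_spec g hg).2] at h1
  have := OnePoint.coe_eq_coe.1 h1
  rw [mul_one, mul_one] at this
  exact this.symm

theorem mult_one : C.mult (1 : G) = 1 := by
  unfold mult
  rw [map_one, Equiv.Perm.one_apply, finPart_coe]

/-- the multiplier homomorphism on the two-point stabiliser -/
noncomputable def multHom : C.Hs →* (ZMod p)ˣ where
  toFun g := Units.mk0 (C.mult g.1) (C.mult_spec g.1 g.2).1
  map_one' := by
    apply Units.ext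
    simp only [Units.val_mk0, Subgroup.coe_one, Units.val_one]
    exact C.mult_one
  map_mul' a b := by
    apply Units.ext
    simp only [Units.val_mk0, Subgroup.coe_mul, Units.val_mul]
    exact C.mult_mul a.1 b.1 a.2 b.2

theorem multHom_val (g : C.Hs) : ((C.multHom g : (ZMod p)ˣ) : ZMod p) = C.mult g.1 := rfl

theorem eq_one_of_mult_eq_one (hinj : Function.Injective C.ρ) (g : G) (hg : g ∈ C.Hs)
    (h1 : C.mult g = 1) : g = 1 := by
  apply hinj
  rw [map_one]
  ext q
  rw [Equiv.Perm.one_apply]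
  induction q using OnePoint.rec with
  | infty => exact ((C.mem_Hs_iff g).1 hg).1
  | coe i => rw [(C.mult_spec g hg).2 i, h1, one_mul]

theorem multHom_injective (hinj : Function.Injective C.ρ) : Function.Injective C.multHom := by
  rw [← MonoidHom.ker_eq_bot_iff, eq_bot_iff]
  intro g hg
  rw [MonoidHom.mem_ker] at hg
  have h1 : C.mult g.1 = 1 := by
    rw [← multHom_val, hg, Units.val_one]
  have := C.eq_one_of_mult_eq_one hinj g.1 g.2 h1
  rw [Subgroup.mem_bot]
  exact Subtype.ext this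

end Ctx




namespace Ctx

variable {G : Type*} [Group G] [Finite G] {p : ℕ} [hp : Fact p.Prime] (C : Ctx G p)

theorem exists_smul_pair (R R' : Sylow p G) (h : R ≠ R') : ∃ g : G, g • C.P = R ∧ g • C.Q0 = R' := by
  obtain ⟨a, ha⟩ := C.lab_bijective.2 R
  obtain ⟨b, hb⟩ := C.lab_bijective.2 R'
  have hab : a ≠ b := by
    intro hab
    apply h
    rw [← ha, ← hb, hab]
  obtain ⟨g, hg1, hg2⟩ := C.twoTrans a b hab
  refine ⟨g, ?_, ?_⟩
  · rw [ρ_eq_iff, lab_infty, ha] at hg1
    exact hg1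
  · rw [ρ_eq_iff, lab_zero, hb] at hg2
    exact hg2

theorem orbit_pair : MulAction.orbit G ((C.P, C.Q0) : Sylow p G × Sylow p G) =
    {x : Sylow p G × Sylow p G | x.1 ≠ x.2} := by
  ext ⟨R, R'⟩
  constructor
  · rintro ⟨g, hg⟩
    have h1 : g • C.P = R := congrArg Prod.fst hg
    have h2 : g • C.Q0 = R' := congrArg Prod.snd hg
    show R ≠ R'
    rw [← h1, ← h2]
    intro h
    exact C.hPQ (smul_left_cancel g h).symm
  · intro h
    obtain ⟨g, hg1, hg2⟩ := C.exists_smul_pair R R' h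
    exact ⟨g, by show (g • C.P, g • C.Q0) = (R, R'); rw [hg1, hg2]⟩

theorem stabilizer_pair : MulAction.stabilizer G ((C.P, C.Q0) : Sylow p G × Sylow p G) = C.Hs := by
  ext g
  rw [MulAction.mem_stabilizer_iff, mem_Hs]
  constructor
  · intro h
    exact ⟨congrArg Prod.fst h, congrArg Prod.snd h⟩
  · rintro ⟨h1, h2⟩
    show (g • C.P, g • C.Q0) = (C.P, C.Q0)
    rw [h1, h2]

theorem card_offdiag (hcard : Nat.card (Sylow p G) = p + 1) :
    Nat.card {x : Sylow p G × Sylow p G | x.1 ≠ x.2} = (p + 1) * p := by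
  classical
  haveI : Fintype (Sylow p G) := Fintype.ofFinite _
  have h1 : Nat.card {x : Sylow p G × Sylow p G | x.1 ≠ x.2} =
      (Finset.univ.offDiag : Finset (Sylow p G × Sylow p G)).card := by
    rw [Nat.card_eq_fintype_card, ← Finset.card_univ (α := {x : Sylow p G × Sylow p G | x.1 ≠ x.2})]
    apply Finset.card_bij (fun a _ => a.1)
    · intro a _
      rw [Finset.mem_offDiag]
      exact ⟨Finset.mem_univ _, Finset.mem_univ _, a.2⟩
    · intro a _ b _ hab
      exact Subtype.ext hab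
    · intro b hb
      rw [Finset.mem_offDiag] at hb
      exact ⟨⟨b, hb.2.2⟩, Finset.mem_univ _, rfl⟩
  rw [h1, Finset.offDiag_card, Finset.card_univ, ← Nat.card_eq_fintype_card, hcard]
  have : (p + 1) * (p + 1) - (p + 1) = (p + 1) * p := by
    rw [Nat.mul_succ (p + 1) p]
    omega
  exact this

theorem card_eq_Hs : Nat.card G = (p + 1) * p * Nat.card C.Hs := by
  have e := MulAction.orbitProdStabilizerEquivGroup G ((C.P, C.Q0) : Sylow p G × Sylow p G)
  have h1 := Nat.card_congr e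
  rw [Nat.card_prod, C.stabilizer_pair, C.orbit_pair, card_offdiag C.hcard] at h1
  exact h1.symm

/-- an element fixing `∞`, `0` and one further point is trivial -/
theorem eq_one_of_fix3 (hinj : Function.Injective C.ρ) (g : G) (hg : g ∈ C.Hs) (i : ZMod p)
    (hi : i ≠ 0) (hfix : C.ρ g (i : OnePoint (ZMod p)) = (i : OnePoint (ZMod p))) : g = 1 := by
  apply C.eq_one_of_mult_eq_one hinj g hg
  have h1 := (C.mult_spec g hg).2 i
  rw [hfix] at h1
  have h2 := OnePoint.coe_eq_coe.1 h1
  have h3 : (C.mult g - 1) * i = 0 := by rw [sub_mul, one_mul, ← h2, sub_self]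
  rcases mul_eq_zero.1 h3 with h | h
  · exact sub_eq_zero.1 h
  · exact absurd h hi

/-- an element fixing three distinct points is trivial -/
theorem eq_one_of_fix_three (hinj : Function.Injective C.ρ) (g : G) (a b c : OnePoint (ZMod p))
    (hab : a ≠ b) (hac : a ≠ c) (hbc : b ≠ c) (ha : C.ρ g a = a) (hb : C.ρ g b = b)
    (hc : C.ρ g c = c) : g = 1 := by
  obtain ⟨u, hu1, hu2⟩ := C.twoTrans a b hab
  set g' := u⁻¹ * g * u with hg'
  have h1 : C.ρ g' OnePoint.infty = OnePoint.infty := by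
    rw [hg', map_mul, map_mul, Equiv.Perm.mul_apply, Equiv.Perm.mul_apply, hu1, ha, map_inv,
      Equiv.Perm.inv_def, ← hu1, Equiv.symm_apply_apply]
  have h2 : C.ρ g' ((0 : ZMod p) : OnePoint (ZMod p)) = ((0 : ZMod p) : OnePoint (ZMod p)) := by
    rw [hg', map_mul, map_mul, Equiv.Perm.mul_apply, Equiv.Perm.mul_apply, hu2, hb, map_inv,
      Equiv.Perm.inv_def, ← hu2, Equiv.symm_apply_apply]
  have hg'H : g' ∈ C.Hs := (C.mem_Hs_iff g').2 ⟨h1, h2⟩
  set c' := (C.ρ u).symm c with hc'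
  have hc'1 : c' ≠ OnePoint.infty := by
    intro h
    apply hac
    rw [← hu1, ← h, hc', Equiv.apply_symm_apply]
  have hc'0 : c' ≠ ((0 : ZMod p) : OnePoint (ZMod p)) := by
    intro h
    apply hbc
    rw [← hu2, ← h, hc', Equiv.apply_symm_apply]
  obtain ⟨i, hi⟩ := OnePoint.ne_infty_iff_exists.1 hc'1
  have hi0 : i ≠ 0 := by
    intro h
    apply hc'0
    rw [← hi, h]
  have h3 : C.ρ g' (i : OnePoint (ZMod p)) = (i : OnePoint (ZMod p)) := by
    rw [hi, hg', map_mul, map_mul, Equiv.Perm.mul_apply, Equiv.Perm.mul_apply, hc',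
      Equiv.apply_symm_apply, hc, map_inv, Equiv.Perm.inv_def]
  have h4 := C.eq_one_of_fix3 hinj g' hg'H i hi0 h3
  rw [hg'] at h4
  have : g = u * 1 * u⁻¹ := by rw [← h4]; group
  rw [this]; group

end Ctx




namespace Ctx

variable {G : Type*} [Group G] [Finite G] {p : ℕ} [hp : Fact p.Prime] (C : Ctx G p)

omit [Finite G] in
theorem neg_ne_self (hp2 : p ≠ 2) (i : ZMod p) (hi : i ≠ 0) : -i ≠ i := by
  intro h
  have h2 : (2 : ZMod p) * i = 0 := by
    rw [two_mul]
    nth_rewrite 1 [← h]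
    exact neg_add_cancel i
  rcases mul_eq_zero.1 h2 with h3 | h3
  · have : ((2 : ℕ) : ZMod p) = 0 := by exact_mod_cast h3
    rw [ZMod.natCast_eq_zero_iff] at this
    have := (Nat.prime_dvd_prime_iff_eq hp.out Nat.prime_two).1 this
    exact hp2 this
  · exact hi h3

/-- fixed points of the multiplication by `-1` -/
theorem fix_neg (hp2 : p ≠ 2) (t0 : G) (ht0 : t0 ∈ C.Hs) (hμ : C.mult t0 = -1)
    (q : OnePoint (ZMod p)) :
    C.ρ t0 q = q ↔ q = OnePoint.infty ∨ q = ((0 : ZMod p) : OnePoint (ZMod p)) := by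
  induction q using OnePoint.rec with
  | infty =>
    constructor
    · intro _; exact Or.inl rfl
    · intro _; exact ((C.mem_Hs_iff t0).1 ht0).1
  | coe i =>
    rw [(C.mult_spec t0 ht0).2 i, hμ, neg_one_mul, OnePoint.coe_eq_coe]
    constructor
    · intro h
      right
      by_contra hne
      have hi : i ≠ 0 := fun h0 => hne (by rw [h0])
      exact neg_ne_self hp2 i hi h
    · rintro (h | h)
      · exact absurd h (OnePoint.coe_ne_infty i)
      · rw [OnePoint.coe_eq_coe.1 h, neg_zero]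

theorem ρ_neg (t0 : G) (ht0 : t0 ∈ C.Hs) (hμ : C.mult t0 = -1) (i : ZMod p) :
    C.ρ t0 (i : OnePoint (ZMod p)) = ((-i : ZMod p) : OnePoint (ZMod p)) := by
  rw [(C.mult_spec t0 ht0).2 i, hμ, neg_one_mul]

theorem sq_eq_one_of_neg (hinj : Function.Injective C.ρ) (t0 : G) (ht0 : t0 ∈ C.Hs)
    (hμ : C.mult t0 = -1) : t0 * t0 = 1 := by
  apply C.eq_one_of_mult_eq_one hinj _ (C.Hs.mul_mem ht0 ht0)
  rw [C.mult_mul t0 t0 ht0 ht0, hμ, neg_one_mul, neg_neg]

/-- the two-point stabiliser has at most one involution -/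
theorem invol_unique (hinj : Function.Injective C.ρ) (hp2 : p ≠ 2) (t0 : G) (ht0 : t0 ∈ C.Hs)
    (hμ : C.mult t0 = -1) (s : G) (hs : s ∈ C.Hs) (hs2 : s * s = 1) (hs1 : s ≠ 1) : s = t0 := by
  have h1 : C.mult s * C.mult s = 1 := by
    rw [← C.mult_mul s s hs hs, hs2, C.mult_one]
  have h2 : (C.mult s - 1) * (C.mult s + 1) = 0 := by
    have : (C.mult s - 1) * (C.mult s + 1) = C.mult s * C.mult s - 1 := by ring
    rw [this, h1, sub_self]
  rcases mul_eq_zero.1 h2 with h | h
  · exact absurd (C.eq_one_of_mult_eq_one hinj s hs (sub_eq_zero.1 h)) hs1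
  · have hs' : C.mult s = -1 := eq_neg_of_add_eq_zero_left h
    have h3 : C.mult (s * t0) = 1 := by
      rw [C.mult_mul s t0 hs ht0, hs', hμ, neg_one_mul, neg_neg]
    have h4 := C.eq_one_of_mult_eq_one hinj _ (C.Hs.mul_mem hs ht0) h3
    have h5 := C.sq_eq_one_of_neg hinj t0 ht0 hμ
    calc s = s * (t0 * t0) := by rw [h5, mul_one]
      _ = (s * t0) * t0 := by group
      _ = t0 := by rw [h4, one_mul]

/-- Key step: for each `i ≠ 0` there is an element swapping `∞` and `0` that fixes `i`. -/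
theorem exists_swap_fix (hinj : Function.Injective C.ρ) (hp2 : p ≠ 2) (t0 : G) (ht0 : t0 ∈ C.Hs)
    (hμ : C.mult t0 = -1) (i : ZMod p) (hi : i ≠ 0) :
    ∃ s : G, C.ρ s OnePoint.infty = ((0 : ZMod p) : OnePoint (ZMod p)) ∧
      C.ρ s ((0 : ZMod p) : OnePoint (ZMod p)) = OnePoint.infty ∧
      ∀ q : OnePoint (ZMod p), C.ρ s q = q ↔
        q = ((i : ZMod p) : OnePoint (ZMod p)) ∨ q = ((-i : ZMod p) : OnePoint (ZMod p)) := by
  have hne : ((i : ZMod p) : OnePoint (ZMod p)) ≠ ((-i : ZMod p) : OnePoint (ZMod p)) := by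
    intro h
    exact neg_ne_self hp2 i hi (OnePoint.coe_eq_coe.1 h).symm
  obtain ⟨g, hg1, hg2⟩ := C.twoTrans _ _ hne
  have ht2 := C.sq_eq_one_of_neg hinj t0 ht0 hμ
  have ht0inv : t0⁻¹ = t0 := by
    rw [inv_eq_iff_mul_eq_one]; exact ht2
  have ht01 : t0 ≠ 1 := by
    intro h
    rw [h, C.mult_one] at hμ
    have h2 : (2 : ZMod p) = 0 := by
      have : (1 : ZMod p) + 1 = 0 := by nth_rewrite 1 [hμ]; exact neg_add_cancel 1
      rw [← this]; norm_num
    have : ((2 : ℕ) : ZMod p) = 0 := by exact_mod_cast h2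
    rw [ZMod.natCast_eq_zero_iff] at this
    exact hp2 ((Nat.prime_dvd_prime_iff_eq hp.out Nat.prime_two).1 this)
  set s := g * t0 * g⁻¹ with hs
  -- fixed points of s
  have hfix : ∀ q : OnePoint (ZMod p), C.ρ s q = q ↔
      q = ((i : ZMod p) : OnePoint (ZMod p)) ∨ q = ((-i : ZMod p) : OnePoint (ZMod p)) := by
    intro q
    have h1 : C.ρ s q = q ↔ C.ρ t0 ((C.ρ g).symm q) = (C.ρ g).symm q := by
      rw [hs, map_mul, map_mul, Equiv.Perm.mul_apply, Equiv.Perm.mul_apply, map_inv,
        Equiv.Perm.inv_def]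
      constructor
      · intro h
        exact (Equiv.eq_symm_apply (C.ρ g)).2 h
      · intro h
        rw [h, Equiv.apply_symm_apply]
    rw [h1, C.fix_neg hp2 t0 ht0 hμ, Equiv.symm_apply_eq, Equiv.symm_apply_eq, hg1, hg2]
  have hs2 : s * s = 1 := by
    rw [hs]
    calc g * t0 * g⁻¹ * (g * t0 * g⁻¹) = g * (t0 * t0) * g⁻¹ := by group
      _ = 1 := by rw [ht2]; group
  have hs1 : s ≠ 1 := by
    intro h
    apply ht01
    have : t0 = g⁻¹ * s * g := by rw [hs]; group
    rw [this, h]; group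
  -- t0 commutes with s
  have hcomm : t0 * s * t0 = s := by
    set s' := t0 * s * t0 with hs'
    have hfi : C.ρ s' ((i : ZMod p) : OnePoint (ZMod p)) = ((i : ZMod p) : OnePoint (ZMod p)) := by
      rw [hs', map_mul, map_mul, Equiv.Perm.mul_apply, Equiv.Perm.mul_apply, C.ρ_neg t0 ht0 hμ i,
        (hfix _).2 (Or.inr rfl), C.ρ_neg t0 ht0 hμ, neg_neg]
    have hfn : C.ρ s' ((-i : ZMod p) : OnePoint (ZMod p)) = ((-i : ZMod p) : OnePoint (ZMod p)) := by
      rw [hs', map_mul, map_mul, Equiv.Perm.mul_apply, Equiv.Perm.mul_apply,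
        C.ρ_neg t0 ht0 hμ (-i), neg_neg, (hfix _).2 (Or.inl rfl), C.ρ_neg t0 ht0 hμ]
    set u := g⁻¹ * s' * g with hu
    have huH : u ∈ C.Hs := by
      rw [mem_Hs_iff]
      constructor
      · rw [hu, map_mul, map_mul, Equiv.Perm.mul_apply, Equiv.Perm.mul_apply, hg1, hfi, map_inv,
          Equiv.Perm.inv_def, ← hg1, Equiv.symm_apply_apply]
      · rw [hu, map_mul, map_mul, Equiv.Perm.mul_apply, Equiv.Perm.mul_apply, hg2, hfn, map_inv,
          Equiv.Perm.inv_def, ← hg2, Equiv.symm_apply_apply]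
    have hs'2 : s' * s' = 1 := by
      rw [hs']
      calc t0 * s * t0 * (t0 * s * t0) = t0 * s * (t0 * t0) * s * t0 := by group
        _ = t0 * (s * s) * t0 := by rw [ht2]; group
        _ = 1 := by rw [hs2, mul_one, ht2]
    have hu2 : u * u = 1 := by
      rw [hu]
      calc g⁻¹ * s' * g * (g⁻¹ * s' * g) = g⁻¹ * (s' * s') * g := by group
        _ = 1 := by rw [hs'2]; group
    have hu1 : u ≠ 1 := by
      intro h
      apply hs1
      have h3 : s' = g * u * g⁻¹ := by rw [hu]; group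
      rw [h, mul_one, mul_inv_cancel] at h3
      have : s = t0 * s' * t0 := by
        rw [hs']
        calc s = (t0 * t0) * s * (t0 * t0) := by rw [ht2, one_mul, mul_one]
          _ = t0 * (t0 * s * t0) * t0 := by group
      rw [this, h3, mul_one, ht2]
    have hut := C.invol_unique hinj hp2 t0 ht0 hμ u huH hu2 hu1
    have : s' = g * u * g⁻¹ := by rw [hu]; group
    rw [this, hut]
  have hcomm' : ∀ q, C.ρ t0 (C.ρ s q) = C.ρ s (C.ρ t0 q) := by
    intro q
    have h1 : t0 * s = s * t0 := by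
      calc t0 * s = (t0 * s * t0) * t0⁻¹ := by group
        _ = s * t0 := by rw [hcomm, ht0inv]
    have := congrArg (fun σ => C.ρ σ q) h1
    simpa [map_mul, Equiv.Perm.mul_apply] using this
  have hI : C.ρ s OnePoint.infty = ((0 : ZMod p) : OnePoint (ZMod p)) := by
    have h1 := hcomm' OnePoint.infty
    rw [((C.mem_Hs_iff t0).1 ht0).1] at h1
    rcases (C.fix_neg hp2 t0 ht0 hμ _).1 h1 with h | h
    · rcases (hfix _).1 h with h' | h'
      · exact absurd h'.symm (OnePoint.coe_ne_infty i)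
      · exact absurd h'.symm (OnePoint.coe_ne_infty (-i))
    · exact h
  have h0 : C.ρ s ((0 : ZMod p) : OnePoint (ZMod p)) = OnePoint.infty := by
    have h1 := hcomm' ((0 : ZMod p) : OnePoint (ZMod p))
    rw [((C.mem_Hs_iff t0).1 ht0).2] at h1
    rcases (C.fix_neg hp2 t0 ht0 hμ _).1 h1 with h | h
    · exact h
    · rcases (hfix _).1 h with h' | h'
      · exact absurd (OnePoint.coe_eq_coe.1 h').symm hi
      · have := OnePoint.coe_eq_coe.1 h'
        exact absurd (neg_eq_zero.1 this.symm) hi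
  exact ⟨s, hI, h0, hfix⟩

end Ctx




namespace Ctx

variable {G : Type*} [Group G] [Finite G] {p : ℕ} [hp : Fact p.Prime] (C : Ctx G p)

/-- If the two-point stabiliser contains the multiplication by `-1`, it has at least `(p-1)/2`
elements. -/
theorem half_le_card_Hs (hinj : Function.Injective C.ρ) (hp2 : p ≠ 2) (t0 : G) (ht0 : t0 ∈ C.Hs)
    (hμ : C.mult t0 = -1) : p - 1 ≤ 2 * Nat.card C.Hs := by
  classical
  have key := C.exists_swap_fix hinj hp2 t0 ht0 hμ
  choose! f hf1 hf2 hf3 using key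
  set S : Finset (ZMod p) := Finset.univ.filter (fun i => i ≠ 0) with hS
  have hScard : S.card = p - 1 := by
    rw [hS, Finset.filter_ne' Finset.univ (0 : ZMod p), Finset.card_erase_of_mem (Finset.mem_univ _),
      Finset.card_univ, ZMod.card]
  have h1 : S.card ≤ 2 * (S.image f).card := by
    apply Finset.card_le_mul_card_image
    intro a ha
    obtain ⟨i, hiS, rfl⟩ := Finset.mem_image.1 ha
    have hi : i ≠ 0 := (Finset.mem_filter.1 hiS).2
    have hsub : S.filter (fun x => f x = f i) ⊆ {i, -i} := by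
      intro j hj
      rw [Finset.mem_filter] at hj
      have hj0 : j ≠ 0 := (Finset.mem_filter.1 hj.1).2
      have h2 : C.ρ (f i) ((j : ZMod p) : OnePoint (ZMod p)) = ((j : ZMod p) : OnePoint (ZMod p)) := by
        rw [← hj.2]
        exact (hf3 j hj0 _).2 (Or.inl rfl)
      rcases (hf3 i hi _).1 h2 with h | h
      · rw [OnePoint.coe_eq_coe.1 h]; exact Finset.mem_insert_self _ _
      · rw [OnePoint.coe_eq_coe.1 h]
        exact Finset.mem_insert_of_mem (Finset.mem_singleton_self _)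
    calc (S.filter (fun x => f x = f i)).card ≤ ({i, -i} : Finset (ZMod p)).card :=
          Finset.card_le_card hsub
      _ ≤ 2 := Finset.card_le_two
  -- the image injects into the two-point stabiliser
  have hp1 : (1 : ZMod p) ≠ 0 := one_ne_zero
  set t := f 1 with ht
  have h2 : (S.image f).card ≤ Nat.card C.Hs := by
    have hmem : ∀ g ∈ S.image f, t⁻¹ * g ∈ C.Hs := by
      intro g hg
      obtain ⟨i, hiS, rfl⟩ := Finset.mem_image.1 hg
      have hi : i ≠ 0 := (Finset.mem_filter.1 hiS).2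
      rw [mem_Hs_iff]
      constructor
      · rw [map_mul, Equiv.Perm.mul_apply, hf1 i hi, map_inv, Equiv.Perm.inv_def,
          Equiv.symm_apply_eq, ht, hf1 1 hp1]
      · rw [map_mul, Equiv.Perm.mul_apply, hf2 i hi, map_inv, Equiv.Perm.inv_def,
          Equiv.symm_apply_eq, ht, hf2 1 hp1]
    have : Nat.card {g // g ∈ S.image f} ≤ Nat.card C.Hs := by
      apply Nat.card_le_card_of_injective (fun g => (⟨t⁻¹ * g.1, hmem g.1 g.2⟩ : C.Hs))
      intro a b hab
      have := congrArg Subtype.val hab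
      simp only [mul_right_inj] at this
      exact Subtype.ext this
    rwa [Nat.card_eq_fintype_card, Fintype.card_coe] at this
  calc p - 1 = S.card := hScard.symm
    _ ≤ 2 * (S.image f).card := h1
    _ ≤ 2 * Nat.card C.Hs := Nat.mul_le_mul_left 2 h2

end Ctx




namespace Ctx

instance instDecEqOnePoint {X : Type*} [DecidableEq X] : DecidableEq (OnePoint X) :=
  inferInstanceAs (DecidableEq (Option X))

variable {G : Type*} [Group G] [Finite G] {p : ℕ} [hp : Fact p.Prime] (C : Ctx G p)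

/-- the subgroup of elements acting as even permutations -/
noncomputable def evenKer : Subgroup G := (Equiv.Perm.sign.comp C.ρ).ker

theorem mem_evenKer (g : G) : g ∈ C.evenKer ↔ Equiv.Perm.sign (C.ρ g) = 1 := by
  unfold evenKer
  rw [MonoidHom.mem_ker, MonoidHom.comp_apply]

instance evenKer_normal : C.evenKer.Normal := by
  unfold evenKer
  infer_instance

theorem index_evenKer (g : G) (hg : Equiv.Perm.sign (C.ρ g) = -1) : C.evenKer.index = 2 := by
  unfold evenKer
  rw [Subgroup.index_ker]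
  have h1 : (Equiv.Perm.sign.comp C.ρ).range = ⊤ := by
    rw [eq_top_iff]
    intro u _
    rcases Int.units_eq_one_or u with h | h
    · rw [h]; exact Subgroup.one_mem _
    · rw [h, ← hg]; exact ⟨g, rfl⟩
  rw [h1, Subgroup.card_top, Nat.card_eq_fintype_card]
  rfl

theorem x_mem_evenKer (hp2 : p ≠ 2) : C.x ∈ C.evenKer := by
  rw [mem_evenKer]
  have h1 : Equiv.Perm.sign (C.ρ C.x) ^ p = 1 := by
    rw [← map_pow, ← map_pow, C.hxp, map_one, map_one]
  rcases Int.units_eq_one_or (Equiv.Perm.sign (C.ρ C.x)) with h | h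
  · exact h
  · exfalso
    rw [h] at h1
    have hodd : Odd p := hp.out.odd_of_ne_two hp2
    rw [hodd.neg_one_pow] at h1
    exact absurd h1 (by decide)

/-- the point stabiliser has order `p * |Hs|` -/
theorem card_stab (q : OnePoint (ZMod p)) :
    Nat.card (MulAction.stabilizer G (C.lab q)) = p * Nat.card C.Hs := by
  have h1 : MulAction.stabilizer G (C.lab q) =
      Subgroup.normalizer (((C.lab q : Sylow p G) : Subgroup G) : Set G) :=
    Sylow.stabilizer_eq_normalizer _
  have h2 : Nat.card (Sylow p G) =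
      (Subgroup.normalizer (((C.lab q : Sylow p G) : Subgroup G) : Set G)).index :=
    (C.lab q).card_eq_index_normalizer
  have h3 := Subgroup.card_mul_index
    (Subgroup.normalizer (((C.lab q : Sylow p G) : Subgroup G) : Set G))
  rw [← h2, C.hcard, C.card_eq_Hs] at h3
  rw [h1]
  have h4 : Nat.card (Subgroup.normalizer (((C.lab q : Sylow p G) : Subgroup G) : Set G)) * (p + 1) =
      (p * Nat.card C.Hs) * (p + 1) := by rw [h3]; ring
  exact Nat.eq_of_mul_eq_mul_right (Nat.succ_pos p) h4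

end Ctx




namespace Ctx

variable {G : Type*} [Group G] [Finite G] {p : ℕ} [hp : Fact p.Prime] (C : Ctx G p)

/-- a normal subgroup containing the generator contains every Sylow `p`-subgroup -/
theorem sylow_le_of_normal (N : Subgroup G) [hN : N.Normal] (hx : C.x ∈ N) (R : Sylow p G) :
    (R : Subgroup G) ≤ N := by
  obtain ⟨g, rfl⟩ := MulAction.exists_smul_eq G C.P R
  intro y hy
  rw [Sylow.coe_subgroup_smul, Subgroup.mem_pointwise_smul_iff_inv_smul_mem] at hy
  have h1 : (MulAut.conj g)⁻¹ • y = g⁻¹ * y * g := by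
    rw [MulAut.smul_def, ← map_inv, MulAut.conj_apply, inv_inv]
  rw [h1, C.P_eq_zpowers] at hy
  obtain ⟨k, hk⟩ := Subgroup.mem_zpowers_iff.1 hy
  have h2 : y = g * C.x ^ k * g⁻¹ := by rw [hk]; group
  rw [h2]
  exact hN.conj_mem _ (N.zpow_mem hx k) g

theorem card_sylow_sub (N : Subgroup G) [hN : N.Normal] (hx : C.x ∈ N) :
    Nat.card (Sylow p N) = p + 1 := by
  rw [← C.hcard]
  symm
  apply Nat.card_congr
  refine Equiv.ofBijective (fun R => R.subtype (C.sylow_le_of_normal N hx R)) ⟨?_, ?_⟩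
  · intro R R' h
    exact Sylow.subtype_injective h
  · intro S
    obtain ⟨Q, hQ⟩ := Sylow.exists_comap_subtype_eq S
    refine ⟨Q, ?_⟩
    apply Sylow.ext
    rw [Sylow.coe_subtype]
    exact hQ

/-- the induced context on a normal subgroup containing the generator -/
noncomputable def subCtx (N : Subgroup G) [hN : N.Normal] (hx : C.x ∈ N) : Ctx N p where
  P := C.P.subtype (C.sylow_le_of_normal N hx C.P)
  Q0 := C.Q0.subtype (C.sylow_le_of_normal N hx C.Q0)
  x := ⟨C.x, hx⟩
  hxP := by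
    show (⟨C.x, hx⟩ : N) ∈ (C.P : Subgroup G).subgroupOf N
    rw [Subgroup.mem_subgroupOf]
    exact C.hxP
  hox := (Subgroup.orderOf_mk C.x hx).trans C.hox
  hPc := by
    have h := C.sylow_le_of_normal N hx C.P
    exact (Nat.card_congr (Subgroup.subgroupOfEquivOfLe h).toEquiv).trans C.hPc
  hPQ := fun h => C.hPQ (Sylow.subtype_injective h)
  hcard := C.card_sylow_sub N hx

theorem subCtx_lab (N : Subgroup G) [hN : N.Normal] (hx : C.x ∈ N) (q : OnePoint (ZMod p)) :
    (C.subCtx N hx).lab q = (C.lab q).subtype (C.sylow_le_of_normal N hx _) := by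
  induction q using OnePoint.rec with
  | infty => rfl
  | coe i =>
    rw [lab_coe]
    show (⟨C.x, hx⟩ : N) ^ i.val • C.Q0.subtype (C.sylow_le_of_normal N hx C.Q0) = _
    rw [Sylow.smul_subtype]
    apply Sylow.ext
    rw [Sylow.coe_subtype, Sylow.coe_subtype]
    congr 1

theorem subCtx_ρ (N : Subgroup G) [hN : N.Normal] (hx : C.x ∈ N) (e : N) :
    (C.subCtx N hx).ρ e = C.ρ (e : G) := by
  ext q
  rw [ρ_eq_iff, subCtx_lab, subCtx_lab, Sylow.smul_subtype]
  have h1 : (e : G) • C.lab q = C.lab (C.ρ (e : G) q) := by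
    rw [← ρ_eq_iff]
  apply Sylow.ext
  rw [Sylow.coe_subtype, Sylow.coe_subtype]
  congr 1
  have h2 : e • C.lab q = (e : G) • C.lab q := rfl
  rw [h2, h1]

theorem subCtx_ρ_injective (hinj : Function.Injective C.ρ) (N : Subgroup G) [hN : N.Normal]
    (hx : C.x ∈ N) : Function.Injective (C.subCtx N hx).ρ := by
  intro a b hab
  rw [subCtx_ρ, subCtx_ρ] at hab
  exact Subtype.ext (hinj hab)

end Ctx




namespace Ctx

variable {G : Type*} [Group G] [Finite G] {p : ℕ} [hp : Fact p.Prime] (C : Ctx G p)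

theorem card_Hs_dvd (hinj : Function.Injective C.ρ) : Nat.card C.Hs ∣ p - 1 := by
  have h := Subgroup.card_dvd_of_injective C.multHom (C.multHom_injective hinj)
  rwa [Nat.card_eq_fintype_card (α := (ZMod p)ˣ), ZMod.card_units] at h

theorem exists_neg_one (hinj : Function.Injective C.ρ) (h2 : 2 ∣ Nat.card C.Hs) :
    ∃ t0 ∈ C.Hs, C.mult t0 = -1 := by
  haveI : Fact (Nat.Prime 2) := ⟨Nat.prime_two⟩
  obtain ⟨g, hg⟩ := exists_prime_orderOf_dvd_card' (G := C.Hs) 2 h2
  have h1 : g ^ 2 = 1 := by rw [← hg]; exact pow_orderOf_eq_one g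
  have h1' : g.1 * g.1 = 1 := by
    have := congrArg Subtype.val h1
    rwa [pow_two] at this
  have hm : C.mult g.1 * C.mult g.1 = 1 := by
    rw [← C.mult_mul _ _ g.2 g.2, h1', C.mult_one]
  have h2' : (C.mult g.1 - 1) * (C.mult g.1 + 1) = 0 := by
    have : (C.mult g.1 - 1) * (C.mult g.1 + 1) = C.mult g.1 * C.mult g.1 - 1 := by ring
    rw [this, hm, sub_self]
  refine ⟨g.1, g.2, ?_⟩
  rcases mul_eq_zero.1 h2' with h | h
  · exfalso
    have h3 := C.eq_one_of_mult_eq_one hinj g.1 g.2 (sub_eq_zero.1 h)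
    have h4 : g = 1 := Subtype.ext h3
    rw [h4, orderOf_one] at hg
    exact absurd hg (by norm_num)
  · exact eq_neg_of_add_eq_zero_left h

theorem card_onePoint : Fintype.card (OnePoint (ZMod p)) = p + 1 := by
  have : Fintype.card (OnePoint (ZMod p)) = Fintype.card (Option (ZMod p)) := rfl
  rw [this, Fintype.card_option, ZMod.card]

/-- a fixed-point-free involution is an odd permutation when `(p+1)/2` is odd -/
theorem sign_fpf_invol (hodd : Odd ((p + 1) / 2)) (s : G) (hs2 : s ^ 2 = 1)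
    (hfpf : ∀ q : OnePoint (ZMod p), C.ρ s q ≠ q) : Equiv.Perm.sign (C.ρ s) = -1 := by
  have h2 : (C.ρ s) ^ 2 = 1 := by rw [← map_pow, hs2, map_one]
  rw [Equiv.Perm.sign_of_pow_two_eq_one h2]
  have h3 : Fintype.card (Function.fixedPoints (C.ρ s)) = 0 := by
    rw [Fintype.card_eq_zero_iff]
    exact ⟨fun ⟨q, hq⟩ => hfpf q hq⟩
  rw [h3, Nat.sub_zero, card_onePoint, hodd.neg_one_pow]

theorem even_card_Hs (hp2 : p ≠ 2) (hodd : Odd ((p + 1) / 2)) :
    Even (Nat.card C.Hs) := by
  by_contra hne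
  rw [Nat.not_even_iff_odd] at hne
  have hpodd : Odd p := hp.out.odd_of_ne_two hp2
  haveI : Fact (Nat.Prime 2) := ⟨Nat.prime_two⟩
  have h2G : 2 ∣ Nat.card G := by
    rw [C.card_eq_Hs]
    have : 2 ∣ p + 1 := by
      obtain ⟨k, hk⟩ := hpodd
      omega
    exact Dvd.dvd.mul_right (Dvd.dvd.mul_right this _) _
  obtain ⟨s, hs⟩ := exists_prime_orderOf_dvd_card' (G := G) 2 h2G
  have hs2 : s ^ 2 = 1 := by rw [← hs]; exact pow_orderOf_eq_one s
  have hfpf : ∀ q : OnePoint (ZMod p), C.ρ s q ≠ q := by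
    intro q hq
    rw [ρ_eq_iff] at hq
    have hmem : s ∈ MulAction.stabilizer G (C.lab q) := hq
    have h1 : orderOf s ∣ Nat.card (MulAction.stabilizer G (C.lab q)) :=
      Subgroup.orderOf_dvd_natCard _ hmem
    rw [hs, C.card_stab q] at h1
    have h3 : Odd (p * Nat.card C.Hs) := hpodd.mul hne
    rcases h3 with ⟨k, hk⟩
    omega
  have hsign := C.sign_fpf_invol hodd s hs2 hfpf
  have hidx := C.index_evenKer s hsign
  have hxE := C.x_mem_evenKer hp2
  set CE := C.subCtx C.evenKer hxE with hCE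
  have h4 : Nat.card (Sylow p C.evenKer) ∣ ((CE.P : Subgroup C.evenKer)).index := CE.P.card_dvd_index
  rw [CE.hcard] at h4
  have h5 := Subgroup.card_mul_index (CE.P : Subgroup C.evenKer)
  have h5' : Nat.card (CE.P : Subgroup C.evenKer) = p := CE.hPc
  rw [h5'] at h5
  have h6 := Subgroup.card_mul_index C.evenKer
  rw [hidx, C.card_eq_Hs] at h6
  obtain ⟨k, hk⟩ := h4
  rw [hk] at h5
  rw [← h5] at h6
  have hpos : 0 < (p + 1) * p := Nat.mul_pos (Nat.succ_pos p) hp.out.pos
  have h7 : (p + 1) * p * (k * 2) = (p + 1) * p * Nat.card C.Hs := by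
    rw [← h6]; ring
  have h8 := Nat.eq_of_mul_eq_mul_left hpos h7
  rcases hne with ⟨j, hj⟩
  omega

end Ctx


end Cfsg.Agent.Helper27.PSLp
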