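import Mathlib
import Cfsg.Agent.Lib.Helper27.Zass17A
import Cfsg.Agent.Lib.Helper27.PGL2Mobius
import Cfsg.Agent.Lib.Helper27.PSLp17

set_option autoImplicit false
set_option linter.unusedSectionVars false

/-! The case `p = 17`: the two-point stabiliser has order `8` or `16`, the group is `PSL₂(17)` (order `2448`) or `GL₂(17)/centre` (order `4896`); the setwise stabiliser of a pair is a self-normalising Sylow `2`-subgroup (so there are `153` of them); fixed-point-free elements of the group of order `2448` have order dividing `9`, giving at least `102` Sylow `3`-subgroups. -/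

namespace Cfsg.Agent.Helper27.PSLp


instance fact17 : Fact (Nat.Prime 17) := ⟨by norm_num⟩

/-- multiplication by `3` on `ZMod 17` -/
def sig3 : Equiv.Perm (ZMod 17) := Equiv.mulLeft₀ (3 : ZMod 17) (by decide)

set_option maxRecDepth 100000 in
theorem sign_sig3 : Equiv.Perm.sign sig3 = -1 := by decide

namespace Ctx

variable {G : Type*} [Group G] [Finite G] (C : Ctx G 17)

theorem card_Hs_17 (hinj : Function.Injective C.ρ) :
    Nat.card C.Hs = 8 ∨ Nat.card C.Hs = 16 := by
  have hd : Nat.card C.Hs ∣ 16 := C.card_Hs_dvd hinj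
  have he : Even (Nat.card C.Hs) := C.even_card_Hs (by norm_num) (by decide)
  obtain ⟨t0, ht0, hμ⟩ := C.exists_neg_one hinj he.two_dvd
  have h1 := C.half_le_card_Hs hinj (by norm_num) t0 ht0 hμ
  have h2 : Nat.card C.Hs ≤ 16 := Nat.le_of_dvd (by norm_num) hd
  have h3 : 8 ≤ Nat.card C.Hs := by omega
  generalize Nat.card C.Hs = d at *
  interval_cases d <;> omega

theorem exists_mult3 (hinj : Function.Injective C.ρ) (h16 : Nat.card C.Hs = 16) :
    ∃ h ∈ C.Hs, C.mult h = 3 := by
  have hb : Function.Bijective C.multHom := by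
    apply Function.Injective.bijective_of_nat_card_le (C.multHom_injective hinj)
    rw [h16, Nat.card_eq_fintype_card, ZMod.card_units]
  obtain ⟨h, hh⟩ := hb.2 (Units.mk0 (3 : ZMod 17) (by decide))
  refine ⟨h.1, h.2, ?_⟩
  rw [← multHom_val, hh]
  rfl

theorem sign_mult3 (h : G) (hh : h ∈ C.Hs) (h3 : C.mult h = 3) :
    Equiv.Perm.sign (C.ρ h) = -1 := by
  have h1 : C.ρ h = (Equiv.optionCongr sig3 : Equiv.Perm (Option (ZMod 17))) := by
    ext q
    induction q using OnePoint.rec with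
    | infty => exact ((C.mem_Hs_iff h).1 hh).1
    | coe i =>
      rw [(C.mult_spec h hh).2 i, h3]
      rfl
  rw [h1]
  exact (Equiv.optionCongr_sign sig3).trans sign_sig3

end Ctx




namespace Ctx

open Cfsg.Agent.Helper27.PGL Matrix

variable {G : Type*} [Group G] [Finite G] (C : Ctx G 17)

theorem card_of_Hs8 (h8 : Nat.card C.Hs = 8) : Nat.card G = 2448 := by
  rw [C.card_eq_Hs, h8]

theorem card_of_Hs16 (h16 : Nat.card C.Hs = 16) : Nat.card G = 4896 := by
  rw [C.card_eq_Hs, h16]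

theorem equiv_psl17 (hinj : Function.Injective C.ρ) (h8 : Nat.card C.Hs = 8) :
    Nonempty (G ≃* Matrix.ProjectiveSpecialLinearGroup (Fin 2) (ZMod 17)) :=
  C.equiv_psl (m := 8) (by norm_num) (by rw [C.card_of_Hs8 h8]) hinj dl17 stmt17

/-- the even part, in the case of a two-point stabiliser of order `16` -/
theorem evenKer_data (hinj : Function.Injective C.ρ) (h16 : Nat.card C.Hs = 16) :
    C.evenKer.index = 2 ∧ Nat.card C.evenKer = (17 + 1) * (17 * 8) := by
  obtain ⟨h, hh, h3⟩ := C.exists_mult3 hinj h16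
  have hsign := C.sign_mult3 h hh h3
  have hidx := C.index_evenKer h hsign
  refine ⟨hidx, ?_⟩
  have := Subgroup.card_mul_index C.evenKer
  rw [hidx, C.card_of_Hs16 h16] at this
  omega

theorem equiv_pgl17 (hinj : Function.Injective C.ρ) (h16 : Nat.card C.Hs = 16) :
    Nonempty (G ≃* (GL (Fin 2) (ZMod 17) ⧸ Subgroup.center (GL (Fin 2) (ZMod 17)))) := by
  obtain ⟨-, hE⟩ := C.evenKer_data hinj h16
  have hxE := C.x_mem_evenKer (by norm_num)
  have hinjE := C.subCtx_ρ_injective hinj C.evenKer hxE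
  obtain ⟨t, ht1, ht2⟩ := (C.subCtx C.evenKer hxE).exists_swap
  obtain ⟨d, hd0, hTI, hT0, hTk⟩ := (C.subCtx C.evenKer hxE).swap_form (m := 8) (by norm_num) hE
    hinjE dl17 stmt17 t ht1 ht2
  rw [C.subCtx_ρ] at hTI hT0
  have hTk' : ∀ k : ZMod 17, k ≠ 0 →
      C.ρ (t : G) (k : OnePoint (ZMod 17)) = ((- d ^ 2 / k : ZMod 17) : OnePoint (ZMod 17)) := by
    intro k hk
    rw [← C.subCtx_ρ C.evenKer hxE t]
    exact hTk k hk
  have ht1' : (t : G) • C.P = C.Q0 := by
    rw [ρ_eq_iff, lab_infty, lab_zero] at hTI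
    exact hTI
  have hc0 : - d ^ 2 ≠ 0 := neg_ne_zero.2 (pow_ne_zero 2 hd0)
  refine equiv_pgl_of_mobiusGL C.ρ hinj _ (C.closure_eq_top (t : G) ht1') ?_ ?_
  · rintro s (hs | hs)
    · obtain ⟨μ, β, hμ0, hI, ha⟩ := C.exists_affine s hs
      refine ⟨affMat μ β hμ0, ?_⟩
      ext q
      induction q using OnePoint.rec with
      | infty => rw [affMat_infty, hI]
      | coe i => rw [affMat_coe, ha]
    · rw [Set.mem_singleton_iff] at hs
      rw [hs]
      refine ⟨antiMatGL (- d ^ 2) hc0, ?_⟩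
      ext q
      induction q using OnePoint.rec with
      | infty => rw [antiMatGL_infty, hTI]
      | coe i =>
        by_cases hi : i = 0
        · rw [hi, antiMatGL_zero, hT0]
        · rw [antiMatGL_coe _ _ _ hi, hTk' i hi]
  · rw [card_pgl17, C.card_of_Hs16 h16]

end Ctx




namespace Ctx

variable {G : Type*} [Group G] [Finite G] {p : ℕ} [hp : Fact p.Prime] (C : Ctx G p)

/-- an element fixing three distinct Sylow subgroups is trivial -/
theorem eq_one_of_fix_three' (hinj : Function.Injective C.ρ) (g : G) (a b c : Sylow p G)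
    (hab : a ≠ b) (hac : a ≠ c) (hbc : b ≠ c) (ha : g • a = a) (hb : g • b = b)
    (hc : g • c = c) : g = 1 := by
  obtain ⟨a', rfl⟩ := C.lab_bijective.2 a
  obtain ⟨b', rfl⟩ := C.lab_bijective.2 b
  obtain ⟨c', rfl⟩ := C.lab_bijective.2 c
  refine C.eq_one_of_fix_three hinj g a' b' c' (fun h => hab (by rw [h])) (fun h => hac (by rw [h]))
    (fun h => hbc (by rw [h])) ?_ ?_ ?_
  · rw [ρ_eq_iff]; exact ha
  · rw [ρ_eq_iff]; exact hb
  · rw [ρ_eq_iff]; exact hc

/-- the setwise stabiliser of the pair `{P, Q0}` -/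
def S0 : Subgroup G where
  carrier := {g | (g • C.P = C.P ∧ g • C.Q0 = C.Q0) ∨ (g • C.P = C.Q0 ∧ g • C.Q0 = C.P)}
  mul_mem' := by
    rintro a b (⟨ha1, ha2⟩ | ⟨ha1, ha2⟩) (⟨hb1, hb2⟩ | ⟨hb1, hb2⟩)
    · left; exact ⟨by rw [mul_smul, hb1, ha1], by rw [mul_smul, hb2, ha2]⟩
    · right; exact ⟨by rw [mul_smul, hb1, ha2], by rw [mul_smul, hb2, ha1]⟩
    · right; exact ⟨by rw [mul_smul, hb1, ha1], by rw [mul_smul, hb2, ha2]⟩
    · left; exact ⟨by rw [mul_smul, hb1, ha2], by rw [mul_smul, hb2, ha1]⟩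
  one_mem' := Or.inl ⟨one_smul _ _, one_smul _ _⟩
  inv_mem' := by
    rintro a (⟨h1, h2⟩ | ⟨h1, h2⟩)
    · left; exact ⟨by rw [inv_smul_eq_iff, h1], by rw [inv_smul_eq_iff, h2]⟩
    · right; exact ⟨by rw [inv_smul_eq_iff, h2], by rw [inv_smul_eq_iff, h1]⟩

theorem mem_S0 (g : G) : g ∈ C.S0 ↔
    (g • C.P = C.P ∧ g • C.Q0 = C.Q0) ∨ (g • C.P = C.Q0 ∧ g • C.Q0 = C.P) := Iff.rfl

theorem Hs_le_S0 : C.Hs ≤ C.S0 := fun g hg => Or.inl ((C.mem_Hs g).1 hg)

theorem card_S0 : Nat.card C.S0 = 2 * Nat.card C.Hs := by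
  obtain ⟨t, ht1, ht2⟩ := C.exists_swap
  have ht1' : t⁻¹ • C.Q0 = C.P := by rw [inv_smul_eq_iff, ht1]
  have ht2' : t⁻¹ • C.P = C.Q0 := by rw [inv_smul_eq_iff, ht2]
  have hset : (C.S0 : Set G) = (C.Hs : Set G) ∪ (fun h => t * h) '' (C.Hs : Set G) := by
    ext g
    simp only [SetLike.mem_coe, Set.mem_union, Set.mem_image]
    constructor
    · rintro (hg | ⟨hg1, hg2⟩)
      · exact Or.inl ((C.mem_Hs g).2 hg)
      · refine Or.inr ⟨t⁻¹ * g, (C.mem_Hs _).2 ⟨?_, ?_⟩, by group⟩
        · rw [mul_smul, hg1, ht1']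
        · rw [mul_smul, hg2, ht2']
    · rintro (hg | ⟨h, hh, rfl⟩)
      · exact C.Hs_le_S0 hg
      · obtain ⟨h1, h2⟩ := (C.mem_Hs h).1 hh
        exact Or.inr ⟨by rw [mul_smul, h1, ht1], by rw [mul_smul, h2, ht2]⟩
  have hdisj : Disjoint (C.Hs : Set G) ((fun h => t * h) '' (C.Hs : Set G)) := by
    rw [Set.disjoint_left]
    rintro g hg ⟨h, hh, rfl⟩
    obtain ⟨h1, -⟩ := (C.mem_Hs h).1 hh
    obtain ⟨h3, -⟩ := (C.mem_Hs _).1 hg
    rw [mul_smul, h1, ht1] at h3
    exact C.hPQ h3
  have h1 : Nat.card C.S0 = (C.S0 : Set G).ncard := (_root_.Nat.card_coe_set_eq _)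
  have h2 : Nat.card C.Hs = (C.Hs : Set G).ncard := (_root_.Nat.card_coe_set_eq _)
  rw [h1, hset, Set.ncard_union_eq hdisj (Set.toFinite _) (Set.toFinite _),
    Set.ncard_image_of_injective _ (mul_right_injective t), ← h2]
  ring

/-- the two-point stabiliser acts freely off the two points -/
theorem Hs_free (hinj : Function.Injective C.ρ) (a : Sylow p G) (haP : a ≠ C.P) (haQ : a ≠ C.Q0)
    (h₁ h₂ : G) (hh₁ : h₁ ∈ C.Hs) (hh₂ : h₂ ∈ C.Hs) (h : h₁ • a = h₂ • a) : h₁ = h₂ := by
  have hm : h₂⁻¹ * h₁ ∈ C.Hs := C.Hs.mul_mem (C.Hs.inv_mem hh₂) hh₁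
  obtain ⟨e1, e2⟩ := (C.mem_Hs _).1 hm
  have e3 : (h₂⁻¹ * h₁) • a = a := by rw [mul_smul, h, inv_smul_smul]
  have := C.eq_one_of_fix_three' hinj _ C.P C.Q0 a C.hPQ.symm haP.symm haQ.symm e1 e2 e3
  calc h₁ = h₂ * (h₂⁻¹ * h₁) := by group
    _ = h₂ := by rw [this, mul_one]

theorem pair_of_Hs_stab (hinj : Function.Injective C.ρ) (h3 : 3 ≤ Nat.card C.Hs)
    (a b : Sylow p G)
    (hst : ∀ h ∈ C.Hs, (h • a = a ∨ h • a = b)) : a = C.P ∨ a = C.Q0 := by
  by_contra hcon
  push Not at hcon
  obtain ⟨haP, haQ⟩ := hcon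
  haveI : Fintype C.Hs := Fintype.ofFinite _
  rw [Nat.card_eq_fintype_card] at h3
  obtain ⟨u, v, w, huv, huw, hvw⟩ := Fintype.two_lt_card_iff.1 h3
  have huv' : u.1 ≠ v.1 := fun h => huv (Subtype.ext h)
  have huw' : u.1 ≠ w.1 := fun h => huw (Subtype.ext h)
  have hvw' : v.1 ≠ w.1 := fun h => hvw (Subtype.ext h)
  have key := C.Hs_free hinj a haP haQ
  rcases hst u.1 u.2 with hu | hu <;> rcases hst v.1 v.2 with hv | hv <;>
    rcases hst w.1 w.2 with hw | hw
  · exact huv' (key _ _ u.2 v.2 (hu.trans hv.symm))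
  · exact huv' (key _ _ u.2 v.2 (hu.trans hv.symm))
  · exact huw' (key _ _ u.2 w.2 (hu.trans hw.symm))
  · exact hvw' (key _ _ v.2 w.2 (hv.trans hw.symm))
  · exact hvw' (key _ _ v.2 w.2 (hv.trans hw.symm))
  · exact huw' (key _ _ u.2 w.2 (hu.trans hw.symm))
  · exact huv' (key _ _ u.2 v.2 (hu.trans hv.symm))
  · exact huv' (key _ _ u.2 v.2 (hu.trans hv.symm))

theorem normalizer_S0 (hinj : Function.Injective C.ρ) (h3 : 3 ≤ Nat.card C.Hs) :
    Subgroup.normalizer (C.S0 : Set G) = C.S0 := by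
  apply le_antisymm
  · intro g hg
    have hconj : ∀ h ∈ C.Hs, g⁻¹ * h * g ∈ C.S0 := by
      intro h hh
      have h1 := (Subgroup.mem_normalizer_iff.1 (Subgroup.inv_mem _ hg) h).1 (C.Hs_le_S0 hh)
      rwa [inv_inv] at h1
    -- every element of Hs stabilises {g • P, g • Q0}
    have hst : ∀ h ∈ C.Hs, (h • (g • C.P) = g • C.P ∧ h • (g • C.Q0) = g • C.Q0) ∨
        (h • (g • C.P) = g • C.Q0 ∧ h • (g • C.Q0) = g • C.P) := by
      intro h hh
      rcases hconj h hh with ⟨e1, e2⟩ | ⟨e1, e2⟩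
      · left
        refine ⟨?_, ?_⟩
        · rw [mul_smul, mul_smul, inv_smul_eq_iff] at e1; exact e1
        · rw [mul_smul, mul_smul, inv_smul_eq_iff] at e2; exact e2
      · right
        refine ⟨?_, ?_⟩
        · rw [mul_smul, mul_smul, inv_smul_eq_iff] at e1; exact e1
        · rw [mul_smul, mul_smul, inv_smul_eq_iff] at e2; exact e2
    have hne : g • C.P ≠ g • C.Q0 := fun h => C.hPQ (smul_left_cancel g h).symm
    have hA := C.pair_of_Hs_stab hinj h3 (g • C.P) (g • C.Q0) (fun h hh => by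
      rcases hst h hh with ⟨e1, -⟩ | ⟨e1, -⟩
      · exact Or.inl e1
      · exact Or.inr e1)
    have hB := C.pair_of_Hs_stab hinj h3 (g • C.Q0) (g • C.P) (fun h hh => by
      rcases hst h hh with ⟨-, e2⟩ | ⟨-, e2⟩
      · exact Or.inl e2
      · exact Or.inr e2)
    rcases hA with hA | hA <;> rcases hB with hB | hB
    · exact absurd (hA.trans hB.symm) hne
    · exact Or.inl ⟨hA, hB⟩
    · exact Or.inr ⟨hA, hB⟩
    · exact absurd (hA.trans hB.symm) hne
  · exact Subgroup.le_normalizer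

end Ctx




theorem fact2448 : (2448 : ℕ).factorization 2 = 4 := by
  have h : (2448 : ℕ) = 2 ^ 4 * 153 := by norm_num
  rw [h, Nat.factorization_mul (by norm_num) (by norm_num), Finsupp.add_apply,
    Nat.Prime.factorization_pow Nat.prime_two, Finsupp.single_eq_same,
    Nat.factorization_eq_zero_of_not_dvd (by norm_num)]

theorem fact4896 : (4896 : ℕ).factorization 2 = 5 := by
  have h : (4896 : ℕ) = 2 ^ 5 * 153 := by norm_num
  rw [h, Nat.factorization_mul (by norm_num) (by norm_num), Finsupp.add_apply,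
    Nat.Prime.factorization_pow Nat.prime_two, Finsupp.single_eq_same,
    Nat.factorization_eq_zero_of_not_dvd (by norm_num)]

namespace Ctx

variable {G : Type*} [Group G] [Finite G] (C : Ctx G 17)

theorem card_sylow2 (hinj : Function.Injective C.ρ) : Nat.card (Sylow 2 G) = 153 := by
  haveI : Fact (Nat.Prime 2) := ⟨Nat.prime_two⟩
  have hcases := C.card_Hs_17 hinj
  have h3 : 3 ≤ Nat.card C.Hs := by rcases hcases with h | h <;> omega
  have hS0 : Nat.card C.S0 = 2 ^ (Nat.card G).factorization 2 := by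
    rcases hcases with h | h
    · rw [C.card_S0, C.card_of_Hs8 h, h, fact2448]; norm_num
    · rw [C.card_S0, C.card_of_Hs16 h, h, fact4896]; norm_num
  have h1 : Nat.card (Sylow 2 G) = (Subgroup.normalizer (C.S0 : Set G)).index :=
    (Sylow.ofCard C.S0 hS0).card_eq_index_normalizer
  rw [C.normalizer_S0 hinj h3] at h1
  have h2 := Subgroup.card_mul_index C.S0
  rw [← h1, C.card_S0] at h2
  rcases hcases with h | h
  · rw [C.card_of_Hs8 h, h] at h2
    omega
  · rw [C.card_of_Hs16 h, h] at h2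
    omega

end Ctx




namespace Ctx

variable {G : Type*} [Group G] [Finite G] {p : ℕ} [hp : Fact p.Prime] (C : Ctx G p)

/-- pointwise stabilisers of pairs have the order of the standard one -/
theorem ncard_stab_pair (a b : Sylow p G) (hab : a ≠ b) :
    ({g : G | g • a = a ∧ g • b = b} : Set G).ncard = Nat.card C.Hs := by
  obtain ⟨u, hu1, hu2⟩ := C.exists_smul_pair a b hab
  have hset : ({g : G | g • a = a ∧ g • b = b} : Set G) =
      (fun h => u * h * u⁻¹) '' (C.Hs : Set G) := by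
    ext g
    simp only [Set.mem_setOf_eq, Set.mem_image, SetLike.mem_coe]
    constructor
    · rintro ⟨h1, h2⟩
      refine ⟨u⁻¹ * g * u, (C.mem_Hs _).2 ⟨?_, ?_⟩, by group⟩
      · rw [mul_smul, mul_smul, hu1, h1, inv_smul_eq_iff, hu1]
      · rw [mul_smul, mul_smul, hu2, h2, inv_smul_eq_iff, hu2]
    · rintro ⟨h, hh, rfl⟩
      obtain ⟨h1, h2⟩ := (C.mem_Hs h).1 hh
      refine ⟨?_, ?_⟩
      · rw [mul_smul, mul_smul, ← hu1, inv_smul_smul, h1]
      · rw [mul_smul, mul_smul, ← hu2, inv_smul_smul, h2]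
  have hinj : Function.Injective (fun h : G => u * h * u⁻¹) := by
    intro x y hxy
    have h1 : u * x * u⁻¹ = u * y * u⁻¹ := hxy
    have h2 := mul_right_cancel h1
    exact mul_left_cancel h2
  rw [hset, Set.ncard_image_of_injective _ hinj]
  exact (_root_.Nat.card_coe_set_eq _).symm

/-- an element fixing a point lies in that Sylow subgroup or fixes a second point -/
theorem fix_cases (hinj : Function.Injective C.ρ) (g : G) (R : Sylow p G) (hg : g • R = R) :
    g ∈ (R : Subgroup G) ∨ ∃ R' : Sylow p G, R' ≠ R ∧ g • R' = R' := by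
  obtain ⟨u, hu⟩ := MulAction.exists_smul_eq G C.P R
  set g' := u⁻¹ * g * u with hg'
  have hg'P : g' • C.P = C.P := by
    rw [hg', mul_smul, mul_smul, hu, hg, inv_smul_eq_iff, hu]
  obtain ⟨μ, β, hμ0, hI, ha⟩ := C.exists_affine g' hg'P
  by_cases hμ1 : μ = 1
  · left
    have h1 : g' = C.x ^ β.val := by
      apply hinj
      ext q
      induction q using OnePoint.rec with
      | infty => rw [hI, C.ρ_x_pow_infty]
      | coe i => rw [ha, hμ1, one_mul, C.ρ_x_pow_coe, ZMod.natCast_zmod_val]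
    have h2 : g = u * g' * u⁻¹ := by rw [hg']; group
    rw [← hu, Sylow.coe_subgroup_smul, Subgroup.mem_pointwise_smul_iff_inv_smul_mem]
    have h3 : (MulAut.conj u)⁻¹ • g = g' := by
      rw [MulAut.smul_def, ← map_inv, MulAut.conj_apply, inv_inv, hg']
    rw [h3, h1]
    exact Subgroup.pow_mem _ C.hxP _
  · right
    have h1 : (1 - μ) ≠ 0 := fun h => hμ1 (sub_eq_zero.1 h).symm
    set k := β / (1 - μ) with hk
    have hfix : μ * k + β = k := by
      rw [hk]
      field_simp
      ring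
    have h2 : g' • C.lab (k : OnePoint (ZMod p)) = C.lab (k : OnePoint (ZMod p)) := by
      rw [← ρ_eq_iff, ha, hfix]
    refine ⟨u • C.lab (k : OnePoint (ZMod p)), ?_, ?_⟩
    · intro h
      rw [← hu] at h
      have h3 := smul_left_cancel u h
      rw [lab_coe] at h3
      exact C.lab_coe_ne k h3
    · have h3 : g = u * g' * u⁻¹ := by rw [hg']; group
      rw [h3, mul_smul, mul_smul, inv_smul_smul, h2]

end Ctx




namespace Ctx

variable {G : Type*} [Group G] [Finite G] {p : ℕ} [hp : Fact p.Prime] (C : Ctx G p)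

theorem card_sylow_eq (C' : Ctx G p) (R : Sylow p G) : Nat.card R = p := by
  rw [R.card_eq_multiplicity, ← C'.P.card_eq_multiplicity]
  exact C'.hPc

/-- the number of elements with a fixed point is bounded -/
theorem ncard_fixers_le (hinj : Function.Injective C.ρ) :
    ({g : G | ∃ R : Sylow p G, g • R = R} : Set G).ncard ≤
      (p + 1) * p + (p + 1).choose 2 * Nat.card C.Hs := by
  classical
  haveI : Fintype G := Fintype.ofFinite G
  haveI : Fintype (Sylow p G) := Fintype.ofFinite _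
  set U₁ : Finset G := Finset.univ.biUnion
    (fun R : Sylow p G => Finset.univ.filter (fun g : G => g ∈ (R : Subgroup G))) with hU₁
  set U₂ : Finset G := (Finset.univ.powersetCard 2 : Finset (Finset (Sylow p G))).biUnion
    (fun s => Finset.univ.filter (fun g : G => ∀ a ∈ s, g • a = a)) with hU₂
  have hsub : ({g : G | ∃ R : Sylow p G, g • R = R} : Set G) ⊆ ((U₁ ∪ U₂ : Finset G) : Set G) := by
    rintro g ⟨R, hR⟩
    rw [Finset.mem_coe, Finset.mem_union]
    rcases C.fix_cases hinj g R hR with h | ⟨R', hne, hR'⟩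
    · left
      rw [hU₁, Finset.mem_biUnion]
      exact ⟨R, Finset.mem_univ _, by rw [Finset.mem_filter]; exact ⟨Finset.mem_univ _, h⟩⟩
    · right
      rw [hU₂, Finset.mem_biUnion]
      refine ⟨{R, R'}, ?_, ?_⟩
      · rw [Finset.mem_powersetCard]
        exact ⟨Finset.subset_univ _, Finset.card_pair hne.symm⟩
      · rw [Finset.mem_filter]
        refine ⟨Finset.mem_univ _, ?_⟩
        intro a ha
        rw [Finset.mem_insert, Finset.mem_singleton] at ha
        rcases ha with rfl | rfl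
        · exact hR
        · exact hR'
  have h1 : U₁.card ≤ (p + 1) * p := by
    rw [hU₁]
    refine (Finset.card_biUnion_le).trans ?_
    have : ∀ R ∈ (Finset.univ : Finset (Sylow p G)),
        (Finset.univ.filter (fun g : G => g ∈ (R : Subgroup G))).card ≤ p := by
      intro R _
      rw [← Fintype.card_subtype, ← Nat.card_eq_fintype_card]
      exact (card_sylow_eq C R).le
    refine (Finset.sum_le_card_nsmul _ _ _ this).trans ?_
    rw [Finset.card_univ, ← Nat.card_eq_fintype_card, C.hcard, smul_eq_mul]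
  have h2 : U₂.card ≤ (p + 1).choose 2 * Nat.card C.Hs := by
    rw [hU₂]
    refine (Finset.card_biUnion_le).trans ?_
    have : ∀ s ∈ (Finset.univ.powersetCard 2 : Finset (Finset (Sylow p G))),
        (Finset.univ.filter (fun g : G => ∀ a ∈ s, g • a = a)).card ≤ Nat.card C.Hs := by
      intro s hs
      rw [Finset.mem_powersetCard] at hs
      obtain ⟨a, b, hab, rfl⟩ := Finset.card_eq_two.1 hs.2
      rw [← C.ncard_stab_pair a b hab, ← Set.ncard_coe_finset]
      apply le_of_eq
      congr 1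
      ext g
      simp
    refine (Finset.sum_le_card_nsmul _ _ _ this).trans ?_
    rw [Finset.card_powersetCard, Finset.card_univ, ← Nat.card_eq_fintype_card, C.hcard,
      smul_eq_mul]
  calc ({g : G | ∃ R : Sylow p G, g • R = R} : Set G).ncard
      ≤ ((U₁ ∪ U₂ : Finset G) : Set G).ncard := Set.ncard_le_ncard hsub (Finset.finite_toSet _)
    _ = (U₁ ∪ U₂).card := Set.ncard_coe_finset _
    _ ≤ U₁.card + U₂.card := Finset.card_union_le _ _
    _ ≤ _ := Nat.add_le_add h1 h2

end Ctx




namespace Ctx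

variable {G : Type*} [Group G] [Finite G] (C : Ctx G 17)

/-- in the group of order `2448`, an element swapping two points has a fixed point -/
theorem fix_of_swap (hinj : Function.Injective C.ρ) (hG : Nat.card G = (17 + 1) * (17 * 8))
    (g : G) (a b : Sylow 17 G) (hab : a ≠ b) (h1 : g • a = b) (h2 : g • b = a) :
    ∃ c : Sylow 17 G, g • c = c := by
  obtain ⟨u, hu1, hu2⟩ := C.exists_smul_pair a b hab
  set g' := u⁻¹ * g * u with hg'
  have e1 : g' • C.P = C.Q0 := by
    rw [hg', mul_smul, mul_smul, hu1, h1, inv_smul_eq_iff, hu2]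
  have e2 : g' • C.Q0 = C.P := by
    rw [hg', mul_smul, mul_smul, hu2, h2, inv_smul_eq_iff, hu1]
  obtain ⟨d, hd0, -, -, hk⟩ := C.swap_form (m := 8) (by norm_num) hG hinj dl17 stmt17 g' e1 e2
  have h4 : (4 : ZMod 17) ≠ 0 := by decide
  have h4d : (4 * d : ZMod 17) ≠ 0 := mul_ne_zero h4 hd0
  have h3 := hk (4 * d) h4d
  have h5 : (- d ^ 2 / (4 * d) : ZMod 17) = 4 * d := by
    rw [div_eq_iff h4d]
    have h16 : (16 : ZMod 17) = -1 := by decide
    calc (- d ^ 2 : ZMod 17) = (-1) * d ^ 2 := by ring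
      _ = 16 * d ^ 2 := by rw [h16]
      _ = 4 * d * (4 * d) := by ring
  rw [h5, ρ_eq_iff] at h3
  refine ⟨u • C.lab ((4 * d : ZMod 17) : OnePoint (ZMod 17)), ?_⟩
  have h6 : g = u * g' * u⁻¹ := by rw [hg']; group
  rw [h6, mul_smul, mul_smul, inv_smul_smul, h3]

/-- a fixed-point-free element of the group of order `2448` has order dividing `9` -/
theorem pow_nine_of_fpf (hinj : Function.Injective C.ρ) (hG : Nat.card G = (17 + 1) * (17 * 8))
    (g : G) (hfpf : ∀ R : Sylow 17 G, g • R ≠ R) : g ^ 9 = 1 := by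
  have hn : orderOf g ∣ 2448 := by
    have := orderOf_dvd_natCard g
    rwa [hG] at this
  have hpos : 0 < orderOf g := orderOf_pos g
  -- no element of order 17 commutes with g
  have h17 : ¬ 17 ∣ orderOf g := by
    intro h17
    set y := g ^ (orderOf g / 17) with hy
    have hoy : orderOf y = 17 := orderOf_pow_orderOf_div hpos.ne' h17
    have hyp : IsPGroup 17 (Subgroup.zpowers y) := by
      apply IsPGroup.of_card (n := 1)
      rw [Nat.card_zpowers, hoy, pow_one]
    obtain ⟨R, hR⟩ := hyp.exists_le_sylow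
    have hyR : y ∈ (R : Subgroup G) := hR (Subgroup.mem_zpowers y)
    have hcomm : g * y * g⁻¹ = y := by
      rw [hy, ← pow_succ', mul_inv_eq_iff_eq_mul, ← pow_succ]
    have hyR' : y ∈ ((g • R : Sylow 17 G) : Subgroup G) := by
      rw [Sylow.coe_subgroup_smul, Subgroup.mem_pointwise_smul_iff_inv_smul_mem]
      have h3 : (MulAut.conj g)⁻¹ • y = g⁻¹ * y * g := by
        rw [MulAut.smul_def, ← map_inv, MulAut.conj_apply, inv_inv]
      rw [h3]
      have : g⁻¹ * y * g = y := by
        calc g⁻¹ * y * g = g⁻¹ * (g * y * g⁻¹) * g := by rw [hcomm]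
          _ = y := by group
      rw [this]
      exact hyR
    have hz1 : (R : Subgroup G) = Subgroup.zpowers y := by
      symm
      apply Subgroup.eq_of_le_of_card_ge hR
      rw [Nat.card_zpowers, hoy, card_sylow_eq C R]
    have hz2 : ((g • R : Sylow 17 G) : Subgroup G) = Subgroup.zpowers y := by
      symm
      apply Subgroup.eq_of_le_of_card_ge
      · rw [Subgroup.zpowers_le]; exact hyR'
      · rw [Nat.card_zpowers, hoy, card_sylow_eq C (g • R)]
    exact hfpf R (Sylow.ext (hz2.trans hz1.symm))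
  have h2 : ¬ 2 ∣ orderOf g := by
    intro h2
    set u := g ^ (orderOf g / 2) with hu
    have hou : orderOf u = 2 := orderOf_pow_orderOf_div hpos.ne' h2
    have hu1 : u ≠ 1 := by
      intro h
      rw [h, orderOf_one] at hou
      exact absurd hou (by norm_num)
    have hu2 : u * u = 1 := by
      rw [← pow_two, ← hou]
      exact pow_orderOf_eq_one u
    have hcomm : g * u = u * g := by
      rw [hu, ← pow_succ', ← pow_succ]
    -- u has a fixed point
    obtain ⟨c, hc⟩ : ∃ c : Sylow 17 G, u • c = c := by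
      by_cases h : u • C.P = C.P
      · exact ⟨C.P, h⟩
      · refine C.fix_of_swap hinj hG u C.P (u • C.P) (fun h' => h h'.symm) rfl ?_
        rw [← mul_smul, hu2, one_smul]
    have hgc : u • (g • c) = g • c := by
      rw [← mul_smul, ← hcomm, mul_smul, hc]
    have hggc : u • (g • (g • c)) = g • (g • c) := by
      rw [← mul_smul, ← hcomm, mul_smul, hgc]
    have hne1 : c ≠ g • c := fun h => hfpf c h.symm
    have hne2 : g • c ≠ g • (g • c) := fun h => hfpf (g • c) h.symm
    by_cases hsw : g • (g • c) = c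
    · obtain ⟨e, he⟩ := C.fix_of_swap hinj hG g c (g • c) hne1 rfl hsw
      exact hfpf e he
    · exact hu1 (C.eq_one_of_fix_three' hinj u c (g • c) (g • (g • c)) hne1
        (fun h => hsw h.symm) hne2 hc hgc hggc)
  have hcop : Nat.Coprime (orderOf g) 272 := by
    have h272 : (272 : ℕ) = 2 ^ 4 * 17 := by norm_num
    rw [h272]
    apply Nat.Coprime.mul_right
    · apply Nat.Coprime.pow_right
      rw [Nat.coprime_comm]
      exact (Nat.Prime.coprime_iff_not_dvd Nat.prime_two).2 h2
    · rw [Nat.coprime_comm]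
      exact (Nat.Prime.coprime_iff_not_dvd (by norm_num)).2 h17
  have h9 : orderOf g ∣ 9 := by
    have : (2448 : ℕ) = 272 * 9 := by norm_num
    rw [this] at hn
    exact hcop.dvd_of_dvd_mul_left hn
  exact orderOf_dvd_iff_pow_eq_one.1 h9

/-- many elements of order dividing `9` -/
theorem ncard_pow_nine_ge (hinj : Function.Injective C.ρ) (hG : Nat.card G = (17 + 1) * (17 * 8)) :
    918 ≤ ({g : G | g ^ 9 = 1} : Set G).ncard := by
  have hHs : Nat.card C.Hs = 8 := by
    have := C.card_eq_Hs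
    rw [hG] at this
    omega
  have h1 := C.ncard_fixers_le hinj
  rw [hHs] at h1
  have h2 : ({g : G | ∃ R : Sylow 17 G, g • R = R} : Set G)ᶜ ⊆ {g : G | g ^ 9 = 1} := by
    intro g hg
    apply C.pow_nine_of_fpf hinj hG g
    intro R hR
    exact hg ⟨R, hR⟩
  have h3 := Set.ncard_le_ncard h2 (Set.toFinite _)
  have h4 := Set.ncard_add_ncard_compl ({g : G | ∃ R : Sylow 17 G, g • R = R} : Set G)
  rw [hG] at h4
  have h5 : (17 + 1) * 17 + (17 + 1).choose 2 * 8 = 1530 := by decide
  rw [h5] at h1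
  omega

end Ctx




theorem fact3_2448 : (2448 : ℕ).factorization 3 = 2 := by
  have h : (2448 : ℕ) = 3 ^ 2 * 272 := by norm_num
  rw [h, Nat.factorization_mul (by norm_num) (by norm_num), Finsupp.add_apply,
    Nat.Prime.factorization_pow Nat.prime_three, Finsupp.single_eq_same,
    Nat.factorization_eq_zero_of_not_dvd (by norm_num)]

theorem fact3_4896 : (4896 : ℕ).factorization 3 = 2 := by
  have h : (4896 : ℕ) = 3 ^ 2 * 544 := by norm_num
  rw [h, Nat.factorization_mul (by norm_num) (by norm_num), Finsupp.add_apply,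
    Nat.Prime.factorization_pow Nat.prime_three, Finsupp.single_eq_same,
    Nat.factorization_eq_zero_of_not_dvd (by norm_num)]

theorem ncard_pow_nine_le {X : Type*} [Group X] [Finite X]
    (hX : (Nat.card X).factorization 3 = 2) :
    ({g : X | g ^ 9 = 1} : Set X).ncard ≤ 9 * Nat.card (Sylow 3 X) := by
  classical
  haveI : Fact (Nat.Prime 3) := ⟨Nat.prime_three⟩
  haveI : Fintype X := Fintype.ofFinite X
  haveI : Fintype (Sylow 3 X) := Fintype.ofFinite _
  set U : Finset X := Finset.univ.biUnion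
    (fun T : Sylow 3 X => Finset.univ.filter (fun g : X => g ∈ (T : Subgroup X))) with hU
  have hsub : ({g : X | g ^ 9 = 1} : Set X) ⊆ (U : Set X) := by
    intro g hg
    have hg9 : g ^ 9 = 1 := hg
    have hp : IsPGroup 3 (Subgroup.zpowers g) := by
      rintro ⟨z, hz⟩
      obtain ⟨n, rfl⟩ := Subgroup.mem_zpowers_iff.1 hz
      refine ⟨2, Subtype.ext ?_⟩
      show (g ^ n) ^ (3 ^ 2) = 1
      rw [← zpow_natCast, ← zpow_mul, mul_comm, zpow_mul, zpow_natCast]
      norm_num
      rw [hg9, one_zpow]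
    obtain ⟨T, hT⟩ := hp.exists_le_sylow
    rw [Finset.mem_coe, hU, Finset.mem_biUnion]
    exact ⟨T, Finset.mem_univ _, by
      rw [Finset.mem_filter]; exact ⟨Finset.mem_univ _, hT (Subgroup.mem_zpowers g)⟩⟩
  have h1 : U.card ≤ 9 * Nat.card (Sylow 3 X) := by
    rw [hU]
    refine (Finset.card_biUnion_le).trans ?_
    have : ∀ T ∈ (Finset.univ : Finset (Sylow 3 X)),
        (Finset.univ.filter (fun g : X => g ∈ (T : Subgroup X))).card ≤ 9 := by
      intro T _
      rw [← Fintype.card_subtype, ← Nat.card_eq_fintype_card]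
      have := T.card_eq_multiplicity
      rw [hX] at this
      exact this.le
    refine (Finset.sum_le_card_nsmul _ _ _ this).trans ?_
    rw [Finset.card_univ, ← Nat.card_eq_fintype_card, smul_eq_mul, mul_comm]
  calc ({g : X | g ^ 9 = 1} : Set X).ncard ≤ (U : Set X).ncard :=
        Set.ncard_le_ncard hsub (Finset.finite_toSet _)
    _ = U.card := Set.ncard_coe_finset _
    _ ≤ _ := h1

namespace Ctx

variable {G : Type*} [Group G] [Finite G] (C : Ctx G 17)

theorem card_sylow3_ge (hinj : Function.Injective C.ρ) : 102 ≤ Nat.card (Sylow 3 G) := by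
  rcases C.card_Hs_17 hinj with h | h
  · have hG := C.card_of_Hs8 h
    have h1 := C.ncard_pow_nine_ge hinj (by rw [hG])
    have h2 := ncard_pow_nine_le (X := G) (by rw [hG]; exact fact3_2448)
    omega
  · have hG := C.card_of_Hs16 h
    obtain ⟨-, hE⟩ := C.evenKer_data hinj h
    have hxE := C.x_mem_evenKer (by norm_num)
    have hinjE := C.subCtx_ρ_injective hinj C.evenKer hxE
    have h1 := (C.subCtx C.evenKer hxE).ncard_pow_nine_ge hinjE hE
    have h2 := ncard_pow_nine_le (X := G) (by rw [hG]; exact fact3_4896)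
    have h3 : ({e : C.evenKer | e ^ 9 = 1} : Set C.evenKer).ncard ≤
        ({g : G | g ^ 9 = 1} : Set G).ncard := by
      rw [← Set.ncard_image_of_injective _ (Subtype.val_injective)]
      apply Set.ncard_le_ncard _ (Set.toFinite _)
      rintro _ ⟨e, he, rfl⟩
      have he' : e ^ 9 = 1 := he
      show (e : G) ^ 9 = 1
      rw [← Subgroup.coe_pow, he', Subgroup.coe_one]
    omega

end Ctx


end Cfsg.Agent.Helper27.PSLp
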