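import Mathlib
import Cfsg.Agent.Lib.Helper27.Zass17B
import Cfsg.Agent.Lib.Helper27.SylNumQuot

set_option autoImplicit false
set_option linter.unusedSectionVars false

/-! A finite group acting faithfully on its `18` Sylow `17`-subgroups is `PSL₂(17)` or `GL₂(17)/centre`, has order `2448` or `4896`, exactly `153` Sylow `2`-subgroups and at least `102` Sylow `3`-subgroups (`zassenhaus17`). -/

namespace Cfsg.Agent.Helper27.PSLp


theorem not_dvd_fact18 : ¬ 289 ∣ Nat.factorial 18 := by
  norm_num [Nat.factorial]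

/-- a group acting faithfully on its `18` Sylow `17`-subgroups carries a context -/
theorem exists_ctx {X : Type*} [Group X] [Finite X] (hcard : Nat.card (Sylow 17 X) = 18)
    (hinj : Function.Injective (MulAction.toPermHom X (Sylow 17 X))) :
    ∃ C : Ctx X 17, Function.Injective C.ρ := by
  obtain ⟨P⟩ : Nonempty (Sylow 17 X) := inferInstance
  -- the order of X divides 18!
  have h1 : Nat.card X ∣ Nat.factorial 18 := by
    have := Subgroup.card_dvd_of_injective _ hinj
    rwa [Nat.card_perm, hcard] at this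
  obtain ⟨a, ha⟩ := P.2.exists_card_eq
  have hPX : Nat.card P ∣ Nat.card X := Subgroup.card_subgroup_dvd_card _
  have ha1 : a ≤ 1 := by
    by_contra hcon
    have h2 : 2 ≤ a := by omega
    have h3 : 17 ^ 2 ∣ 17 ^ a := pow_dvd_pow 17 h2
    rw [← ha] at h3
    exact not_dvd_fact18 ((h3.trans hPX).trans h1)
  have ha0 : a ≠ 0 := by
    intro h0
    rw [h0, pow_zero] at ha
    have hall : ∀ R : Sylow 17 X, R = P := by
      intro R
      apply Sylow.ext
      have hR : Nat.card R = 1 := by
        rw [R.card_eq_multiplicity, ← P.card_eq_multiplicity, ha]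
      rw [Subgroup.card_eq_one] at hR ha
      rw [hR, ha]
    haveI : Subsingleton (Sylow 17 X) := ⟨fun R R' => (hall R).trans (hall R').symm⟩
    have := Nat.card_eq_one_iff_unique.2 ⟨inferInstance, ⟨P⟩⟩
    omega
  have hPc : Nat.card P = 17 := by
    have : a = 1 := by omega
    rw [ha, this, pow_one]
  -- generator
  obtain ⟨x, hxP, hx1⟩ : ∃ x ∈ (P : Subgroup X), x ≠ 1 := by
    have : (P : Subgroup X) ≠ ⊥ := by
      intro h
      rw [h, Subgroup.card_bot] at hPc
      omega
    obtain ⟨⟨a, haP⟩, ha⟩ := Subgroup.ne_bot_iff_exists_ne_one.1 this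
    exact ⟨a, haP, fun h => ha (Subtype.ext h)⟩
  have hox : orderOf x = 17 := by
    have hdvd : orderOf x ∣ 17 := by
      rw [← hPc]
      exact Subgroup.orderOf_dvd_natCard (P : Subgroup X) hxP
    rcases (Nat.dvd_prime (by norm_num : Nat.Prime 17)).1 hdvd with h | h
    · rw [orderOf_eq_one_iff] at h; exact absurd h hx1
    · exact h
  obtain ⟨Q0, hPQ⟩ : ∃ Q0 : Sylow 17 X, Q0 ≠ P := by
    haveI : Nontrivial (Sylow 17 X) := by
      rw [← Finite.one_lt_card_iff_nontrivial, hcard]
      omega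
    exact exists_ne P
  exact ⟨⟨P, Q0, x, hxP, hox, hPc, hPQ, hcard⟩, Ctx.ρ_injective_of _ hinj⟩

/-- the structure of a group acting faithfully on its `18` Sylow `17`-subgroups -/
theorem zassenhaus17 {X : Type*} [Group X] [Finite X] (hcard : Nat.card (Sylow 17 X) = 18)
    (hinj : Function.Injective (MulAction.toPermHom X (Sylow 17 X))) :
    (Nonempty (X ≃* Matrix.ProjectiveSpecialLinearGroup (Fin 2) (ZMod 17)) ∨
      Nonempty (X ≃* (Matrix.GeneralLinearGroup (Fin 2) (ZMod 17) ⧸
        Subgroup.center (Matrix.GeneralLinearGroup (Fin 2) (ZMod 17))))) ∧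
    (Nat.card X = 2448 ∨ Nat.card X = 4896) ∧ Nat.card (Sylow 2 X) = 153 ∧
      102 ≤ Nat.card (Sylow 3 X) := by
  obtain ⟨C, hC⟩ := exists_ctx hcard hinj
  refine ⟨?_, ?_, C.card_sylow2 hC, C.card_sylow3_ge hC⟩
  · rcases C.card_Hs_17 hC with h | h
    · exact Or.inl (C.equiv_psl17 hC h)
    · exact Or.inr (C.equiv_pgl17 hC h)
  · rcases C.card_Hs_17 hC with h | h
    · exact Or.inl (C.card_of_Hs8 h)
    · exact Or.inr (C.card_of_Hs16 h)


end Cfsg.Agent.Helper27.PSLp
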