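import Mathlib

set_option autoImplicit false
set_option linter.unusedSectionVars false
set_option linter.style.haveILetI false

/-! Finite checks over `ZMod p` for `p ≤ 17`: a map `i ↦ c(i)/i` with `c` constant on the squares and on the non-squares satisfying the structure equation at `b = 1` has `c` constant. -/

namespace Cfsg.Agent.Helper27.ZP

def tauC (p m : ℕ) (c1 c2 : ZMod p) (i : ZMod p) : ZMod p :=
  (if i ^ m = 1 then c1 else c2) * i ^ (p - 2)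

def TCHyp (p m : ℕ) (c1 c2 α γ : ZMod p) : Prop :=
  tauC p m c1 c2 γ = - tauC p m c1 c2 1 ∧ ∀ y : ZMod p, y ≠ 0 →
    ((tauC p m c1 c2 y = -1 ↔ α * y + γ = 0) ∧
      (tauC p m c1 c2 y ≠ -1 →
        tauC p m c1 c2 (tauC p m c1 c2 y + 1) = tauC p m c1 c2 1 + tauC p m c1 c2 (α * y + γ)))

instance (p m : ℕ) [NeZero p] (c1 c2 α γ : ZMod p) : Decidable (TCHyp p m c1 c2 α γ) := by
  unfold TCHyp; infer_instance

set_option maxRecDepth 100000 in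
theorem tc5 : ∀ c1 c2 α γ : ZMod 5, c1 ≠ 0 → c2 ≠ 0 → α ≠ 0 → γ ≠ 0 → TCHyp 5 2 c1 c2 α γ → c1 = c2 := by
  decide +kernel

set_option maxRecDepth 100000 in
theorem tc7 : ∀ c1 c2 α γ : ZMod 7, c1 ≠ 0 → c2 ≠ 0 → α ≠ 0 → γ ≠ 0 → TCHyp 7 3 c1 c2 α γ → c1 = c2 := by
  decide +kernel

end Cfsg.Agent.Helper27.ZP

namespace Cfsg.Agent.Helper27.ZP

set_option maxRecDepth 100000 in
theorem tc11 : ∀ c1 c2 α γ : ZMod 11, c1 ≠ 0 → c2 ≠ 0 → α ≠ 0 → γ ≠ 0 → TCHyp 11 5 c1 c2 α γ → c1 = c2 := by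
  decide +kernel

end Cfsg.Agent.Helper27.ZP

namespace Cfsg.Agent.Helper27.ZP

set_option maxRecDepth 100000 in
theorem tc13 : ∀ c1 c2 α γ : ZMod 13, c1 ≠ 0 → c2 ≠ 0 → α ≠ 0 → γ ≠ 0 → TCHyp 13 6 c1 c2 α γ → c1 = c2 := by
  decide +kernel

set_option maxRecDepth 100000 in
theorem tc17 : ∀ c1 c2 α γ : ZMod 17, c1 ≠ 0 → c2 ≠ 0 → α ≠ 0 → γ ≠ 0 → TCHyp 17 8 c1 c2 α γ → c1 = c2 := by
  decide +kernel

set_option maxRecDepth 100000 in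
theorem tc3 : ∀ c1 c2 α γ : ZMod 3, c1 ≠ 0 → c2 ≠ 0 → α ≠ 0 → γ ≠ 0 → TCHyp 3 1 c1 c2 α γ → c1 = c2 := by
  decide +kernel

end Cfsg.Agent.Helper27.ZP
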