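import Mathlib
import Cfsg.Agent.Lib.Helper27.Zp1A

set_option autoImplicit false
set_option linter.unusedSectionVars false
set_option linter.style.haveILetI false

/-! Pure arithmetic over `ZMod p`: a quadratic with three roots vanishes; counting squares; the pigeonhole argument (`ph_core`, `p ≥ 19`) and the resulting lemma `two_const`: a map `τ` on the non-zero residues with `τ (μ i) = μ⁻¹ τ i` for squares `μ` and the structure equation is `i ↦ c / i`, with multiplier `α = -1/c`. -/

namespace Cfsg.Agent.Helper27.ZP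

theorem quad_three_roots {F : Type*} [Field F] (A B C y1 y2 y3 : F) (h12 : y1 ≠ y2)
    (h13 : y1 ≠ y3) (h23 : y2 ≠ y3)
    (e1 : A * y1 ^ 2 + B * y1 + C = 0) (e2 : A * y2 ^ 2 + B * y2 + C = 0)
    (e3 : A * y3 ^ 2 + B * y3 + C = 0) : A = 0 ∧ B = 0 ∧ C = 0 := by
  have k12 : A * (y1 + y2) + B = 0 := by
    have : (y1 - y2) * (A * (y1 + y2) + B) = 0 := by linear_combination e1 - e2
    rcases mul_eq_zero.1 this with h | h
    · exact absurd (sub_eq_zero.1 h) h12
    · exact h
  have k13 : A * (y1 + y3) + B = 0 := by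
    have : (y1 - y3) * (A * (y1 + y3) + B) = 0 := by linear_combination e1 - e3
    rcases mul_eq_zero.1 this with h | h
    · exact absurd (sub_eq_zero.1 h) h13
    · exact h
  have hA : A = 0 := by
    have : (y2 - y3) * A = 0 := by linear_combination k12 - k13
    rcases mul_eq_zero.1 this with h | h
    · exact absurd (sub_eq_zero.1 h) h23
    · exact h
  have hB : B = 0 := by
    rw [hA] at k12
    simpa using k12
  refine ⟨hA, hB, ?_⟩
  rw [hA, hB] at e1
  simpa using e1

section

variable {p : ℕ} [hp : Fact p.Prime]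

/-- the image of `z ↦ u z²` on the non-zero residues has at least `(p-1)/2` elements -/
theorem card_sq_class_ge (u : ZMod p) (hu : u ≠ 0) (S : Finset (ZMod p))
    (hS : ∀ z : ZMod p, z ≠ 0 → u * z ^ 2 ∈ S) : p - 1 ≤ 2 * S.card := by
  classical
  set D : Finset (ZMod p) := Finset.univ.filter (fun z => z ≠ 0) with hD
  have hDcard : D.card = p - 1 := by
    rw [hD, Finset.filter_ne' Finset.univ (0 : ZMod p), Finset.card_erase_of_mem (Finset.mem_univ _),
      Finset.card_univ, ZMod.card]
  have hmaps : ∀ z ∈ D, u * z ^ 2 ∈ S := by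
    intro z hz
    rw [hD, Finset.mem_filter] at hz
    exact hS z hz.2
  have hfib : ∀ y ∈ S, (D.filter (fun z => u * z ^ 2 = y)).card ≤ 2 := by
    intro y _
    by_contra hcon
    push Not at hcon
    obtain ⟨a, ha, b, hb, c, hc, hab, hac, hbc⟩ := Finset.two_lt_card.1 hcon
    rw [Finset.mem_filter] at ha hb hc
    have e1 : u * a ^ 2 + 0 * a + (-y) = 0 := by rw [ha.2]; ring
    have e2 : u * b ^ 2 + 0 * b + (-y) = 0 := by rw [hb.2]; ring
    have e3 : u * c ^ 2 + 0 * c + (-y) = 0 := by rw [hc.2]; ring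
    exact hu (quad_three_roots u 0 (-y) a b c hab hac hbc e1 e2 e3).1
  have := Finset.card_le_mul_card_image_of_maps_to hmaps 2 hfib
  rw [hDcard] at this
  exact this

end

end Cfsg.Agent.Helper27.ZP

namespace Cfsg.Agent.Helper27.ZP

section

variable {p : ℕ} [hp : Fact p.Prime]

theorem ph_core (h19 : 19 ≤ p) (cc : ZMod p → ZMod p) (c1 c2 α γ cb u : ZMod p)
    (hcc : ∀ i, cc i = c1 ∨ cc i = c2)
    (hc1 : c1 ≠ 0) (hα : α ≠ 0) (hcb : cb ≠ 0) (hu : u ≠ 0)
    (hucb : ∀ z : ZMod p, z ≠ 0 → cc (u * z ^ 2) = cb) (hne : α * cb ≠ γ)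
    (τ : ZMod p → ZMod p) (hform : ∀ i, i ≠ 0 → τ i = cc i / i) (hτ1 : τ 1 = c1)
    (hb : ∀ y, y ≠ 0 → (τ y = -1 ↔ α * y + γ = 0))
    (hc : ∀ y, y ≠ 0 → τ y ≠ -1 → τ (τ y + 1) = τ 1 + τ (α * y + γ)) : False := by
  classical
  set S : Finset (ZMod p) := Finset.univ.filter (fun y => y ≠ 0 ∧ cc y = cb) with hS
  have hScard : p - 1 ≤ 2 * S.card := by
    apply card_sq_class_ge u hu
    intro z hz
    rw [hS, Finset.mem_filter]
    exact ⟨Finset.mem_univ _, mul_ne_zero hu (pow_ne_zero 2 hz), hucb z hz⟩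
  set T : Finset (ZMod p × ZMod p) := ({c1, c2} : Finset (ZMod p)) ×ˢ ({c1, c2} : Finset (ZMod p))
    with hT
  have hTcard : T.card ≤ 4 := by
    rw [hT, Finset.card_product]
    have : ({c1, c2} : Finset (ZMod p)).card ≤ 2 := Finset.card_le_two
    calc _ ≤ 2 * 2 := Nat.mul_le_mul this this
      _ = 4 := by norm_num
  set f : ZMod p → ZMod p × ZMod p := fun y => (cc (cb / y + 1), cc (α * y + γ)) with hf
  have hmem : ∀ v : ZMod p, cc v ∈ ({c1, c2} : Finset (ZMod p)) := by
    intro v
    rw [Finset.mem_insert, Finset.mem_singleton]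
    exact hcc v
  have hmaps : ∀ y ∈ S, f y ∈ T := by
    intro y _
    rw [hT, Finset.mem_product]
    exact ⟨hmem _, hmem _⟩
  have hlt : T.card * 2 < S.card := by omega
  obtain ⟨⟨c', c''⟩, -, hfib⟩ := Finset.exists_lt_card_fiber_of_mul_lt_card_of_maps_to hmaps hlt
  obtain ⟨y1, hy1, y2, hy2, y3, hy3, h12, h13, h23⟩ := Finset.two_lt_card.1 hfib
  have key : ∀ y ∈ S.filter (fun y => f y = (c', c'')),
      (α * (c' - c1)) * y ^ 2 + (c' * γ - c1 * α * cb - c1 * γ - c'') * y +
        (-(c1 * γ + c'') * cb) = 0 := by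
    intro y hy
    rw [Finset.mem_filter, hS, Finset.mem_filter] at hy
    obtain ⟨⟨-, hy0, hycb⟩, hfy⟩ := hy
    have hf1 : cc (cb / y + 1) = c' := congrArg Prod.fst hfy
    have hf2 : cc (α * y + γ) = c'' := congrArg Prod.snd hfy
    have hτy : τ y = cb / y := by rw [hform y hy0, hycb]
    have hτne : τ y ≠ -1 := by
      intro h
      have h1 := (hb y hy0).1 h
      rw [hτy] at h
      have h2 : cb = -y := by
        field_simp at h
        exact h
      apply hne
      rw [h2]
      linear_combination -h1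
    have hz2 : α * y + γ ≠ 0 := fun h => hτne ((hb y hy0).2 h)
    have hz1 : cb / y + 1 ≠ 0 := by
      intro h
      apply hτne
      rw [hτy]
      exact eq_neg_of_add_eq_zero_left h
    have hz1' : cb + y ≠ 0 := by
      intro h
      apply hz1
      have : cb / y + 1 = (cb + y) / y := by field_simp
      rw [this, h, zero_div]
    have e := hc y hy0 hτne
    rw [hτy, hform _ hz1, hform _ hz2, hf1, hf2, hτ1] at e
    have e' : c' * y * (α * y + γ) = (c1 * (α * y + γ) + c'') * (cb + y) := by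
      have h1 : cb / y + 1 = (cb + y) / y := by field_simp
      rw [h1, div_div_eq_mul_div, add_div' _ _ _ hz2, div_eq_div_iff hz1' hz2] at e
      linear_combination e
    linear_combination e'
  have e1 := key y1 hy1
  have e2 := key y2 hy2
  have e3 := key y3 hy3
  obtain ⟨hA, hB, hC⟩ := quad_three_roots _ _ _ y1 y2 y3 h12 h13 h23 e1 e2 e3
  have hc' : c' = c1 := by
    rcases mul_eq_zero.1 hA with h | h
    · exact absurd h hα
    · exact sub_eq_zero.1 h
  have hc'' : c'' = - (c1 * γ) := by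
    rcases mul_eq_zero.1 hC with h | h
    · have : c1 * γ + c'' = 0 := by
        have := neg_eq_zero.1 h
        exact this
      exact eq_neg_of_add_eq_zero_right this
    · exact absurd h hcb
  rw [hc', hc''] at hB
  have : c1 * (γ - α * cb) = 0 := by linear_combination hB
  rcases mul_eq_zero.1 this with h | h
  · exact hc1 h
  · exact hne (sub_eq_zero.1 h).symm

end

end Cfsg.Agent.Helper27.ZP

namespace Cfsg.Agent.Helper27.ZP

section

variable {p : ℕ} [hp : Fact p.Prime]

theorem pow_sub_two_eq_inv {v : ZMod p} (hv : v ≠ 0) : v ^ (p - 2) = v⁻¹ := by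
  have h2 := hp.out.two_le
  have h1 : v ^ (p - 2) * v = 1 := by
    rw [← pow_succ]
    have : p - 2 + 1 = p - 1 := by omega
    rw [this]
    exact ZMod.pow_card_sub_one_eq_one hv
  exact eq_inv_of_mul_eq_one_left h1

theorem tc_bridge {m : ℕ}
    (hTC : ∀ c1 c2 α γ : ZMod p, c1 ≠ 0 → c2 ≠ 0 → α ≠ 0 → γ ≠ 0 → TCHyp p m c1 c2 α γ → c1 = c2)
    (c1 c2 α γ : ZMod p) (hc1 : c1 ≠ 0) (hc2 : c2 ≠ 0) (hα : α ≠ 0) (hγ : γ ≠ 0)
    (τ : ZMod p → ZMod p)
    (hform : ∀ i, i ≠ 0 → τ i = (if i ^ m = 1 then c1 else c2) / i)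
    (hγc : τ γ = - τ 1)
    (hb : ∀ y, y ≠ 0 → (τ y = -1 ↔ α * y + γ = 0))
    (hc : ∀ y, y ≠ 0 → τ y ≠ -1 → τ (τ y + 1) = τ 1 + τ (α * y + γ)) : c1 = c2 := by
  have hT : ∀ v : ZMod p, v ≠ 0 → tauC p m c1 c2 v = τ v := by
    intro v hv
    rw [hform v hv, tauC, pow_sub_two_eq_inv hv, div_eq_mul_inv]
  apply hTC c1 c2 α γ hc1 hc2 hα hγ
  refine ⟨?_, ?_⟩
  · rw [hT γ hγ, hT 1 one_ne_zero, hγc]
  · intro y hy
    rw [hT y hy]
    refine ⟨hb y hy, ?_⟩
    intro hne
    have hz1 : τ y + 1 ≠ 0 := fun h => hne (eq_neg_of_add_eq_zero_left h)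
    have hz2 : α * y + γ ≠ 0 := fun h => hne ((hb y hy).2 h)
    rw [hT _ hz1, hT 1 one_ne_zero, hT _ hz2]
    exact hc y hy hne

theorem two_const {m : ℕ} (hpm : p = 2 * m + 1) (τ : ZMod p → ZMod p) (α γ : ZMod p)
    (hτ0 : ∀ i, i ≠ 0 → τ i ≠ 0)
    (hinv : ∀ μ i : ZMod p, μ ^ m = 1 → i ≠ 0 → τ (μ * i) = μ⁻¹ * τ i)
    (hα : α ≠ 0) (hγ : γ ≠ 0) (hγc : τ γ = - τ 1)
    (hb : ∀ y, y ≠ 0 → (τ y = -1 ↔ α * y + γ = 0))
    (hc : ∀ y, y ≠ 0 → τ y ≠ -1 → τ (τ y + 1) = τ 1 + τ (α * y + γ)) :
    ∃ c : ZMod p, c ≠ 0 ∧ (∀ i, i ≠ 0 → τ i = c / i) ∧ α * c = -1 := by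
  have h2 := hp.out.two_le
  have hm1 : 1 ≤ m := by
    rcases Nat.eq_zero_or_pos m with h | h
    · subst h; omega
    · exact h
  have hp2 : p / 2 = m := by omega
  have hp1 : p - 1 = 2 * m := by omega
  have hpne2 : p ≠ 2 := by omega
  have hneg1 : (-1 : ZMod p) ≠ 1 := by
    intro h
    have h2' : (2 : ZMod p) = 0 := by
      have : (1 : ZMod p) + 1 = 0 := by nth_rewrite 1 [← h]; exact neg_add_cancel 1
      rw [← this]; norm_num
    have : ((2 : ℕ) : ZMod p) = 0 := by exact_mod_cast h2'
    rw [ZMod.natCast_eq_zero_iff] at this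
    exact hpne2 ((Nat.prime_dvd_prime_iff_eq hp.out Nat.prime_two).1 this)
  have hpm1 : ∀ i : ZMod p, i ≠ 0 → i ^ m = 1 ∨ i ^ m = -1 := by
    intro i hi
    have := ZMod.pow_div_two_eq_neg_one_or_one p hi
    rw [hp2] at this
    exact this
  have hsq : ∀ z : ZMod p, z ≠ 0 → (z ^ 2) ^ m = 1 := by
    intro z hz
    rw [← pow_mul, ← hp1]
    exact ZMod.pow_card_sub_one_eq_one hz
  -- a non-square
  obtain ⟨n, hn0, hnm⟩ : ∃ n : ZMod p, n ≠ 0 ∧ n ^ m = -1 := by
    have hchar : ringChar (ZMod p) ≠ 2 := by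
      rw [ZMod.ringChar_zmod_n]
      exact hpne2
    obtain ⟨a, ha⟩ := FiniteField.exists_nonsquare hchar
    have ha0 : a ≠ 0 := by
      intro h
      apply ha
      rw [h]
      exact IsSquare.zero
    refine ⟨a, ha0, ?_⟩
    rcases hpm1 a ha0 with h | h
    · exfalso
      apply ha
      rw [ZMod.euler_criterion p ha0, hp2]
      exact h
    · exact h
  set c1 : ZMod p := τ 1 with hc1def
  set c2 : ZMod p := n * τ n with hc2def
  have hc1 : c1 ≠ 0 := hτ0 1 one_ne_zero
  have hc2 : c2 ≠ 0 := mul_ne_zero hn0 (hτ0 n hn0)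
  have hform : ∀ i, i ≠ 0 → τ i = (if i ^ m = 1 then c1 else c2) / i := by
    intro i hi
    by_cases h : i ^ m = 1
    · rw [if_pos h]
      have := hinv i 1 h one_ne_zero
      rw [mul_one] at this
      rw [this, div_eq_mul_inv, mul_comm]
    · rw [if_neg h]
      have hi' : i ^ m = -1 := (hpm1 i hi).resolve_left h
      have hμ : (i / n) ^ m = 1 := by
        rw [div_pow, hi', hnm]
        exact div_self (by
          intro h0
          have : (1 : ZMod p) = 0 := by
            have := congrArg (fun z => -z) h0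
            simpa using this
          exact one_ne_zero this)
      have := hinv (i / n) n hμ hn0
      rw [div_mul_cancel₀ _ hn0] at this
      rw [this, hc2def]
      field_simp
  have hτ1 : τ 1 = c1 := rfl
  -- the special point
  set y0 : ZMod p := -γ / α with hy0def
  have hy0 : y0 ≠ 0 := div_ne_zero (neg_ne_zero.2 hγ) hα
  have hy0z : α * y0 + γ = 0 := by
    rw [hy0def]
    field_simp
    ring
  have hτy0 : τ y0 = -1 := (hb y0 hy0).2 hy0z
  have hcy0 : (if y0 ^ m = 1 then c1 else c2) = γ / α := by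
    have := hform y0 hy0
    rw [hτy0] at this
    have h3 : (if y0 ^ m = 1 then c1 else c2) = - y0 := by
      field_simp at this
      linear_combination -this
    rw [h3, hy0def]
    ring
  have hceq : c1 = c2 := by
    by_cases h19 : 19 ≤ p
    · by_contra hne
      have hcc : ∀ i : ZMod p, (if i ^ m = 1 then c1 else c2) = c1 ∨
          (if i ^ m = 1 then c1 else c2) = c2 := by
        intro i
        by_cases h : i ^ m = 1
        · left; rw [if_pos h]
        · right; rw [if_neg h]
      by_cases hy : y0 ^ m = 1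
      · rw [if_pos hy] at hcy0
        -- use the non-square class
        refine ph_core h19 (fun i => if i ^ m = 1 then c1 else c2) c1 c2 α γ c2 n hcc hc1 hα hc2 hn0
          ?_ ?_ τ hform hτ1 hb hc
        · intro z hz
          have : (n * z ^ 2) ^ m ≠ 1 := by
            rw [mul_pow, hnm, hsq z hz, mul_one]
            exact hneg1
          show (if (n * z ^ 2) ^ m = 1 then c1 else c2) = c2
          rw [if_neg this]
        · intro h
          apply hne
          have : α * c2 = α * c1 := by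
            rw [h, hcy0]
            field_simp
          exact (mul_left_cancel₀ hα this).symm
      · rw [if_neg hy] at hcy0
        refine ph_core h19 (fun i => if i ^ m = 1 then c1 else c2) c1 c2 α γ c1 1 hcc hc1 hα hc1
          one_ne_zero ?_ ?_ τ hform hτ1 hb hc
        · intro z hz
          have : (1 * z ^ 2) ^ m = 1 := by
            rw [one_mul, hsq z hz]
          show (if (1 * z ^ 2) ^ m = 1 then c1 else c2) = c1
          rw [if_pos this]
        · intro h
          apply hne
          have : α * c1 = α * c2 := by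
            rw [h, hcy0]
            field_simp
          exact mul_left_cancel₀ hα this
    · push Not at h19
      have hpr := hp.out
      have hcases : p = 3 ∨ p = 5 ∨ p = 7 ∨ p = 11 ∨ p = 13 ∨ p = 17 := by
        interval_cases p <;> first | omega | (exfalso; revert hpr; norm_num)
      rcases hcases with h | h | h | h | h | h
      · subst h
        obtain rfl : m = 1 := by omega
        exact tc_bridge tc3 c1 c2 α γ hc1 hc2 hα hγ τ hform hγc hb hc
      · subst h
        obtain rfl : m = 2 := by omega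
        exact tc_bridge tc5 c1 c2 α γ hc1 hc2 hα hγ τ hform hγc hb hc
      · subst h
        obtain rfl : m = 3 := by omega
        exact tc_bridge tc7 c1 c2 α γ hc1 hc2 hα hγ τ hform hγc hb hc
      · subst h
        obtain rfl : m = 5 := by omega
        exact tc_bridge tc11 c1 c2 α γ hc1 hc2 hα hγ τ hform hγc hb hc
      · subst h
        obtain rfl : m = 6 := by omega
        exact tc_bridge tc13 c1 c2 α γ hc1 hc2 hα hγ τ hform hγc hb hc
      · subst h
        obtain rfl : m = 8 := by omega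
        exact tc_bridge tc17 c1 c2 α γ hc1 hc2 hα hγ τ hform hγc hb hc
  have hform' : ∀ i, i ≠ 0 → τ i = c1 / i := by
    intro i hi
    rw [hform i hi]
    by_cases h : i ^ m = 1
    · rw [if_pos h]
    · rw [if_neg h, hceq]
  refine ⟨c1, hc1, hform', ?_⟩
  have h1 : γ = α * c1 := by
    have : (if y0 ^ m = 1 then c1 else c2) = c1 := by
      by_cases h : y0 ^ m = 1
      · rw [if_pos h]
      · rw [if_neg h, hceq]
    rw [this] at hcy0
    rw [hcy0]
    field_simp
  have h2' : γ = -1 := by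
    have := hform' γ hγ
    rw [hγc] at this
    have h3 : -c1 * γ = c1 := by
      rw [eq_div_iff hγ] at this
      exact this
    have h4 : c1 * (γ + 1) = 0 := by linear_combination -h3
    rcases mul_eq_zero.1 h4 with h | h
    · exact absurd h hc1
    · exact eq_neg_of_add_eq_zero_left h
  rw [← h1, h2']

end

end Cfsg.Agent.Helper27.ZP
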