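import Mathlib
import Cfsg.Agent.Lib.Helper27.Zass17C
import Cfsg.Agent.Lib.Helper27.PGL2Mobius
import Cfsg.Agent.Lib.Helper27.Zp1B

set_option autoImplicit false
set_option linter.unusedSectionVars false
set_option linter.style.haveILetI false

/-! Continuing `PSLpGen`/`Zass17A` (contexts `Ctx G p`): multipliers fill the roots of unity (`exists_mult_of_pow`, `affine_mult_pow`), the structure equation `struct_eq` for an element swapping two points, `form_of_inv` (if the swap inverts the squares of the two-point stabiliser it is a Möbius map), the order of `GL₂(p)/centre`, recognition of `PGL₂(p)` and `PSL₂(p)` (`equiv_pgl_of_inv`, `equiv_psl_of_inv`), and `inv_of_even` (even two-point stabiliser: an involutive swap inverting the squares). -/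

namespace Cfsg.Agent.Helper27.PSLp

open Cfsg.Agent.Helper27.ZP

namespace Ctx

variable {G : Type*} [Group G] [Finite G] {p : ℕ} [hp : Fact p.Prime] (C : Ctx G p)

theorem card_Hs_pos : 0 < Nat.card C.Hs := Nat.card_pos

theorem mult_inv (g : G) (hg : g ∈ C.Hs) : C.mult g⁻¹ = (C.mult g)⁻¹ := by
  have h1 := C.mult_mul g g⁻¹ hg (C.Hs.inv_mem hg)
  rw [mul_inv_cancel, C.mult_one] at h1
  exact eq_inv_of_mul_eq_one_right h1.symm

/-- every root of unity of the right order is a multiplier -/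
theorem exists_mult_of_pow (hinj : Function.Injective C.ρ) (μ : ZMod p)
    (hμ : μ ^ Nat.card C.Hs = 1) : ∃ h ∈ C.Hs, C.mult h = μ := by
  classical
  set d := Nat.card C.Hs with hd
  have hd0 : 0 < d := C.card_Hs_pos
  have hμ0 : μ ≠ 0 := by
    intro h
    rw [h, zero_pow hd0.ne'] at hμ
    exact zero_ne_one hμ
  set u : (ZMod p)ˣ := Units.mk0 μ hμ0 with hu
  have hud : u ^ d = 1 := by
    apply Units.ext
    rw [Units.val_pow_eq_pow_val, Units.val_one, hu, Units.val_mk0, hμ]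
  set R : Subgroup (ZMod p)ˣ := C.multHom.range with hR
  have hRcard : Nat.card R = d :=
    (Nat.card_congr (MonoidHom.ofInjective (C.multHom_injective hinj)).toEquiv).symm
  have hsub : (Finset.univ.filter (fun a : (ZMod p)ˣ => a ∈ R)) ⊆
      Finset.univ.filter (fun a : (ZMod p)ˣ => a ^ d = 1) := by
    intro a ha
    rw [Finset.mem_filter] at ha ⊢
    refine ⟨Finset.mem_univ _, ?_⟩
    have := pow_card_eq_one' (G := R) (x := ⟨a, ha.2⟩)
    rw [hRcard] at this
    exact congrArg Subtype.val this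
  have hle : (Finset.univ.filter (fun a : (ZMod p)ˣ => a ^ d = 1)).card ≤
      (Finset.univ.filter (fun a : (ZMod p)ˣ => a ∈ R)).card := by
    have h1 : (Finset.univ.filter (fun a : (ZMod p)ˣ => a ∈ R)).card = d := by
      rw [← hRcard, Nat.card_eq_fintype_card, Fintype.card_subtype]
    rw [h1]
    exact IsCyclic.card_pow_eq_one_le hd0
  have heq := Finset.eq_of_subset_of_card_le hsub hle
  have hmem : u ∈ Finset.univ.filter (fun a : (ZMod p)ˣ => a ∈ R) := by
    rw [heq, Finset.mem_filter]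
    exact ⟨Finset.mem_univ _, hud⟩
  rw [Finset.mem_filter] at hmem
  obtain ⟨h, hh⟩ := hmem.2
  refine ⟨h.1, h.2, ?_⟩
  have := congrArg Units.val hh
  rw [C.multHom_val, hu, Units.val_mk0] at this
  exact this

/-- the multiplier of an element of the normaliser is a root of unity of the right order -/
theorem affine_mult_pow (hinj : Function.Injective C.ρ) (w : G) (hw : w • C.P = C.P)
    (μ β : ZMod p)
    (h : ∀ i : ZMod p, C.ρ w (i : OnePoint (ZMod p)) = ((μ * i + β : ZMod p) : OnePoint (ZMod p))) :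
    μ ^ Nat.card C.Hs = 1 := by
  set w' : G := C.x ^ (-β).val * w with hw'
  have h1 : ∀ i : ZMod p, C.ρ w' (i : OnePoint (ZMod p)) = ((μ * i : ZMod p) : OnePoint (ZMod p)) := by
    intro i
    rw [hw', map_mul, Equiv.Perm.mul_apply, h, C.ρ_x_pow_coe, ZMod.natCast_zmod_val]
    congr 1
    ring
  have hI : C.ρ w' OnePoint.infty = OnePoint.infty := by
    rw [hw', map_mul, Equiv.Perm.mul_apply, (C.ρ_infty_iff w).2 hw, C.ρ_x_pow_infty]
  have hmem : w' ∈ C.Hs := by
    rw [C.mem_Hs_iff]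
    refine ⟨hI, ?_⟩
    have := h1 0
    rwa [mul_zero] at this
  have hm : C.mult w' = μ := by
    have := (C.mult_spec w' hmem).2 1
    rw [h1 1, mul_one, mul_one] at this
    exact (OnePoint.coe_eq_coe.1 this).symm
  have h2 := pow_card_eq_one' (G := C.Hs) (x := ⟨w', hmem⟩)
  have h3 : C.multHom (⟨w', hmem⟩ ^ Nat.card C.Hs) = 1 := by rw [h2, map_one]
  rw [map_pow] at h3
  have h4 := congrArg Units.val h3
  rw [Units.val_pow_eq_pow_val, C.multHom_val, Units.val_one, hm] at h4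
  exact h4

end Ctx

end Cfsg.Agent.Helper27.PSLp

namespace Cfsg.Agent.Helper27.PSLp

open Cfsg.Agent.Helper27.ZP

namespace Ctx

variable {G : Type*} [Group G] [Finite G] {p : ℕ} [hp : Fact p.Prime] (C : Ctx G p)

/-- the finite part of the action of `t` -/
noncomputable def tau (t : G) (i : ZMod p) : ZMod p := finPart (C.ρ t (i : OnePoint (ZMod p)))

theorem swap_basic (t : G) (ht1 : t • C.P = C.Q0) (ht2 : t • C.Q0 = C.P) :
    C.ρ t OnePoint.infty = ((0 : ZMod p) : OnePoint (ZMod p)) ∧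
    C.ρ t ((0 : ZMod p) : OnePoint (ZMod p)) = OnePoint.infty ∧
    ∀ i : ZMod p, i ≠ 0 →
      C.ρ t (i : OnePoint (ZMod p)) = ((C.tau t i : ZMod p) : OnePoint (ZMod p)) ∧ C.tau t i ≠ 0 := by
  have hTI : C.ρ t OnePoint.infty = ((0 : ZMod p) : OnePoint (ZMod p)) := by
    rw [ρ_eq_iff, lab_infty, lab_zero, ht1]
  have hT0 : C.ρ t ((0 : ZMod p) : OnePoint (ZMod p)) = OnePoint.infty := by
    rw [ρ_eq_iff, lab_infty, lab_zero, ht2]
  refine ⟨hTI, hT0, ?_⟩
  intro i hi
  have h1 : C.ρ t (i : OnePoint (ZMod p)) ≠ OnePoint.infty := by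
    intro h
    rw [← hT0] at h
    exact hi (OnePoint.coe_eq_coe.1 ((C.ρ t).injective h))
  have h2 : ((C.tau t i : ZMod p) : OnePoint (ZMod p)) = C.ρ t (i : OnePoint (ZMod p)) :=
    coe_finPart _ h1
  refine ⟨h2.symm, ?_⟩
  intro h0
  rw [h0, ← hTI] at h2
  exact OnePoint.coe_ne_infty i ((C.ρ t).injective h2).symm

/-- the structure equation `t x t = x ^ c t n` -/
theorem struct_eq (t : G) (ht1 : t • C.P = C.Q0) (ht2 : t • C.Q0 = C.P) :
    ∃ (α γ : ZMod p) (n : G), n • C.P = C.P ∧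
      (∀ i : ZMod p, C.ρ n (i : OnePoint (ZMod p)) = ((α * i + γ : ZMod p) : OnePoint (ZMod p))) ∧
      α ≠ 0 ∧ γ ≠ 0 ∧ C.tau t γ = - C.tau t 1 ∧
      (∀ y : ZMod p, y ≠ 0 → (C.tau t y = -1 ↔ α * y + γ = 0)) ∧
      (∀ y : ZMod p, y ≠ 0 → C.tau t y ≠ -1 →
        C.tau t (C.tau t y + 1) = C.tau t 1 + C.tau t (α * y + γ)) := by
  obtain ⟨hTI, hT0, hTi⟩ := C.swap_basic t ht1 ht2
  set τ : ZMod p → ZMod p := C.tau t with hτ
  have hTinf : ∀ q : OnePoint (ZMod p), C.ρ t q = OnePoint.infty →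
      q = ((0 : ZMod p) : OnePoint (ZMod p)) := by
    intro q hq
    rw [← hT0] at hq
    exact (C.ρ t).injective hq
  set c : ZMod p := τ 1 with hc
  have hc0 : c ≠ 0 := (hTi 1 one_ne_zero).2
  have hXc : ∀ i : ZMod p, C.ρ (C.x ^ c.val) (i : OnePoint (ZMod p)) =
      ((i + c : ZMod p) : OnePoint (ZMod p)) := by
    intro i
    rw [ρ_x_pow_coe, ZMod.natCast_zmod_val]
  have hXcI : C.ρ (C.x ^ c.val) OnePoint.infty = OnePoint.infty := C.ρ_x_pow_infty _
  have hXcinf : ∀ q : OnePoint (ZMod p), C.ρ (C.x ^ c.val) q = OnePoint.infty →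
      q = OnePoint.infty := by
    intro q hq
    rw [← hXcI] at hq
    exact (C.ρ (C.x ^ c.val)).injective hq
  set n : G := (C.x ^ c.val * t)⁻¹ * (t * C.x * t) with hn
  have hkey : ∀ q, C.ρ t (C.ρ C.x (C.ρ t q)) = C.ρ (C.x ^ c.val) (C.ρ t (C.ρ n q)) := by
    intro q
    rw [← Equiv.Perm.mul_apply, ← Equiv.Perm.mul_apply, ← Equiv.Perm.mul_apply,
      ← Equiv.Perm.mul_apply, ← map_mul, ← map_mul, ← map_mul, ← map_mul]
    congr 2
    rw [hn]
    group
  have hnI : C.ρ n OnePoint.infty = OnePoint.infty := by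
    have h2 := hkey OnePoint.infty
    rw [hTI, C.ρ_x_coe, zero_add, (hTi 1 one_ne_zero).1] at h2
    by_contra hne
    obtain ⟨j, hj⟩ : ∃ j : ZMod p, C.ρ n OnePoint.infty = (j : OnePoint (ZMod p)) := by
      induction hq : C.ρ n OnePoint.infty using OnePoint.rec with
      | infty => exact absurd hq hne
      | coe j => exact ⟨j, rfl⟩
    rw [hj] at h2
    by_cases hj0 : j = 0
    · rw [hj0, hT0, hXcI] at h2
      exact OnePoint.coe_ne_infty _ h2
    · rw [(hTi j hj0).1, hXc] at h2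
      have h3 := OnePoint.coe_eq_coe.1 h2
      apply (hTi j hj0).2
      have : τ j + c = c := h3.symm
      simpa using this
  have hnP : n • C.P = C.P := (C.ρ_infty_iff n).1 hnI
  obtain ⟨α, γ, hα0, -, hN⟩ := C.exists_affine n hnP
  have hy0 := hkey ((0 : ZMod p) : OnePoint (ZMod p))
  rw [hT0, C.ρ_x_infty, hTI, hN, mul_zero, zero_add] at hy0
  have hγ0 : γ ≠ 0 := by
    intro h
    rw [h, hT0, hXcI] at hy0
    exact OnePoint.coe_ne_infty _ hy0
  have hγc : τ γ = - τ 1 := by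
    rw [(hTi γ hγ0).1, hXc] at hy0
    have h3 := OnePoint.coe_eq_coe.1 hy0
    exact eq_neg_of_add_eq_zero_left h3.symm
  have hgen : ∀ y : ZMod p, y ≠ 0 →
      C.ρ t (((τ y + 1 : ZMod p)) : OnePoint (ZMod p)) =
        C.ρ (C.x ^ c.val) (C.ρ t ((α * y + γ : ZMod p) : OnePoint (ZMod p))) := by
    intro y hy
    have h2 := hkey (y : OnePoint (ZMod p))
    rwa [(hTi y hy).1, C.ρ_x_coe, hN] at h2
  have hb : ∀ y : ZMod p, y ≠ 0 → (τ y = -1 ↔ α * y + γ = 0) := by
    intro y hy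
    have h2 := hgen y hy
    constructor
    · intro h
      rw [h, neg_add_cancel, hT0] at h2
      exact OnePoint.coe_eq_coe.1 (hTinf _ (hXcinf _ h2.symm))
    · intro h
      rw [h, hT0, hXcI] at h2
      have h3 := OnePoint.coe_eq_coe.1 (hTinf _ h2)
      exact eq_neg_of_add_eq_zero_left h3
  have hcc : ∀ y : ZMod p, y ≠ 0 → τ y ≠ -1 → τ (τ y + 1) = τ 1 + τ (α * y + γ) := by
    intro y hy hne
    have h2 := hgen y hy
    have hne1 : τ y + 1 ≠ 0 := fun h => hne (eq_neg_of_add_eq_zero_left h)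
    have hne2 : α * y + γ ≠ 0 := fun h => hne ((hb y hy).2 h)
    rw [(hTi _ hne1).1, (hTi _ hne2).1, hXc] at h2
    rw [OnePoint.coe_eq_coe.1 h2, add_comm]
  exact ⟨α, γ, n, hnP, hN, hα0, hγ0, hγc, hb, hcc⟩

/-- if `t` inverts enough of the two-point stabiliser then `t` is a Möbius map -/
theorem form_of_inv {m : ℕ} (hpm : p = 2 * m + 1) (t : G) (ht1 : t • C.P = C.Q0)
    (ht2 : t • C.Q0 = C.P)
    (hINV : ∀ μ : ZMod p, μ ^ m = 1 → ∃ h ∈ C.Hs, C.mult h = μ ∧ t * h * t⁻¹ = h⁻¹) :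
    ∃ c : ZMod p, c ≠ 0 ∧
      (∀ k : ZMod p, k ≠ 0 →
        C.ρ t (k : OnePoint (ZMod p)) = ((c / k : ZMod p) : OnePoint (ZMod p))) ∧
      ∃ (α γ : ZMod p) (n : G), n • C.P = C.P ∧
        (∀ i : ZMod p, C.ρ n (i : OnePoint (ZMod p)) = ((α * i + γ : ZMod p) : OnePoint (ZMod p))) ∧
        α * c = -1 := by
  obtain ⟨hTI, hT0, hTi⟩ := C.swap_basic t ht1 ht2
  obtain ⟨α, γ, n, hnP, hN, hα0, hγ0, hγc, hb, hcc⟩ := C.struct_eq t ht1 ht2
  have hinv : ∀ μ i : ZMod p, μ ^ m = 1 → i ≠ 0 → C.tau t (μ * i) = μ⁻¹ * C.tau t i := by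
    intro μ i hμ hi
    obtain ⟨h, hh, hm, hth⟩ := hINV μ hμ
    have hμ0 : μ ≠ 0 := by
      rw [← hm]
      exact (C.mult_spec h hh).1
    have e1 : t * h = h⁻¹ * t := by
      rw [← hth]
      group
    have e2 : C.ρ t (C.ρ h (i : OnePoint (ZMod p))) = C.ρ h⁻¹ (C.ρ t (i : OnePoint (ZMod p))) := by
      rw [← Equiv.Perm.mul_apply, ← Equiv.Perm.mul_apply, ← map_mul, ← map_mul, e1]
    rw [(C.mult_spec h hh).2 i, hm, (hTi _ (mul_ne_zero hμ0 hi)).1, (hTi i hi).1,
      (C.mult_spec h⁻¹ (C.Hs.inv_mem hh)).2, C.mult_inv h hh, hm] at e2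
    exact OnePoint.coe_eq_coe.1 e2
  obtain ⟨c, hc0, hform, hαc⟩ := two_const hpm (C.tau t) α γ (fun i hi => (hTi i hi).2) hinv hα0 hγ0
    hγc hb hcc
  refine ⟨c, hc0, ?_, α, γ, n, hnP, hN, hαc⟩
  intro k hk
  rw [(hTi k hk).1, hform k hk]

end Ctx

end Cfsg.Agent.Helper27.PSLp

namespace Cfsg.Agent.Helper27.PGL

open Matrix

theorem card_GLp (p : ℕ) [hp : Fact p.Prime] :
    Nat.card (GL (Fin 2) (ZMod p)) = (p ^ 2 - 1) * (p ^ 2 - p) := by
  rw [Matrix.card_GL_field, Fin.prod_univ_two, ZMod.card]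
  simp

theorem card_centerp (p : ℕ) [hp : Fact p.Prime] :
    Nat.card (Subgroup.center (GL (Fin 2) (ZMod p))) = p - 1 := by
  rw [GeneralLinearGroup.center_eq_range_scalar]
  have hinj : Function.Injective (GeneralLinearGroup.scalar (Fin 2) (R := ZMod p)) := by
    intro a b hab
    have h1 := congrArg (fun g : GL (Fin 2) (ZMod p) => g 0 0) hab
    simp at h1
    exact Units.ext h1
  rw [← Nat.card_congr (MonoidHom.ofInjective hinj).toEquiv, Nat.card_eq_fintype_card,
    ZMod.card_units]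

theorem card_pglp (p : ℕ) [hp : Fact p.Prime] :
    Nat.card (GL (Fin 2) (ZMod p) ⧸ Subgroup.center (GL (Fin 2) (ZMod p))) =
      (p + 1) * p * (p - 1) := by
  have h := Subgroup.card_eq_card_quotient_mul_card_subgroup
    (Subgroup.center (GL (Fin 2) (ZMod p)))
  rw [card_GLp, card_centerp] at h
  obtain ⟨k, rfl⟩ : ∃ k, p = k + 2 := ⟨p - 2, by have := hp.out.two_le; omega⟩
  have e1 : (k + 2) ^ 2 - 1 = (k + 3) * (k + 1) := by
    apply Nat.sub_eq_of_eq_add; ring
  have e2 : (k + 2) ^ 2 - (k + 2) = (k + 2) * (k + 1) := by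
    apply Nat.sub_eq_of_eq_add; ring
  have e3 : k + 2 - 1 = k + 1 := by omega
  rw [e1, e2, e3] at h
  rw [e3]
  have h2 : (k + 2 + 1) * (k + 2) * (k + 1) * (k + 1) =
      Nat.card (GL (Fin 2) (ZMod (k + 2)) ⧸ Subgroup.center (GL (Fin 2) (ZMod (k + 2)))) * (k + 1) := by
    rw [← h]; ring
  exact (Nat.eq_of_mul_eq_mul_right (Nat.succ_pos k) h2).symm

/-- the quotient of `GL` by its centre is the projective general linear group -/
def pglRefl (p : ℕ) :
    (GL (Fin 2) (ZMod p) ⧸ Subgroup.center (GL (Fin 2) (ZMod p))) ≃*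
      Matrix.ProjGenLinGroup (Fin 2) (ZMod p) := MulEquiv.refl _

end Cfsg.Agent.Helper27.PGL

namespace Cfsg.Agent.Helper27.PSLp

open Cfsg.Agent.Helper27.ZP Cfsg.Agent.Helper27.PGL Cfsg.Agent.Helper16 Matrix

namespace Ctx

variable {G : Type*} [Group G] [Finite G] {p : ℕ} [hp : Fact p.Prime] (C : Ctx G p)

theorem equiv_pgl_of_form (hinj : Function.Injective C.ρ) (hHs : Nat.card C.Hs = p - 1)
    (t : G) (ht1 : t • C.P = C.Q0) (ht2 : t • C.Q0 = C.P) (c : ZMod p) (hc0 : c ≠ 0)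
    (hform : ∀ k : ZMod p, k ≠ 0 →
      C.ρ t (k : OnePoint (ZMod p)) = ((c / k : ZMod p) : OnePoint (ZMod p))) :
    Nonempty (G ≃* Matrix.ProjGenLinGroup (Fin 2) (ZMod p)) := by
  obtain ⟨hTI, hT0, -⟩ := C.swap_basic t ht1 ht2
  have key : Nonempty (G ≃* (GL (Fin 2) (ZMod p) ⧸ Subgroup.center (GL (Fin 2) (ZMod p)))) := by
    refine equiv_pgl_of_mobiusGL C.ρ hinj _ (C.closure_eq_top t ht1) ?_ ?_
    · rintro s (hs | hs)
      · obtain ⟨μ, β, hμ0, hI, ha⟩ := C.exists_affine s hs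
        refine ⟨affMat μ β hμ0, ?_⟩
        ext q
        induction q using OnePoint.rec with
        | infty => rw [affMat_infty, hI]
        | coe i => rw [affMat_coe, ha]
      · rw [Set.mem_singleton_iff] at hs
        rw [hs]
        refine ⟨antiMatGL c hc0, ?_⟩
        ext q
        induction q using OnePoint.rec with
        | infty => rw [antiMatGL_infty, hTI]
        | coe i =>
          by_cases hi : i = 0
          · rw [hi, antiMatGL_zero, hT0]
          · rw [antiMatGL_coe _ _ _ hi, hform i hi]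
    · rw [card_pglp, C.card_eq_Hs, hHs]
  obtain ⟨e⟩ := key
  exact ⟨e.trans (pglRefl p)⟩

theorem equiv_psl_of_form {m : ℕ} (hpm : p = 2 * m + 1) (hinj : Function.Injective C.ρ)
    (hHs : Nat.card C.Hs = m) (t : G) (ht1 : t • C.P = C.Q0) (ht2 : t • C.Q0 = C.P)
    (d : ZMod p) (hd0 : d ≠ 0)
    (hTk : ∀ k : ZMod p, k ≠ 0 →
      C.ρ t (k : OnePoint (ZMod p)) = ((- d ^ 2 / k : ZMod p) : OnePoint (ZMod p))) :
    Nonempty (G ≃* Matrix.ProjectiveSpecialLinearGroup (Fin 2) (ZMod p)) := by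
  obtain ⟨hTI, hT0, -⟩ := C.swap_basic t ht1 ht2
  have hG : Nat.card G = (p + 1) * (p * m) := by
    rw [C.card_eq_Hs, hHs, mul_assoc]
  have hm2 : p / 2 = m := by omega
  refine equiv_psl_of_mobius C.ρ hinj _ (C.closure_eq_top t ht1) ?_ ?_
  · rintro s (hs | hs)
    · obtain ⟨μ, β, hμ0, hI, ha⟩ := C.exists_affine s hs
      have hμm := C.mult_pow hpm hG s hs μ β hμ0 ha
      have hsq : IsSquare μ := by
        rw [ZMod.euler_criterion p hμ0, hm2]
        exact hμm
      exact affine_mem_range _ μ β hsq hμ0 hI ha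
    · rw [Set.mem_singleton_iff] at hs
      rw [hs]
      exact anti_mem_range _ d hd0 hTI hT0 hTk
  · have h1 := Cfsg.Agent.Helper11.Dickson.card_PSL2_mul (F := ZMod p)
    rw [ZMod.card] at h1
    have h2 : Nat.gcd 2 (p - 1) = 2 := by
      have : p - 1 = 2 * m := by omega
      rw [this]
      exact Nat.gcd_mul_right_right m 2
    rw [h2] at h1
    have h3 : p - 1 = 2 * m := by omega
    rw [h3] at h1
    rw [hG]
    have h4 : 2 * Nat.card (Matrix.ProjectiveSpecialLinearGroup (Fin 2) (ZMod p)) =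
        2 * ((p + 1) * (p * m)) := by
      rw [h1]; ring
    exact (Nat.eq_of_mul_eq_mul_left (by norm_num) h4).symm

/-- the case of a two-point stabiliser of order `(p - 1) / 2` -/
theorem equiv_psl_of_inv {m : ℕ} (hpm : p = 2 * m + 1) (hinj : Function.Injective C.ρ)
    (hHs : Nat.card C.Hs = m) (t : G) (ht1 : t • C.P = C.Q0) (ht2 : t • C.Q0 = C.P)
    (hINV : ∀ μ : ZMod p, μ ^ m = 1 → ∃ h ∈ C.Hs, C.mult h = μ ∧ t * h * t⁻¹ = h⁻¹) :
    Nonempty (G ≃* Matrix.ProjectiveSpecialLinearGroup (Fin 2) (ZMod p)) := by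
  obtain ⟨c, hc0, hform, α, γ, n, hnP, hN, hαc⟩ := C.form_of_inv hpm t ht1 ht2 hINV
  have hm2 : p / 2 = m := by omega
  have hαm : α ^ m = 1 := by
    have := C.affine_mult_pow hinj n hnP α γ hN
    rwa [hHs] at this
  have hα0 : α ≠ 0 := by
    intro h
    rw [h, zero_mul] at hαc
    have : (1 : ZMod p) = 0 := by
      have := congrArg (fun z => -z) hαc
      simpa using this.symm
    exact one_ne_zero this
  have hsq : IsSquare α := by
    rw [ZMod.euler_criterion p hα0, hm2]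
    exact hαm
  obtain ⟨e, he⟩ := hsq
  have he0 : e ≠ 0 := fun h => hα0 (by rw [he, h, mul_zero])
  refine C.equiv_psl_of_form hpm hinj hHs t ht1 ht2 e⁻¹ (inv_ne_zero he0) ?_
  intro k hk
  rw [hform k hk]
  congr 1
  have : c = - (e⁻¹) ^ 2 := by
    have h1 : e * e * c = -1 := by rw [← he]; exact hαc
    field_simp
    linear_combination h1
  rw [this]

/-- the case of a two-point stabiliser of order `p - 1`, `p` odd -/
theorem equiv_pgl_of_inv {m : ℕ} (hpm : p = 2 * m + 1) (hinj : Function.Injective C.ρ)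
    (hHs : Nat.card C.Hs = p - 1) (t : G) (ht1 : t • C.P = C.Q0) (ht2 : t • C.Q0 = C.P)
    (hINV : ∀ μ : ZMod p, μ ^ m = 1 → ∃ h ∈ C.Hs, C.mult h = μ ∧ t * h * t⁻¹ = h⁻¹) :
    Nonempty (G ≃* Matrix.ProjGenLinGroup (Fin 2) (ZMod p)) := by
  obtain ⟨c, hc0, hform, -⟩ := C.form_of_inv hpm t ht1 ht2 hINV
  exact C.equiv_pgl_of_form hinj hHs t ht1 ht2 c hc0 hform

end Ctx

end Cfsg.Agent.Helper27.PSLp

namespace Cfsg.Agent.Helper27.PSLp

open Cfsg.Agent.Helper27.ZP

section cyc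

variable {p : ℕ} [hp : Fact p.Prime]

/-- a subgroup of the units of `ZMod p` contains all roots of unity of its order -/
theorem mem_of_pow_card (R : Subgroup (ZMod p)ˣ) (u : (ZMod p)ˣ) (hu : u ^ Nat.card R = 1) :
    u ∈ R := by
  classical
  set d := Nat.card R with hd
  have hd0 : 0 < d := Nat.card_pos
  have hsub : (Finset.univ.filter (fun a : (ZMod p)ˣ => a ∈ R)) ⊆
      Finset.univ.filter (fun a : (ZMod p)ˣ => a ^ d = 1) := by
    intro a ha
    rw [Finset.mem_filter] at ha ⊢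
    refine ⟨Finset.mem_univ _, ?_⟩
    have := pow_card_eq_one' (G := R) (x := ⟨a, ha.2⟩)
    exact congrArg Subtype.val this
  have hle : (Finset.univ.filter (fun a : (ZMod p)ˣ => a ^ d = 1)).card ≤
      (Finset.univ.filter (fun a : (ZMod p)ˣ => a ∈ R)).card := by
    have h1 : (Finset.univ.filter (fun a : (ZMod p)ˣ => a ∈ R)).card = d := by
      rw [hd, Nat.card_eq_fintype_card, Fintype.card_subtype]
    rw [h1]
    exact IsCyclic.card_pow_eq_one_le hd0
  have heq := Finset.eq_of_subset_of_card_le hsub hle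
  have hmem : u ∈ Finset.univ.filter (fun a : (ZMod p)ˣ => a ∈ R) := by
    rw [heq, Finset.mem_filter]
    exact ⟨Finset.mem_univ _, hu⟩
  exact (Finset.mem_filter.1 hmem).2

/-- a subgroup of the units of `ZMod p` with at least `(p - 1) / 2` elements contains
the squares -/
theorem mem_of_half_le {m : ℕ} (hpm : p = 2 * m + 1) (R : Subgroup (ZMod p)ˣ)
    (hR : m ≤ Nat.card R) (u : (ZMod p)ˣ) (hu : u ^ m = 1) : u ∈ R := by
  apply mem_of_pow_card
  have h1 : Nat.card R ∣ 2 * m := by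
    have := Subgroup.card_subgroup_dvd_card R
    rw [Nat.card_eq_fintype_card (α := (ZMod p)ˣ), ZMod.card_units] at this
    have h2 : p - 1 = 2 * m := by omega
    rwa [h2] at this
  obtain ⟨k, hk⟩ := h1
  have hm0 : 0 < m := by
    have := hp.out.two_le
    rcases Nat.eq_zero_or_pos m with h | h
    · subst h
      have : p = 1 := by omega
      exact absurd this hp.out.ne_one
    · exact h
  have hk2 : k = 1 ∨ k = 2 := by
    have hk0 : k ≠ 0 := by
      rintro rfl
      omega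
    have : k ≤ 2 := by
      by_contra hcon
      push Not at hcon
      have : Nat.card R * 3 ≤ Nat.card R * k := Nat.mul_le_mul_left _ hcon
      omega
    omega
  rcases hk2 with rfl | rfl
  · have : Nat.card R = m * 2 := by omega
    rw [this, pow_mul, hu, one_pow]
  · have : Nat.card R = m := by omega
    rw [this, hu]

end cyc

namespace Ctx

variable {G : Type*} [Group G] [Finite G] {p : ℕ} [hp : Fact p.Prime] (C : Ctx G p)

theorem Hs_comm (hinj : Function.Injective C.ρ) (a b : G) (ha : a ∈ C.Hs) (hb : b ∈ C.Hs) :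
    a * b = b * a := by
  have h1 : C.multHom (⟨a, ha⟩ * ⟨b, hb⟩) = C.multHom (⟨b, hb⟩ * ⟨a, ha⟩) := by
    rw [map_mul, map_mul, mul_comm]
  have h2 := C.multHom_injective hinj h1
  exact congrArg Subtype.val h2

/-- the multipliers of the elements inverted by `t` -/
def invMult (hinj : Function.Injective C.ρ) (t : G) : Subgroup (ZMod p)ˣ where
  carrier := {u | ∃ h : C.Hs, C.multHom h = u ∧ t * h.1 * t⁻¹ = h.1⁻¹}
  one_mem' := ⟨1, map_one _, by simp⟩
  mul_mem' := by
    rintro a b ⟨h1, rfl, e1⟩ ⟨h2, rfl, e2⟩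
    refine ⟨h1 * h2, map_mul _ _ _, ?_⟩
    have hc := C.Hs_comm hinj h1.1 h2.1 h1.2 h2.2
    calc t * (h1 * h2 : C.Hs).1 * t⁻¹ = (t * h1.1 * t⁻¹) * (t * h2.1 * t⁻¹) := by
          simp only [Subgroup.coe_mul]; group
      _ = h1.1⁻¹ * h2.1⁻¹ := by rw [e1, e2]
      _ = (h2.1 * h1.1)⁻¹ := by group
      _ = ((h1 * h2 : C.Hs).1)⁻¹ := by rw [← hc]; rfl
  inv_mem' := by
    rintro a ⟨h1, rfl, e1⟩
    refine ⟨h1⁻¹, map_inv _ _, ?_⟩
    have : t * h1.1⁻¹ * t⁻¹ = (t * h1.1 * t⁻¹)⁻¹ := by group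
    simp only [Subgroup.coe_inv]
    rw [this, e1]

theorem mem_invMult (hinj : Function.Injective C.ρ) (t : G) (u : (ZMod p)ˣ) :
    u ∈ C.invMult hinj t ↔ ∃ h : C.Hs, C.multHom h = u ∧ t * h.1 * t⁻¹ = h.1⁻¹ := Iff.rfl

/-- for an even two-point stabiliser there is an involution `t` swapping the two points
that inverts all elements whose multiplier is a square -/
theorem inv_of_even {m : ℕ} (hpm : p = 2 * m + 1) (hinj : Function.Injective C.ρ)
    (h2 : 2 ∣ Nat.card C.Hs) :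
    ∃ t : G, t • C.P = C.Q0 ∧ t • C.Q0 = C.P ∧
      ∀ μ : ZMod p, μ ^ m = 1 → ∃ h ∈ C.Hs, C.mult h = μ ∧ t * h * t⁻¹ = h⁻¹ := by
  classical
  have hp2 : p ≠ 2 := by omega
  obtain ⟨t0, ht0, hμ⟩ := C.exists_neg_one hinj h2
  have key := C.exists_swap_fix hinj hp2 t0 ht0 hμ
  choose! f hf1 hf2 hf3 using key
  have hsq : ∀ i : ZMod p, i ≠ 0 → f i * f i = 1 := by
    intro i hi
    have hne1 : (OnePoint.infty : OnePoint (ZMod p)) ≠ ((0 : ZMod p) : OnePoint (ZMod p)) :=
      (OnePoint.coe_ne_infty _).symm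
    have hne2 : (OnePoint.infty : OnePoint (ZMod p)) ≠ ((i : ZMod p) : OnePoint (ZMod p)) :=
      (OnePoint.coe_ne_infty _).symm
    have hne3 : ((0 : ZMod p) : OnePoint (ZMod p)) ≠ ((i : ZMod p) : OnePoint (ZMod p)) := by
      intro h
      exact hi (OnePoint.coe_eq_coe.1 h).symm
    apply C.eq_one_of_fix_three hinj _ _ _ _ hne1 hne2 hne3
    · rw [map_mul, Equiv.Perm.mul_apply, hf1 i hi, hf2 i hi]
    · rw [map_mul, Equiv.Perm.mul_apply, hf2 i hi, hf1 i hi]
    · have := (hf3 i hi (i : OnePoint (ZMod p))).2 (Or.inl rfl)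
      rw [map_mul, Equiv.Perm.mul_apply, this, this]
  have hinvf : ∀ i : ZMod p, i ≠ 0 → (f i)⁻¹ = f i := by
    intro i hi
    exact inv_eq_of_mul_eq_one_left (hsq i hi)
  have hp1 : (1 : ZMod p) ≠ 0 := one_ne_zero
  set t := f 1 with ht
  have htinv : t⁻¹ = t := hinvf 1 hp1
  have ht1 : t • C.P = C.Q0 := by
    have := hf1 1 hp1
    rwa [ρ_eq_iff, lab_infty, lab_zero] at this
  have ht2 : t • C.Q0 = C.P := by
    have := hf2 1 hp1
    rwa [ρ_eq_iff, lab_infty, lab_zero] at this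
  refine ⟨t, ht1, ht2, ?_⟩
  set S : Finset (ZMod p) := Finset.univ.filter (fun i => i ≠ 0) with hS
  have hScard : S.card = p - 1 := by
    rw [hS, Finset.filter_ne' Finset.univ (0 : ZMod p), Finset.card_erase_of_mem (Finset.mem_univ _),
      Finset.card_univ, ZMod.card]
  have h1 : S.card ≤ 2 * (S.image f).card := by
    apply Finset.card_le_mul_card_image
    intro a ha
    obtain ⟨i, hiS, rfl⟩ := Finset.mem_image.1 ha
    have hi : i ≠ 0 := (Finset.mem_filter.1 hiS).2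
    have hsub : S.filter (fun x => f x = f i) ⊆ {i, -i} := by
      intro j hj
      rw [Finset.mem_filter] at hj
      have hj0 : j ≠ 0 := (Finset.mem_filter.1 hj.1).2
      have h2 : C.ρ (f i) ((j : ZMod p) : OnePoint (ZMod p)) = ((j : ZMod p) : OnePoint (ZMod p)) := by
        rw [← hj.2]
        exact (hf3 j hj0 _).2 (Or.inl rfl)
      rcases (hf3 i hi _).1 h2 with h | h
      · rw [OnePoint.coe_eq_coe.1 h]; exact Finset.mem_insert_self _ _
      · rw [OnePoint.coe_eq_coe.1 h]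
        exact Finset.mem_insert_of_mem (Finset.mem_singleton_self _)
    calc (S.filter (fun x => f x = f i)).card ≤ ({i, -i} : Finset (ZMod p)).card :=
          Finset.card_le_card hsub
      _ ≤ 2 := Finset.card_le_two
  have hmem : ∀ g ∈ S.image f, t⁻¹ * g ∈ C.Hs := by
    intro g hg
    obtain ⟨i, hiS, rfl⟩ := Finset.mem_image.1 hg
    have hi : i ≠ 0 := (Finset.mem_filter.1 hiS).2
    rw [mem_Hs_iff]
    constructor
    · rw [map_mul, Equiv.Perm.mul_apply, hf1 i hi, map_inv, Equiv.Perm.inv_def,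
        Equiv.symm_apply_eq, ht, hf1 1 hp1]
    · rw [map_mul, Equiv.Perm.mul_apply, hf2 i hi, map_inv, Equiv.Perm.inv_def,
        Equiv.symm_apply_eq, ht, hf2 1 hp1]
  have hinvd : ∀ g ∈ S.image f, t * (t⁻¹ * g) * t⁻¹ = (t⁻¹ * g)⁻¹ := by
    intro g hg
    obtain ⟨i, hiS, rfl⟩ := Finset.mem_image.1 hg
    have hi : i ≠ 0 := (Finset.mem_filter.1 hiS).2
    have e1 : t * (t⁻¹ * f i) * t⁻¹ = f i * t⁻¹ := by group
    have e2 : (t⁻¹ * f i)⁻¹ = (f i)⁻¹ * t := by group
    rw [e1, e2, hinvf i hi, htinv]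
  have h2' : (S.image f).card ≤ Nat.card (C.invMult hinj t) := by
    set φ : G → (ZMod p)ˣ := fun g =>
      if h : t⁻¹ * g ∈ C.Hs then C.multHom ⟨t⁻¹ * g, h⟩ else 1 with hφ
    have hφv : ∀ g (hg : t⁻¹ * g ∈ C.Hs), φ g = C.multHom ⟨t⁻¹ * g, hg⟩ := by
      intro g hg
      rw [hφ]
      exact dif_pos hg
    set T : Finset (ZMod p)ˣ := Finset.univ.filter (fun u => u ∈ C.invMult hinj t) with hT
    have hTcard : T.card = Nat.card (C.invMult hinj t) := by
      rw [hT, Nat.card_eq_fintype_card, Fintype.card_subtype]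
    rw [← hTcard]
    apply Finset.card_le_card_of_injOn φ
    · intro g hg
      rw [Finset.mem_coe] at hg
      rw [Finset.mem_coe, hT, Finset.mem_filter]
      refine ⟨Finset.mem_univ _, ?_⟩
      rw [C.mem_invMult hinj t]
      exact ⟨⟨t⁻¹ * g, hmem g hg⟩, (hφv g (hmem g hg)).symm, hinvd g hg⟩
    · intro a ha b hb hab
      rw [Finset.mem_coe] at ha hb
      rw [hφv a (hmem a ha), hφv b (hmem b hb)] at hab
      have h4 := C.multHom_injective hinj hab
      have h5 := congrArg Subtype.val h4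
      simpa using h5
  have hcardB : m ≤ Nat.card (C.invMult hinj t) := by
    have : p - 1 ≤ 2 * Nat.card (C.invMult hinj t) := by
      calc p - 1 = S.card := hScard.symm
        _ ≤ 2 * (S.image f).card := h1
        _ ≤ _ := Nat.mul_le_mul_left 2 h2'
    omega
  intro μ hμ
  have hm0 : 0 < m := by
    have := hp.out.two_le
    rcases Nat.eq_zero_or_pos m with h | h
    · subst h
      have : p = 1 := by omega
      exact absurd this hp.out.ne_one
    · exact h
  have hμ0 : μ ≠ 0 := by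
    intro h
    rw [h, zero_pow hm0.ne'] at hμ
    exact zero_ne_one hμ
  have hu : (Units.mk0 μ hμ0) ^ m = 1 := by
    apply Units.ext
    rw [Units.val_pow_eq_pow_val, Units.val_one, Units.val_mk0, hμ]
  obtain ⟨h, hh1, hh2⟩ := mem_of_half_le hpm (C.invMult hinj t) hcardB _ hu
  refine ⟨h.1, h.2, ?_, hh2⟩
  have := congrArg Units.val hh1
  rw [C.multHom_val, Units.val_mk0] at this
  exact this

end Ctx

end Cfsg.Agent.Helper27.PSLp
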