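import Mathlib
import Cfsg.Agent.Lib.Helper27.Zp1C
import Cfsg.Prelude.Def_LieExceptional
import Cfsg.Agent.S0741
import Cfsg.Agent.S0885
import Cfsg.Agent.S0739

set_option autoImplicit false
set_option linter.unusedSectionVars false
set_option linter.style.haveILetI false

/-! Contexts `Ctx G p` without a normal subgroup of order `p + 1` (`NoReg`): the action on the Sylow subgroups is a Zassenhaus group, so by Zassenhaus and Feit the two-point stabiliser has order `p - 1` or `(p - 1)/2` (`card_Hs_cases`); uniqueness of normal subgroups of order `p + 1`; no normal subgroups of odd prime power index, so swaps invert an odd two-point stabiliser (`inv_of_odd`); the resulting isomorphisms `pgl_of_card_Hs`, `psl_of_card_Hs`. -/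

namespace Cfsg.Agent.Helper27.PSLp

/-- no normal subgroup of order `p + 1` -/
def NoReg (G : Type*) [Group G] (p : ℕ) : Prop :=
  ∀ N : Subgroup G, N.Normal → Nat.card N ≠ p + 1

namespace Ctx

variable {G : Type*} [Group G] [Finite G] {p : ℕ} [hp : Fact p.Prime] (C : Ctx G p)

theorem faithful (hinj : Function.Injective C.ρ) : FaithfulSMul G (Sylow p G) := by
  refine ⟨fun {g1 g2} h => ?_⟩
  apply hinj
  ext q
  rw [C.ρ_apply, C.ρ_apply, h]

theorem twoPretrans (C' : Ctx G p) : MulAction.IsMultiplyPretransitive G (Sylow p G) 2 := by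
  rw [MulAction.is_two_pretransitive_iff]
  intro a b c d hab hcd
  obtain ⟨u, hu1, hu2⟩ := C'.exists_smul_pair a b hab
  obtain ⟨v, hv1, hv2⟩ := C'.exists_smul_pair c d hcd
  refine ⟨v * u⁻¹, ?_, ?_⟩
  · rw [mul_smul, ← hu1, inv_smul_smul, hv1]
  · rw [mul_smul, ← hu2, inv_smul_smul, hv2]

theorem normal_transitive (hinj : Function.Injective C.ρ) (N : Subgroup G) [hN : N.Normal]
    (hNb : N ≠ ⊥) (R R' : Sylow p G) : ∃ n ∈ N, n • R = R' := by
  by_cases hRR : R = R'
  · exact ⟨1, N.one_mem, by rw [one_smul, hRR]⟩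
  obtain ⟨g, hg1⟩ := (Subgroup.ne_bot_iff_exists_ne_one).1 hNb
  have hg1' : (g : G) ≠ 1 := fun h => hg1 (Subtype.ext h)
  have : ∃ R₀ : Sylow p G, (g : G) • R₀ ≠ R₀ := by
    by_contra hcon
    push Not at hcon
    apply hg1'
    haveI := C.faithful hinj
    apply FaithfulSMul.eq_of_smul_eq_smul (α := Sylow p G)
    intro a
    rw [hcon a, one_smul]
  obtain ⟨R₀, hR₀⟩ := this
  have h2 := C.twoPretrans
  rw [MulAction.is_two_pretransitive_iff] at h2
  obtain ⟨k, hk1, hk2⟩ := h2 (Ne.symm hR₀) hRR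
  refine ⟨k * g * k⁻¹, hN.conj_mem _ g.2 k, ?_⟩
  rw [mul_smul, mul_smul, ← hk1, inv_smul_smul, hk2]

theorem dvd_card_normal (hinj : Function.Injective C.ρ) (N : Subgroup G) [hN : N.Normal]
    (hNb : N ≠ ⊥) : p + 1 ∣ Nat.card N := by
  have e := MulAction.orbitProdStabilizerEquivGroup N C.P
  have h1 := Nat.card_congr e
  rw [Nat.card_prod] at h1
  have h2 : MulAction.orbit N C.P = Set.univ := by
    ext R
    simp only [Set.mem_univ, iff_true]
    obtain ⟨n, hn, hnR⟩ := C.normal_transitive hinj N hNb C.P R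
    exact ⟨⟨n, hn⟩, hnR⟩
  rw [h2, Nat.card_congr (Equiv.Set.univ _), C.hcard] at h1
  exact ⟨_, h1.symm⟩

theorem isZassenhaus (hinj : Function.Injective C.ρ) (hd2 : 2 ≤ Nat.card C.Hs)
    (hnr : NoReg G p) : Cfsg.IsZassenhausGroup G (Sylow p G) := by
  refine ⟨C.faithful hinj, C.twoPretrans, ?_, ?_, ?_⟩
  · intro g a b c hab hbc hac ha hb hc
    exact C.eq_one_of_fix_three' hinj g a b c hab hac hbc ha hb hc
  · have hne : C.Hs ≠ ⊥ := by
      intro h
      rw [h, Subgroup.card_bot] at hd2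
      omega
    obtain ⟨g, hg1⟩ := (Subgroup.ne_bot_iff_exists_ne_one).1 hne
    refine ⟨g, fun h => hg1 (Subtype.ext h), C.P, C.Q0, C.hPQ.symm, ?_, ?_⟩
    · exact ((C.mem_Hs g).1 g.2).1
    · exact ((C.mem_Hs g).1 g.2).2
  · intro N hN htr
    by_contra hcon
    push Not at hcon
    apply hnr N hN
    have e := MulAction.orbitProdStabilizerEquivGroup N C.P
    have h1 := Nat.card_congr e
    rw [Nat.card_prod, hcon C.P, Subgroup.card_bot, mul_one] at h1
    have h2 : MulAction.orbit N C.P = Set.univ := by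
      ext R
      simp only [Set.mem_univ, iff_true]
      exact MulAction.exists_smul_eq N C.P R
    rw [h2, Nat.card_congr (Equiv.Set.univ _), C.hcard] at h1
    exact h1.symm

end Ctx

end Cfsg.Agent.Helper27.PSLp

namespace Cfsg.Agent.Helper27.PSLp

namespace Ctx

variable {G : Type*} [Group G] [Finite G] {p : ℕ} [hp : Fact p.Prime] (C : Ctx G p)

/-- Burnside: a trivial two-point stabiliser gives a normal subgroup of order `p + 1` -/
theorem exists_normal_of_card_Hs_one (h1 : Nat.card C.Hs = 1) :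
    ∃ N : Subgroup G, N.Normal ∧ Nat.card N = p + 1 := by
  have hG : Nat.card G = (p + 1) * (p * 1) := by
    rw [C.card_eq_Hs, h1, mul_assoc]
  have hN := C.card_normalizer hG
  rw [mul_one] at hN
  have hle : (C.P : Subgroup G) ≤ Subgroup.normalizer ((C.P : Subgroup G) : Set G) :=
    Subgroup.le_normalizer
  have heq : (C.P : Subgroup G) = Subgroup.normalizer ((C.P : Subgroup G) : Set G) := by
    apply Subgroup.eq_of_le_of_card_ge hle
    rw [hN, C.hPc]
  have hP : Subgroup.normalizer ((C.P : Subgroup G) : Set G) ≤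
      Subgroup.centralizer ((C.P : Subgroup G) : Set G) := by
    rw [← heq]
    intro g hg
    rw [Subgroup.mem_centralizer_iff]
    intro h hh
    rw [SetLike.mem_coe] at hh
    rw [C.P_eq_zpowers] at hg hh
    obtain ⟨a, rfl⟩ := Subgroup.mem_zpowers_iff.1 hg
    obtain ⟨b, rfl⟩ := Subgroup.mem_zpowers_iff.1 hh
    rw [← zpow_add, ← zpow_add, add_comm]
  have hcomp := MonoidHom.ker_transferSylow_isComplement' C.P hP
  refine ⟨(MonoidHom.transferSylow C.P hP).ker, inferInstance, ?_⟩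
  have h2 := hcomp.card_mul
  rw [C.hPc, hG, mul_one] at h2
  exact Nat.eq_of_mul_eq_mul_right hp.out.pos h2

/-- a non-trivial element of `P` fixes no other point -/
theorem P_fix_unique (u : G) (hu : u ∈ (C.P : Subgroup G)) (hu1 : u ≠ 1) (c : Sylow p G)
    (hc : u • c = c) : c = C.P := by
  by_contra hne
  obtain ⟨j, hj⟩ := C.exists_lab_of_ne hne
  rw [C.P_eq_zpowers] at hu
  have h2 : u ∈ Submonoid.powers C.x :=
    (isOfFinOrder_of_finite C.x).mem_powers_iff_mem_zpowers.2 hu
  obtain ⟨k, hk⟩ := Submonoid.mem_powers_iff _ _ |>.1 h2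
  rw [← hk, ← hj, ← mul_smul, ← pow_add, add_comm, pow_add, mul_smul] at hc
  have h3 := smul_left_cancel _ hc
  have h4 := C.free k h3
  apply hu1
  rw [← hk]
  obtain ⟨e, rfl⟩ := h4
  rw [pow_mul, C.hxp, one_pow]

theorem half_le_of_noReg (hinj : Function.Injective C.ρ) (hnr : NoReg G p) :
    2 ≤ Nat.card C.Hs ∧ p - 1 ≤ 2 * Nat.card C.Hs := by
  have hd0 : 0 < Nat.card C.Hs := Nat.card_pos
  have hd2 : 2 ≤ Nat.card C.Hs := by
    by_contra hcon
    have h1 : Nat.card C.Hs = 1 := by omega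
    obtain ⟨N, hN, hNc⟩ := C.exists_normal_of_card_Hs_one h1
    exact hnr N hN hNc
  refine ⟨hd2, ?_⟩
  have hZ := C.isZassenhaus hinj hd2 hnr
  letI : Fintype (Sylow p G) := Fintype.ofFinite _
  have hcardΩ : Fintype.card (Sylow p G) = p + 1 := by
    rw [← Nat.card_eq_fintype_card, C.hcard]
  rcases Nat.even_or_odd (Nat.card C.Hs) with hev | hodd
  · have := Cfsg.Agent.S0741.result hZ C.hPQ.symm hev
    rw [hcardΩ] at this
    have h3 : Nat.card ↥(MulAction.stabilizer G C.P ⊓ MulAction.stabilizer G C.Q0) =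
        Nat.card C.Hs := rfl
    rw [h3] at this
    omega
  · have hHa : (C.P : Subgroup G) ≤ MulAction.stabilizer G C.P := by
      intro g hg
      rw [MulAction.mem_stabilizer_iff]
      exact Sylow.smul_eq_iff_mem_normalizer.2 (Subgroup.le_normalizer hg)
    have hHcard : Nat.card (C.P : Subgroup G) + 1 = Fintype.card (Sylow p G) := by
      rw [hcardΩ, C.hPc]
    have := Cfsg.Agent.S0885.result hZ C.hPQ.symm p (Nat.card C.Hs) hcardΩ rfl hodd
      (C.P : Subgroup G) hHa hHcard (fun u hu hu1 c hc => C.P_fix_unique u hu hu1 c hc)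
    rcases this with h | ⟨h2g, -, -⟩
    · exact h
    · -- `P` would be a `2`-group
      have hx2 : ∃ k : ℕ, orderOf C.x = 2 ^ k := by
        obtain ⟨k, hk⟩ := h2g ⟨C.x, C.hxP⟩
        have h4 : C.x ^ 2 ^ k = 1 := congrArg Subtype.val hk
        have h5 := orderOf_dvd_of_pow_eq_one h4
        obtain ⟨j, -, hj⟩ := (Nat.dvd_prime_pow Nat.prime_two).1 h5
        exact ⟨j, hj⟩
      obtain ⟨k, hk⟩ := hx2
      rw [C.hox] at hk
      have hp2 : p = 2 := by
        have h6 : p ∣ 2 ^ k := by rw [← hk]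
        have h7 := hp.out.dvd_of_dvd_pow h6
        exact (Nat.prime_dvd_prime_iff_eq hp.out Nat.prime_two).1 h7
      omega

end Ctx

end Cfsg.Agent.Helper27.PSLp

namespace Cfsg.Agent.Helper27.PSLp

namespace Ctx

variable {G : Type*} [Group G] [Finite G] {p : ℕ} [hp : Fact p.Prime] (C : Ctx G p)

/-- there is at most one normal subgroup of order `p + 1` -/
theorem uniq_normal (hinj : Function.Injective C.ρ) (M1 M2 : Subgroup G) [h1 : M1.Normal]
    [h2 : M2.Normal] (hc1 : Nat.card M1 = p + 1) (hc2 : Nat.card M2 = p + 1) : M1 = M2 := by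
  by_contra hne
  have hL : M1 ⊓ M2 = ⊥ := by
    by_contra hLb
    have hdvd := C.dvd_card_normal hinj (M1 ⊓ M2) hLb
    have hle1 : Nat.card (M1 ⊓ M2 : Subgroup G) ≤ Nat.card M1 :=
      Nat.le_of_dvd Nat.card_pos (Subgroup.card_dvd_of_le inf_le_left)
    have hge : p + 1 ≤ Nat.card (M1 ⊓ M2 : Subgroup G) := Nat.le_of_dvd Nat.card_pos hdvd
    have e1 : M1 ⊓ M2 = M1 := by
      apply Subgroup.eq_of_le_of_card_ge inf_le_left
      rw [hc1]; exact hge
    have e2 : M1 ⊓ M2 = M2 := by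
      apply Subgroup.eq_of_le_of_card_ge inf_le_right
      rw [hc2]; exact hge
    exact hne (e1.symm.trans e2)
  set f : M2 →* G ⧸ M1 := (QuotientGroup.mk' M1).comp M2.subtype with hf
  have hfinj : Function.Injective f := by
    rw [injective_iff_map_eq_one]
    intro b hb
    have hb1 : (b : G) ∈ M1 := by
      have : (QuotientGroup.mk' M1) (b : G) = 1 := hb
      rwa [QuotientGroup.mk'_apply, QuotientGroup.eq_one_iff] at this
    have hb2 : (b : G) ∈ M1 ⊓ M2 := ⟨hb1, b.2⟩
    rw [hL, Subgroup.mem_bot] at hb2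
    exact Subtype.ext hb2
  have hdvd := Subgroup.card_dvd_of_injective f hfinj
  rw [hc2] at hdvd
  have hidx : Nat.card (G ⧸ M1) = p * Nat.card C.Hs := by
    have h3 := Subgroup.card_eq_card_quotient_mul_card_subgroup M1
    rw [hc1, C.card_eq_Hs] at h3
    have h4 : (p + 1) * (p * Nat.card C.Hs) = (p + 1) * Nat.card (G ⧸ M1) := by
      rw [← mul_assoc, h3, mul_comm]
    exact (Nat.eq_of_mul_eq_mul_left (Nat.succ_pos p) h4).symm
  rw [hidx] at hdvd
  have hcop : Nat.Coprime (p + 1) p := by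
    rw [Nat.coprime_comm]
    exact (Nat.coprime_self_add_right).2 (Nat.coprime_one_right p)
  have hd := hcop.dvd_of_dvd_mul_left hdvd
  have h5 := C.card_Hs_dvd hinj
  have h6 : Nat.card C.Hs ≤ p - 1 :=
    Nat.le_of_dvd (by have := hp.out.two_le; omega) h5
  have h7 : p + 1 ≤ Nat.card C.Hs := Nat.le_of_dvd Nat.card_pos hd
  omega

/-- a normal subgroup of order `p + 1` of a normal subgroup containing `x` is normal -/
theorem normal_of_normal_sub (hinj : Function.Injective C.ρ) (N : Subgroup G) [hN : N.Normal]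
    (hx : C.x ∈ N) (M : Subgroup N) [hM : M.Normal] (hMc : Nat.card M = p + 1) :
    (M.map N.subtype).Normal ∧ Nat.card (M.map N.subtype) = p + 1 := by
  have hinjN := C.subCtx_ρ_injective hinj N hx
  refine ⟨⟨?_⟩, ?_⟩
  · rintro _ ⟨m, hm, rfl⟩ g
    obtain ⟨φ, hφ⟩ : ∃ φ : N ≃* N, ∀ n : N, ((φ n : N) : G) = g * n * g⁻¹ :=
      ⟨MulAut.conjNormal g, fun n => by simp⟩
    have hinjφ : Function.Injective φ.toMonoidHom := φ.injective
    have hsurjφ : Function.Surjective φ.toMonoidHom := φ.surjective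
    haveI : (M.map φ.toMonoidHom).Normal := hM.map _ hsurjφ
    have hc' : Nat.card (M.map φ.toMonoidHom) = p + 1 := by
      rw [Subgroup.card_map_of_injective hinjφ, hMc]
    have heq := (C.subCtx N hx).uniq_normal hinjN (M.map φ.toMonoidHom) M hc' hMc
    have hmem : φ m ∈ M.map φ.toMonoidHom := ⟨m, hm, rfl⟩
    rw [heq] at hmem
    exact ⟨φ m, hmem, hφ m⟩
  · rw [Subgroup.card_map_of_injective N.subtype_injective, hMc]

theorem no_normal_index (hinj : Function.Injective C.ρ) (hnr : NoReg G p) (q : ℕ)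
    (hq : q.Prime) (hqd : q ∣ Nat.card C.Hs) (hq2 : q ≠ 2) :
    ¬ ∃ N : Subgroup G, N.Normal ∧ N.index = q ^ (Nat.card G).factorization q := by
  rintro ⟨N, hN, hidx⟩
  have hp2 := hp.out.two_le
  have hdp := C.card_Hs_dvd hinj
  have hdle : Nat.card C.Hs ≤ p - 1 := Nat.le_of_dvd (by omega) hdp
  have hqle : q ≤ Nat.card C.Hs := Nat.le_of_dvd Nat.card_pos hqd
  have hqG : q ∣ Nat.card G := by
    rw [C.card_eq_Hs]
    exact Dvd.dvd.mul_left hqd _
  have hv : 1 ≤ (Nat.card G).factorization q :=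
    (hq.dvd_iff_one_le_factorization Nat.card_pos.ne').1 hqG
  set v := (Nat.card G).factorization q with hvdef
  have hcop : Nat.Coprime (q ^ v) p := by
    apply Nat.Coprime.pow_left
    rw [Nat.coprime_primes hq hp.out]
    omega
  have hx : C.x ∈ N := by
    have h1 : C.x ^ N.index ∈ N := Subgroup.pow_index_mem N C.x
    rw [hidx] at h1
    have hcop' : Nat.Coprime (q ^ v) (orderOf C.x) := by rw [C.hox]; exact hcop
    obtain ⟨k, hk⟩ := exists_pow_eq_self_of_coprime hcop'
    rw [← hk]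
    exact Subgroup.pow_mem _ h1 _
  have hinjN := C.subCtx_ρ_injective hinj N hx
  have hcardN := (C.subCtx N hx).card_eq_Hs
  have hmul := Subgroup.card_mul_index N
  rw [hidx, hcardN, C.card_eq_Hs] at hmul
  have hd : Nat.card (C.subCtx N hx).Hs * q ^ v = Nat.card C.Hs := by
    have : (p + 1) * p * (Nat.card (C.subCtx N hx).Hs * q ^ v) = (p + 1) * p * Nat.card C.Hs := by
      rw [← hmul]; ring
    exact Nat.eq_of_mul_eq_mul_left (Nat.mul_pos (Nat.succ_pos p) hp.out.pos) this
  have hq3 : 3 ≤ q := by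
    have := hq.two_le
    omega
  have hqv : 3 ≤ q ^ v := by
    calc 3 ≤ q := hq3
      _ = q ^ 1 := (pow_one q).symm
      _ ≤ q ^ v := Nat.pow_le_pow_right hq.pos hv
  have hd'pos : 0 < Nat.card (C.subCtx N hx).Hs := Nat.card_pos
  have hsmall : ¬ (p - 1 ≤ 2 * Nat.card (C.subCtx N hx).Hs) := by
    intro hcon
    have : Nat.card (C.subCtx N hx).Hs * 3 ≤ Nat.card (C.subCtx N hx).Hs * q ^ v :=
      Nat.mul_le_mul_left _ hqv
    omega
  have hnotNR : ¬ NoReg N p := fun h => hsmall ((C.subCtx N hx).half_le_of_noReg hinjN h).2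
  unfold NoReg at hnotNR
  push Not at hnotNR
  obtain ⟨M, hM, hMc⟩ := hnotNR
  obtain ⟨hnorm, hcard⟩ := C.normal_of_normal_sub hinj N hx M hMc
  exact hnr _ hnorm hcard

/-- for an odd two-point stabiliser, in the absence of a regular normal subgroup, every
element swapping the two points inverts the stabiliser -/
theorem inv_of_odd (hinj : Function.Injective C.ρ) (hnr : NoReg G p)
    (hodd : Odd (Nat.card C.Hs)) (t : G) (ht1 : t • C.P = C.Q0) (ht2 : t • C.Q0 = C.P)
    (h : G) (hh : h ∈ C.Hs) : t * h * t⁻¹ = h⁻¹ := by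
  obtain ⟨hd2, -⟩ := C.half_le_of_noReg hinj hnr
  have hZ := C.isZassenhaus hinj hd2 hnr
  let _ : Fintype (Sylow p G) := Fintype.ofFinite _
  have hnil : ∀ q : ℕ, q.Prime →
      q ∣ Nat.card ↥(MulAction.stabilizer G C.P ⊓ MulAction.stabilizer G C.Q0) →
      ¬ ∃ N : Subgroup G, N.Normal ∧ N.index = q ^ (Nat.card G).factorization q := by
    intro q hq hqd
    apply C.no_normal_index hinj hnr q hq hqd
    rintro rfl
    have : Even (Nat.card C.Hs) := (even_iff_two_dvd).2 hqd
    exact (Nat.not_even_iff_odd.2 hodd) this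
  have := Cfsg.Agent.S0739.result hZ C.hPQ.symm hodd hnil
  exact this.2.2 t ht1 ht2 h hh

end Ctx

end Cfsg.Agent.Helper27.PSLp

namespace Cfsg.Agent.Helper27.PSLp

namespace Ctx

variable {G : Type*} [Group G] [Finite G] {p : ℕ} [hp : Fact p.Prime] (C : Ctx G p)

theorem zmod_two_eq_one (j : ZMod 2) (hj : j ≠ 0) : j = 1 := by
  revert j; decide

/-- sharply triply transitive case -/
theorem pgl_of_card_Hs (hinj : Function.Injective C.ρ) (hHs : Nat.card C.Hs = p - 1) :
    Nonempty (G ≃* Matrix.ProjGenLinGroup (Fin 2) (ZMod p)) := by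
  have hp2 := hp.out.two_le
  by_cases h2 : p = 2
  · subst h2
    obtain ⟨t, ht1, ht2⟩ := C.exists_swap
    obtain ⟨-, -, hTi⟩ := C.swap_basic t ht1 ht2
    refine C.equiv_pgl_of_form hinj hHs t ht1 ht2 1 one_ne_zero ?_
    intro k hk
    have hk1 := zmod_two_eq_one k hk
    subst hk1
    rw [(hTi 1 hk).1, zmod_two_eq_one _ (hTi 1 hk).2]
    simp
  · have hodd : Odd p := hp.out.odd_of_ne_two h2
    obtain ⟨m, hm⟩ := hodd
    have h2d : 2 ∣ Nat.card C.Hs := by
      rw [hHs]
      exact ⟨m, by omega⟩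
    obtain ⟨t, ht1, ht2, hINV⟩ := C.inv_of_even hm hinj h2d
    exact C.equiv_pgl_of_inv hm hinj hHs t ht1 ht2 hINV

/-- the case of a two-point stabiliser of order `(p - 1) / 2` -/
theorem psl_of_card_Hs (hinj : Function.Injective C.ρ) (hHs : 2 * Nat.card C.Hs = p - 1)
    (hcase : Even (Nat.card C.Hs) ∨ NoReg G p) :
    Nonempty (G ≃* Matrix.ProjectiveSpecialLinearGroup (Fin 2) (ZMod p)) := by
  have hp2 := hp.out.two_le
  have hpm : p = 2 * Nat.card C.Hs + 1 := by omega
  by_cases hev : Even (Nat.card C.Hs)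
  · obtain ⟨t, ht1, ht2, hINV⟩ := C.inv_of_even hpm hinj (even_iff_two_dvd.1 hev)
    exact C.equiv_psl_of_inv hpm hinj rfl t ht1 ht2 hINV
  · have hnr : NoReg G p := hcase.resolve_left hev
    have hodd : Odd (Nat.card C.Hs) := Nat.not_even_iff_odd.1 hev
    obtain ⟨t, ht1, ht2⟩ := C.exists_swap
    refine C.equiv_psl_of_inv hpm hinj rfl t ht1 ht2 ?_
    intro μ hμ
    obtain ⟨h, hh, hm⟩ := C.exists_mult_of_pow hinj μ hμ
    exact ⟨h, hh, hm, C.inv_of_odd hinj hnr hodd t ht1 ht2 h hh⟩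

theorem card_Hs_cases (hinj : Function.Injective C.ρ) (hnr : NoReg G p) :
    Nat.card C.Hs = p - 1 ∨ 2 * Nat.card C.Hs = p - 1 := by
  obtain ⟨hd2, hle⟩ := C.half_le_of_noReg hinj hnr
  obtain ⟨k, hk⟩ := C.card_Hs_dvd hinj
  have hp2 := hp.out.two_le
  have hk0 : k ≠ 0 := by
    rintro rfl
    omega
  have hk2 : k ≤ 2 := by
    by_contra hcon
    push Not at hcon
    have : Nat.card C.Hs * 3 ≤ Nat.card C.Hs * k := Nat.mul_le_mul_left _ hcon
    omega
  have : k = 1 ∨ k = 2 := by omega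
  rcases this with rfl | rfl
  · left; omega
  · right; omega

end Ctx

end Cfsg.Agent.Helper27.PSLp
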