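import Mathlib
import Cfsg.Agent.Lib.Helper27.Zp1D

set_option autoImplicit false
set_option linter.unusedSectionVars false
set_option linter.style.haveILetI false

/-! A transitive permutation group of degree `p + 1` and order `(p+1) p d`, `d < p`: every Sylow `p`-subgroup fixes exactly one point (`fixPt`), giving an equivariant bijection between Sylow subgroups and points, hence a context `Ctx G p` with faithful action (`exists_ctx`). -/

namespace Cfsg.Agent.Helper27.ZP

open Cfsg.Agent.Helper27.PSLp MulAction

section adapter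

variable {α : Type*} [Fintype α] [DecidableEq α] {p d : ℕ} [hp : Fact p.Prime]
  (G : Subgroup (Equiv.Perm α))

theorem fact_card (hd0 : 0 < d) (hd : d < p) : ((p + 1) * p * d).factorization p = 1 := by
  have hp1 : p + 1 ≠ 0 := Nat.succ_ne_zero p
  have hp0 : p ≠ 0 := hp.out.ne_zero
  have h1 : ¬ p ∣ p + 1 := by
    intro h
    have : p ∣ 1 := (Nat.dvd_add_right (dvd_refl p)).1 h
    exact hp.out.one_lt.ne' (Nat.dvd_one.1 this)
  have h2 : ¬ p ∣ d := fun h => absurd (Nat.le_of_dvd hd0 h) (not_le.2 hd)
  rw [Nat.factorization_mul (mul_ne_zero hp1 hp0) hd0.ne', Nat.factorization_mul hp1 hp0]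
  simp [Nat.factorization_eq_zero_of_not_dvd h1, Nat.factorization_eq_zero_of_not_dvd h2,
    hp.out.factorization_self]

variable {G}

theorem card_sylow_eq_p (hG : Nat.card G = (p + 1) * p * d) (hd0 : 0 < d) (hd : d < p)
    (R : Sylow p G) : Nat.card R = p := by
  rw [R.card_eq_multiplicity, hG, fact_card hd0 hd, pow_one]

theorem eq_one_of_fixes_all (g : G) (h : ∀ a : α, g • a = a) : g = 1 := by
  apply Subtype.ext
  ext a
  exact h a

theorem card_stab [IsPretransitive G α] (hα : Fintype.card α = p + 1)
    (hG : Nat.card G = (p + 1) * p * d) (a : α) : Nat.card (stabilizer G a) = p * d := by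
  have e := MulAction.orbitProdStabilizerEquivGroup G a
  have h1 := Nat.card_congr e
  rw [Nat.card_prod] at h1
  have h2 : MulAction.orbit G a = Set.univ := by
    ext b
    simp only [Set.mem_univ, iff_true]
    exact MulAction.exists_smul_eq G a b
  rw [h2, Nat.card_congr (Equiv.Set.univ _), Nat.card_eq_fintype_card, hα, hG, mul_assoc] at h1
  exact (Nat.eq_of_mul_eq_mul_left (Nat.succ_pos p) h1)

/-- a Sylow `p`-subgroup fixes exactly one point -/
theorem existsUnique_fix (hα : Fintype.card α = p + 1)
    (hG : Nat.card G = (p + 1) * p * d) (hd0 : 0 < d) (hd : d < p) (R : Sylow p G) :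
    ∃! a : α, ∀ u ∈ (R : Subgroup G), u • a = a := by
  have hcR := card_sylow_eq_p hG hd0 hd R
  have hmod := R.2.card_modEq_card_fixedPoints α
  rw [Nat.card_eq_fintype_card, hα] at hmod
  set F := fixedPoints (R : Subgroup G) α with hF
  have hmemF : ∀ a : α, a ∈ F ↔ ∀ u ∈ (R : Subgroup G), u • a = a := by
    intro a
    rw [hF, mem_fixedPoints]
    constructor
    · intro h u hu
      exact h ⟨u, hu⟩
    · intro h u
      exact h u.1 u.2
  have hle : Nat.card F ≤ p + 1 := by
    rw [← hα, ← Nat.card_eq_fintype_card]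
    exact Nat.card_le_card_of_injective _ Subtype.val_injective
  have hp2 := hp.out.two_le
  have hne : Nat.card F ≠ p + 1 := by
    intro hcon
    have hall : ∀ a : α, a ∈ F := by
      have h1 : F = Set.univ := by
        apply Set.eq_univ_of_forall
        by_contra hnot
        push Not at hnot
        obtain ⟨b, hb⟩ := hnot
        have hlt : Nat.card F < Nat.card α := by
          have hss : F ⊂ Set.univ := ⟨Set.subset_univ _, fun h => hb (h (Set.mem_univ b))⟩
          have h5 := Set.ncard_lt_ncard hss (Set.toFinite _)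
          rw [Set.ncard_univ] at h5
          rwa [← _root_.Nat.card_coe_set_eq] at h5
        rw [Nat.card_eq_fintype_card (α := α), hα, hcon] at hlt
        exact lt_irrefl _ hlt
      intro a
      rw [h1]
      exact Set.mem_univ a
    have hbot : ∀ u ∈ (R : Subgroup G), u = 1 := by
      intro u hu
      apply eq_one_of_fixes_all
      intro a
      exact (hmemF a).1 (hall a) u hu
    have : Nat.card (R : Subgroup G) = 1 := by
      rw [Nat.card_eq_one_iff_unique]
      refine ⟨⟨?_⟩, ⟨1⟩⟩
      intro a b
      apply Subtype.ext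
      rw [hbot a.1 a.2, hbot b.1 b.2]
    rw [hcR] at this
    omega
  have hone : Nat.card F = 1 := by
    have h1 : Nat.card F % p = 1 := by
      have := hmod.symm
      unfold Nat.ModEq at this
      rw [this, Nat.add_mod_left, Nat.mod_eq_of_lt (by omega)]
    have h2 : Nat.card F < p + 1 := lt_of_le_of_ne hle hne
    by_cases h3 : Nat.card F < p
    · rw [Nat.mod_eq_of_lt h3] at h1
      exact h1
    · have h4 : Nat.card F = p := by omega
      rw [h4, Nat.mod_self] at h1
      omega
  rw [Nat.card_eq_one_iff_exists] at hone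
  obtain ⟨⟨a, ha⟩, huniq⟩ := hone
  refine ⟨a, (hmemF a).1 ha, ?_⟩
  intro b hb
  have := huniq ⟨b, (hmemF b).2 hb⟩
  exact congrArg Subtype.val this

end adapter

end Cfsg.Agent.Helper27.ZP

namespace Cfsg.Agent.Helper27.ZP

open Cfsg.Agent.Helper27.PSLp MulAction

section adapter

variable {α : Type*} [Fintype α] [DecidableEq α] {p d : ℕ} [hp : Fact p.Prime]
  {G : Subgroup (Equiv.Perm α)}

/-- the data of the problem -/
structure Data (G : Subgroup (Equiv.Perm α)) (p d : ℕ) : Prop where
  hα : Fintype.card α = p + 1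
  hG : Nat.card G = (p + 1) * p * d
  hd0 : 0 < d
  hd : d < p
  htr : IsPretransitive G α


/-- the fixed point of a Sylow subgroup -/
noncomputable def fixPt (D : Data G p d) (R : Sylow p G) : α :=
  (existsUnique_fix D.hα D.hG D.hd0 D.hd R).choose

theorem fixPt_spec (D : Data G p d) (R : Sylow p G) (u : G) (hu : u ∈ (R : Subgroup G)) :
    u • fixPt D R = fixPt D R :=
  (existsUnique_fix D.hα D.hG D.hd0 D.hd R).choose_spec.1 u hu

theorem fixPt_unique (D : Data G p d) (R : Sylow p G) (a : α) (ha : ∀ u ∈ (R : Subgroup G), u • a = a) :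
    a = fixPt D R :=
  (existsUnique_fix D.hα D.hG D.hd0 D.hd R).choose_spec.2 a ha

theorem fixPt_smul (D : Data G p d) (g : G) (R : Sylow p G) : fixPt D (g • R) = g • fixPt D R := by
  symm
  apply fixPt_unique
  intro u hu
  rw [Sylow.coe_subgroup_smul, Subgroup.mem_pointwise_smul_iff_inv_smul_mem] at hu
  have h3 : (MulAut.conj g)⁻¹ • u = g⁻¹ * u * g := by
    rw [MulAut.smul_def, ← map_inv, MulAut.conj_apply, inv_inv]
  rw [h3] at hu
  have := fixPt_spec D R _ hu
  rw [mul_smul, mul_smul, inv_smul_eq_iff] at this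
  exact this

theorem fixPt_injective (D : Data G p d) : Function.Injective (fixPt D (p := p)) := by
  intro R R' hRR
  haveI := D.htr
  have hle : (R : Subgroup G) ≤ stabilizer G (fixPt D R) := fun u hu => fixPt_spec D R u hu
  have hle' : (R' : Subgroup G) ≤ stabilizer G (fixPt D R) := by
    intro u hu
    rw [mem_stabilizer_iff, hRR]
    exact fixPt_spec D R' u hu
  have hcH := card_stab (p := p) D.hα D.hG (fixPt D R)
  have hcS : Nat.card (R.subtype hle : Subgroup (stabilizer G (fixPt D R))) = p := by
    rw [Sylow.coe_subtype]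
    exact (Nat.card_congr (Subgroup.subgroupOfEquivOfLe hle).toEquiv).trans
      (card_sylow_eq_p D.hG D.hd0 D.hd R)
  have hidx : (R.subtype hle : Subgroup (stabilizer G (fixPt D R))).index = d := by
    have := Subgroup.card_mul_index (R.subtype hle : Subgroup (stabilizer G (fixPt D R)))
    rw [hcS, hcH] at this
    exact Nat.eq_of_mul_eq_mul_left hp.out.pos this
  have hdvd := Sylow.card_dvd_index (R.subtype hle)
  rw [hidx] at hdvd
  have hmod := card_sylow_modEq_one p (stabilizer G (fixPt D R))
  have hn1 : Nat.card (Sylow p (stabilizer G (fixPt D R))) = 1 := by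
    have h1 : Nat.card (Sylow p (stabilizer G (fixPt D R))) ≤ d := Nat.le_of_dvd D.hd0 hdvd
    have h2 : Nat.card (Sylow p (stabilizer G (fixPt D R))) < p := lt_of_le_of_lt h1 D.hd
    unfold Nat.ModEq at hmod
    rw [Nat.mod_eq_of_lt h2, Nat.mod_eq_of_lt hp.out.one_lt] at hmod
    exact hmod
  have hsub : Subsingleton (Sylow p (stabilizer G (fixPt D R))) := by
    rw [← Finite.card_le_one_iff_subsingleton, hn1]
  exact Sylow.subtype_injective (Subsingleton.elim (R.subtype hle) (R'.subtype hle'))

theorem fixPt_surjective (D : Data G p d) : Function.Surjective (fixPt D (p := p)) := by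
  intro a
  have := D.htr
  obtain ⟨R₀⟩ : Nonempty (Sylow p G) := inferInstance
  obtain ⟨g, hg⟩ := MulAction.exists_smul_eq G (fixPt D R₀) a
  exact ⟨g • R₀, by rw [fixPt_smul, hg]⟩

theorem card_sylow (D : Data G p d) : Nat.card (Sylow p G) = p + 1 := by
  rw [Nat.card_congr (Equiv.ofBijective _ ⟨fixPt_injective D, fixPt_surjective D⟩),
    Nat.card_eq_fintype_card, D.hα]

theorem toPerm_injective (D : Data G p d) : Function.Injective (MulAction.toPermHom G (Sylow p G)) := by
  rw [injective_iff_map_eq_one]
  intro g hg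
  apply eq_one_of_fixes_all
  intro a
  obtain ⟨R, rfl⟩ := fixPt_surjective D a
  rw [← fixPt_smul]
  have : g • R = (MulAction.toPermHom G (Sylow p G) g) R := rfl
  rw [this, hg]
  rfl

/-- the context attached to the data -/
theorem exists_ctx (D : Data G p d) : ∃ C : Ctx G p, Function.Injective C.ρ ∧ Nat.card C.Hs = d := by
  have hcard := card_sylow D
  obtain ⟨P⟩ : Nonempty (Sylow p G) := inferInstance
  have hPc := card_sylow_eq_p D.hG D.hd0 D.hd P
  obtain ⟨x, hx⟩ := exists_prime_orderOf_dvd_card' (G := P) p (by rw [hPc])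
  have hp2 := hp.out.two_le
  obtain ⟨Q0, hQ0⟩ : ∃ Q0 : Sylow p G, Q0 ≠ P := by
    by_contra hcon
    push Not at hcon
    have : Nat.card (Sylow p G) ≤ 1 := by
      rw [Finite.card_le_one_iff_subsingleton]
      exact ⟨fun a b => (hcon a).trans (hcon b).symm⟩
    omega
  let C : Ctx G p :=
    { P := P, Q0 := Q0, x := x.1, hxP := x.2
      hox := (Subgroup.orderOf_coe x).trans hx
      hPc := hPc, hPQ := hQ0, hcard := hcard }
  refine ⟨C, C.ρ_injective_of (toPerm_injective D), ?_⟩
  have h1 := C.card_eq_Hs
  rw [D.hG] at h1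
  exact (Nat.eq_of_mul_eq_mul_left (Nat.mul_pos (Nat.succ_pos p) hp.out.pos) h1).symm

end adapter

end Cfsg.Agent.Helper27.ZP
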