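import Mathlib
import Cfsg.Agent.Lib.Helper18.SolvEP6

set_option autoImplicit false
set_option linter.unusedSectionVars false
set_option linter.style.haveILetI false

/-! The regular normal subgroup case (on top of helper18's `SolvEP`): in field coordinates the point stabiliser acts semilinearly (`semiaffine_of_hyp`); a regular normal subgroup `N` of order `p + 1` with a cyclic group transitive on the other points is elementary abelian of order `2 ^ q`, `q` prime, the stabiliser order divides `p q`, and the group acts by semi-affine maps of `GaloisField 2 q` (`caseR_core`). -/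

namespace Cfsg.Agent.Helper27.ZP

open Cfsg.Agent.Helper18.SolvEP

variable {A : Type*} [AddCommGroup A] {H : Type*} [Group H]
variable {ρ : H →* AddMonoid.End A} {M : Subgroup H}

theorem rho_inv_apply (ρ : H →* AddMonoid.End A) (h : H) (v : A) : ρ h⁻¹ (ρ h v) = v := by
  have : (ρ h⁻¹ * ρ h) v = v := by
    rw [← map_mul, inv_mul_cancel, map_one]
    rfl
  exact this

/-- in the coordinates of the field, the ambient group acts by semilinear maps -/
theorem semiaffine_of_hyp (hyp : Hyp ρ M) [M.Normal] [Nontrivial A] [Finite A] (q : ℕ)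
    (hq : q ≠ 0) (hcard : Nat.card A = 2 ^ q) (v₀ : A) (hv₀ : v₀ ≠ 0) :
    ∃ E : A ≃ GaloisField 2 q, (∀ u v : A, E (u + v) = E u + E v) ∧
      ∀ h : H, ∃ a : (GaloisField 2 q)ˣ, ∃ φ : GaloisField 2 q ≃+* GaloisField 2 q,
        ∀ y : GaloisField 2 q, E (ρ h (E.symm y)) = (a : GaloisField 2 q) * φ y := by
  classical
  haveI : Fact (Nat.Prime 2) := ⟨Nat.prime_two⟩
  letI : Fintype (KK hyp) := Fintype.ofFinite _
  letI : Fintype (GaloisField 2 q) := Fintype.ofFinite _
  have hcK : Fintype.card (KK hyp) = Fintype.card (GaloisField 2 q) := by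
    rw [← Nat.card_eq_fintype_card, ← Nat.card_eq_fintype_card, KK.card hyp, hcard,
      GaloisField.card 2 q hq]
  let ψ : KK hyp ≃+* GaloisField 2 q := FiniteField.ringEquivOfCardEq hcK
  let ev : KK hyp → A := fun r => r.val v₀
  have hev : Function.Bijective ev := hyp.bijective_eval hv₀
  let evE : KK hyp ≃ A := Equiv.ofBijective ev hev
  have hev_add : ∀ r s : KK hyp, ev (r + s) = ev r + ev s := by
    intro r s
    rfl
  have hev_zero : ev 0 = 0 := rfl
  let E : A ≃ GaloisField 2 q := evE.symm.trans ψ.toEquiv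
  have hE : ∀ r : KK hyp, E (ev r) = ψ r := by
    intro r
    show ψ (evE.symm (evE r)) = ψ r
    rw [Equiv.symm_apply_apply]
  have hEs : ∀ y : GaloisField 2 q, E.symm y = ev (ψ.symm y) := by
    intro y
    rfl
  refine ⟨E, ?_, ?_⟩
  · intro u v
    obtain ⟨r, rfl⟩ := hev.2 u
    obtain ⟨s, rfl⟩ := hev.2 v
    rw [← hev_add, hE, hE, hE, map_add]
  · intro h
    obtain ⟨s, hs⟩ := hev.2 (ρ h v₀)
    have hs0 : s ≠ 0 := by
      rintro rfl
      rw [hev_zero] at hs
      apply hv₀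
      have := rho_inv_apply ρ h v₀
      rw [← hs, map_zero] at this
      exact this.symm
    let cj : KK hyp ≃+* KK hyp := conjRR ρ M h
    have hcj : ∀ r : KK hyp, ev (cj r * s) = ρ h (ev r) := by
      intro r
      show ((cj r).val * s.val) v₀ = ρ h (r.val v₀)
      have h1 : (cj r).val = ρ h * r.val * ρ h⁻¹ := rfl
      rw [h1]
      show (ρ h * r.val * ρ h⁻¹) (s.val v₀) = ρ h (r.val v₀)
      have h2 : s.val v₀ = ρ h v₀ := hs
      rw [h2]
      show ρ h (r.val (ρ h⁻¹ (ρ h v₀))) = ρ h (r.val v₀)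
      rw [rho_inv_apply]
    refine ⟨Units.mk0 (ψ s) ((map_ne_zero ψ).2 hs0), ψ.symm.trans (cj.trans ψ), ?_⟩
    intro y
    rw [hEs, ← hcj, hE, map_mul, Units.val_mk0, mul_comm]
    rfl

end Cfsg.Agent.Helper27.ZP

namespace Cfsg.Agent.Helper27.ZP

open Cfsg.Agent.Helper18.SolvEP MulAction

section

variable {G : Type*} [Group G] [Finite G] {Ω : Type*} [MulAction G Ω] [FaithfulSMul G Ω]
  (N : Subgroup G) [hNn : N.Normal]
  (htr : IsPretransitive N Ω) (hreg : ∀ ω : Ω, stabilizer N ω = ⊥) (a₀ : Ω) (x : G)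
  (hxa : x • a₀ = a₀)
  (hxtr : ∀ b c : Ω, b ≠ a₀ → c ≠ a₀ → ∃ k : ℕ, x ^ k • b = c)

include hreg in
theorem smul_ne_of_ne_one {n : G} (hn : n ∈ N) (hn1 : n ≠ 1) : n • a₀ ≠ a₀ := by
  intro h
  have h1 : (⟨n, hn⟩ : N) ∈ stabilizer N a₀ := by
    rw [mem_stabilizer_iff]
    exact h
  rw [hreg a₀, Subgroup.mem_bot] at h1
  exact hn1 (congrArg Subtype.val h1)

include hxa in
theorem pow_mem_stab (k : ℕ) : x ^ k ∈ stabilizer G a₀ := by
  apply Subgroup.pow_mem
  rw [mem_stabilizer_iff]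
  exact hxa

include hreg hxa hxtr in
/-- the powers of `x` act transitively by conjugation on the non-identity elements of `N` -/
theorem exists_conj_eq {l n : G} (hl : l ∈ N) (hn : n ∈ N) (hl1 : l ≠ 1) (hn1 : n ≠ 1) :
    ∃ k : ℕ, x ^ k * l * (x ^ k)⁻¹ = n := by
  obtain ⟨k, hk⟩ := hxtr (l • a₀) (n • a₀) (smul_ne_of_ne_one N hreg a₀ hl hl1)
    (smul_ne_of_ne_one N hreg a₀ hn hn1)
  refine ⟨k, ?_⟩
  apply eq_of_smul_eq N hreg a₀ (hNn.conj_mem l hl _) hn
  rw [conj_smul_of_mem_stabilizer a₀ (pow_mem_stab a₀ x hxa k), hk]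

include hreg hxa hxtr in
theorem sq_eq_one_of_even (h2 : 2 ∣ Nat.card N) {n : G} (hn : n ∈ N) : n * n = 1 := by
  haveI : Fact (Nat.Prime 2) := ⟨Nat.prime_two⟩
  obtain ⟨z, hz⟩ := exists_prime_orderOf_dvd_card' (G := N) 2 h2
  have hz1 : (z : G) ≠ 1 := by
    intro h
    have : z = 1 := Subtype.ext h
    rw [this, orderOf_one] at hz
    norm_num at hz
  have hz2 : (z : G) * (z : G) = 1 := by
    have := pow_orderOf_eq_one z
    rw [hz, pow_two] at this
    exact congrArg Subtype.val this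
  by_cases hn1 : n = 1
  · rw [hn1, mul_one]
  · obtain ⟨k, hk⟩ := exists_conj_eq N hreg a₀ x hxa hxtr z.2 hn hz1 hn1
    rw [← hk]
    calc x ^ k * z * (x ^ k)⁻¹ * (x ^ k * z * (x ^ k)⁻¹) = x ^ k * ((z : G) * z) * (x ^ k)⁻¹ := by
          group
      _ = 1 := by rw [hz2]; group

end

end Cfsg.Agent.Helper27.ZP

namespace Cfsg.Agent.Helper27.ZP

open Cfsg.Agent.Helper18.SolvEP MulAction

section

variable {G : Type*} [Group G] [Finite G] {Ω : Type*} [MulAction G Ω] [FaithfulSMul G Ω]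
  (N : Subgroup G) [hNn : N.Normal]
  (htr : IsPretransitive N Ω) (hreg : ∀ ω : Ω, stabilizer N ω = ⊥) (a₀ : Ω) (x : G)
  (hxa : x • a₀ = a₀)
  (hxtr : ∀ b c : Ω, b ≠ a₀ → c ≠ a₀ → ∃ k : ℕ, x ^ k • b = c)

include htr hreg hxa hxtr in
theorem caseR_core
    (hxn : ∀ h ∈ stabilizer G a₀, h * x * h⁻¹ ∈ Subgroup.zpowers x)
    {p d : ℕ} (hp : p.Prime) (hp2 : p ≠ 2) (hN : Nat.card N = p + 1) (hox : orderOf x = p)
    (hH : Nat.card (stabilizer G a₀) = p * d) (hd0 : 0 < d) :
    ∃ q : ℕ, q.Prime ∧ p + 1 = 2 ^ q ∧ (d = 1 ∨ d = q) ∧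
      ∃ e : Ω ≃ GaloisField 2 q, ∀ g : G, ∃ a : (GaloisField 2 q)ˣ, ∃ b : GaloisField 2 q,
        ∃ φ : GaloisField 2 q ≃+* GaloisField 2 q,
          ∀ y : GaloisField 2 q, e (g • e.symm y) = (a : GaloisField 2 q) * φ y + b := by
  classical
  haveI : Fact (Nat.Prime 2) := ⟨Nat.prime_two⟩
  have hpodd : Odd p := hp.odd_of_ne_two hp2
  have h2N : 2 ∣ Nat.card N := by
    rw [hN]
    obtain ⟨k, hk⟩ := hpodd
    exact ⟨k + 1, by omega⟩
  have hsq : ∀ n ∈ N, n * n = 1 := fun n hn =>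
    sq_eq_one_of_even N hreg a₀ x hxa hxtr h2N hn
  have hNc : ∀ a ∈ N, ∀ b ∈ N, a * b = b * a := by
    intro a ha b hb
    have h1 := hsq (a * b) (N.mul_mem ha hb)
    have h2 : (a * b)⁻¹ = a * b := inv_eq_of_mul_eq_one_left h1
    have h3 : a⁻¹ = a := inv_eq_of_mul_eq_one_left (hsq a ha)
    have h4 : b⁻¹ = b := inv_eq_of_mul_eq_one_left (hsq b hb)
    calc a * b = (a * b)⁻¹ := h2.symm
      _ = b⁻¹ * a⁻¹ := mul_inv_rev a b
      _ = b * a := by rw [h3, h4]
  -- the order of `N`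
  have hpg : IsPGroup 2 N := by
    intro n
    refine ⟨1, ?_⟩
    rw [pow_one, pow_two]
    exact Subtype.ext (hsq n n.2)
  obtain ⟨q, hq⟩ := IsPGroup.iff_card.1 hpg
  have hpq : p + 1 = 2 ^ q := by rw [← hN, hq]
  have hp2le := hp.two_le
  have hq0 : q ≠ 0 := by
    rintro rfl
    simp at hpq
    omega
  have hq1 : q ≠ 1 := by
    rintro rfl
    simp at hpq
    omega
  have hqprime : q.Prime := by
    have h1 : (2 ^ q - 1).Prime := by
      rw [← hpq]
      simpa using hp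
    exact (Nat.prime_of_pow_sub_one_prime hq1 h1).2
  refine ⟨q, hqprime, hpq, ?_⟩
  -- the cyclic group generated by `x` inside the stabiliser
  set H : Subgroup G := stabilizer G a₀ with hHdef
  have hxH : x ∈ H := by rw [hHdef, mem_stabilizer_iff]; exact hxa
  have hzle : Subgroup.zpowers x ≤ H := by
    rw [Subgroup.zpowers_le]
    exact hxH
  set M' : Subgroup H := (Subgroup.zpowers x).subgroupOf H with hM'
  have hM'mem : ∀ m : H, m ∈ M' ↔ (m : G) ∈ Subgroup.zpowers x := fun m =>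
    Subgroup.mem_subgroupOf
  have hMc : ∀ a ∈ M', ∀ b ∈ M', a * b = b * a := by
    intro a ha b hb
    rw [hM'mem] at ha hb
    obtain ⟨i, hi⟩ := Subgroup.mem_zpowers_iff.1 ha
    obtain ⟨j, hj⟩ := Subgroup.mem_zpowers_iff.1 hb
    apply Subtype.ext
    rw [Subgroup.coe_mul, Subgroup.coe_mul, ← hi, ← hj, ← zpow_add, ← zpow_add, add_comm]
  haveI hM'n : M'.Normal := by
    refine ⟨fun m hm h => ?_⟩
    rw [hM'mem] at hm ⊢
    obtain ⟨i, hi⟩ := Subgroup.mem_zpowers_iff.1 hm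
    have h1 : ((h * m * h⁻¹ : H) : G) = ((h : G) * x * (h : G)⁻¹) ^ i := by
      rw [conj_zpow, hi]
      rfl
    rw [h1]
    exact Subgroup.zpow_mem _ (hxn h h.2) i
  have hmap : ∀ g : G, g ∈ M'.map H.subtype ↔ g ∈ Subgroup.zpowers x := by
    intro g
    constructor
    · rintro ⟨m, hm, rfl⟩
      exact (hM'mem m).1 hm
    · intro hg
      exact ⟨⟨g, hzle hg⟩, (hM'mem _).2 hg, rfl⟩
  have horb : ∀ ω : Ω, orbit (M'.map H.subtype) ω = orbit H ω := by
    intro ω
    apply Set.Subset.antisymm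
    · rintro _ ⟨⟨g, hg⟩, rfl⟩
      exact ⟨⟨g, hzle ((hmap g).1 hg)⟩, rfl⟩
    · rintro _ ⟨⟨h, hh⟩, rfl⟩
      show h • ω ∈ orbit (M'.map H.subtype) ω
      by_cases hω : ω = a₀
      · have hha : h • a₀ = a₀ := by
          rw [hHdef, mem_stabilizer_iff] at hh
          exact hh
        refine ⟨1, ?_⟩
        show (1 : M'.map H.subtype) • ω = h • ω
        rw [one_smul, hω, hha]
      · have hω' : h • ω ≠ a₀ := by
          intro hcon
          apply hω
          have h1 : h⁻¹ • a₀ = a₀ := by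
            have := H.inv_mem hh
            rw [hHdef, mem_stabilizer_iff] at this
            exact this
          rw [← hcon, inv_smul_smul] at h1
          exact h1.trans hcon
        obtain ⟨k, hk⟩ := hxtr ω (h • ω) hω hω'
        exact ⟨⟨x ^ k, (hmap _).2 (Subgroup.npow_mem_zpowers x k)⟩, hk⟩
  have hirr : ∀ L : Subgroup G, L ≤ N →
      M'.map H.subtype ≤ Subgroup.normalizer (L : Set G) → L = ⊥ ∨ L = N := by
    intro L hLN hnorm
    by_cases hL : L = ⊥
    · exact Or.inl hL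
    right
    obtain ⟨l, hl1⟩ := (Subgroup.ne_bot_iff_exists_ne_one).1 hL
    have hl1' : (l : G) ≠ 1 := fun h => hl1 (Subtype.ext h)
    apply le_antisymm hLN
    intro n hn
    by_cases hn1 : n = 1
    · rw [hn1]; exact L.one_mem
    · obtain ⟨k, hk⟩ := exists_conj_eq N hreg a₀ x hxa hxtr (hLN l.2) hn hl1' hn1
      rw [← hk]
      have hxk : x ^ k ∈ Subgroup.normalizer (L : Set G) :=
        hnorm ((hmap _).2 (Subgroup.npow_mem_zpowers x k))
      exact (Subgroup.mem_normalizer_iff.1 hxk l).1 l.2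
  letI := commGroupOfComm N hNc
  have hyp := hyp_of_data N hNc htr hreg a₀ M' hMc horb hirr
  haveI : Nontrivial (Additive N) := by
    have : 1 < Nat.card (Additive N) := by
      show 1 < Nat.card N
      rw [hN]; omega
    exact (Finite.one_lt_card_iff_nontrivial).1 this
  have hcardA : Nat.card (Additive N) = 2 ^ q := hq
  have hexp : ∀ v : Additive N, 2 • v = 0 := by
    intro v
    have h1 : (v.toMul : N) ^ 2 = 1 := by
      apply Subtype.ext
      rw [Subgroup.coe_pow, pow_two]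
      exact hsq _ (v.toMul : N).2
    exact h1
  have hcardM' : Nat.card M' = p := by
    rw [hM', Nat.card_congr (Subgroup.subgroupOfEquivOfLe hzle).toEquiv, Nat.card_zpowers, hox]
  refine ⟨?_, ?_⟩
  · obtain ⟨-, hdvd⟩ := hyp.generation hcardA hexp
    rw [hcardM', hH] at hdvd
    have hdq : d ∣ q := Nat.dvd_of_mul_dvd_mul_left hp.pos hdvd
    rcases (Nat.dvd_prime hqprime).1 hdq with h | h
    · exact Or.inl h
    · exact Or.inr h
  · -- the coordinates
    obtain ⟨z, hz1⟩ := exists_ne (0 : Additive N)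
    obtain ⟨E, hEadd, hEsemi⟩ := semiaffine_of_hyp hyp q hq0 hcardA z hz1
    have hbij : Function.Bijective (fun n : N => (n : G) • a₀) := by
      constructor
      · intro a b hab
        exact Subtype.ext (eq_of_smul_eq N hreg a₀ a.2 b.2 hab)
      · intro ω
        obtain ⟨n, hn, hnω⟩ := exists_mem_smul_eq N htr a₀ ω
        exact ⟨⟨n, hn⟩, hnω⟩
    let pt : N ≃ Ω := Equiv.ofBijective _ hbij
    let e : Ω ≃ GaloisField 2 q := pt.symm.trans (Additive.ofMul.trans E)
    have he : ∀ n : N, e ((n : G) • a₀) = E (Additive.ofMul n) := by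
      intro n
      show E (Additive.ofMul (pt.symm (pt n))) = _
      rw [Equiv.symm_apply_apply]
    have hes : ∀ y : GaloisField 2 q, e.symm y = (((E.symm y).toMul : N) : G) • a₀ := by
      intro y
      rfl
    refine ⟨e, ?_⟩
    intro g
    obtain ⟨n, hn, hng⟩ := exists_mem_smul_eq N htr a₀ (g • a₀)
    have hh : n⁻¹ * g ∈ H := by
      rw [hHdef, mem_stabilizer_iff, mul_smul, ← hng, inv_smul_smul]
    obtain ⟨a, φ, hφ⟩ := hEsemi ⟨n⁻¹ * g, hh⟩
    refine ⟨a, E (Additive.ofMul (⟨n, hn⟩ : N)), φ, ?_⟩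
    intro y
    rw [hes]
    set m : N := (E.symm y).toMul with hm
    have h1 : g • ((m : G) • a₀) =
        ((⟨n, hn⟩ * ((conjRep N H ⟨n⁻¹ * g, hh⟩ (Additive.ofMul m)).toMul : N) : N) : G) • a₀ := by
      rw [Subgroup.coe_mul, conjRep_apply]
      show g • ((m : G) • a₀) = (n * ((n⁻¹ * g) * (m : G) * (n⁻¹ * g)⁻¹)) • a₀
      have e1 : ((n⁻¹ * g) * (m : G) * (n⁻¹ * g)⁻¹) • a₀ = (n⁻¹ * g) • ((m : G) • a₀) :=
        conj_smul_of_mem_stabilizer a₀ hh _
      rw [mul_smul n, e1, ← mul_smul n, mul_inv_cancel_left]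
    rw [h1, he]
    have h2 : Additive.ofMul (⟨n, hn⟩ * ((conjRep N H ⟨n⁻¹ * g, hh⟩ (Additive.ofMul m)).toMul : N) : N)
        = Additive.ofMul (⟨n, hn⟩ : N) + conjRep N H ⟨n⁻¹ * g, hh⟩ (Additive.ofMul m) := rfl
    rw [h2, hEadd, add_comm]
    congr 1
    have h3 : Additive.ofMul m = E.symm y := rfl
    rw [h3, hφ]

end

end Cfsg.Agent.Helper27.ZP
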