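import Mathlib
import Cfsg.Prelude.Def_Perm
import Cfsg.Agent.Lib.Helper27.Zp1E
import Cfsg.Agent.Lib.Helper27.Zp1F

set_option autoImplicit false
set_option linter.unusedSectionVars false
set_option linter.style.haveILetI false

/-! The regular normal subgroup case for a transitive group of degree `p + 1` (`caseR`). -/

namespace Cfsg.Agent.Helper27.ZP

open Cfsg.Agent.Helper27.PSLp MulAction

section final

variable {α : Type*} [Fintype α] [DecidableEq α] {p d : ℕ} [hp : Fact p.Prime]
  {G : Subgroup (Equiv.Perm α)}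

/-- the regular normal subgroup case -/
theorem caseR (D : Data G p d) (C : Ctx G p) (hinj : Function.Injective C.ρ) (hp2 : p ≠ 2)
    (N : Subgroup G) [hNn : N.Normal] (hN : Nat.card N = p + 1) :
    ∃ q : ℕ, q.Prime ∧ p + 1 = 2 ^ q ∧ (d = 1 ∨ d = q) ∧
      ∃ e : α ≃ GaloisField 2 q, ∀ g : G,
        (e.symm.trans (((g : Equiv.Perm α)).trans e)) ∈ Cfsg.semiaffineGroup (GaloisField 2 q) := by
  have hp2le := hp.out.two_le
  haveI : FaithfulSMul G α := inferInstance
  have hNb : N ≠ ⊥ := by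
    intro h
    rw [h, Subgroup.card_bot] at hN
    omega
  have htr : IsPretransitive N α := by
    refine ⟨fun a b => ?_⟩
    obtain ⟨R, rfl⟩ := fixPt_surjective D a
    obtain ⟨R', rfl⟩ := fixPt_surjective D b
    obtain ⟨n, hn, hnR⟩ := C.normal_transitive hinj N hNb R R'
    refine ⟨⟨n, hn⟩, ?_⟩
    show n • fixPt D R = fixPt D R'
    rw [← fixPt_smul, hnR]
  have hreg : ∀ ω : α, stabilizer N ω = ⊥ := by
    intro ω
    have e := MulAction.orbitProdStabilizerEquivGroup N ω
    have h1 := Nat.card_congr e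
    rw [Nat.card_prod] at h1
    have h2 : MulAction.orbit N ω = Set.univ := by
      ext b
      simp only [Set.mem_univ, iff_true]
      exact MulAction.exists_smul_eq N ω b
    rw [h2, Nat.card_congr (Equiv.Set.univ _), Nat.card_eq_fintype_card, D.hα, hN] at h1
    have h3 : Nat.card (stabilizer N ω) = 1 := by
      have : (p + 1) * Nat.card (stabilizer N ω) = (p + 1) * 1 := by rw [h1, mul_one]
      exact Nat.eq_of_mul_eq_mul_left (Nat.succ_pos p) this
    exact Subgroup.card_eq_one.1 h3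
  set a₀ : α := fixPt D C.P with ha₀
  have hxa : C.x • a₀ = a₀ := fixPt_spec D C.P C.x C.hxP
  have hxtr : ∀ b c : α, b ≠ a₀ → c ≠ a₀ → ∃ k : ℕ, C.x ^ k • b = c := by
    intro b c hb hc
    obtain ⟨R, rfl⟩ := fixPt_surjective D b
    obtain ⟨R', rfl⟩ := fixPt_surjective D c
    have hR : R ≠ C.P := fun h => hb (by rw [h])
    have hR' : R' ≠ C.P := fun h => hc (by rw [h])
    obtain ⟨j, hj⟩ := C.exists_lab_of_ne hR
    obtain ⟨k, hk⟩ := C.exists_lab_of_ne hR'
    have hjlt : j.val < p := ZMod.val_lt j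
    refine ⟨k.val + (p - j.val), ?_⟩
    rw [← fixPt_smul, ← hj, ← mul_smul, ← pow_add]
    have : k.val + (p - j.val) + j.val = k.val + p := by omega
    rw [this, pow_add, C.hxp, mul_one, hk]
  have hxn : ∀ h ∈ stabilizer G a₀, h * C.x * h⁻¹ ∈ Subgroup.zpowers C.x := by
    intro h hh
    rw [mem_stabilizer_iff] at hh
    have hw : h • C.P = C.P := by
      apply fixPt_injective D
      rw [fixPt_smul]
      exact hh
    obtain ⟨k, hk⟩ := C.exists_conj_pow h hw
    rw [hk]
    exact Subgroup.npow_mem_zpowers _ _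
  haveI := D.htr
  have hH := card_stab (p := p) D.hα D.hG a₀
  obtain ⟨q, hq, hpq, hdq, e, he⟩ := caseR_core N htr hreg a₀ C.x hxa hxtr hxn hp.out hp2 hN C.hox
    hH D.hd0
  refine ⟨q, hq, hpq, hdq, e, ?_⟩
  intro g
  obtain ⟨a, b, φ, h⟩ := he g
  exact ⟨a, b, φ, fun y => h y⟩

end final

end Cfsg.Agent.Helper27.ZP
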