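import Mathlib
import Cfsg.Prelude.Def_Blocks
import Cfsg.Agent.Lib.Helper24.CharLinear
import Cfsg.Agent.Lib.Helper24.CharHom
import Cfsg.Agent.Lib.Helper24.CharAbelian
import Cfsg.Agent.Lib.Helper23.BlockLocal
import Cfsg.Agent.S4730

/-!
# S0997, piece BURN (helper27): in a simple non-abelian group a nonprincipal irreducible character
of `2`-power degree does not lie in the principal `2`-block.

Burnside's vanishing lemma (`Cfsg.Agent.S4730.char_eq_zero_of_coprime_of_faithful`) at a nonidentity
element `z` of the centre of a Sylow `2`-subgroup: the class of `z` has odd size, so `χ z = 0`, the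
central character of `χ` at `z` is `0` while that of the principal character is the odd class size.
-/

set_option autoImplicit false

namespace Cfsg.Agent.Helper21.BT

open scoped ComplexConjugate
open Cfsg Cfsg.Agent.Helper24 Cfsg.Agent.Helper23.Blk

universe u

namespace BURN

variable {G : Type u} [Group G] [Finite G] [IsSimpleGroup G]

/-- a simple group which is not cyclic is not commutative -/
theorem not_comm (hG : ¬ IsCyclic G) : ¬ ∀ a b : G, a * b = b * a := by
  intro h
  apply hG
  letI : CommGroup G := { ‹Group G› with mul_comm := h }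
  exact IsSimpleGroup.isCyclic

/-- the centre of a simple non-cyclic group is trivial -/
theorem center_eq_bot (hG : ¬ IsCyclic G) : Subgroup.center G = ⊥ := by
  rcases (inferInstance : (Subgroup.center G).Normal).eq_bot_or_eq_top with h | h
  · exact h
  · exfalso
    apply not_comm hG
    intro a b
    have ha : a ∈ Subgroup.center G := by rw [h]; exact Subgroup.mem_top a
    exact (Subgroup.mem_center_iff.mp ha b).symm

/-- nonprincipal irreducible characters of a simple group are faithful -/
theorem faithful (χ : IrrCharacter G) (hχ : χ ≠ principalChar G) (g : G)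
    (hg : (χ : G → ℂ) g = (χ : G → ℂ) 1) : g = 1 := by
  classical
  haveI : Fintype G := Fintype.ofFinite G
  have hχc := isCharacter_of_isIrrCharacter χ.2
  rcases (charKer_normal hχc).eq_bot_or_eq_top with h | h
  · have : g ∈ charKer hχc := hg
    rw [h, Subgroup.mem_bot] at this
    exact this
  · exfalso
    have hall : ∀ x : G, (χ : G → ℂ) x = (χ : G → ℂ) 1 := by
      intro x
      have : x ∈ charKer hχc := by rw [h]; exact Subgroup.mem_top x
      exact this
    have hone : IsIrrCharacter G (fun _ : G => (1 : ℂ)) := isIrrCharacter_one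
    have horth := irr_orthogonality χ.2 hone
    have hinner : classInner (χ : G → ℂ) (fun _ : G => (1 : ℂ)) = (χ : G → ℂ) 1 := by
      unfold classInner
      simp only [map_one, mul_one]
      rw [Finset.sum_congr rfl (fun x _ => hall x), Finset.sum_const, Finset.card_univ,
        nsmul_eq_mul, ← Nat.card_eq_fintype_card]
      have hc : (Nat.card G : ℂ) ≠ 0 := by exact_mod_cast Nat.card_pos.ne'
      field_simp
    rw [hinner] at horth
    by_cases heq : (χ : G → ℂ) = fun _ : G => (1 : ℂ)
    · apply hχ
      exact Subtype.ext heq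
    · rw [if_neg heq] at horth
      have h1 := irr_one_eq_charDegree χ.2
      rw [horth] at h1
      have hpos := charDegree_pos χ.2
      have : (charDegree (χ : G → ℂ) : ℂ) = 0 := h1.symm
      have : charDegree (χ : G → ℂ) = 0 := by exact_mod_cast this
      omega

end BURN

/-- PIECE BURN. -/
theorem not_mem_principalBlock_of_two_pow {G : Type u} [Group G] [Finite G] [IsSimpleGroup G]
    (hG : ¬ IsCyclic G) (M : Ideal AlgInt) (hM : IsPModular 2 M) (h2 : 2 ∣ Nat.card G)
    (χ : IrrCharacter G) (hχ : χ ≠ principalChar G) (k : ℕ)
    (hdeg : charDegree (χ : G → ℂ) = 2 ^ k) : χ ∉ principalBlock M G := by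
  classical
  intro hmem
  haveI : Fact (Nat.Prime 2) := ⟨Nat.prime_two⟩
  have hZ := BURN.center_eq_bot hG
  have hfaith := BURN.faithful χ hχ
  let P : Sylow 2 G := default
  -- `P` is nontrivial
  have hPcard : Nat.card P = 2 ^ (Nat.card G).factorization 2 := Sylow.card_eq_multiplicity P
  have hfac : 1 ≤ (Nat.card G).factorization 2 :=
    (Nat.prime_two.dvd_iff_one_le_factorization Nat.card_pos.ne').1 h2
  haveI : Nontrivial P := by
    rw [← Finite.one_lt_card_iff_nontrivial, hPcard]
    exact Nat.one_lt_two_pow (by omega)
  haveI : Nontrivial (Subgroup.center P) := IsPGroup.center_nontrivial P.isPGroup'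
  obtain ⟨⟨c, hc⟩, hne⟩ := exists_ne (1 : Subgroup.center P)
  set z : G := (c : G) with hzdef
  have hz1 : z ≠ 1 := by
    intro h
    apply hne
    apply Subtype.ext
    apply Subtype.ext
    exact h
  have hPle : (P : Subgroup G) ≤ Subgroup.centralizer ({z} : Set G) := by
    intro x hx
    rw [Subgroup.mem_centralizer_singleton_iff]
    have h1 := Subgroup.mem_center_iff.mp hc ⟨x, hx⟩
    have h2 := congrArg Subtype.val h1
    exact h2
  have hnd : ¬ 2 ∣ (Subgroup.centralizer ({z} : Set G)).index := by
    intro hdvd
    exact P.not_dvd_index (dvd_trans hdvd (Subgroup.index_dvd_of_le hPle))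
  have hχz : (χ : G → ℂ) z = 0 := by
    apply Cfsg.Agent.S4730.char_eq_zero_of_coprime_of_faithful hZ χ hfaith z hz1
    rw [hdeg]
    exact Nat.Coprime.pow_left k ((Nat.Prime.coprime_iff_not_dvd Nat.prime_two).2 hnd)
  have hm : MemLocalIdeal M
      (centralChar (fun _ : G => (1 : ℂ)) z - centralChar (χ : G → ℂ) z) := hmem z
  have hval : centralChar (fun _ : G => (1 : ℂ)) z - centralChar (χ : G → ℂ) z =
      ((Subgroup.centralizer ({z} : Set G)).index : ℂ) := by
    unfold centralChar
    rw [hχz]
    simp
  rw [hval, memLocalIdeal_natCast_iff hM] at hm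
  exact hnd hm

end Cfsg.Agent.Helper21.BT
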