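import Mathlib

set_option autoImplicit false

/-! A group acting as a `p`-group on a finite `p`-group `V` acts nilpotently:
`R ≤ ⁅R, A⁆` forces `R = 1` for `R ≤ V`. -/

namespace Cfsg.Agent.Helper27

open scoped commutatorElement

variable {G : Type*} [Group G]

/-- Conjugation action of `A ≤ N(V)` on `V`. -/
def conjAut (V A : Subgroup G) (hAV : A ≤ Subgroup.normalizer (V : Set G)) : A →* MulAut V where
  toFun a :=
    { toFun := fun v => ⟨a * v * (a : G)⁻¹, (Subgroup.le_normalizer_iff.mp hAV) a a.2 v v.2⟩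
      invFun := fun v => ⟨(a : G)⁻¹ * v * a, by
        have := (Subgroup.le_normalizer_iff.mp hAV) (a : G)⁻¹ (A.inv_mem a.2) v v.2
        simpa using this⟩
      left_inv := fun v => by
        apply Subtype.ext
        show (a : G)⁻¹ * (a * v * (a : G)⁻¹) * a = v
        group
      right_inv := fun v => by
        apply Subtype.ext
        show (a : G) * ((a : G)⁻¹ * v * a) * (a : G)⁻¹ = v
        group
      map_mul' := fun v w => by
        apply Subtype.ext
        show (a : G) * (v * w) * (a : G)⁻¹ = (a * v * (a : G)⁻¹) * (a * w * (a : G)⁻¹)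
        group }
  map_one' := by
    ext v
    show ((1 : A) : G) * v * ((1 : A) : G)⁻¹ = v
    simp
  map_mul' a b := by
    ext v
    show ((a * b : A) : G) * v * ((a * b : A) : G)⁻¹ = a * (b * v * (b : G)⁻¹) * (a : G)⁻¹
    simp [mul_assoc]

theorem conjAut_apply (V A : Subgroup G) (hAV : A ≤ Subgroup.normalizer (V : Set G)) (a : A)
    (v : V) : ((conjAut V A hAV a v : V) : G) = a * v * (a : G)⁻¹ := rfl

theorem eq_bot_of_le_commutator [Finite G] {p : ℕ} [Fact p.Prime] (V A : Subgroup G)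
    (hVp : IsPGroup p V) (hAV : A ≤ Subgroup.normalizer (V : Set G))
    (hpow : ∀ a ∈ A, a ^ p ∈ Subgroup.centralizer (V : Set G))
    (R : Subgroup G) (hRV : R ≤ V) (hR : R ≤ ⁅R, A⁆) : R = ⊥ := by
  classical
  set ρ := conjAut V A hAV with hρ
  set P : Subgroup (MulAut V) := ρ.range with hP
  have hPp : IsPGroup p P := by
    rintro ⟨_, a, rfl⟩
    refine ⟨1, ?_⟩
    apply Subtype.ext
    show (ρ a) ^ (p ^ 1) = 1
    rw [pow_one, ← map_pow]
    ext v
    rw [conjAut_apply]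
    have h1 := hpow a a.2 v v.2
    show ((a ^ p : A) : G) * v * ((a ^ p : A) : G)⁻¹ = v
    rw [Subgroup.coe_pow]
    calc (a : G) ^ p * v * ((a : G) ^ p)⁻¹ = (v * (a : G) ^ p) * ((a : G) ^ p)⁻¹ := by rw [h1]
      _ = v := by group
  let S := V ⋊[P.subtype] P
  haveI : Finite S := Finite.of_equiv _ SemidirectProduct.equivProd.symm
  have hSp : IsPGroup p S := by
    obtain ⟨i, hi⟩ := IsPGroup.iff_card.mp hVp
    obtain ⟨j, hj⟩ := IsPGroup.iff_card.mp hPp
    apply IsPGroup.of_card (n := i + j)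
    rw [SemidirectProduct.card, hi, hj, pow_add]
  have hnil : Group.IsNilpotent S := hSp.isNilpotent
  obtain ⟨n, hn⟩ := Subgroup.nilpotent_iff_lowerCentralSeries.mp hnil
  let ι : V →* S := SemidirectProduct.inl
  set R' : Subgroup S := (R.subgroupOf V).map ι with hR'
  have hstep : R' ≤ ⁅R', (⊤ : Subgroup S)⁆ := by
    let Q : Subgroup V := (⁅R', (⊤ : Subgroup S)⁆).comap ι
    have hQ : R ≤ Q.map V.subtype := by
      refine hR.trans ?_
      rw [Subgroup.commutator_le]
      intro r hr a ha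
      have hrV : r ∈ V := hRV hr
      have hcV : ⁅r, a⁆ ∈ V := by
        rw [commutatorElement_def]
        have h1 : a * r⁻¹ * a⁻¹ ∈ V :=
          (Subgroup.le_normalizer_iff.mp hAV) a ha r⁻¹ (V.inv_mem hrV)
        have : r * a * r⁻¹ * a⁻¹ = r * (a * r⁻¹ * a⁻¹) := by group
        rw [this]
        exact V.mul_mem hrV h1
      refine ⟨⟨⁅r, a⁆, hcV⟩, ?_, rfl⟩
      show ι ⟨⁅r, a⁆, hcV⟩ ∈ ⁅R', (⊤ : Subgroup S)⁆
      have hgP : ρ ⟨a, ha⟩ ∈ P := MonoidHom.mem_range.mpr ⟨⟨a, ha⟩, rfl⟩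
      set g : P := ⟨ρ ⟨a, ha⟩, hgP⟩ with hg
      have hkey : ι ⟨⁅r, a⁆, hcV⟩ = ⁅ι ⟨r, hrV⟩, (SemidirectProduct.inr g : S)⁆ := by
        have h2 := SemidirectProduct.inl_aut (φ := P.subtype) g (⟨r, hrV⟩⁻¹ : V)
        have h3 : ⁅ι ⟨r, hrV⟩, (SemidirectProduct.inr g : S)⁆
            = ι ⟨r, hrV⟩ * (SemidirectProduct.inr g *
              ι (⟨r, hrV⟩⁻¹) * SemidirectProduct.inr g⁻¹) := by
          rw [commutatorElement_def, map_inv, map_inv]; group
        rw [h3, ← h2, ← map_mul]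
        congr 1
        apply Subtype.ext
        show r * a * r⁻¹ * a⁻¹ = r * (a * r⁻¹ * a⁻¹)
        group
      rw [hkey]
      exact Subgroup.commutator_mem_commutator ⟨⟨r, hrV⟩, hr, rfl⟩ (Subgroup.mem_top _)
    rintro _ ⟨⟨r, hrV⟩, hr, rfl⟩
    obtain ⟨q, hq, hqr⟩ := hQ hr
    have : q = ⟨r, hrV⟩ := Subtype.ext hqr
    rw [← this]
    exact hq
  have hall : ∀ k : ℕ, R' ≤ (⊤ : Subgroup S).lowerCentralSeries k := by
    intro k
    induction k with
    | zero => exact le_top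
    | succ k ih =>
      rw [Subgroup.lowerCentralSeries_succ]
      exact hstep.trans (Subgroup.commutator_mono ih le_rfl)
  have hR'bot : R' = ⊥ := le_bot_iff.mp (hn ▸ hall n)
  have h1 : R.subgroupOf V = ⊥ :=
    (Subgroup.map_eq_bot_iff_of_injective _ SemidirectProduct.inl_injective).mp hR'bot
  rw [Subgroup.subgroupOf_eq_bot] at h1
  exact le_bot_iff.mp (fun x hx => h1.le_bot ⟨hx, hRV hx⟩)

end Cfsg.Agent.Helper27
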