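import Mathlib

set_option autoImplicit false

/-!
Fixed-point congruences for elements of prime-power order acting on finite sets, used for
excluding orders of simple groups.
-/

namespace Cfsg.Agent.Helper27.FixT

variable {G : Type*} [Group G] {X : Type*} [MulAction G X] [Finite X]

theorem isPGroup_zpowers {p k : ℕ} [Fact p.Prime] (y : G) (hy : y ^ p ^ k = 1) :
    IsPGroup p (Subgroup.zpowers y) := by
  rintro ⟨g, hg⟩
  obtain ⟨n, rfl⟩ := Subgroup.mem_zpowers_iff.1 hg
  refine ⟨k, ?_⟩
  apply Subtype.ext
  simp only [Subgroup.coe_pow, Subgroup.coe_one]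
  rw [← zpow_natCast, ← zpow_mul, mul_comm, zpow_mul, zpow_natCast, hy, one_zpow]

/-- The number of fixed points of an element of `p`-power order is congruent to the number of
points modulo `p`. -/
theorem card_modEq_card_fixedBy {p k : ℕ} [Fact p.Prime] (t : G) (ht : t ^ p ^ k = 1) :
    Nat.card X ≡ Nat.card (MulAction.fixedBy X t) [MOD p] := by
  have h1 := (isPGroup_zpowers t ht).card_modEq_card_fixedPoints X
  have h2 : MulAction.fixedPoints (Subgroup.zpowers t) X = MulAction.fixedBy X t := by
    ext x
    constructor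
    · intro hx
      exact hx ⟨t, Subgroup.mem_zpowers t⟩
    · rintro hx ⟨g, hg⟩
      obtain ⟨n, rfl⟩ := Subgroup.mem_zpowers_iff.1 hg
      exact MulAction.mem_fixedBy_zpow hx n
  rw [h2] at h1
  exact h1

/-- If `y` has `p`-power order, commutes with `t`, and fixes no fixed point of `t`, then the number
of fixed points of `t` is divisible by `p`. -/
theorem dvd_card_fixedBy_of_commute {p k : ℕ} [Fact p.Prime] (t y : G) (hc : Commute t y)
    (hy : y ^ p ^ k = 1) (hfix : ∀ x : X, t • x = x → y • x ≠ x) :
    p ∣ Nat.card (MulAction.fixedBy X t) := by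
  let S : SubMulAction (Subgroup.zpowers y) X :=
    { carrier := MulAction.fixedBy X t
      smul_mem' := by
        rintro ⟨c, hc'⟩ x hx
        obtain ⟨n, rfl⟩ := Subgroup.mem_zpowers_iff.1 hc'
        show t • (y ^ n • x) = y ^ n • x
        rw [smul_smul, ((hc.zpow_right n).eq), ← smul_smul]
        congr 1 }
  have h1 := (isPGroup_zpowers y hy).card_modEq_card_fixedPoints S
  have h2 : IsEmpty (MulAction.fixedPoints (Subgroup.zpowers y) S) := by
    constructor
    rintro ⟨⟨x, hx⟩, hs⟩
    have := hs ⟨y, Subgroup.mem_zpowers y⟩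
    apply hfix x hx
    exact congrArg Subtype.val this
  have h4 : Nat.card (MulAction.fixedPoints (Subgroup.zpowers y) S) = 0 := Nat.card_of_isEmpty
  have h3 : Nat.card S = Nat.card (MulAction.fixedBy X t) := rfl
  rw [h3, h4] at h1
  exact (Nat.modEq_zero_iff_dvd).1 h1

omit [Finite X] in
/-- In a simple group acting nontrivially, an element fixing every point is trivial. -/
theorem eq_one_of_forall_smul_eq [IsSimpleGroup G] (hnt : ∃ (g : G) (x : X), g • x ≠ x) (t : G)
    (ht : ∀ x : X, t • x = x) : t = 1 := by
  rcases ((MulAction.toPermHom G X).normal_ker).eq_bot_or_eq_top with h | h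
  · have : t ∈ (MulAction.toPermHom G X).ker := by
      rw [MonoidHom.mem_ker]
      ext x
      exact ht x
    rw [h] at this
    exact Subgroup.mem_bot.1 this
  · exfalso
    obtain ⟨g, x, hgx⟩ := hnt
    have : g ∈ (MulAction.toPermHom G X).ker := by rw [h]; trivial
    rw [MonoidHom.mem_ker] at this
    apply hgx
    have h2 := congrArg (fun σ : Equiv.Perm X => σ x) this
    simpa using h2

end Cfsg.Agent.Helper27.FixT
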