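import Mathlib
import Cfsg.Agent.Lib.Helper3.SmallOrd
import Cfsg.Agent.Lib.Lead.PermTools
import Cfsg.Agent.Lib.Helper27.FixTools

set_option autoImplicit false
open Cfsg

/-!
No simple group of order 840 (piece O840 of S0496).
-/

namespace Cfsg.Agent.Helper27.Ord

variable {G : Type*} [Group G]

/-- `|C(H)| * |N(H) : C(H)| = |N(H)|`. -/
theorem card_centralizer_mul_relIndex (H : Subgroup G) :
    Nat.card (Subgroup.centralizer (H : Set G)) *
      (Subgroup.centralizer (H : Set G)).relIndex (Subgroup.normalizer (H : Set G)) =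
      Nat.card (Subgroup.normalizer (H : Set G)) := by
  have := Subgroup.relIndex_mul_relIndex (⊥ : Subgroup G) (Subgroup.centralizer (H : Set G))
    (Subgroup.normalizer (H : Set G)) bot_le (Subgroup.centralizer_le_normalizer ..)
  rwa [Subgroup.relIndex_bot_left, Subgroup.relIndex_bot_left] at this

/-- A simple group acts nontrivially on its Sylow `p`-subgroups when the normalizers are proper. -/
theorem exists_smul_sylow_ne {p : ℕ} [Fact p.Prime] (P : Sylow p G)
    (hN : Subgroup.normalizer ((P : Subgroup G) : Set G) ≠ ⊤) :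
    ∃ (g : G) (Q : Sylow p G), g • Q ≠ Q := by
  obtain ⟨g, hg⟩ : ∃ g, g ∉ Subgroup.normalizer ((P : Subgroup G) : Set G) := by
    by_contra hcon
    push Not at hcon
    exact hN (eq_top_iff.2 fun g _ => hcon g)
  exact ⟨g, P, fun hgp => hg (Sylow.smul_eq_iff_mem_normalizer.1 hgp)⟩

end Cfsg.Agent.Helper27.Ord

namespace Cfsg.Agent.Helper3.SmallOrd

variable {G : Type*} [Group G] [Finite G] [IsSimpleGroup G]

theorem no_simple_840 (h : Nat.card G = 840) : False := by
  have hG : ∃ x y : G, x * y ≠ y * x :=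
    Cfsg.Agent.Lead.nonabelian_of_not_prime (by rw [h]; norm_num)
  have hG2 : 2 < Nat.card G := by rw [h]; norm_num
  have : Fact (Nat.Prime 7) := ⟨by norm_num⟩
  have : Fact (Nat.Prime 5) := ⟨by norm_num⟩
  have : Fact (Nat.Prime 2) := ⟨Nat.prime_two⟩
  obtain ⟨h7d, h7m, h7n, h7f, h7P⟩ :=
    basic hG (p := 7) (a := 1) (m := 120) Nat.one_pos (by rw [h]; norm_num) (by norm_num)
  obtain ⟨h5d, h5m, h5n, h5f, h5P⟩ :=
    basic hG (p := 5) (a := 1) (m := 168) Nat.one_pos (by rw [h]; norm_num) (by norm_num)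
  have h7pc := prime_case hG (p := 7) (m := 120) (by rw [h]) (by norm_num)
  have h5pc := prime_case hG (p := 5) (m := 168) (by rw [h]) (by norm_num)
  -- n_5 = 21
  have hn5 : Nat.card (Sylow 5 G) = 21 := by
    obtain ⟨n, hn⟩ : ∃ n, n = Nat.card (Sylow 5 G) := ⟨_, rfl⟩
    rw [← hn] at h5d h5m h5n h5f h5pc ⊢
    rw [h] at h5f
    have hle : n ≤ 168 := Nat.le_of_dvd (by norm_num) h5d
    have hcases : n = 6 ∨ n = 21 ∨ n = 56 := by
      clear h5f h5pc hn h5P
      interval_cases n <;> omega
    rcases hcases with rfl | rfl | rfl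
    · exfalso; revert h5f; decide
    · rfl
    · exfalso; apply h5pc; norm_num
  have hN5 : ∀ Q : Sylow 5 G,
      Nat.card (Subgroup.normalizer ((Q : Subgroup G) : Set G)) = 40 := by
    intro Q
    have := (h5P Q).2
    rw [hn5, h] at this
    omega
  have hQ5 : ∀ Q : Sylow 5 G, Nat.card (Q : Subgroup G) = 5 := fun Q => by
    have := (h5P Q).1
    rwa [pow_one] at this
  -- n_7 is 8 or 15
  have hn7 : Nat.card (Sylow 7 G) = 8 ∨ Nat.card (Sylow 7 G) = 15 := by
    obtain ⟨n, hn⟩ : ∃ n, n = Nat.card (Sylow 7 G) := ⟨_, rfl⟩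
    rw [← hn] at h7d h7m h7n h7pc ⊢
    have hle : n ≤ 120 := Nat.le_of_dvd (by norm_num) h7d
    have hcases : n = 8 ∨ n = 15 ∨ n = 120 := by
      clear h7f h7pc hn h7P
      interval_cases n <;> omega
    rcases hcases with rfl | rfl | rfl
    · left; rfl
    · right; rfl
    · exfalso; apply h7pc; norm_num
  rcases hn7 with hn7 | hn7
  · -- n_7 = 8: an element of order 5 centralizes a Sylow 7-subgroup
    obtain ⟨P⟩ : Nonempty (Sylow 7 G) := inferInstance
    obtain ⟨hP, hNP⟩ := h7P P
    rw [pow_one] at hP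
    rw [hn7, h] at hNP
    have hN : Nat.card (Subgroup.normalizer ((P : Subgroup G) : Set G)) = 105 := by omega
    have hr : (Subgroup.centralizer ((P : Subgroup G) : Set G)).relIndex
        (Subgroup.normalizer ((P : Subgroup G) : Set G)) ∣ 6 :=
      Cfsg.Agent.Lead.relIndex_centralizer_normalizer_dvd P hP
    have hmul := Cfsg.Agent.Helper27.Ord.card_centralizer_mul_relIndex (P : Subgroup G)
    rw [hN] at hmul
    have h5C : 5 ∣ Nat.card (Subgroup.centralizer ((P : Subgroup G) : Set G)) := by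
      obtain ⟨r, hr'⟩ : ∃ r, r = (Subgroup.centralizer ((P : Subgroup G) : Set G)).relIndex
        (Subgroup.normalizer ((P : Subgroup G) : Set G)) := ⟨_, rfl⟩
      obtain ⟨c, hc⟩ : ∃ c, c = Nat.card (Subgroup.centralizer ((P : Subgroup G) : Set G)) :=
        ⟨_, rfl⟩
      rw [← hr'] at hr hmul
      rw [← hc] at hmul ⊢
      have hr6 : r ≤ 6 := Nat.le_of_dvd (by norm_num) hr
      clear hr' hc
      interval_cases r <;> omega
    obtain ⟨y, hy⟩ := exists_prime_orderOf_dvd_card'
      (G := Subgroup.centralizer ((P : Subgroup G) : Set G)) 5 h5C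
    have hy5 : orderOf (y : G) = 5 := by rw [Subgroup.orderOf_coe]; exact hy
    have hQcard : Nat.card (Subgroup.zpowers (y : G)) = 5 := by rw [Nat.card_zpowers, hy5]
    have hPN : (P : Subgroup G) ≤
        Subgroup.normalizer ((Subgroup.zpowers (y : G) : Subgroup G) : Set G) := by
      have h1 : Subgroup.zpowers (y : G) ≤ Subgroup.centralizer ((P : Subgroup G) : Set G) :=
        (Subgroup.zpowers_le).2 y.2
      have h2 : (P : Subgroup G) ≤
          Subgroup.centralizer ((Subgroup.zpowers (y : G) : Subgroup G) : Set G) :=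
        Subgroup.le_centralizer_iff.1 h1
      exact h2.trans (Subgroup.centralizer_le_normalizer ..)
    have hpg : IsPGroup 5 (Subgroup.zpowers (y : G)) :=
      IsPGroup.of_card (n := 1) (by rw [hQcard, pow_one])
    obtain ⟨S, hS⟩ := hpg.exists_le_sylow
    have hSQ : Subgroup.zpowers (y : G) = (S : Subgroup G) :=
      Subgroup.eq_of_le_of_card_ge hS (by rw [hQ5 S, hQcard])
    have h7 : 7 ∣ Nat.card
        (Subgroup.normalizer ((Subgroup.zpowers (y : G) : Subgroup G) : Set G)) := by
      have := Subgroup.card_dvd_of_le hPN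
      rwa [hP] at this
    rw [hSQ, hN5 S] at h7
    omega
  · -- n_7 = 15
    have hN7 : ∀ P : Sylow 7 G,
        Nat.card (Subgroup.normalizer ((P : Subgroup G) : Set G)) = 56 := by
      intro P
      have := (h7P P).2
      rw [hn7, h] at this
      omega
    obtain ⟨Q⟩ : Nonempty (Sylow 5 G) := inferInstance
    have hQ := hQ5 Q
    have hr : (Subgroup.centralizer ((Q : Subgroup G) : Set G)).relIndex
        (Subgroup.normalizer ((Q : Subgroup G) : Set G)) ∣ 4 :=
      Cfsg.Agent.Lead.relIndex_centralizer_normalizer_dvd Q hQ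
    have hmul := Cfsg.Agent.Helper27.Ord.card_centralizer_mul_relIndex (Q : Subgroup G)
    rw [hN5 Q] at hmul
    have h2C : 2 ∣ Nat.card (Subgroup.centralizer ((Q : Subgroup G) : Set G)) := by
      obtain ⟨r, hr'⟩ : ∃ r, r = (Subgroup.centralizer ((Q : Subgroup G) : Set G)).relIndex
        (Subgroup.normalizer ((Q : Subgroup G) : Set G)) := ⟨_, rfl⟩
      obtain ⟨c, hc⟩ : ∃ c, c = Nat.card (Subgroup.centralizer ((Q : Subgroup G) : Set G)) :=
        ⟨_, rfl⟩
      rw [← hr'] at hr hmul
      rw [← hc] at hmul ⊢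
      have hr4 : r ≤ 4 := Nat.le_of_dvd (by norm_num) hr
      clear hr' hc
      interval_cases r <;> omega
    obtain ⟨t, ht⟩ := exists_prime_orderOf_dvd_card'
      (G := Subgroup.centralizer ((Q : Subgroup G) : Set G)) 2 h2C
    obtain ⟨y, hy⟩ := exists_prime_orderOf_dvd_card' (G := (Q : Subgroup G)) 5 (by rw [hQ])
    have ht2 : orderOf (t : G) = 2 := by rw [Subgroup.orderOf_coe]; exact ht
    have hy5 : orderOf (y : G) = 5 := by rw [Subgroup.orderOf_coe]; exact hy
    have hc : Commute (t : G) (y : G) :=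
      ((Subgroup.mem_centralizer_iff.1 t.2) (y : G) y.2).symm
    have htt : (t : G) ^ 2 = 1 := by
      have := pow_orderOf_eq_one (t : G)
      rwa [ht2] at this
    have hyy : (y : G) ^ 5 = 1 := by
      have := pow_orderOf_eq_one (y : G)
      rwa [hy5] at this
    have ha := Cfsg.Agent.Helper27.FixT.card_modEq_card_fixedBy (X := Sylow 7 G) (p := 2) (k := 1)
      (t : G) (by rw [pow_one]; exact htt)
    have hb := Cfsg.Agent.Helper27.FixT.dvd_card_fixedBy_of_commute (X := Sylow 7 G) (p := 5)
      (k := 1) (t : G) (y : G) hc (by rw [pow_one]; exact hyy) (by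
        intro P _ hyP
        have h1 : (y : G) ∈ Subgroup.normalizer ((P : Subgroup G) : Set G) :=
          Sylow.smul_eq_iff_mem_normalizer.1 hyP
        have h2 := Subgroup.orderOf_dvd_natCard _ h1
        rw [hy5, hN7 P] at h2
        omega)
    have hd := Cfsg.Agent.Lead.involution_even_of_simple hG2 (X := Sylow 7 G) (t : G) htt
    have hle : Nat.card (MulAction.fixedBy (Sylow 7 G) (t : G)) ≤ Nat.card (Sylow 7 G) :=
      Finite.card_subtype_le _
    obtain ⟨f, hf⟩ : ∃ f, f = Nat.card (MulAction.fixedBy (Sylow 7 G) (t : G)) := ⟨_, rfl⟩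
    rw [← hf] at ha hb hd hle
    rw [hn7] at ha hd hle
    have hcases : f = 5 ∨ f = 15 := by
      unfold Nat.ModEq at ha
      clear hd hf
      interval_cases f <;> omega
    rcases hcases with rfl | rfl
    · revert hd; decide
    · have hall : ∀ P : Sylow 7 G, (t : G) • P = P := by
        intro P
        by_contra hP
        have h1 := Finite.card_subtype_lt
          (p := fun P : Sylow 7 G => P ∈ MulAction.fixedBy (Sylow 7 G) (t : G)) (x := P) hP
        have h2 : Nat.card {P : Sylow 7 G // P ∈ MulAction.fixedBy (Sylow 7 G) (t : G)} = 15 :=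
          hf.symm
        rw [h2, hn7] at h1
        omega
      obtain ⟨P0⟩ : Nonempty (Sylow 7 G) := inferInstance
      have hNt := Cfsg.Agent.Lead.sylow_normalizer_ne_top hG (p := 7) (by rw [h]; norm_num) P0
      have ht1 := Cfsg.Agent.Helper27.FixT.eq_one_of_forall_smul_eq (X := Sylow 7 G)
        (Cfsg.Agent.Helper27.Ord.exists_smul_sylow_ne P0 hNt) (t : G) hall
      rw [ht1, orderOf_one] at ht2
      omega

end Cfsg.Agent.Helper3.SmallOrd
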