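import Mathlib
import Cfsg.Prelude.Def_Sporadic_a

set_option autoImplicit false
set_option linter.unusedSectionVars false

/-! A strongly regular graph with parameters `(100,22,0,6)` is the point-block graph of a Steiner system `S(3,6,22)` on the neighbours of any vertex; isomorphic families have isomorphic point-block graphs. -/

namespace Cfsg.Agent.Helper27.HSGraph


open Finset

section Basic

variable {V : Type*} [Fintype V] [DecidableEq V] {G : SimpleGraph V} [DecidableRel G.Adj]

/-- Common neighbours as a finset. -/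
def cn (G : SimpleGraph V) [DecidableRel G.Adj] (u w : V) : Finset V :=
  univ.filter (fun z => G.Adj u z ∧ G.Adj w z)

theorem mem_cn {u w z : V} : z ∈ cn G u w ↔ G.Adj u z ∧ G.Adj w z := by
  simp [cn]

theorem card_cn (u w : V) : (cn G u w).card = Fintype.card (G.commonNeighbors u w) := by
  symm
  apply Fintype.card_of_subtype
  intro z
  rw [mem_cn]
  exact (G.mem_commonNeighbors).symm

variable (hG : G.IsSRGWith 100 22 0 6)
include hG

theorem no_triangle {a b c : V} (hab : G.Adj a b) (hac : G.Adj a c) (hbc : G.Adj b c) : False := by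
  have h0 : (cn G a b).card = 0 := by rw [card_cn]; exact hG.of_adj a b hab
  rw [card_eq_zero] at h0
  have : c ∈ cn G a b := mem_cn.mpr ⟨hac, hbc⟩
  rw [h0] at this
  exact absurd this (notMem_empty c)

theorem card_cn_six {u w : V} (hne : u ≠ w) (hna : ¬ G.Adj u w) : (cn G u w).card = 6 := by
  rw [card_cn]; exact hG.of_not_adj hne hna

theorem card_nbr (v : V) : (G.neighborFinset v).card = 22 := hG.regular v

end Basic




open Finset

section Local

variable {V : Type*} [Fintype V] [DecidableEq V] {G : SimpleGraph V} [DecidableRel G.Adj]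

/-- The non-neighbours of `v₀` other than `v₀`. -/
def Q (G : SimpleGraph V) [DecidableRel G.Adj] (v₀ : V) : Finset V :=
  univ.filter (fun x => x ≠ v₀ ∧ ¬ G.Adj v₀ x)

theorem mem_Q {v₀ x : V} : x ∈ Q G v₀ ↔ x ≠ v₀ ∧ ¬ G.Adj v₀ x := by
  simp [Q]

/-- The block of a vertex: its neighbours among the neighbours of `v₀`. -/
def bl (G : SimpleGraph V) [DecidableRel G.Adj] (v₀ x : V) : Finset V := cn G x v₀

theorem mem_bl {v₀ x z : V} : z ∈ bl G v₀ x ↔ G.Adj x z ∧ G.Adj v₀ z := mem_cn

variable (hG : G.IsSRGWith 100 22 0 6) (v₀ : V)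
include hG

theorem card_bl {x : V} (hx : x ∈ Q G v₀) : (bl G v₀ x).card = 6 := by
  rw [mem_Q] at hx
  exact card_cn_six hG hx.1 (fun h => hx.2 h.symm)

theorem card_Q : (Q G v₀).card = 77 := by
  have h1 : (univ : Finset V) = insert v₀ (G.neighborFinset v₀ ∪ Q G v₀) := by
    ext z
    simp only [mem_univ, mem_insert, mem_union, SimpleGraph.mem_neighborFinset, mem_Q, true_iff]
    by_cases h : z = v₀
    · exact Or.inl h
    · by_cases h' : G.Adj v₀ z
      · exact Or.inr (Or.inl h')
      · exact Or.inr (Or.inr ⟨h, h'⟩)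
  have h2 : v₀ ∉ G.neighborFinset v₀ ∪ Q G v₀ := by
    simp [mem_Q]
  have h3 : Disjoint (G.neighborFinset v₀) (Q G v₀) := by
    rw [disjoint_left]
    intro z hz hz'
    rw [SimpleGraph.mem_neighborFinset] at hz
    exact (mem_Q.mp hz').2 hz
  have h4 := congrArg Finset.card h1
  rw [card_univ, hG.card, card_insert_of_notMem h2, card_union_of_disjoint h3, card_nbr hG] at h4
  omega

theorem card_through {a : V} (ha : G.Adj v₀ a) :
    ((Q G v₀).filter (fun y => G.Adj y a)).card = 21 := by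
  have h1 : G.neighborFinset a = insert v₀ ((Q G v₀).filter (fun y => G.Adj y a)) := by
    ext z
    simp only [SimpleGraph.mem_neighborFinset, mem_insert, mem_filter, mem_Q]
    constructor
    · intro hz
      by_cases h : z = v₀
      · exact Or.inl h
      · refine Or.inr ⟨⟨h, fun h' => no_triangle hG ha h' hz⟩, hz.symm⟩
    · rintro (h | h)
      · rw [h]; exact ha.symm
      · exact h.2.symm
  have h2 : v₀ ∉ (Q G v₀).filter (fun y => G.Adj y a) := by
    simp [mem_Q]
  have h3 := congrArg Finset.card h1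
  rw [card_nbr hG, card_insert_of_notMem h2] at h3
  omega

theorem card_through_two {a b : V} (ha : G.Adj v₀ a) (hb : G.Adj v₀ b) (hab : a ≠ b) :
    ((Q G v₀).filter (fun y => G.Adj y a ∧ G.Adj y b)).card = 5 := by
  have hnab : ¬ G.Adj a b := fun h => no_triangle hG ha hb h
  have h1 : cn G a b = insert v₀ ((Q G v₀).filter (fun y => G.Adj y a ∧ G.Adj y b)) := by
    ext z
    simp only [mem_cn, mem_insert, mem_filter, mem_Q]
    constructor
    · rintro ⟨hza, hzb⟩
      by_cases h : z = v₀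
      · exact Or.inl h
      · refine Or.inr ⟨⟨h, fun h' => no_triangle hG ha h' hza⟩, hza.symm, hzb.symm⟩
    · rintro (h | h)
      · rw [h]; exact ⟨ha.symm, hb.symm⟩
      · exact ⟨h.2.1.symm, h.2.2.symm⟩
  have h2 : v₀ ∉ (Q G v₀).filter (fun y => G.Adj y a ∧ G.Adj y b) := by
    simp [mem_Q]
  have h3 := congrArg Finset.card h1
  rw [card_cn_six hG hab hnab, card_insert_of_notMem h2] at h3
  omega

theorem card_nbr_Q {x : V} (hx : x ∈ Q G v₀) :
    ((Q G v₀).filter (fun y => G.Adj x y)).card = 16 := by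
  have hx' := mem_Q.mp hx
  have h1 : G.neighborFinset x = bl G v₀ x ∪ (Q G v₀).filter (fun y => G.Adj x y) := by
    ext z
    simp only [SimpleGraph.mem_neighborFinset, mem_union, mem_bl, mem_filter, mem_Q]
    constructor
    · intro hz
      by_cases h : G.Adj v₀ z
      · exact Or.inl ⟨hz, h⟩
      · refine Or.inr ⟨⟨?_, h⟩, hz⟩
        rintro rfl
        exact hx'.2 hz.symm
    · rintro (h | h)
      · exact h.1
      · exact h.2
  have h2 : Disjoint (bl G v₀ x) ((Q G v₀).filter (fun y => G.Adj x y)) := by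
    rw [disjoint_left]
    intro z hz hz'
    exact (mem_Q.mp (mem_filter.mp hz').1).2 (mem_bl.mp hz).2
  have h3 := congrArg Finset.card h1
  rw [card_nbr hG, card_union_of_disjoint h2, card_bl hG v₀ hx] at h3
  omega

theorem disjoint_bl_of_adj {x y : V} (hxy : G.Adj x y) : Disjoint (bl G v₀ x) (bl G v₀ y) := by
  rw [disjoint_left]
  intro z hz hz'
  exact no_triangle hG hxy (mem_bl.mp hz).1 (mem_bl.mp hz').1

end Local




open Finset

section Count

variable {V : Type*} [Fintype V] [DecidableEq V] {G : SimpleGraph V} [DecidableRel G.Adj]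

theorem bl_inter (v₀ x y : V) :
    bl G v₀ x ∩ bl G v₀ y = (bl G v₀ x).filter (fun a => G.Adj y a) := by
  ext z
  simp only [mem_inter, mem_bl, mem_filter]
  tauto

variable (hG : G.IsSRGWith 100 22 0 6) (v₀ : V)
include hG

theorem sum_inter {x : V} (hx : x ∈ Q G v₀) :
    ∑ y ∈ Q G v₀, (bl G v₀ x ∩ bl G v₀ y).card = 126 := by
  have h1 : ∀ y ∈ Q G v₀, (bl G v₀ x ∩ bl G v₀ y).card
      = ∑ a ∈ bl G v₀ x, if G.Adj y a then 1 else 0 := by
    intro y _
    rw [bl_inter, card_filter]
  rw [sum_congr rfl h1, sum_comm]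
  have h2 : ∀ a ∈ bl G v₀ x, (∑ y ∈ Q G v₀, if G.Adj y a then 1 else 0) = 21 := by
    intro a ha
    rw [← card_filter]
    exact card_through hG v₀ (mem_bl.mp ha).2
  rw [sum_congr rfl h2, sum_const, card_bl hG v₀ hx]
  rfl

theorem sum_inter_sq {x : V} (hx : x ∈ Q G v₀) :
    ∑ y ∈ Q G v₀, (bl G v₀ x ∩ bl G v₀ y).card * (bl G v₀ x ∩ bl G v₀ y).card = 276 := by
  have h1 : ∀ y ∈ Q G v₀, (bl G v₀ x ∩ bl G v₀ y).card * (bl G v₀ x ∩ bl G v₀ y).card
      = ∑ p ∈ bl G v₀ x ×ˢ bl G v₀ x, if G.Adj y p.1 ∧ G.Adj y p.2 then 1 else 0 := by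
    intro y _
    rw [bl_inter, ← card_product, ← filter_product, card_filter]
  rw [sum_congr rfl h1, sum_comm]
  have h2 : ∀ p ∈ (bl G v₀ x).diag,
      (∑ y ∈ Q G v₀, if G.Adj y p.1 ∧ G.Adj y p.2 then 1 else 0) = 21 := by
    intro p hp
    rw [mem_diag] at hp
    rw [← card_filter, ← card_through hG v₀ (mem_bl.mp hp.1).2]
    congr 1
    apply filter_congr
    intro y _
    rw [← hp.2]
    tauto
  have h3 : ∀ p ∈ (bl G v₀ x).offDiag,
      (∑ y ∈ Q G v₀, if G.Adj y p.1 ∧ G.Adj y p.2 then 1 else 0) = 5 := by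
    intro p hp
    rw [mem_offDiag] at hp
    rw [← card_filter]
    exact card_through_two hG v₀ (mem_bl.mp hp.1).2 (mem_bl.mp hp.2.1).2 hp.2.2
  rw [← diag_union_offDiag, sum_union (disjoint_diag_offDiag _), sum_congr rfl h2,
    sum_congr rfl h3, sum_const, sum_const, diag_card, offDiag_card, card_bl hG v₀ hx]
  rfl

/-- Two non-adjacent vertices outside `v₀ ∪ Γ(v₀)` have blocks meeting in exactly two points. -/
theorem card_inter_two {x y : V} (hx : x ∈ Q G v₀) (hy : y ∈ Q G v₀) (hne : y ≠ x)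
    (hna : ¬ G.Adj x y) : (bl G v₀ x ∩ bl G v₀ y).card = 2 := by
  set f : V → ℤ := fun y => (((bl G v₀ x ∩ bl G v₀ y).card : ℤ) - 2) ^ 2 with hf
  have hfnn : ∀ y, 0 ≤ f y := fun y => sq_nonneg _
  -- the total
  have htot : ∑ y ∈ Q G v₀, f y = 80 := by
    have e1 : ∀ y ∈ Q G v₀, f y
        = (((bl G v₀ x ∩ bl G v₀ y).card * (bl G v₀ x ∩ bl G v₀ y).card : ℕ) : ℤ)
          - 4 * ((bl G v₀ x ∩ bl G v₀ y).card : ℤ) + 4 := by
      intro y _
      rw [hf]; push_cast; ring
    rw [sum_congr rfl e1, sum_add_distrib, sum_sub_distrib, ← Nat.cast_sum, ← mul_sum,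
      ← Nat.cast_sum, sum_inter_sq hG v₀ hx, sum_inter hG v₀ hx, sum_const, card_Q hG v₀]
    norm_num
  -- split off `x`
  have hsplit1 := sum_filter_add_sum_filter_not (Q G v₀) (fun y => y = x) f
  have hx1 : (Q G v₀).filter (fun y => y = x) = {x} := by
    rw [filter_eq', if_pos hx]
  have hfx : f x = 16 := by
    rw [hf]
    simp only [inter_self]
    rw [card_bl hG v₀ hx]; norm_num
  rw [hx1, sum_singleton, hfx, htot] at hsplit1
  -- split off the neighbours
  have hsplit2 := sum_filter_add_sum_filter_not ((Q G v₀).filter (fun y => ¬ y = x))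
    (fun y => G.Adj x y) f
  have hN : ((Q G v₀).filter (fun y => ¬ y = x)).filter (fun y => G.Adj x y)
      = (Q G v₀).filter (fun y => G.Adj x y) := by
    ext z
    simp only [mem_filter]
    constructor
    · rintro ⟨⟨h1, _⟩, h3⟩; exact ⟨h1, h3⟩
    · rintro ⟨h1, h3⟩
      exact ⟨⟨h1, fun e => G.loopless.irrefl x (e ▸ h3)⟩, h3⟩
  have hNsum : ∑ y ∈ (Q G v₀).filter (fun y => G.Adj x y), f y = 64 := by
    have : ∀ y ∈ (Q G v₀).filter (fun y => G.Adj x y), f y = 4 := by
      intro y hy
      have hd := disjoint_bl_of_adj hG v₀ (mem_filter.mp hy).2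
      rw [hf]
      simp only
      rw [disjoint_iff_inter_eq_empty.mp hd]
      norm_num
    rw [sum_congr rfl this, sum_const, card_nbr_Q hG v₀ hx]
    norm_num
  rw [hN, hNsum] at hsplit2
  have hR : ∑ y ∈ ((Q G v₀).filter (fun y => ¬ y = x)).filter (fun y => ¬ G.Adj x y), f y = 0 := by
    linarith
  have hyR : y ∈ ((Q G v₀).filter (fun y => ¬ y = x)).filter (fun y => ¬ G.Adj x y) := by
    simp only [mem_filter]
    exact ⟨⟨hy, hne⟩, hna⟩
  have := (sum_eq_zero_iff_of_nonneg (fun y _ => hfnn y)).mp hR y hyR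
  rw [hf] at this
  simp only at this
  have h2 : ((bl G v₀ x ∩ bl G v₀ y).card : ℤ) - 2 = 0 := by
    exact pow_eq_zero_iff (two_ne_zero) |>.mp this
  omega

end Count




open Finset

section Design

variable {V : Type*} [Fintype V] [DecidableEq V] {G : SimpleGraph V} [DecidableRel G.Adj]

variable (hG : G.IsSRGWith 100 22 0 6) (v₀ : V)
include hG

/-- Distinct vertices of `Q` have blocks meeting in 0 or 2 points. -/
theorem card_inter_le {x y : V} (hx : x ∈ Q G v₀) (hy : y ∈ Q G v₀) (hne : y ≠ x) :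
    (bl G v₀ x ∩ bl G v₀ y).card ≤ 2 := by
  by_cases h : G.Adj x y
  · rw [disjoint_iff_inter_eq_empty.mp (disjoint_bl_of_adj hG v₀ h)]
    simp
  · rw [card_inter_two hG v₀ hx hy hne h]

theorem bl_injOn {x y : V} (hx : x ∈ Q G v₀) (hy : y ∈ Q G v₀) (h : bl G v₀ x = bl G v₀ y) :
    x = y := by
  by_contra hne
  have := card_inter_le hG v₀ hx hy (fun e => hne e.symm)
  rw [← h, inter_self, card_bl hG v₀ hx] at this
  omega

/-- Any three neighbours of `v₀` lie in a common block. -/
theorem exists_block {a b c : V} (ha : G.Adj v₀ a) (hb : G.Adj v₀ b) (hc : G.Adj v₀ c)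
    (hab : a ≠ b) (hac : a ≠ c) (hbc : b ≠ c) :
    ∃ y ∈ Q G v₀, a ∈ bl G v₀ y ∧ b ∈ bl G v₀ y ∧ c ∈ bl G v₀ y := by
  set Y := (Q G v₀).filter (fun y => G.Adj y a ∧ G.Adj y b) with hY
  have hYcard : Y.card = 5 := card_through_two hG v₀ ha hb hab
  have hYmem : ∀ y ∈ Y, y ∈ Q G v₀ ∧ a ∈ bl G v₀ y ∧ b ∈ bl G v₀ y := by
    intro y hy
    rw [hY, mem_filter] at hy
    exact ⟨hy.1, mem_bl.mpr ⟨hy.2.1, ha⟩, mem_bl.mpr ⟨hy.2.2, hb⟩⟩
  set D : V → Finset V := fun y => ((bl G v₀ y).erase a).erase b with hD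
  have hDcard : ∀ y ∈ Y, (D y).card = 4 := by
    intro y hy
    obtain ⟨hyQ, hay, hby⟩ := hYmem y hy
    rw [hD]
    simp only
    rw [card_erase_of_mem (mem_erase.mpr ⟨hab.symm, hby⟩), card_erase_of_mem hay,
      card_bl hG v₀ hyQ]
  have hdisj : (Y : Set V).PairwiseDisjoint D := by
    intro y hy y' hy' hne
    obtain ⟨hyQ, hay, hby⟩ := hYmem y hy
    obtain ⟨hyQ', hay', hby'⟩ := hYmem y' hy'
    have hle := card_inter_le hG v₀ hyQ hyQ' (fun e => hne e.symm)
    have hsub : ({a, b} : Finset V) ⊆ bl G v₀ y ∩ bl G v₀ y' := by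
      intro z hz
      rw [mem_insert, mem_singleton] at hz
      rcases hz with rfl | rfl
      · exact mem_inter.mpr ⟨hay, hay'⟩
      · exact mem_inter.mpr ⟨hby, hby'⟩
    have hab2 : ({a, b} : Finset V).card = 2 := card_pair hab
    have heq : ({a, b} : Finset V) = bl G v₀ y ∩ bl G v₀ y' :=
      eq_of_subset_of_card_le hsub (by rw [hab2]; exact hle)
    show Disjoint (D y) (D y')
    rw [disjoint_left]
    intro z hz hz'
    rw [hD] at hz hz'
    simp only [mem_erase] at hz hz'
    have : z ∈ ({a, b} : Finset V) := by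
      rw [heq]; exact mem_inter.mpr ⟨hz.2.2, hz'.2.2⟩
    rw [mem_insert, mem_singleton] at this
    rcases this with h | h
    · exact hz.2.1 h
    · exact hz.1 h
  have hsub : Y.biUnion D ⊆ ((G.neighborFinset v₀).erase a).erase b := by
    intro z hz
    obtain ⟨y, _, hzy⟩ := mem_biUnion.mp hz
    rw [hD] at hzy
    simp only [mem_erase] at hzy ⊢
    exact ⟨hzy.1, hzy.2.1, (G.mem_neighborFinset v₀ z).mpr (mem_bl.mp hzy.2.2).2⟩
  have hcardU : (Y.biUnion D).card = 20 := by
    rw [card_biUnion hdisj, sum_congr rfl hDcard, sum_const, hYcard]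
    rfl
  have hcardP : (((G.neighborFinset v₀).erase a).erase b).card = 20 := by
    rw [card_erase_of_mem (mem_erase.mpr ⟨hab.symm, (G.mem_neighborFinset v₀ b).mpr hb⟩),
      card_erase_of_mem ((G.mem_neighborFinset v₀ a).mpr ha), card_nbr hG]
  have heq := eq_of_subset_of_card_le hsub (by rw [hcardU, hcardP])
  have hcmem : c ∈ ((G.neighborFinset v₀).erase a).erase b := by
    simp only [mem_erase]
    exact ⟨hbc.symm, hac.symm, (G.mem_neighborFinset v₀ c).mpr hc⟩
  rw [← heq] at hcmem
  obtain ⟨y, hy, hcy⟩ := mem_biUnion.mp hcmem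
  obtain ⟨hyQ, hay, hby⟩ := hYmem y hy
  refine ⟨y, hyQ, hay, hby, ?_⟩
  rw [hD] at hcy
  simp only [mem_erase] at hcy
  exact hcy.2.2

end Design




open Finset

section Steiner

variable {V : Type*} [Fintype V] [DecidableEq V] {G : SimpleGraph V} [DecidableRel G.Adj]

/-- The points: the neighbours of `v₀`. -/
abbrev Pt (G : SimpleGraph V) (v₀ : V) : Type _ := {a : V // G.Adj v₀ a}

/-- The block of a vertex, as a set of points. -/
def blA (G : SimpleGraph V) [DecidableRel G.Adj] (v₀ x : V) : Finset (Pt G v₀) :=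
  (bl G v₀ x).subtype (fun a => G.Adj v₀ a)

theorem mem_blA {v₀ x : V} {a : Pt G v₀} : a ∈ blA G v₀ x ↔ G.Adj x a.1 := by
  rw [blA, mem_subtype, mem_bl]
  exact ⟨fun h => h.1, fun h => ⟨h, a.2⟩⟩

theorem card_blA_inter (v₀ x y : V) :
    (blA G v₀ x ∩ blA G v₀ y).card = (bl G v₀ x ∩ bl G v₀ y).card := by
  have : blA G v₀ x ∩ blA G v₀ y = (bl G v₀ x ∩ bl G v₀ y).subtype (fun a => G.Adj v₀ a) := by
    ext a
    simp only [mem_inter, blA, mem_subtype]
  rw [this, card_subtype]
  congr 1
  apply filter_true_of_mem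
  intro z hz
  exact (mem_bl.mp (mem_inter.mp hz).1).2

theorem card_blA (v₀ x : V) : (blA G v₀ x).card = (bl G v₀ x).card := by
  have := card_blA_inter (G := G) v₀ x x
  rwa [inter_self, inter_self] at this

/-- The family of blocks. -/
def blocks (G : SimpleGraph V) [DecidableRel G.Adj] (v₀ : V) : Set (Finset (Pt G v₀)) :=
  {b | ∃ x ∈ Q G v₀, b = blA G v₀ x}

variable (hG : G.IsSRGWith 100 22 0 6) (v₀ : V)
include hG

theorem card_Pt : Fintype.card (Pt G v₀) = 22 := by
  rw [Fintype.card_subtype, ← card_nbr hG v₀, SimpleGraph.neighborFinset_eq_filter]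

theorem blA_injOn {x y : V} (hx : x ∈ Q G v₀) (hy : y ∈ Q G v₀) (h : blA G v₀ x = blA G v₀ y) :
    x = y := by
  by_contra hne
  have := card_inter_le hG v₀ hx hy (fun e => hne e.symm)
  rw [← card_blA_inter, ← h, inter_self, card_blA, card_bl hG v₀ hx] at this
  omega

theorem steiner_blocks : Cfsg.IsSteinerSystem 3 6 (blocks G v₀) := by
  constructor
  · rintro b ⟨x, hx, rfl⟩
    rw [card_blA, card_bl hG v₀ hx]
  · intro s hs
    obtain ⟨a, b, c, hab, hac, hbc, rfl⟩ := card_eq_three.mp hs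
    have hab' : a.1 ≠ b.1 := fun h => hab (Subtype.ext h)
    have hac' : a.1 ≠ c.1 := fun h => hac (Subtype.ext h)
    have hbc' : b.1 ≠ c.1 := fun h => hbc (Subtype.ext h)
    obtain ⟨y, hyQ, hay, hby, hcy⟩ := exists_block hG v₀ a.2 b.2 c.2 hab' hac' hbc'
    refine ⟨blA G v₀ y, ⟨⟨y, hyQ, rfl⟩, ?_⟩, ?_⟩
    · intro z hz
      simp only [mem_insert, mem_singleton] at hz
      rw [mem_blA]
      rcases hz with rfl | rfl | rfl
      · exact (mem_bl.mp hay).1
      · exact (mem_bl.mp hby).1
      · exact (mem_bl.mp hcy).1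
    · rintro _ ⟨⟨x, hxQ, rfl⟩, hsub⟩
      by_contra hne
      have hxy : x ≠ y := fun e => hne (by rw [e])
      have h1 := card_inter_le hG v₀ hyQ hxQ hxy
      rw [← card_blA_inter] at h1
      have h2 : ({a, b, c} : Finset (Pt G v₀)) ⊆ blA G v₀ y ∩ blA G v₀ x := by
        intro z hz
        rw [mem_inter]
        refine ⟨?_, hsub hz⟩
        simp only [mem_insert, mem_singleton] at hz
        rw [mem_blA]
        rcases hz with rfl | rfl | rfl
        · exact (mem_bl.mp hay).1
        · exact (mem_bl.mp hby).1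
        · exact (mem_bl.mp hcy).1
      have := card_le_card h2
      rw [hs] at this
      omega

end Steiner




open Finset

section Iso

variable {V : Type*} [Fintype V] [DecidableEq V] {G : SimpleGraph V} [DecidableRel G.Adj]

/-- The map from the vertices to the vertices of the point-block graph. -/
def toPB (G : SimpleGraph V) [DecidableRel G.Adj] (v₀ : V) (v : V) :
    Option (Pt G v₀ ⊕ blocks G v₀) :=
  if h : v = v₀ then none
  else if h' : G.Adj v₀ v then some (Sum.inl ⟨v, h'⟩)
  else some (Sum.inr ⟨blA G v₀ v, ⟨v, mem_Q.mpr ⟨h, h'⟩, rfl⟩⟩)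

theorem toPB_self (v₀ : V) : toPB G v₀ v₀ = none := by
  simp [toPB]

theorem toPB_pt {v₀ a : V} (h : G.Adj v₀ a) : toPB G v₀ a = some (Sum.inl ⟨a, h⟩) := by
  have : a ≠ v₀ := fun e => G.loopless.irrefl v₀ (e ▸ h)
  simp [toPB, this, h]

theorem toPB_blk {v₀ x : V} (h : x ∈ Q G v₀) :
    toPB G v₀ x = some (Sum.inr ⟨blA G v₀ x, ⟨x, h, rfl⟩⟩) := by
  have h' := mem_Q.mp h
  simp [toPB, h'.1, h'.2]

theorem cases_vertex (v₀ v : V) : v = v₀ ∨ G.Adj v₀ v ∨ v ∈ Q G v₀ := by
  by_cases h : v = v₀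
  · exact Or.inl h
  · by_cases h' : G.Adj v₀ v
    · exact Or.inr (Or.inl h')
    · exact Or.inr (Or.inr (mem_Q.mpr ⟨h, h'⟩))

variable (hG : G.IsSRGWith 100 22 0 6) (v₀ : V)
include hG

theorem toPB_bijective : Function.Bijective (toPB G v₀) := by
  constructor
  · intro u w huw
    rcases cases_vertex (G := G) v₀ u with hu | hu | hu <;>
      rcases cases_vertex (G := G) v₀ w with hw | hw | hw
    · rw [hu, hw]
    · rw [hu, toPB_self, toPB_pt hw] at huw; exact absurd huw (by simp)
    · rw [hu, toPB_self, toPB_blk hw] at huw; exact absurd huw (by simp)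
    · rw [hw, toPB_self, toPB_pt hu] at huw; exact absurd huw (by simp)
    · rw [toPB_pt hu, toPB_pt hw] at huw
      simpa using huw
    · rw [toPB_pt hu, toPB_blk hw] at huw; exact absurd huw (by simp)
    · rw [hw, toPB_self, toPB_blk hu] at huw; exact absurd huw (by simp)
    · rw [toPB_pt hw, toPB_blk hu] at huw; exact absurd huw (by simp)
    · rw [toPB_blk hu, toPB_blk hw] at huw
      have h1 := Sum.inr.inj (Option.some.inj huw)
      exact blA_injOn hG v₀ hu hw (congrArg Subtype.val h1)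
  · rintro (_ | a | ⟨b, x, hx, rfl⟩)
    · exact ⟨v₀, toPB_self v₀⟩
    · exact ⟨a.1, toPB_pt a.2⟩
    · exact ⟨x, toPB_blk hx⟩

theorem toPB_adj (u w : V) :
    (Cfsg.pointBlockGraph (blocks G v₀)).Adj (toPB G v₀ u) (toPB G v₀ w) ↔ G.Adj u w := by
  have hinj := (toPB_bijective hG v₀).1
  rw [Cfsg.pointBlockGraph, SimpleGraph.fromRel_adj]
  by_cases huw : u = w
  · subst huw
    simp
  have hne : toPB G v₀ u ≠ toPB G v₀ w := fun e => huw (hinj e)
  simp only [ne_eq, hne, not_false_eq_true, true_and]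
  rcases cases_vertex (G := G) v₀ u with hu | hu | hu <;>
    rcases cases_vertex (G := G) v₀ w with hw | hw | hw
  · exact absurd (hu.trans hw.symm) huw
  · subst hu
    rw [toPB_self, toPB_pt hw]
    simp [Cfsg.pointBlockRel, hw]
  · subst hu
    rw [toPB_self, toPB_blk hw]
    simp [Cfsg.pointBlockRel, (mem_Q.mp hw).2]
  · subst hw
    rw [toPB_self, toPB_pt hu]
    simp [Cfsg.pointBlockRel, hu.symm]
  · rw [toPB_pt hu, toPB_pt hw]
    simp only [Cfsg.pointBlockRel, or_self, false_iff]
    exact fun h => no_triangle hG hu hw h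
  · rw [toPB_pt hu, toPB_blk hw]
    simp only [Cfsg.pointBlockRel, or_false]
    rw [mem_blA]
    exact ⟨fun h => h.symm, fun h => h.symm⟩
  · subst hw
    rw [toPB_self, toPB_blk hu]
    have := (mem_Q.mp hu).2
    simp only [Cfsg.pointBlockRel, or_self, false_iff]
    exact fun h => this h.symm
  · rw [toPB_pt hw, toPB_blk hu]
    simp only [Cfsg.pointBlockRel, false_or]
    rw [mem_blA]
  · rw [toPB_blk hu, toPB_blk hw]
    simp only [Cfsg.pointBlockRel]
    have hsymm : Disjoint (blA G v₀ w) (blA G v₀ u) ↔ Disjoint (blA G v₀ u) (blA G v₀ w) :=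
      disjoint_comm
    rw [hsymm, or_self]
    constructor
    · intro hd
      by_contra hna
      have h2 := card_inter_two hG v₀ hu hw (fun e => huw e.symm) hna
      rw [← card_blA_inter, disjoint_iff_inter_eq_empty.mp hd] at h2
      simp at h2
    · intro hadj
      have hd := disjoint_bl_of_adj hG v₀ hadj
      rw [disjoint_iff_inter_eq_empty, ← card_eq_zero, card_blA_inter, card_eq_zero,
        ← disjoint_iff_inter_eq_empty]
      exact hd

/-- A strongly regular graph with parameters `(100, 22, 0, 6)` is the point-block graph of the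
Steiner system on the neighbours of any vertex. -/
noncomputable def isoPB : G ≃g Cfsg.pointBlockGraph (blocks G v₀) where
  toEquiv := Equiv.ofBijective (toPB G v₀) (toPB_bijective hG v₀)
  map_rel_iff' := by
    intro u w
    exact toPB_adj hG v₀ u w

end Iso




open Finset

section Congr

variable {α β : Type*} [DecidableEq α] [DecidableEq β]

/-- The bijection between the members of two isomorphic families. -/
noncomputable def blockEquiv {B : Set (Finset α)} {B' : Set (Finset β)} (e : α ≃ β)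
    (h : (fun b : Finset α => b.image e) '' B = B') : B ≃ B' :=
  Equiv.ofBijective (fun b => ⟨b.1.image e, h ▸ ⟨b.1, b.2, rfl⟩⟩) (by
    constructor
    · intro b c hbc
      apply Subtype.ext
      exact Finset.image_injective e.injective (congrArg Subtype.val hbc)
    · rintro ⟨c, hc⟩
      rw [← h] at hc
      obtain ⟨b, hb, hbc⟩ := hc
      exact ⟨⟨b, hb⟩, Subtype.ext hbc⟩)

theorem blockEquiv_val {B : Set (Finset α)} {B' : Set (Finset β)} (e : α ≃ β)
    (h : (fun b : Finset α => b.image e) '' B = B') (b : B) :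
    (blockEquiv e h b).1 = b.1.image e := rfl

theorem pbRel_congr {B : Set (Finset α)} {B' : Set (Finset β)} (e : α ≃ β)
    (h : (fun b : Finset α => b.image e) '' B = B') (p q : Option (α ⊕ B)) :
    Cfsg.pointBlockRel B' (Equiv.optionCongr (Equiv.sumCongr e (blockEquiv e h)) p)
      (Equiv.optionCongr (Equiv.sumCongr e (blockEquiv e h)) q) ↔ Cfsg.pointBlockRel B p q := by
  rcases p with _ | a | b <;> rcases q with _ | a' | b' <;>
    simp only [Equiv.optionCongr_apply, Option.map_none, Option.map_some, Equiv.sumCongr_apply,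
      Sum.map_inl, Sum.map_inr, Cfsg.pointBlockRel]
  · rw [blockEquiv_val]
    exact Function.Injective.mem_finset_image e.injective
  · rw [blockEquiv_val, blockEquiv_val]
    exact Finset.disjoint_image e.injective

/-- Isomorphic families have isomorphic point-block graphs. -/
noncomputable def pbgCongr {B : Set (Finset α)} {B' : Set (Finset β)} (e : α ≃ β)
    (h : (fun b : Finset α => b.image e) '' B = B') :
    Cfsg.pointBlockGraph B ≃g Cfsg.pointBlockGraph B' where
  toEquiv := Equiv.optionCongr (Equiv.sumCongr e (blockEquiv e h))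
  map_rel_iff' := by
    intro p q
    rw [Cfsg.pointBlockGraph, Cfsg.pointBlockGraph, SimpleGraph.fromRel_adj,
      SimpleGraph.fromRel_adj, pbRel_congr, pbRel_congr]
    rw [(Equiv.optionCongr (Equiv.sumCongr e (blockEquiv e h))).injective.ne_iff]

end Congr


end Cfsg.Agent.Helper27.HSGraph
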