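import Mathlib
import Cfsg.Prelude.Def_Sporadic_a

set_option autoImplicit false
set_option linter.unusedSectionVars false

/-! Uniqueness of the Witt designs, generic part: families of subsets of `Fin n` given by lists, a kernel-checkable pruned search classifying the sets with prescribed intersection parities, completion of a family by a class of candidates, and the one-point extension step. -/

namespace Cfsg.Agent.Helper27.Witt


theorem nbeq_iff (x y : ℕ) : Nat.beq x y = true ↔ x = y :=
  ⟨Nat.eq_of_beq_eq_true, fun h => h ▸ Nat.beq_refl x⟩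

/-- Membership test on lists of naturals using the kernel-accelerated `Nat.beq`. -/
def memb (x : ℕ) : List ℕ → Bool
  | [] => false
  | y :: ys => Nat.beq x y || memb x ys

theorem memb_iff (x : ℕ) (ys : List ℕ) : memb x ys = true ↔ x ∈ ys := by
  induction ys with
  | nil => simp [memb]
  | cons y ys ih =>
    rw [memb, Bool.or_eq_true, ih, List.mem_cons, nbeq_iff]

/-- Equality test on lists of naturals. -/
def leq : List ℕ → List ℕ → Bool
  | [], [] => true
  | x :: xs, y :: ys => Nat.beq x y && leq xs ys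
  | _, _ => false

theorem leq_iff (xs ys : List ℕ) : leq xs ys = true ↔ xs = ys := by
  induction xs generalizing ys with
  | nil => cases ys <;> simp [leq]
  | cons x xs ih =>
    cases ys with
    | nil => simp [leq]
    | cons y ys =>
      rw [leq, Bool.and_eq_true, ih, nbeq_iff, List.cons.injEq]

/-- Membership test on lists of lists. -/
def lmem (xs : List ℕ) : List (List ℕ) → Bool
  | [] => false
  | y :: ys => leq xs y || lmem xs ys

theorem lmem_iff (xs : List ℕ) (L : List (List ℕ)) : lmem xs L = true ↔ xs ∈ L := by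
  induction L with
  | nil => simp [lmem]
  | cons y ys ih =>
    rw [lmem, Bool.or_eq_true, ih, List.mem_cons, leq_iff]

/-- The subset of `Fin n` given by a list of naturals. -/
def ofL (n : ℕ) (xs : List ℕ) : Finset (Fin n) := Finset.univ.filter (fun i => i.val ∈ xs)

theorem mem_ofL {n : ℕ} {xs : List ℕ} {i : Fin n} : i ∈ ofL n xs ↔ i.val ∈ xs := by
  simp [ofL]

/-- The family of subsets of `Fin n` given by a list of lists. -/
def famO (n : ℕ) (DL : List (List ℕ)) : Set (Finset (Fin n)) := {X | ∃ ys ∈ DL, X = ofL n ys}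

theorem mem_famO {n : ℕ} {DL : List (List ℕ)} {X : Finset (Fin n)} :
    X ∈ famO n DL ↔ ∃ ys ∈ DL, X = ofL n ys := Iff.rfl

theorem famO_append (n : ℕ) (D E : List (List ℕ)) : famO n (D ++ E) = famO n D ∪ famO n E := by
  ext X
  simp only [mem_famO, Set.mem_union, List.mem_append]
  constructor
  · rintro ⟨ys, h | h, rfl⟩
    · exact Or.inl ⟨ys, h, rfl⟩
    · exact Or.inr ⟨ys, h, rfl⟩
  · rintro (⟨ys, h, rfl⟩ | ⟨ys, h, rfl⟩)
    · exact ⟨ys, Or.inl h, rfl⟩
    · exact ⟨ys, Or.inr h, rfl⟩

/-- The number of elements of the first list that lie in the second. -/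
def cntL (xs ys : List ℕ) : ℕ := xs.countP (fun x => memb x ys)

theorem ofL_cons {n : ℕ} (x : ℕ) (hx : x < n) (xs : List ℕ) :
    ofL n (x :: xs) = insert ⟨x, hx⟩ (ofL n xs) := by
  ext i
  simp only [mem_ofL, List.mem_cons, Finset.mem_insert, Fin.ext_iff]

theorem card_inter_ofL {n : ℕ} (xs ys : List ℕ) (hnd : xs.Nodup) (hlt : ∀ x ∈ xs, x < n) :
    (ofL n xs ∩ ofL n ys).card = cntL xs ys := by
  induction xs with
  | nil =>
    have : ofL n [] = ∅ := by
      ext i; simp [mem_ofL]
    simp [this, cntL]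
  | cons x xs ih =>
    have hx : x < n := hlt x List.mem_cons_self
    have hnd' := List.nodup_cons.mp hnd
    have ih' := ih hnd'.2 (fun y hy => hlt y (List.mem_cons_of_mem _ hy))
    have hxn : (⟨x, hx⟩ : Fin n) ∉ ofL n xs := by
      rw [mem_ofL]; exact hnd'.1
    rw [ofL_cons x hx, cntL, List.countP_cons]
    by_cases hm : memb x ys = true
    · have : (⟨x, hx⟩ : Fin n) ∈ ofL n ys := by rw [mem_ofL]; exact (memb_iff _ _).mp hm
      rw [Finset.insert_inter_of_mem this, Finset.card_insert_of_notMem, ih', cntL, if_pos hm]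
      intro h
      exact hxn (Finset.mem_inter.mp h).1
    · have : (⟨x, hx⟩ : Fin n) ∉ ofL n ys := by
        rw [mem_ofL]; intro h; exact hm ((memb_iff _ _).mpr h)
      rw [Finset.insert_inter_of_notMem this, ih', cntL, if_neg hm, Nat.add_zero]

theorem card_ofL {n : ℕ} (xs : List ℕ) (hnd : xs.Nodup) (hlt : ∀ x ∈ xs, x < n) :
    (ofL n xs).card = xs.length := by
  induction xs with
  | nil =>
    have : ofL n [] = ∅ := by
      ext i; simp [mem_ofL]
    simp [this]
  | cons x xs ih =>
    have hx : x < n := hlt x List.mem_cons_self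
    have hnd' := List.nodup_cons.mp hnd
    have ih' := ih hnd'.2 (fun y hy => hlt y (List.mem_cons_of_mem _ hy))
    have hxn : (⟨x, hx⟩ : Fin n) ∉ ofL n xs := by
      rw [mem_ofL]; exact hnd'.1
    rw [ofL_cons x hx, Finset.card_insert_of_notMem hxn, ih', List.length_cons]




/-- Pruned search over the sublists of a list of `(point, incidence, future incidences)`
with `k` elements: at the leaves with accumulated parity vector `tgt`, the accumulated
list must be in `EL`. -/
def dfs (tgt : ℕ) (EL : List (List ℕ)) : List (ℕ × ℕ × ℕ) → ℕ → ℕ → List ℕ → Bool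
  | _, 0, par, acc => bif Nat.beq par tgt then lmem acc EL else true
  | [], _ + 1, _, _ => true
  | (x, ix, fx) :: rest, k + 1, par, acc =>
      bif Nat.beq (Nat.lor (Nat.xor par tgt) fx) fx then
        dfs tgt EL rest (k + 1) par acc && dfs tgt EL rest k (Nat.xor par ix) (x :: acc)
      else true

/-- Every incidence vector in a tail of the list is contained in the future vector at the
head of that tail. -/
def GoodL : List (ℕ × ℕ × ℕ) → Prop
  | [] => True
  | e :: rest => (∀ e' ∈ e :: rest, e'.2.1 ||| e.2.2 = e.2.2) ∧ GoodL rest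

theorem fold_xor_eq {β : Type*} (f : β → ℕ) (ys : List β) (par : ℕ) :
    ys.foldl (fun p e => p ^^^ f e) par = par ^^^ ys.foldl (fun p e => p ^^^ f e) 0 := by
  induction ys generalizing par with
  | nil => simp
  | cons y ys ih =>
    rw [List.foldl_cons, List.foldl_cons, ih, ih (0 ^^^ f y), Nat.zero_xor, Nat.xor_assoc]

theorem lor_xor_subset (a b F : ℕ) (ha : a ||| F = F) (hb : b ||| F = F) :
    (a ^^^ b) ||| F = F := by
  apply Nat.eq_of_testBit_eq
  intro i
  have ha' := congrArg (fun m => Nat.testBit m i) ha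
  have hb' := congrArg (fun m => Nat.testBit m i) hb
  simp only [Nat.testBit_lor, Nat.testBit_xor] at ha' hb' ⊢
  revert ha' hb'
  cases a.testBit i <;> cases b.testBit i <;> cases F.testBit i <;> simp

theorem fold_subset {β : Type*} (f : β → ℕ) (ys : List β) (F : ℕ)
    (h : ∀ e ∈ ys, f e ||| F = F) :
    (ys.foldl (fun p e => p ^^^ f e) 0) ||| F = F := by
  induction ys with
  | nil => simp
  | cons y ys ih =>
    rw [List.foldl_cons, fold_xor_eq, Nat.zero_xor]
    exact lor_xor_subset _ _ _ (h y List.mem_cons_self)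
      (ih (fun e he => h e (List.mem_cons_of_mem _ he)))

theorem dfs_sound (tgt : ℕ) (EL : List (List ℕ)) :
    ∀ (l : List (ℕ × ℕ × ℕ)) (k par : ℕ) (acc : List ℕ), GoodL l →
      dfs tgt EL l k par acc = true →
      ∀ ys : List (ℕ × ℕ × ℕ), ys.Sublist l → ys.length = k →
        ys.foldl (fun p e => p ^^^ e.2.1) par = tgt →
        (ys.reverse.map (fun e => e.1) ++ acc) ∈ EL := by
  intro l
  induction l with
  | nil =>
    intro k par acc _ hd ys hys hlen hfold
    have hys' : ys = [] := List.sublist_nil.mp hys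
    subst hys'
    simp only [List.length_nil] at hlen
    subst hlen
    simp only [List.foldl_nil] at hfold
    rw [dfs] at hd
    have : Nat.beq par tgt = true := (nbeq_iff _ _).mpr hfold
    rw [this, cond_true] at hd
    simpa using (lmem_iff _ _).mp hd
  | cons e rest ih =>
    intro k par acc hg hd ys hys hlen hfold
    obtain ⟨x, ix, fx⟩ := e
    cases k with
    | zero =>
      have hys' : ys = [] := List.eq_nil_of_length_eq_zero hlen
      subst hys'
      simp only [List.foldl_nil] at hfold
      rw [dfs] at hd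
      have : Nat.beq par tgt = true := (nbeq_iff _ _).mpr hfold
      rw [this, cond_true] at hd
      simpa using (lmem_iff _ _).mp hd
    | succ k =>
      rw [dfs] at hd
      by_cases htest : Nat.beq (Nat.lor (Nat.xor par tgt) fx) fx = true
      · rw [htest, cond_true, Bool.and_eq_true] at hd
        rcases List.sublist_cons_iff.mp hys with h1 | ⟨ys', rfl, h2⟩
        · exact ih (k + 1) par acc hg.2 hd.1 ys h1 hlen hfold
        · have hlen' : ys'.length = k := by simpa using hlen
          have hfold' : ys'.foldl (fun p e => p ^^^ e.2.1) (Nat.xor par ix) = tgt := by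
            simpa using hfold
          have := ih k (Nat.xor par ix) (x :: acc) hg.2 hd.2 ys' h2 hlen' hfold'
          simpa using this
      · exfalso
        apply htest
        rw [nbeq_iff]
        have hZ : (ys.foldl (fun p e => p ^^^ e.2.1) 0) ||| fx = fx := by
          apply fold_subset
          intro e he
          exact hg.1 e (hys.subset he)
        rw [fold_xor_eq] at hfold
        have : par ^^^ tgt = ys.foldl (fun p e => p ^^^ e.2.1) 0 := by
          rw [← hfold, ← Nat.xor_assoc, Nat.xor_self, Nat.zero_xor]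
        show (par ^^^ tgt) ||| fx = fx
        rw [this]
        exact hZ

/-- The incidence vector of a point against a list of blocks. -/
def incOf : List (List ℕ) → ℕ → ℕ
  | [], _ => 0
  | ys :: rest, x => Nat.bit (memb x ys) (incOf rest x)

/-- The target parity vector: all parities equal to `r`. -/
def tgtR : List (List ℕ) → Bool → ℕ
  | [], _ => 0
  | _ :: rest, r => Nat.bit r (tgtR rest r)

theorem fold_bit {β : Type*} (f : β → Bool) (g : β → ℕ) (xs : List β) (b : Bool) (m : ℕ) :
    xs.foldl (fun p x => p ^^^ Nat.bit (f x) (g x)) (Nat.bit b m)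
      = Nat.bit (xs.foldl (fun c x => xor c (f x)) b) (xs.foldl (fun p x => p ^^^ g x) m) := by
  induction xs generalizing b m with
  | nil => simp
  | cons x xs ih =>
    rw [List.foldl_cons, List.foldl_cons, List.foldl_cons, Nat.xor_bit, ih]

theorem fold_bool_parity {β : Type*} (f : β → Bool) (xs : List β) (b : Bool) :
    xs.foldl (fun c x => xor c (f x)) b = xor b (decide (xs.countP f % 2 = 1)) := by
  induction xs generalizing b with
  | nil => simp
  | cons x xs ih =>
    rw [List.foldl_cons, ih, List.countP_cons]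
    cases hf : f x
    · simp
    · simp only [if_true]
      by_cases hn : List.countP f xs % 2 = 1
      · have : ¬ ((List.countP f xs + 1) % 2 = 1) := by omega
        simp [hn, this]
      · have : ((List.countP f xs + 1) % 2 = 1) := by omega
        simp [hn, this]

theorem fold_inc (DS : List (List ℕ)) (xs : List ℕ) (r : Bool)
    (h : ∀ ys ∈ DS, decide (cntL xs ys % 2 = 1) = r) :
    xs.foldl (fun p x => p ^^^ incOf DS x) 0 = tgtR DS r := by
  induction DS with
  | nil =>
    simp only [incOf, tgtR]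
    induction xs with
    | nil => rfl
    | cons x xs _ => simp
  | cons ys rest ih =>
    have h0 : (0 : ℕ) = Nat.bit false 0 := by simp
    simp only [incOf, tgtR]
    rw [h0, fold_bit, fold_bool_parity, ih (fun zs hzs => h zs (List.mem_cons_of_mem _ hzs))]
    have := h ys List.mem_cons_self
    rw [cntL] at this
    rw [this, Bool.false_xor]

/-- The future vector at the head of a list. -/
def futOf : List (ℕ × ℕ × ℕ) → ℕ
  | [] => 0
  | e :: _ => e.2.2

/-- The search list of a list of points. -/
def mkLP (DS : List (List ℕ)) : List ℕ → List (ℕ × ℕ × ℕ)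
  | [] => []
  | x :: xs => (x, incOf DS x, Nat.lor (incOf DS x) (futOf (mkLP DS xs))) :: mkLP DS xs

theorem goodL_head (l : List (ℕ × ℕ × ℕ)) (h : GoodL l) : ∀ e ∈ l, e.2.1 ||| futOf l = futOf l := by
  cases l with
  | nil => intro e he; cases he
  | cons e rest => exact h.1

theorem goodL_mkLP (DS : List (List ℕ)) (pts : List ℕ) : GoodL (mkLP DS pts) := by
  induction pts with
  | nil => trivial
  | cons x xs ih =>
    refine ⟨?_, ih⟩
    intro e he
    rcases List.mem_cons.mp he with rfl | he
    · show incOf DS x ||| (incOf DS x ||| futOf (mkLP DS xs)) = _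
      show incOf DS x ||| (incOf DS x ||| futOf (mkLP DS xs)) = incOf DS x ||| futOf (mkLP DS xs)
      rw [← Nat.lor_assoc, Nat.or_self]
    · have := goodL_head _ ih e he
      show e.2.1 ||| (incOf DS x ||| futOf (mkLP DS xs)) = incOf DS x ||| futOf (mkLP DS xs)
      rw [Nat.lor_comm (incOf DS x), ← Nat.lor_assoc, this]

theorem mkLP_map_fst (DS : List (List ℕ)) (pts : List ℕ) :
    (mkLP DS pts).map (fun e => e.1) = pts := by
  induction pts with
  | nil => rfl
  | cons x xs ih => simp [mkLP, ih]

theorem mkLP_inc (DS : List (List ℕ)) (pts : List ℕ) :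
    ∀ e ∈ mkLP DS pts, e.2.1 = incOf DS e.1 := by
  induction pts with
  | nil => intro e he; cases he
  | cons x xs ih =>
    intro e he
    rcases List.mem_cons.mp he with rfl | he
    · rfl
    · exact ih e he




theorem foldl_xor_congr {β : Type*} (f g : β → ℕ) (l : List β) (a : ℕ)
    (h : ∀ e ∈ l, f e = g e) :
    l.foldl (fun p e => p ^^^ f e) a = l.foldl (fun p e => p ^^^ g e) a := by
  induction l generalizing a with
  | nil => rfl
  | cons e l ih =>
    rw [List.foldl_cons, List.foldl_cons, h e List.mem_cons_self]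
    exact ih _ (fun e' he' => h e' (List.mem_cons_of_mem _ he'))

/-- Classification by the kernel-checked search: a `k`-subset of the given points with the
prescribed intersection parities with all blocks of `DS` is one of the listed sets. -/
theorem classify {n : ℕ} (k : ℕ) (pts : List ℕ) (DS ELall : List (List ℕ)) (r : Bool)
    (LP : List (ℕ × ℕ × ℕ)) (tgt : ℕ) (hpts : pts.Nodup)
    (hLP : LP = mkLP DS pts) (htgt : tgt = tgtR DS r)
    (hdfs : dfs tgt ELall LP k 0 [] = true)
    (X : Finset (Fin n)) (hX : ∀ i ∈ X, i.val ∈ pts) (hcard : X.card = k)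
    (hpar : ∀ ys ∈ DS, decide ((X ∩ ofL n ys).card % 2 = 1) = r) :
    X ∈ famO n ELall := by
  classical
  set p : ℕ → Bool := fun m => decide (∃ i ∈ X, i.val = m) with hp
  set xs := pts.filter p with hxs
  set ysE := (mkLP DS pts).filter (fun e => p e.1) with hysE
  have ha : ysE.Sublist LP := by
    rw [hLP]; exact List.filter_sublist
  have hb : ysE.map (fun e => e.1) = xs := by
    rw [hxs, hysE]
    conv_rhs => rw [← mkLP_map_fst DS pts, List.filter_map]
    rfl
  have hnd : xs.Nodup := hpts.filter _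
  have hmem : ∀ x, x ∈ xs ↔ x ∈ pts ∧ ∃ i ∈ X, i.val = x := by
    intro x
    rw [hxs, List.mem_filter, hp]
    simp
  have hlt : ∀ x ∈ xs, x < n := by
    intro x hx
    obtain ⟨_, i, _, rfl⟩ := (hmem x).mp hx
    exact i.isLt
  have hd : X = ofL n xs := by
    ext i
    rw [mem_ofL, hmem]
    constructor
    · intro hi
      exact ⟨hX i hi, i, hi, rfl⟩
    · rintro ⟨_, j, hj, hji⟩
      have : j = i := Fin.ext hji
      rw [← this]; exact hj
  have he : xs.length = k := by
    rw [← card_ofL xs hnd hlt, ← hd, hcard]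
  have hlen : ysE.length = k := by
    rw [← he, ← hb, List.length_map]
  have hf : ysE.foldl (fun p e => p ^^^ e.2.1) 0 = tgt := by
    have h1 : ysE.foldl (fun p e => p ^^^ e.2.1) 0
        = ysE.foldl (fun p e => p ^^^ incOf DS e.1) 0 := by
      apply foldl_xor_congr
      intro e he'
      exact mkLP_inc DS pts e (List.mem_of_mem_filter he')
    have h2 : ysE.foldl (fun p e => p ^^^ incOf DS e.1) 0
        = xs.foldl (fun p x => p ^^^ incOf DS x) 0 := by
      rw [← hb, List.foldl_map]
    rw [h1, h2, htgt]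
    apply fold_inc
    intro ys hys
    rw [← card_inter_ofL xs ys hnd hlt, ← hd]
    exact hpar ys hys
  have := dfs_sound tgt ELall LP k 0 [] (by rw [hLP]; exact goodL_mkLP DS pts) hdfs ysE ha hlen hf
  rw [List.append_nil, List.map_reverse, hb] at this
  refine ⟨xs.reverse, this, ?_⟩
  rw [hd]
  ext i
  simp [mem_ofL]

/-- Completion of a family of sets: if the part `K` of the family `F` is known, the other
members are classified into pairwise incompatible classes `E j` by their intersections with
the members of `K`, and the sizes fit, then `F` is `K` together with one class. -/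
theorem family_completion {β : Type*} [Fintype β] [DecidableEq β] {ι : Type*} [Nonempty ι]
    (F K : Set (Finset β)) (E : ι → Set (Finset β))
    (A : ℕ → Prop) (Q : Finset β → Prop)
    (hKF : K ⊆ F)
    (hA : ∀ X ∈ F, ∀ Y ∈ F, X ≠ Y → A (X ∩ Y).card)
    (hQ : ∀ X ∈ F, X ∉ K → Q X)
    (hC1 : ∀ X, Q X → (∀ Y ∈ K, A (X ∩ Y).card) → ∃ j, X ∈ E j)
    (hC2 : ∀ i j, ∀ X ∈ E i, ∀ X' ∈ E j, A (X ∩ X').card → i = j)
    (hcount : ∀ j, (E j).ncard + K.ncard ≤ F.ncard) :
    ∃ j, F = K ∪ E j := by
  classical
  have hfin : ∀ S : Set (Finset β), S.Finite := fun S => Set.toFinite S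
  have hcl : ∀ X ∈ F, X ∉ K → ∃ j, X ∈ E j := by
    intro X hX hXK
    apply hC1 X (hQ X hX hXK)
    intro Y hY
    apply hA X hX Y (hKF hY)
    rintro rfl
    exact hXK hY
  have hdiff : (F \ K).ncard + K.ncard = F.ncard := by
    rw [Set.ncard_sdiff_add_ncard_of_subset hKF (hfin _)]
  by_cases hne : ∃ X, X ∈ F ∧ X ∉ K
  · obtain ⟨X0, hX0, hX0K⟩ := hne
    obtain ⟨j0, hj0⟩ := hcl X0 hX0 hX0K
    refine ⟨j0, ?_⟩
    have hsub : F \ K ⊆ E j0 := by
      rintro X ⟨hX, hXK⟩
      obtain ⟨j, hj⟩ := hcl X hX hXK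
      by_cases hXX : X = X0
      · rw [hXX]; exact hj0
      · have := hC2 j j0 X hj X0 hj0 (hA X hX X0 hX0 hXX)
        rw [← this]; exact hj
    have heq : F \ K = E j0 := by
      apply Set.eq_of_subset_of_ncard_le hsub _ (hfin _)
      have := hcount j0
      omega
    rw [← heq, Set.union_sdiff_cancel hKF]
  · push Not at hne
    obtain ⟨j⟩ := ‹Nonempty ι›
    refine ⟨j, ?_⟩
    have hFK : F = K := Set.Subset.antisymm (fun X hX => hne X hX) hKF
    have h0 : (E j).ncard = 0 := by
      have := hcount j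
      rw [hFK] at this
      omega
    have : E j = ∅ := (Set.ncard_eq_zero (hfin _)).mp h0
    rw [this, Set.union_empty, hFK]

/-- The number of sets in a listed family is at most the length of the list. -/
theorem ncard_famO_le (n : ℕ) (DL : List (List ℕ)) : (famO n DL).ncard ≤ DL.length := by
  classical
  have : famO n DL ⊆ ((DL.map (ofL n)).toFinset : Set (Finset (Fin n))) := by
    rintro X ⟨ys, hys, rfl⟩
    simp only [Finset.mem_coe, List.mem_toFinset, List.mem_map]
    exact ⟨ys, hys, rfl⟩
  calc (famO n DL).ncard ≤ ((DL.map (ofL n)).toFinset : Set (Finset (Fin n))).ncard :=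
        Set.ncard_le_ncard this (Finset.finite_toSet _)
    _ = (DL.map (ofL n)).toFinset.card := Set.ncard_coe_finset _
    _ ≤ (DL.map (ofL n)).length := List.toFinset_card_le _
    _ = DL.length := List.length_map _




/-- Extend a labelling of the points other than `p` to all points, `p` getting the last
label. -/
def extEquiv {α : Type*} [DecidableEq α] {v : ℕ} (p : α) (e0 : {a : α // a ≠ p} ≃ Fin v) :
    α ≃ Fin (v + 1) where
  toFun a := if h : a = p then Fin.last v else (e0 ⟨a, h⟩).castSucc
  invFun i := Fin.lastCases p (fun j => ((e0.symm j : {a : α // a ≠ p}) : α)) i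
  left_inv a := by
    by_cases h : a = p
    · simp [h]
    · simp [h]
  right_inv i := by
    refine Fin.lastCases ?_ (fun j => ?_) i
    · simp
    · have : ((e0.symm j : {a : α // a ≠ p}) : α) ≠ p := (e0.symm j).2
      simp [this]

theorem extEquiv_self {α : Type*} [DecidableEq α] {v : ℕ} (p : α)
    (e0 : {a : α // a ≠ p} ≃ Fin v) : extEquiv p e0 p = Fin.last v := by
  simp [extEquiv]

theorem extEquiv_ne {α : Type*} [DecidableEq α] {v : ℕ} (p : α)
    (e0 : {a : α // a ≠ p} ≃ Fin v) (a : α) (h : a ≠ p) :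
    extEquiv p e0 a = (e0 ⟨a, h⟩).castSucc := by
  simp [extEquiv, h]

theorem image_extEquiv {α : Type*} [DecidableEq α] {v : ℕ} (p : α)
    (e0 : {a : α // a ≠ p} ≃ Fin v) (b : Finset α) (hp : p ∈ b) (ys : List ℕ)
    (h : (Finset.subtype (fun a => a ≠ p) b).image e0 = ofL v ys) :
    b.image (extEquiv p e0) = ofL (v + 1) (v :: ys) := by
  ext i
  refine Fin.lastCases ?_ (fun j => ?_) i
  · simp only [Finset.mem_image, mem_ofL, Fin.val_last, List.mem_cons, true_or, iff_true]
    exact ⟨p, hp, extEquiv_self p e0⟩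
  · have hj : j ∈ (Finset.subtype (fun a => a ≠ p) b).image e0 ↔ j.val ∈ ys := by
      rw [h, mem_ofL]
    simp only [Finset.mem_image, mem_ofL, Fin.val_castSucc, List.mem_cons]
    constructor
    · rintro ⟨a, ha, hae⟩
      right
      rw [← hj]
      by_cases hap : a = p
      · subst hap
        rw [extEquiv_self] at hae
        exact absurd hae.symm (Fin.castSucc_lt_last j).ne
      · rw [extEquiv_ne p e0 a hap] at hae
        have := Fin.castSucc_injective _ hae
        rw [Finset.mem_image]
        exact ⟨⟨a, hap⟩, by simpa [Finset.mem_subtype] using ha, this⟩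
    · rintro (hjv | hjy)
      · exact absurd hjv j.isLt.ne
      · rw [← hj, Finset.mem_image] at hjy
        obtain ⟨a, ha, hae⟩ := hjy
        refine ⟨a.1, by simpa [Finset.mem_subtype] using ha, ?_⟩
        rw [extEquiv_ne p e0 a.1 a.2, ← hae]

/-- One-point extension step: a Steiner system whose derived design at `p` is the standard
one is the standard derived part together with one of the classes of candidate blocks. -/
theorem extend_std {α : Type*} [Fintype α] [DecidableEq α] {t k v : ℕ}
    {B : Set (Finset α)} (hB : Cfsg.IsSteinerSystem (t + 1) (k + 1) B)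
    (A : ℕ → Prop) (hA : ∀ b ∈ B, ∀ c ∈ B, b ≠ c → A (b ∩ c).card)
    (p : α) (DL : List (List ℕ)) (e0 : {a : α // a ≠ p} ≃ Fin v)
    (he0 : (fun b => b.image e0) ''
      {b' : Finset {a : α // a ≠ p} | ∃ b ∈ B, p ∈ b ∧ b' = Finset.subtype (fun a => a ≠ p) b}
        = famO v DL)
    {ι : Type*} [Nonempty ι] (EL : ι → List (List ℕ))
    (hC1 : ∀ X : Finset (Fin (v + 1)), Fin.last v ∉ X → X.card = k + 1 →
      (∀ ys ∈ DL, A (X ∩ ofL (v + 1) (v :: ys)).card) → ∃ j, X ∈ famO (v + 1) (EL j))
    (hC2 : ∀ i j, ∀ xs ∈ EL i, ∀ xs' ∈ EL j,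
      A (ofL (v + 1) xs ∩ ofL (v + 1) xs').card → i = j)
    (hcount : ∀ j, (EL j).length + DL.length ≤ B.ncard) :
    ∃ j : ι, (fun b => b.image (extEquiv p e0)) '' B
      = famO (v + 1) (DL.map (fun ys => v :: ys)) ∪ famO (v + 1) (EL j) := by
  classical
  set e := extEquiv p e0 with he
  have hinj : Function.Injective (fun b : Finset α => b.image e) :=
    Finset.image_injective e.injective
  set F : Set (Finset (Fin (v + 1))) := (fun b => b.image e) '' B with hF
  set K : Set (Finset (Fin (v + 1))) := famO (v + 1) (DL.map (fun ys => v :: ys)) with hK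
  -- blocks through `p` go to `K`
  have hthru : ∀ b ∈ B, p ∈ b → b.image e ∈ K := by
    intro b hb hpb
    have : (Finset.subtype (fun a => a ≠ p) b).image e0 ∈ famO v DL := by
      rw [← he0]
      exact ⟨_, ⟨b, hb, hpb, rfl⟩, rfl⟩
    obtain ⟨ys, hys, hys'⟩ := this
    refine ⟨v :: ys, List.mem_map.mpr ⟨ys, hys, rfl⟩, ?_⟩
    exact image_extEquiv p e0 b hpb ys hys'
  have hKF : K ⊆ F := by
    rintro Y ⟨zs, hzs, rfl⟩
    obtain ⟨ys, hys, rfl⟩ := List.mem_map.mp hzs
    have : ofL v ys ∈ famO v DL := ⟨ys, hys, rfl⟩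
    rw [← he0] at this
    obtain ⟨b', ⟨b, hb, hpb, rfl⟩, hb'⟩ := this
    refine ⟨b, hb, ?_⟩
    exact image_extEquiv p e0 b hpb ys hb'
  have hAF : ∀ X ∈ F, ∀ Y ∈ F, X ≠ Y → A (X ∩ Y).card := by
    rintro X ⟨b, hb, rfl⟩ Y ⟨c, hc, rfl⟩ hXY
    have hbc : b ≠ c := fun h => hXY (by rw [h])
    have := hA b hb c hc hbc
    show A (b.image e ∩ c.image e).card
    rw [← Finset.image_inter _ _ e.injective, Finset.card_image_of_injective _ e.injective]
    exact this
  have hQ : ∀ X ∈ F, X ∉ K → (Fin.last v ∉ X ∧ X.card = k + 1) := by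
    rintro X ⟨b, hb, rfl⟩ hXK
    have hpb : p ∉ b := fun hpb => hXK (hthru b hb hpb)
    constructor
    · show Fin.last v ∉ b.image e
      rw [Finset.mem_image]
      rintro ⟨a, ha, hae⟩
      have : a = p := e.injective (by rw [hae, he, extEquiv_self])
      exact hpb (this ▸ ha)
    · show (b.image e).card = k + 1
      rw [Finset.card_image_of_injective _ e.injective]
      exact hB.1 b hb
  have hC1' : ∀ X, (Fin.last v ∉ X ∧ X.card = k + 1) → (∀ Y ∈ K, A (X ∩ Y).card) →
      ∃ j, X ∈ famO (v + 1) (EL j) := by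
    intro X hX hXK
    apply hC1 X hX.1 hX.2
    intro ys hys
    exact hXK _ ⟨v :: ys, List.mem_map.mpr ⟨ys, hys, rfl⟩, rfl⟩
  have hC2' : ∀ i j, ∀ X ∈ famO (v + 1) (EL i), ∀ X' ∈ famO (v + 1) (EL j),
      A (X ∩ X').card → i = j := by
    rintro i j X ⟨xs, hxs, rfl⟩ X' ⟨xs', hxs', rfl⟩ h
    exact hC2 i j xs hxs xs' hxs' h
  have hcount' : ∀ j, (famO (v + 1) (EL j)).ncard + K.ncard ≤ F.ncard := by
    intro j
    have h1 := ncard_famO_le (v + 1) (EL j)
    have h2 : K.ncard ≤ DL.length := by
      have := ncard_famO_le (v + 1) (DL.map (fun ys => v :: ys))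
      rwa [List.length_map] at this
    have h3 : F.ncard = B.ncard := Set.ncard_image_of_injective _ hinj
    have := hcount j
    omega
  exact family_completion F K (fun j => famO (v + 1) (EL j)) A
    (fun X => Fin.last v ∉ X ∧ X.card = k + 1) hKF hAF hQ hC1' hC2' hcount'

/-- The image of a listed family under a permutation given by lists. -/
theorem image_perm_famO {n : ℕ} (σ : Equiv.Perm (Fin n)) (g ginv : List ℕ)
    (hg : ∀ i : Fin n, (σ i).val = g.getD i.val 0)
    (hginv : ∀ i : Fin n, (σ.symm i).val = ginv.getD i.val 0)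
    (D D' : List (List ℕ))
    (h1 : ∀ xs ∈ D, ∃ ys ∈ D', (∀ x ∈ xs, g.getD x 0 ∈ ys) ∧ (∀ y ∈ ys, ginv.getD y 0 ∈ xs))
    (h2 : ∀ ys ∈ D', ∃ xs ∈ D, (∀ x ∈ xs, g.getD x 0 ∈ ys) ∧ (∀ y ∈ ys, ginv.getD y 0 ∈ xs)) :
    (fun X : Finset (Fin n) => X.image σ) '' famO n D = famO n D' := by
  have key : ∀ xs ys : List ℕ, (∀ x ∈ xs, g.getD x 0 ∈ ys) → (∀ y ∈ ys, ginv.getD y 0 ∈ xs) →
      (ofL n xs).image σ = ofL n ys := by
    intro xs ys hxy hyx
    ext i
    rw [Finset.mem_image, mem_ofL]
    constructor
    · rintro ⟨a, ha, rfl⟩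
      rw [hg]
      exact hxy _ (mem_ofL.mp ha)
    · intro hi
      refine ⟨σ.symm i, ?_, by simp⟩
      rw [mem_ofL, hginv]
      exact hyx _ hi
  ext Y
  constructor
  · rintro ⟨X, ⟨xs, hxs, rfl⟩, rfl⟩
    obtain ⟨ys, hys, hxy, hyx⟩ := h1 xs hxs
    exact ⟨ys, hys, key xs ys hxy hyx⟩
  · rintro ⟨ys, hys, rfl⟩
    obtain ⟨xs, hxs, hxy, hyx⟩ := h2 ys hys
    exact ⟨ofL n xs, ⟨xs, hxs, rfl⟩, key xs ys hxy hyx⟩

theorem image_trans_family {α : Type*} [DecidableEq α] {n : ℕ} (e : α ≃ Fin n)
    (σ : Equiv.Perm (Fin n)) (B : Set (Finset α)) :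
    (fun b : Finset α => b.image (e.trans σ)) '' B
      = (fun X : Finset (Fin n) => X.image σ) '' ((fun b : Finset α => b.image e) '' B) := by
  rw [Set.image_image]
  congr 1
  ext b : 1
  rw [Finset.image_image]
  rfl




/-- A strictly decreasing list of naturals below `n`. -/
def validB (n : ℕ) : List ℕ → Bool
  | [] => true
  | x :: rest => Nat.blt x n && validB x rest

theorem validB_spec (n : ℕ) (xs : List ℕ) (h : validB n xs = true) :
    xs.Nodup ∧ ∀ x ∈ xs, x < n := by
  induction xs generalizing n with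
  | nil => exact ⟨List.nodup_nil, fun x hx => by cases hx⟩
  | cons x rest ih =>
    rw [validB, Bool.and_eq_true, Nat.blt_eq] at h
    obtain ⟨hnd, hlt⟩ := ih x h.2
    refine ⟨List.nodup_cons.mpr ⟨fun hx => lt_irrefl x (hlt x hx), hnd⟩, ?_⟩
    intro y hy
    rcases List.mem_cons.mp hy with rfl | hy
    · exact h.1
    · exact (hlt y hy).trans h.1

/-- All lists of a family are valid. -/
def validAllB (n : ℕ) (D : List (List ℕ)) : Bool := D.all (validB n)

theorem validAllB_spec (n : ℕ) (D : List (List ℕ)) (h : validAllB n D = true) :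
    ∀ xs ∈ D, xs.Nodup ∧ ∀ x ∈ xs, x < n := by
  intro xs hxs
  exact validB_spec n xs (List.all_eq_true.mp h xs hxs)

/-- No member of the first family meets a member of the second in an allowed number of
points. -/
def crossB (okA : ℕ → Bool) (E1 E2 : List (List ℕ)) : Bool :=
  E1.all (fun xs => E2.all (fun ys => !okA (cntL xs ys)))

theorem crossB_spec {n : ℕ} (okA : ℕ → Bool) (E1 E2 : List (List ℕ))
    (hv : validAllB n E1 = true) (h : crossB okA E1 E2 = true) :
    ∀ xs ∈ E1, ∀ ys ∈ E2, okA (ofL n xs ∩ ofL n ys).card = false := by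
  intro xs hxs ys hys
  obtain ⟨hnd, hlt⟩ := validAllB_spec n E1 hv xs hxs
  rw [card_inter_ofL xs ys hnd hlt]
  have := List.all_eq_true.mp (List.all_eq_true.mp h xs hxs) ys hys
  simpa using this

/-- The two lists describe mutually inverse permutations of `{0, …, n-1}`. -/
def permB (n : ℕ) (g ginv : List ℕ) : Bool :=
  (List.range n).all (fun i => Nat.blt (g.getD i 0) n && Nat.beq (ginv.getD (g.getD i 0) 0) i
    && Nat.blt (ginv.getD i 0) n && Nat.beq (g.getD (ginv.getD i 0) 0) i)

theorem permB_spec {n : ℕ} {g ginv : List ℕ} (h : permB n g ginv = true) (i : ℕ) (hi : i < n) :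
    g.getD i 0 < n ∧ ginv.getD (g.getD i 0) 0 = i ∧ ginv.getD i 0 < n
      ∧ g.getD (ginv.getD i 0) 0 = i := by
  have := List.all_eq_true.mp h i (List.mem_range.mpr hi)
  simp only [Bool.and_eq_true, Nat.blt_eq, nbeq_iff] at this
  exact ⟨this.1.1.1, this.1.1.2, this.1.2, this.2⟩

/-- The permutation of `Fin n` described by two mutually inverse lists. -/
def permOfL (n : ℕ) (g ginv : List ℕ) (h : permB n g ginv = true) : Equiv.Perm (Fin n) where
  toFun i := ⟨g.getD i.val 0, (permB_spec h i.val i.isLt).1⟩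
  invFun i := ⟨ginv.getD i.val 0, (permB_spec h i.val i.isLt).2.2.1⟩
  left_inv i := Fin.ext (permB_spec h i.val i.isLt).2.1
  right_inv i := Fin.ext (permB_spec h i.val i.isLt).2.2.2

theorem permOfL_val (n : ℕ) (g ginv : List ℕ) (h : permB n g ginv = true) (i : Fin n) :
    (permOfL n g ginv h i).val = g.getD i.val 0 := rfl

theorem permOfL_symm_val (n : ℕ) (g ginv : List ℕ) (h : permB n g ginv = true) (i : Fin n) :
    ((permOfL n g ginv h).symm i).val = ginv.getD i.val 0 := rfl

/-- The lists `g`, `ginv` carry the `i`-th member of `D` onto the `idx[i]`-th member of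
`D'`. -/
def mapIdxB (g ginv : List ℕ) (D D' : List (List ℕ)) (idx : List ℕ) : Bool :=
  Nat.beq idx.length D.length &&
  (D.zip idx).all (fun q => Nat.blt q.2 D'.length &&
    (q.1.all (fun x => memb (g.getD x 0) (D'.getD q.2 [])) &&
      (D'.getD q.2 []).all (fun y => memb (ginv.getD y 0) q.1)))

theorem mapIdxB_spec (g ginv : List ℕ) (D D' : List (List ℕ)) (idx : List ℕ)
    (h : mapIdxB g ginv D D' idx = true) :
    ∀ xs ∈ D, ∃ ys ∈ D', (∀ x ∈ xs, g.getD x 0 ∈ ys) ∧ (∀ y ∈ ys, ginv.getD y 0 ∈ xs) := by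
  rw [mapIdxB, Bool.and_eq_true, nbeq_iff] at h
  intro xs hxs
  obtain ⟨i, hi, rfl⟩ := List.getElem_of_mem hxs
  have hi' : i < idx.length := by rw [h.1]; exact hi
  have hz : (D[i], idx[i]) ∈ D.zip idx := by
    have hlen : i < (D.zip idx).length := by
      rw [List.length_zip]; exact lt_min hi hi'
    have : (D.zip idx)[i] = (D[i], idx[i]) := List.getElem_zip
    rw [← this]
    exact List.getElem_mem hlen
  have := List.all_eq_true.mp h.2 _ hz
  simp only [Bool.and_eq_true, Nat.blt_eq, List.all_eq_true, memb_iff] at this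
  obtain ⟨hj, hxy, hyx⟩ := this
  refine ⟨D'.getD idx[i] [], ?_, hxy, hyx⟩
  rw [List.getD_eq_getElem _ _ hj]
  exact List.getElem_mem hj




/-- The classification hypothesis of `extend_std` from a kernel-checked search. -/
theorem hC1_of_dfs {v k : ℕ} (DL ELall : List (List ℕ)) (r : Bool) (LP : List (ℕ × ℕ × ℕ))
    (tgt : ℕ) (A : ℕ → Prop) (hApar : ∀ n, A n → decide (n % 2 = 1) = r)
    (hLP : LP = mkLP (DL.map (fun ys => v :: ys)) (List.range v))
    (htgt : tgt = tgtR (DL.map (fun ys => v :: ys)) r)
    (hdfs : dfs tgt ELall LP (k + 1) 0 [] = true) :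
    ∀ X : Finset (Fin (v + 1)), Fin.last v ∉ X → X.card = k + 1 →
      (∀ ys ∈ DL, A (X ∩ ofL (v + 1) (v :: ys)).card) → X ∈ famO (v + 1) ELall := by
  intro X hlast hcard hX
  apply classify (k + 1) (List.range v) (DL.map (fun ys => v :: ys)) ELall r LP tgt
    List.nodup_range hLP htgt hdfs X _ hcard
  · intro ys' hys'
    obtain ⟨ys, hys, rfl⟩ := List.mem_map.mp hys'
    exact hApar _ (hX ys hys)
  · intro i hi
    rw [List.mem_range]
    have h1 : i ≠ Fin.last v := fun e => hlast (e ▸ hi)
    exact Fin.val_lt_last h1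

/-- Composing a labelling with a listed permutation that carries class `Ej` onto class `E0`
and preserves the part `K`. -/
theorem adjust_class {α : Type*} [DecidableEq α] {n : ℕ} (e : α ≃ Fin n) (B : Set (Finset α))
    (g ginv : List ℕ) (hperm : permB n g ginv = true) (K Ej E0 : List (List ℕ))
    (iK iK' iE iE' : List ℕ)
    (h1 : mapIdxB g ginv K K iK = true) (h2 : mapIdxB ginv g K K iK' = true)
    (h3 : mapIdxB g ginv Ej E0 iE = true) (h4 : mapIdxB ginv g E0 Ej iE' = true)
    (hB : (fun b : Finset α => b.image e) '' B = famO n K ∪ famO n Ej) :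
    (fun b : Finset α => b.image (e.trans (permOfL n g ginv hperm))) '' B
      = famO n K ∪ famO n E0 := by
  rw [image_trans_family, hB, Set.image_union]
  have hK := image_perm_famO (permOfL n g ginv hperm) g ginv (permOfL_val n g ginv hperm)
    (permOfL_symm_val n g ginv hperm) K K (mapIdxB_spec g ginv K K iK h1) (by
      intro ys hys
      obtain ⟨xs, hxs, ha, hb⟩ := mapIdxB_spec ginv g K K iK' h2 ys hys
      exact ⟨xs, hxs, hb, ha⟩)
  have hE := image_perm_famO (permOfL n g ginv hperm) g ginv (permOfL_val n g ginv hperm)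
    (permOfL_symm_val n g ginv hperm) Ej E0 (mapIdxB_spec g ginv Ej E0 iE h3) (by
      intro ys hys
      obtain ⟨xs, hxs, ha, hb⟩ := mapIdxB_spec ginv g E0 Ej iE' h4 ys hys
      exact ⟨xs, hxs, hb, ha⟩)
  rw [hK, hE]


end Cfsg.Agent.Helper27.Witt
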