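import Mathlib
import Cfsg.Agent.Lib.Helper27.WittList

set_option autoImplicit false
set_option linter.unusedSectionVars false
set_option maxRecDepth 100000

/-! The standard projective plane of order 4 and the search classifying its external lines. -/

namespace Cfsg.Agent.Helper27.Witt


/-- The 15 secant lines of the standard plane of order 4 (hyperoval `0,…,5`, points `6,…,20` the synthemes). -/
def duadL : List (List ℕ) :=
  [[8, 7, 6, 1, 0], [11, 10, 9, 2, 0], [14, 13, 12, 3, 0], [17, 16, 15, 4, 0], [20, 19, 18, 5, 0], [18, 15, 12, 2, 1],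
   [19, 16, 9, 3, 1], [20, 13, 10, 4, 1], [17, 14, 11, 5, 1], [20, 17, 6, 3, 2], [19, 14, 7, 4, 2], [16, 13, 8, 5, 2],
   [18, 11, 8, 4, 3], [15, 10, 7, 5, 3], [12, 9, 6, 5, 4]]

/-- The 6 external lines (synthematic totals). -/
def totalL : List (List ℕ) :=
  [[18, 16, 14, 10, 6], [19, 15, 13, 11, 6], [18, 17, 13, 9, 7], [20, 16, 12, 11, 7], [20, 15, 14, 9, 8], [19, 17, 12, 10, 8]]

/-- The standard projective plane of order 4. -/
def DL21 : List (List ℕ) := duadL ++ totalL

/-- Search list for the external lines. -/
def LP21 : List (ℕ × ℕ × ℕ) :=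
  [(6, 16897, 32767), (7, 9217, 32767), (8, 6145, 32767), (9, 16450, 32766), (10, 8322, 32766), (11, 4354, 32766), (12, 16420, 32764), (13, 2180, 16380), (14, 1284, 16380), (15, 8232, 16376), (16, 2120, 8184), (17, 776, 6136), (18, 4144, 5872), (19, 1104, 1744), (20, 656, 656)]

theorem LP21_eq : LP21 = mkLP duadL [6, 7, 8, 9, 10, 11, 12, 13, 14, 15, 16, 17, 18, 19, 20] := by decide +kernel

theorem tgt21_eq : 32767 = tgtR duadL true := by decide +kernel

theorem dfs21 : dfs 32767 totalL LP21 5 0 [] = true := by decide +kernel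

theorem valid_duadL : validAllB 21 duadL = true := by decide +kernel

theorem valid_totalL : validAllB 21 totalL = true := by decide +kernel


end Cfsg.Agent.Helper27.Witt
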