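import Mathlib
import Cfsg.Prelude.Def_Sporadic_a

set_option autoImplicit false

/-! Counting in Steiner systems: the numbers of blocks through a given set, and the
intersection numbers of a block with the other blocks. -/

namespace Cfsg.Agent.Helper27

open Finset

variable {α : Type*} [DecidableEq α]

/-- The number of `t`-subsets of `b` that contain `J`. -/
theorem card_powersetCard_superset (J b : Finset α) (hJ : J ⊆ b) (t : ℕ) (hjt : J.card ≤ t) :
    ((b.powersetCard t).filter (fun s => J ⊆ s)).card = (b.card - J.card).choose (t - J.card) := by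
  have h1 : ((b \ J).powersetCard (t - J.card)).card = (b.card - J.card).choose (t - J.card) := by
    rw [card_powersetCard, card_sdiff_of_subset hJ]
  rw [← h1]
  refine card_bij' (fun s _ => s \ J) (fun u _ => u ∪ J) ?_ ?_ ?_ ?_
  · intro s hs
    rw [mem_filter, mem_powersetCard] at hs
    rw [mem_powersetCard]
    refine ⟨sdiff_subset_sdiff hs.1.1 (subset_refl _), ?_⟩
    rw [card_sdiff_of_subset hs.2, hs.1.2]
  · intro u hu
    rw [mem_powersetCard] at hu
    rw [mem_filter, mem_powersetCard]
    have hd : Disjoint u J := by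
      rw [disjoint_left]
      intro x hx hxJ
      exact (mem_sdiff.mp (hu.1 hx)).2 hxJ
    refine ⟨⟨union_subset (hu.1.trans sdiff_subset) hJ, ?_⟩, subset_union_right⟩
    rw [card_union_of_disjoint hd, hu.2]
    omega
  · intro s hs
    rw [mem_filter] at hs
    exact sdiff_union_of_subset hs.2
  · intro u hu
    rw [mem_powersetCard] at hu
    have hd : Disjoint u J := by
      rw [disjoint_left]
      intro x hx hxJ
      exact (mem_sdiff.mp (hu.1 hx)).2 hxJ
    exact union_sdiff_cancel_right hd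

/-- In a Steiner system `S(t,k,v)`, the number `λ_J` of blocks through a set `J` of size
`j ≤ t` satisfies `λ_J * C(k-j, t-j) = C(v-j, t-j)`. -/
theorem steiner_lambda [Fintype α] {t k : ℕ} (Bf : Finset (Finset α))
    (hB : Cfsg.IsSteinerSystem t k (Bf : Set (Finset α))) (J : Finset α) (hjt : J.card ≤ t) :
    (Bf.filter (fun b => J ⊆ b)).card * (k - J.card).choose (t - J.card)
      = (Fintype.card α - J.card).choose (t - J.card) := by
  classical
  set S := ((univ : Finset α).powersetCard t).filter (fun s => J ⊆ s) with hS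
  set BJ := Bf.filter (fun b => J ⊆ b) with hBJ
  have hScard : S.card = (Fintype.card α - J.card).choose (t - J.card) := by
    rw [hS, card_powersetCard_superset J univ (subset_univ _) t hjt, card_univ]
  have hdc := sum_card_bipartiteAbove_eq_sum_card_bipartiteBelow (s := S) (t := BJ)
    (fun (s b : Finset α) => s ⊆ b)
  have h1 : ∀ s ∈ S, (BJ.bipartiteAbove (fun (s b : Finset α) => s ⊆ b) s).card = 1 := by
    intro s hs
    rw [hS, mem_filter, mem_powersetCard] at hs
    obtain ⟨b, ⟨hbB, hsb⟩, hbu⟩ := hB.2 s hs.1.2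
    rw [card_eq_one]
    refine ⟨b, ?_⟩
    ext c
    rw [mem_bipartiteAbove, mem_singleton, hBJ, mem_filter]
    constructor
    · rintro ⟨⟨hcB, _⟩, hsc⟩
      exact hbu c ⟨hcB, hsc⟩
    · rintro rfl
      exact ⟨⟨hbB, hs.2.trans hsb⟩, hsb⟩
  have h2 : ∀ b ∈ BJ, (S.bipartiteBelow (fun (s b : Finset α) => s ⊆ b) b).card
      = (k - J.card).choose (t - J.card) := by
    intro b hb
    rw [hBJ, mem_filter] at hb
    have hbk : b.card = k := hB.1 b hb.1
    rw [← hbk, ← card_powersetCard_superset J b hb.2 t hjt]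
    congr 1
    ext s
    rw [mem_bipartiteBelow, hS, mem_filter, mem_filter, mem_powersetCard, mem_powersetCard]
    constructor
    · rintro ⟨⟨⟨_, h1⟩, h2⟩, h3⟩
      exact ⟨⟨h3, h1⟩, h2⟩
    · rintro ⟨⟨h3, h1⟩, h2⟩
      exact ⟨⟨⟨subset_univ _, h1⟩, h2⟩, h3⟩
  rw [sum_congr rfl h1, sum_congr rfl h2, sum_const, sum_const, smul_eq_mul, smul_eq_mul,
    mul_one] at hdc
  rw [← hScard, hdc]

/-- Double counting of pairs `(J, c)` with `J ⊆ c ∩ b₀`, `|J| = j`. -/
theorem sum_choose_inter (Bf : Finset (Finset α)) (b₀ : Finset α) (j : ℕ) :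
    ∑ c ∈ Bf, ((c ∩ b₀).card).choose j
      = ∑ J ∈ b₀.powersetCard j, (Bf.filter (fun c => J ⊆ c)).card := by
  classical
  have hdc := sum_card_bipartiteAbove_eq_sum_card_bipartiteBelow (s := b₀.powersetCard j)
    (t := Bf) (fun (s b : Finset α) => s ⊆ b)
  rw [show (∑ J ∈ b₀.powersetCard j, (Bf.filter (fun c => J ⊆ c)).card)
      = ∑ J ∈ b₀.powersetCard j, (Bf.bipartiteAbove (fun (s b : Finset α) => s ⊆ b) J).card from rfl,
    hdc]
  refine sum_congr rfl ?_
  intro c _
  rw [← card_powersetCard]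
  congr 1
  ext s
  rw [mem_bipartiteBelow, mem_powersetCard, mem_powersetCard, subset_inter_iff]
  tauto

/-- Grouping the blocks by the size of their intersection with `b₀`. -/
theorem sum_choose_inter_fiberwise (Bf : Finset (Finset α)) (b₀ : Finset α) (j : ℕ) :
    ∑ c ∈ Bf, ((c ∩ b₀).card).choose j
      = ∑ i ∈ range (b₀.card + 1), (Bf.filter (fun c => (c ∩ b₀).card = i)).card * i.choose j := by
  rw [← sum_fiberwise_of_maps_to (s := Bf) (t := range (b₀.card + 1))
    (g := fun c => (c ∩ b₀).card)]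
  · refine sum_congr rfl ?_
    intro i _
    rw [← smul_eq_mul, ← sum_const]
    refine sum_congr rfl ?_
    intro c hc
    rw [(mem_filter.mp hc).2]
  · intro c _
    rw [mem_range]
    exact Nat.lt_succ_of_le (card_le_card inter_subset_right)

/-- The intersection equations of a Steiner system: for a block `b₀` and `j ≤ t`,
`∑ᵢ nᵢ C(i,j) = C(k,j) λ_j`, where `nᵢ` counts the blocks meeting `b₀` in `i` points and
`λ_j` is any number with `λ_J = λ_j` for all `j`-subsets. -/
theorem steiner_inter_eq [Fintype α] {t k : ℕ} (Bf : Finset (Finset α))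
    (hB : Cfsg.IsSteinerSystem t k (Bf : Set (Finset α))) (b₀ : Finset α) (hb₀ : b₀ ∈ Bf)
    (j : ℕ) (hjt : j ≤ t) :
    (∑ i ∈ range (k + 1), (Bf.filter (fun c => (c ∩ b₀).card = i)).card * i.choose j)
        * (k - j).choose (t - j)
      = k.choose j * (Fintype.card α - j).choose (t - j) := by
  have hk : b₀.card = k := hB.1 b₀ hb₀
  rw [← hk, ← sum_choose_inter_fiberwise, sum_choose_inter, sum_mul]
  have : ∀ J ∈ b₀.powersetCard j, (Bf.filter (fun c => J ⊆ c)).card * (b₀.card - j).choose (t - j)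
      = (Fintype.card α - j).choose (t - j) := by
    intro J hJ
    rw [mem_powersetCard] at hJ
    have := steiner_lambda Bf hB J (by rw [hJ.2]; exact hjt)
    rw [hJ.2] at this
    rw [hk]
    exact this
  rw [sum_congr rfl this, sum_const, card_powersetCard, smul_eq_mul]

/-- Two blocks of a Steiner system `S(t,k,v)` that share at least `t` points are equal. -/
theorem steiner_eq_of_le_card_inter {t k : ℕ} {B : Set (Finset α)}
    (hB : Cfsg.IsSteinerSystem t k B) {b c : Finset α} (hb : b ∈ B) (hc : c ∈ B)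
    (h : t ≤ (b ∩ c).card) : b = c := by
  obtain ⟨s, hs, hst⟩ := exists_subset_card_eq h
  obtain ⟨d, _, hdu⟩ := hB.2 s hst
  rw [hdu b ⟨hb, hs.trans inter_subset_left⟩, hdu c ⟨hc, hs.trans inter_subset_right⟩]

/-- No block meets `b₀` in `i` points when `t ≤ i` and `i ≠ k`. -/
theorem steiner_inter_card_eq_zero {t k : ℕ} (Bf : Finset (Finset α))
    (hB : Cfsg.IsSteinerSystem t k (Bf : Set (Finset α))) (b₀ : Finset α) (hb₀ : b₀ ∈ Bf)
    (i : ℕ) (hti : t ≤ i) (hik : i ≠ k) :
    (Bf.filter (fun c => (c ∩ b₀).card = i)).card = 0 := by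
  rw [card_eq_zero, filter_eq_empty_iff]
  intro c hc hci
  have hcb : c = b₀ := steiner_eq_of_le_card_inter hB (by exact_mod_cast hc)
    (by exact_mod_cast hb₀) (by rw [hci]; exact hti)
  rw [hcb, inter_self, hB.1 b₀ (by exact_mod_cast hb₀)] at hci
  exact hik hci.symm

/-- Exactly one block (namely `b₀`) meets `b₀` in `k` points. -/
theorem steiner_inter_card_eq_one {t k : ℕ} (Bf : Finset (Finset α))
    (hB : Cfsg.IsSteinerSystem t k (Bf : Set (Finset α))) (b₀ : Finset α) (hb₀ : b₀ ∈ Bf)
    (htk : t ≤ k) :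
    (Bf.filter (fun c => (c ∩ b₀).card = k)).card = 1 := by
  rw [card_eq_one]
  refine ⟨b₀, ?_⟩
  ext c
  rw [mem_filter, mem_singleton]
  constructor
  · rintro ⟨hc, hci⟩
    exact steiner_eq_of_le_card_inter hB (by exact_mod_cast hc)
      (by exact_mod_cast hb₀) (by rw [hci]; exact htk)
  · rintro rfl
    exact ⟨hb₀, by rw [inter_self, hB.1 c (by exact_mod_cast hb₀)]⟩

omit [DecidableEq α] in
/-- Replace a set of blocks by a finset of blocks. -/
theorem exists_finset_blocks [Fintype α] (B : Set (Finset α)) :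
    ∃ Bf : Finset (Finset α), (Bf : Set (Finset α)) = B :=
  ⟨(Set.toFinite B).toFinset, Set.Finite.coe_toFinset _⟩

end Cfsg.Agent.Helper27
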