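import Mathlib
import Cfsg.Prelude.Def_Sporadic_a
import Cfsg.Agent.Lib.Helper27.Steiner

set_option autoImplicit false
set_option linter.unusedSectionVars false

/-! Projective planes of order 4 (Steiner systems `S(2,5,21)`): lines meet, arcs, completion of a 4-arc to a hyperoval, and the labelling of the points off a hyperoval by synthemes. -/

namespace Cfsg.Agent.Helper27.Witt


open Finset

section Plane

variable {α : Type*} [Fintype α] [DecidableEq α] {Bf : Finset (Finset α)}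

theorem line_unique (hL : Cfsg.IsSteinerSystem 2 5 (Bf : Set (Finset α))) {l m : Finset α}
    (hl : l ∈ Bf) (hm : m ∈ Bf) {a b : α} (hab : a ≠ b) (hal : a ∈ l) (hbl : b ∈ l)
    (ham : a ∈ m) (hbm : b ∈ m) : l = m := by
  obtain ⟨d, _, hdu⟩ := hL.2 {a, b} (card_pair hab)
  have h1 : l = d := hdu l ⟨by exact_mod_cast hl, by
    intro x hx; rcases mem_insert.mp hx with rfl | hx
    · exact hal
    · rw [mem_singleton.mp hx]; exact hbl⟩
  have h2 : m = d := hdu m ⟨by exact_mod_cast hm, by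
    intro x hx; rcases mem_insert.mp hx with rfl | hx
    · exact ham
    · rw [mem_singleton.mp hx]; exact hbm⟩
  rw [h1, h2]

theorem exists_line (hL : Cfsg.IsSteinerSystem 2 5 (Bf : Set (Finset α))) {a b : α}
    (hab : a ≠ b) : ∃ l ∈ Bf, a ∈ l ∧ b ∈ l := by
  obtain ⟨d, ⟨hd, hsub⟩, _⟩ := hL.2 {a, b} (card_pair hab)
  exact ⟨d, by exact_mod_cast hd, hsub (mem_insert_self _ _),
    hsub (mem_insert_of_mem (mem_singleton_self _))⟩

theorem line_card (hL : Cfsg.IsSteinerSystem 2 5 (Bf : Set (Finset α))) {l : Finset α}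
    (hl : l ∈ Bf) : l.card = 5 := hL.1 l (by exact_mod_cast hl)

/-- Two distinct lines of a projective plane of order 4 meet in exactly one point. -/
theorem lines_meet_card (hL : Cfsg.IsSteinerSystem 2 5 (Bf : Set (Finset α)))
    (hα : Fintype.card α = 21) {l m : Finset α} (hl : l ∈ Bf) (hm : m ∈ Bf) (hlm : l ≠ m) :
    (l ∩ m).card = 1 := by
  have e0 := steiner_inter_eq Bf hL m hm 0 (by norm_num)
  have e1 := steiner_inter_eq Bf hL m hm 1 (by norm_num)
  have n2 := steiner_inter_card_eq_zero Bf hL m hm 2 (by norm_num) (by norm_num)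
  have n3 := steiner_inter_card_eq_zero Bf hL m hm 3 (by norm_num) (by norm_num)
  have n4 := steiner_inter_card_eq_zero Bf hL m hm 4 (by norm_num) (by norm_num)
  have n5 := steiner_inter_card_eq_one Bf hL m hm (by norm_num)
  obtain ⟨n0, hn0⟩ : ∃ n0, n0 = (Bf.filter (fun c => (c ∩ m).card = 0)).card := ⟨_, rfl⟩
  rw [hα] at e0 e1
  simp only [sum_range_succ, range_zero, sum_empty, n2, n3, n4, n5] at e0 e1
  rw [← hn0] at e0 e1
  norm_num [Nat.choose] at e0 e1
  have hle : (l ∩ m).card ≤ 1 := by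
    by_contra h
    exact hlm (steiner_eq_of_le_card_inter hL (by exact_mod_cast hl) (by exact_mod_cast hm)
      (by omega))
  have h0 : (l ∩ m).card ≠ 0 := by
    intro h
    have : l ∈ Bf.filter (fun c => (c ∩ m).card = 0) := mem_filter.mpr ⟨hl, h⟩
    have := card_pos.mpr ⟨l, this⟩
    rw [← hn0] at this
    omega
  omega

theorem lines_meet (hL : Cfsg.IsSteinerSystem 2 5 (Bf : Set (Finset α)))
    (hα : Fintype.card α = 21) {l m : Finset α} (hl : l ∈ Bf) (hm : m ∈ Bf) (hlm : l ≠ m) :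
    ∃ x, l ∩ m = {x} := card_eq_one.mp (lines_meet_card hL hα hl hm hlm)

/-- Through every point of a projective plane of order 4 there are exactly five lines. -/
theorem card_lines_through (hL : Cfsg.IsSteinerSystem 2 5 (Bf : Set (Finset α)))
    (hα : Fintype.card α = 21) (x : α) : (Bf.filter (fun l => x ∈ l)).card = 5 := by
  have := steiner_lambda Bf hL {x} (by simp)
  rw [hα] at this
  simp only [card_singleton] at this
  norm_num [Nat.choose] at this
  omega

/-- The line through two points (junk value for equal points). -/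
noncomputable def lineThru (Bf : Finset (Finset α)) (a b : α) : Finset α :=
  if h : ∃ l ∈ Bf, a ∈ l ∧ b ∈ l then h.choose else ∅

theorem lineThru_spec (hL : Cfsg.IsSteinerSystem 2 5 (Bf : Set (Finset α))) {a b : α}
    (hab : a ≠ b) : lineThru Bf a b ∈ Bf ∧ a ∈ lineThru Bf a b ∧ b ∈ lineThru Bf a b := by
  have h := exists_line hL hab
  rw [lineThru, dif_pos h]
  exact h.choose_spec

theorem lineThru_eq (hL : Cfsg.IsSteinerSystem 2 5 (Bf : Set (Finset α))) {a b : α}
    (hab : a ≠ b) {l : Finset α} (hl : l ∈ Bf) (ha : a ∈ l) (hb : b ∈ l) :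
    lineThru Bf a b = l := by
  obtain ⟨h1, h2, h3⟩ := lineThru_spec hL hab
  exact line_unique hL h1 hl hab h2 h3 ha hb

end Plane




open Finset

section Plane

variable {α : Type*} [Fintype α] [DecidableEq α] {Bf : Finset (Finset α)}

/-- An arc: no line contains three of its points. -/
def IsArc (Bf : Finset (Finset α)) (S : Finset α) : Prop := ∀ l ∈ Bf, (l ∩ S).card ≤ 2

theorem IsArc.not_three {S : Finset α}
    (hS : IsArc Bf S) {l : Finset α} (hl : l ∈ Bf) {a b c : α} (ha : a ∈ S) (hb : b ∈ S)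
    (hc : c ∈ S) (hab : a ≠ b) (hac : a ≠ c) (hbc : b ≠ c) (hal : a ∈ l) (hbl : b ∈ l) :
    c ∉ l := by
  intro hcl
  have h3 : ({a, b, c} : Finset α) ⊆ l ∩ S := by
    intro x hx
    simp only [mem_insert, mem_singleton] at hx
    rcases hx with rfl | rfl | rfl <;> simp [*]
  have := card_le_card h3
  rw [card_eq_three.mpr ⟨a, b, c, hab, hac, hbc, rfl⟩] at this
  have := hS l hl
  omega

/-- The secants of an arc are at most as many as its pairs of points. -/
theorem card_secants_le (hL : Cfsg.IsSteinerSystem 2 5 (Bf : Set (Finset α))) {S : Finset α}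
    (hS : IsArc Bf S) : (Bf.filter (fun l => 2 ≤ (l ∩ S).card)).card ≤ (S.card).choose 2 := by
  rw [← card_powersetCard]
  apply card_le_card_of_injOn (fun l => l ∩ S)
  · intro l hl
    have hl' := mem_filter.mp (mem_coe.mp hl)
    rw [mem_coe, mem_powersetCard]
    exact ⟨inter_subset_right, le_antisymm (hS l hl'.1) hl'.2⟩
  · intro l hl m hm hlm
    have hl' := mem_filter.mp (mem_coe.mp hl)
    have hm' := mem_filter.mp (mem_coe.mp hm)
    obtain ⟨a, b, hab, hab'⟩ := card_eq_two.mp (le_antisymm (hS l hl'.1) hl'.2)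
    have hlm' : m ∩ S = {a, b} := by rw [← hab']; exact hlm.symm
    have ha : a ∈ l ∩ S := by rw [hab']; simp
    have hb : b ∈ l ∩ S := by rw [hab']; simp
    have ha' : a ∈ m ∩ S := by rw [hlm']; simp
    have hb' : b ∈ m ∩ S := by rw [hlm']; simp
    exact line_unique hL hl'.1 hm'.1 hab (mem_inter.mp ha).1 (mem_inter.mp hb).1
      (mem_inter.mp ha').1 (mem_inter.mp hb').1

/-- An arc with at most three points can be enlarged. -/
theorem arc_extend (hL : Cfsg.IsSteinerSystem 2 5 (Bf : Set (Finset α)))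
    (hα : Fintype.card α = 21) {S : Finset α} (hS : IsArc Bf S) (hcard : S.card ≤ 3) :
    ∃ x, x ∉ S ∧ IsArc Bf (insert x S) := by
  set Sec := Bf.filter (fun l => 2 ≤ (l ∩ S).card) with hSec
  have h1 : Sec.card ≤ 3 := by
    have := card_secants_le hL hS
    have h2 : (S.card).choose 2 ≤ 3 := by
      interval_cases S.card <;> decide
    exact this.trans h2
  set Cov := Sec.biUnion id ∪ S with hCov
  have h2 : Cov.card ≤ 18 := by
    have h3 : (Sec.biUnion id).card ≤ Sec.card * 5 := by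
      apply card_biUnion_le_card_mul
      intro l hl
      exact (line_card hL (mem_filter.mp hl).1).le
    have := card_union_le (Sec.biUnion id) S
    rw [hCov]
    omega
  have h3 : ∃ x, x ∉ Cov := by
    by_contra hcon
    push Not at hcon
    have : Cov = univ := eq_univ_iff_forall.mpr hcon
    rw [this, card_univ, hα] at h2
    omega
  obtain ⟨x, hx⟩ := h3
  have hxS : x ∉ S := fun h => hx (mem_union_right _ h)
  refine ⟨x, hxS, ?_⟩
  intro l hl
  by_cases hxl : x ∈ l
  · have hnot : ¬ 2 ≤ (l ∩ S).card := by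
      intro h2
      apply hx
      apply mem_union_left
      rw [mem_biUnion]
      exact ⟨l, mem_filter.mpr ⟨hl, h2⟩, hxl⟩
    have : l ∩ insert x S = insert x (l ∩ S) := by
      ext y
      simp only [mem_inter, mem_insert]
      constructor
      · rintro ⟨h1, rfl | h2⟩
        · exact Or.inl rfl
        · exact Or.inr ⟨h1, h2⟩
      · rintro (rfl | ⟨h1, h2⟩)
        · exact ⟨hxl, Or.inl rfl⟩
        · exact ⟨h1, Or.inr h2⟩
    rw [this]
    have := card_insert_le x (l ∩ S)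
    omega
  · have : l ∩ insert x S = l ∩ S := by
      ext y
      simp only [mem_inter, mem_insert]
      constructor
      · rintro ⟨h1, rfl | h2⟩
        · exact absurd h1 hxl
        · exact ⟨h1, h2⟩
      · rintro ⟨h1, h2⟩
        exact ⟨h1, Or.inr h2⟩
    rw [this]
    exact hS l hl

theorem exists_arc (hL : Cfsg.IsSteinerSystem 2 5 (Bf : Set (Finset α)))
    (hα : Fintype.card α = 21) : ∀ k ≤ 4, ∃ A : Finset α, A.card = k ∧ IsArc Bf A := by
  intro k
  induction k with
  | zero =>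
    intro _
    exact ⟨∅, rfl, fun l _ => by simp⟩
  | succ k ih =>
    intro hk
    obtain ⟨A, hA, hAarc⟩ := ih (by omega)
    obtain ⟨x, hx, hxarc⟩ := arc_extend hL hα hAarc (by omega)
    exact ⟨insert x A, by rw [card_insert_of_notMem hx, hA], hxarc⟩

end Plane




open Finset

section Plane

variable {α : Type*} [Fintype α] [DecidableEq α] {Bf : Finset (Finset α)}

/-- On a line `t` through `v`, exactly one point other than `v` avoids three lines not through
`v` whose pairwise intersections are off `t`. -/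
theorem tangent_point (hL : Cfsg.IsSteinerSystem 2 5 (Bf : Set (Finset α)))
    (hα : Fintype.card α = 21) {t s1 s2 s3 : Finset α} (ht : t ∈ Bf) (h1 : s1 ∈ Bf)
    (h2 : s2 ∈ Bf) (h3 : s3 ∈ Bf) {v : α} (hv : v ∈ t) (hv1 : v ∉ s1) (hv2 : v ∉ s2)
    (hv3 : v ∉ s3) (h12 : ∀ x, x ∈ s1 → x ∈ s2 → x ∉ t) (h13 : ∀ x, x ∈ s1 → x ∈ s3 → x ∉ t)
    (h23 : ∀ x, x ∈ s2 → x ∈ s3 → x ∉ t) :
    ((t.erase v).filter (fun x => x ∉ s1 ∧ x ∉ s2 ∧ x ∉ s3)).card = 1 := by
  have ht1 : t ≠ s1 := fun h => hv1 (h ▸ hv)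
  have ht2 : t ≠ s2 := fun h => hv2 (h ▸ hv)
  have ht3 : t ≠ s3 := fun h => hv3 (h ▸ hv)
  obtain ⟨p1, hp1⟩ := lines_meet hL hα ht h1 ht1
  obtain ⟨p2, hp2⟩ := lines_meet hL hα ht h2 ht2
  obtain ⟨p3, hp3⟩ := lines_meet hL hα ht h3 ht3
  have m1 : ∀ x, (x ∈ t ∧ x ∈ s1) ↔ x = p1 := by
    intro x; rw [← mem_inter, hp1, mem_singleton]
  have m2 : ∀ x, (x ∈ t ∧ x ∈ s2) ↔ x = p2 := by
    intro x; rw [← mem_inter, hp2, mem_singleton]
  have m3 : ∀ x, (x ∈ t ∧ x ∈ s3) ↔ x = p3 := by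
    intro x; rw [← mem_inter, hp3, mem_singleton]
  have q1 := (m1 p1).mpr rfl
  have q2 := (m2 p2).mpr rfl
  have q3 := (m3 p3).mpr rfl
  have hvp1 : v ≠ p1 := fun h => hv1 (h ▸ q1.2)
  have hvp2 : v ≠ p2 := fun h => hv2 (h ▸ q2.2)
  have hvp3 : v ≠ p3 := fun h => hv3 (h ▸ q3.2)
  have hp12 : p1 ≠ p2 := fun h => h12 p1 q1.2 (h ▸ q2.2) q1.1
  have hp13 : p1 ≠ p3 := fun h => h13 p1 q1.2 (h ▸ q3.2) q1.1
  have hp23 : p2 ≠ p3 := fun h => h23 p2 q2.2 (h ▸ q3.2) q2.1
  have hQ : ({v, p1, p2, p3} : Finset α) ⊆ t := by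
    intro x hx
    simp only [mem_insert, mem_singleton] at hx
    rcases hx with rfl | rfl | rfl | rfl
    · exact hv
    · exact q1.1
    · exact q2.1
    · exact q3.1
  have hQc : ({v, p1, p2, p3} : Finset α).card = 4 := by
    rw [card_insert_of_notMem, card_insert_of_notMem, card_insert_of_notMem, card_singleton]
    · simpa using hp23
    · simp only [mem_insert, mem_singleton]; push Not; exact ⟨hp12, hp13⟩
    · simp only [mem_insert, mem_singleton]; push Not; exact ⟨hvp1, hvp2, hvp3⟩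
  have hset : (t.erase v).filter (fun x => x ∉ s1 ∧ x ∉ s2 ∧ x ∉ s3) = t \ {v, p1, p2, p3} := by
    ext x
    simp only [mem_filter, mem_erase, mem_sdiff, mem_insert, mem_singleton]
    constructor
    · rintro ⟨⟨hxv, hxt⟩, hx1, hx2, hx3⟩
      refine ⟨hxt, ?_⟩
      rintro (rfl | rfl | rfl | rfl)
      · exact hxv rfl
      · exact hx1 q1.2
      · exact hx2 q2.2
      · exact hx3 q3.2
    · rintro ⟨hxt, hx⟩
      push Not at hx
      refine ⟨⟨hx.1, hxt⟩, ?_, ?_, ?_⟩
      · intro h; exact hx.2.1 ((m1 x).mp ⟨hxt, h⟩)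
      · intro h; exact hx.2.2.1 ((m2 x).mp ⟨hxt, h⟩)
      · intro h; exact hx.2.2.2 ((m3 x).mp ⟨hxt, h⟩)
  rw [hset, card_sdiff_of_subset hQ, hQc, line_card hL ht]

/-- The points lying on no secant of `A`. -/
def offSec (Bf : Finset (Finset α)) (A : Finset α) : Finset α :=
  univ.filter (fun x => ∀ l ∈ Bf, 2 ≤ (l ∩ A).card → x ∉ l)

theorem mem_offSec {A : Finset α} {x : α} :
    x ∈ offSec Bf A ↔ ∀ l ∈ Bf, 2 ≤ (l ∩ A).card → x ∉ l := by
  simp [offSec]

theorem two_le_card_inter {l A : Finset α} {p q : α} (hpq : p ≠ q) (hpl : p ∈ l) (hql : q ∈ l)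
    (hpA : p ∈ A) (hqA : q ∈ A) : 2 ≤ (l ∩ A).card := by
  have : ({p, q} : Finset α) ⊆ l ∩ A := by
    intro x hx
    simp only [mem_insert, mem_singleton] at hx
    rcases hx with rfl | rfl <;> simp [*]
  have h2 := card_le_card this
  rwa [card_pair hpq] at h2

theorem offSec_disjoint (hL : Cfsg.IsSteinerSystem 2 5 (Bf : Set (Finset α))) {A : Finset α}
    (hA : 2 ≤ A.card) : Disjoint A (offSec Bf A) := by
  rw [disjoint_left]
  intro x hxA hxE
  obtain ⟨y, hyA, hyx⟩ : ∃ y ∈ A, y ≠ x := by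
    by_contra hcon
    push Not at hcon
    have : A ⊆ {x} := fun y hy => mem_singleton.mpr (hcon y hy)
    have := card_le_card this
    rw [card_singleton] at this
    omega
  obtain ⟨l, hl, hxl, hyl⟩ := exists_line hL hyx.symm
  exact mem_offSec.mp hxE l hl (two_le_card_inter hyx.symm hxl hyl hxA hyA) hxl

/-- Vertex lemma: on a tangent `t` at the vertex `v` of a 4-arc there is exactly one point on
no secant. -/
theorem tangent_offSec (hL : Cfsg.IsSteinerSystem 2 5 (Bf : Set (Finset α)))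
    (hα : Fintype.card α = 21) {A : Finset α} (hA : IsArc Bf A) (hA4 : A.card = 4) {v : α}
    {t : Finset α} (ht : t ∈ Bf) (htA : t ∩ A = {v}) : (t ∩ offSec Bf A).card = 1 := by
  have hvtA : v ∈ t ∩ A := by rw [htA]; exact mem_singleton_self v
  have hvt : v ∈ t := (mem_inter.mp hvtA).1
  have hvA : v ∈ A := (mem_inter.mp hvtA).2
  have h3 : (A.erase v).card = 3 := by rw [card_erase_of_mem hvA, hA4]
  obtain ⟨x, y, z, hxy, hxz, hyz, hxyz⟩ := card_eq_three.mp h3
  have hmem : ∀ w, w ∈ A ↔ w = v ∨ w = x ∨ w = y ∨ w = z := by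
    intro w
    by_cases hwv : w = v
    · simp [hwv, hvA]
    · have : w ∈ A.erase v ↔ w ∈ A := by simp [hwv]
      rw [← this, hxyz]
      simp [hwv]
  have hxA : x ∈ A := (hmem x).mpr (Or.inr (Or.inl rfl))
  have hyA : y ∈ A := (hmem y).mpr (Or.inr (Or.inr (Or.inl rfl)))
  have hzA : z ∈ A := (hmem z).mpr (Or.inr (Or.inr (Or.inr rfl)))
  have hxv : x ≠ v := by
    have : x ∈ A.erase v := by rw [hxyz]; simp
    exact (mem_erase.mp this).1
  have hyv : y ≠ v := by
    have : y ∈ A.erase v := by rw [hxyz]; simp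
    exact (mem_erase.mp this).1
  have hzv : z ≠ v := by
    have : z ∈ A.erase v := by rw [hxyz]; simp
    exact (mem_erase.mp this).1
  obtain ⟨s1B, hx1, hy1⟩ := lineThru_spec (Bf := Bf) hL hxy
  obtain ⟨s2B, hx2, hz2⟩ := lineThru_spec (Bf := Bf) hL hxz
  obtain ⟨s3B, hy3, hz3⟩ := lineThru_spec (Bf := Bf) hL hyz
  set s1 := lineThru Bf x y
  set s2 := lineThru Bf x z
  set s3 := lineThru Bf y z
  have hv1 : v ∉ s1 := hA.not_three s1B hxA hyA hvA hxy hxv hyv hx1 hy1
  have hv2 : v ∉ s2 := hA.not_three s2B hxA hzA hvA hxz hxv hzv hx2 hz2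
  have hv3 : v ∉ s3 := hA.not_three s3B hyA hzA hvA hyz hyv hzv hy3 hz3
  have hz1 : z ∉ s1 := hA.not_three s1B hxA hyA hzA hxy hxz hyz hx1 hy1
  have hy2 : y ∉ s2 := hA.not_three s2B hxA hzA hyA hxz hxy hyz.symm hx2 hz2
  have hx3 : x ∉ s3 := hA.not_three s3B hyA hzA hxA hyz hxy.symm hxz.symm hy3 hz3
  have hxt : x ∉ t := by
    intro h
    have : x ∈ t ∩ A := mem_inter.mpr ⟨h, hxA⟩
    rw [htA, mem_singleton] at this
    exact hxv this
  have hyt : y ∉ t := by
    intro h
    have : y ∈ t ∩ A := mem_inter.mpr ⟨h, hyA⟩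
    rw [htA, mem_singleton] at this
    exact hyv this
  have hzt : z ∉ t := by
    intro h
    have : z ∈ t ∩ A := mem_inter.mpr ⟨h, hzA⟩
    rw [htA, mem_singleton] at this
    exact hzv this
  have h12 : ∀ w, w ∈ s1 → w ∈ s2 → w ∉ t := by
    intro w hw1 hw2 hwt
    have hne : s1 ≠ s2 := fun h => hz1 (h ▸ hz2)
    obtain ⟨p, hp⟩ := lines_meet hL hα s1B s2B hne
    have hwp : w = p := by
      have : w ∈ s1 ∩ s2 := mem_inter.mpr ⟨hw1, hw2⟩
      rwa [hp, mem_singleton] at this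
    have hxp : x = p := by
      have : x ∈ s1 ∩ s2 := mem_inter.mpr ⟨hx1, hx2⟩
      rwa [hp, mem_singleton] at this
    exact hxt (hxp ▸ hwp ▸ hwt)
  have h13 : ∀ w, w ∈ s1 → w ∈ s3 → w ∉ t := by
    intro w hw1 hw3 hwt
    have hne : s1 ≠ s3 := fun h => hz1 (h ▸ hz3)
    obtain ⟨p, hp⟩ := lines_meet hL hα s1B s3B hne
    have hwp : w = p := by
      have : w ∈ s1 ∩ s3 := mem_inter.mpr ⟨hw1, hw3⟩
      rwa [hp, mem_singleton] at this
    have hyp : y = p := by
      have : y ∈ s1 ∩ s3 := mem_inter.mpr ⟨hy1, hy3⟩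
      rwa [hp, mem_singleton] at this
    exact hyt (hyp ▸ hwp ▸ hwt)
  have h23 : ∀ w, w ∈ s2 → w ∈ s3 → w ∉ t := by
    intro w hw2 hw3 hwt
    have hne : s2 ≠ s3 := fun h => hy2 (h ▸ hy3)
    obtain ⟨p, hp⟩ := lines_meet hL hα s2B s3B hne
    have hwp : w = p := by
      have : w ∈ s2 ∩ s3 := mem_inter.mpr ⟨hw2, hw3⟩
      rwa [hp, mem_singleton] at this
    have hzp : z = p := by
      have : z ∈ s2 ∩ s3 := mem_inter.mpr ⟨hz2, hz3⟩
      rwa [hp, mem_singleton] at this
    exact hzt (hzp ▸ hwp ▸ hwt)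
  have key := tangent_point hL hα ht s1B s2B s3B hvt hv1 hv2 hv3 h12 h13 h23
  have hset : t ∩ offSec Bf A = (t.erase v).filter (fun w => w ∉ s1 ∧ w ∉ s2 ∧ w ∉ s3) := by
    ext w
    simp only [mem_inter, mem_filter, mem_erase, mem_offSec]
    constructor
    · rintro ⟨hwt, hwE⟩
      refine ⟨⟨?_, hwt⟩, ?_, ?_, ?_⟩
      · rintro rfl
        exact hwE _ (lineThru_spec hL hxv.symm).1
          (two_le_card_inter hxv.symm (lineThru_spec hL hxv.symm).2.1
            (lineThru_spec hL hxv.symm).2.2 hvA hxA) (lineThru_spec hL hxv.symm).2.1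
      · exact hwE s1 s1B (two_le_card_inter hxy hx1 hy1 hxA hyA)
      · exact hwE s2 s2B (two_le_card_inter hxz hx2 hz2 hxA hzA)
      · exact hwE s3 s3B (two_le_card_inter hyz hy3 hz3 hyA hzA)
    · rintro ⟨⟨hwv, hwt⟩, hw1, hw2, hw3⟩
      refine ⟨hwt, ?_⟩
      intro l hl hl2 hwl
      obtain ⟨p, hp, q, hq, hpq⟩ := one_lt_card.mp hl2
      have hpl := (mem_inter.mp hp).1
      have hql := (mem_inter.mp hq).1
      have hpA := (hmem p).mp (mem_inter.mp hp).2
      have hqA := (hmem q).mp (mem_inter.mp hq).2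
      -- if `v ∈ l` then `l = t`, impossible
      have hvl : v ∉ l := by
        intro hvl
        have hlt : l = t := line_unique hL hl ht hwv hwl hvl hwt hvt
        have hp' : p ∈ t ∩ A := mem_inter.mpr ⟨hlt ▸ hpl, (mem_inter.mp hp).2⟩
        have hq' : q ∈ t ∩ A := mem_inter.mpr ⟨hlt ▸ hql, (mem_inter.mp hq).2⟩
        rw [htA, mem_singleton] at hp' hq'
        exact hpq (hp'.trans hq'.symm)
      have hpv : p ≠ v := fun h => hvl (h ▸ hpl)
      have hqv : q ≠ v := fun h => hvl (h ▸ hql)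
      rcases hpA with rfl | rfl | rfl | rfl
      · exact hpv rfl
      · rcases hqA with rfl | rfl | rfl | rfl
        · exact hqv rfl
        · exact hpq rfl
        · exact hw1 (line_unique hL hl s1B hxy hpl hql hx1 hy1 ▸ hwl)
        · exact hw2 (line_unique hL hl s2B hxz hpl hql hx2 hz2 ▸ hwl)
      · rcases hqA with rfl | rfl | rfl | rfl
        · exact hqv rfl
        · exact hw1 (line_unique hL hl s1B hxy hql hpl hx1 hy1 ▸ hwl)
        · exact hpq rfl
        · exact hw3 (line_unique hL hl s3B hyz hpl hql hy3 hz3 ▸ hwl)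
      · rcases hqA with rfl | rfl | rfl | rfl
        · exact hqv rfl
        · exact hw2 (line_unique hL hl s2B hxz hql hpl hx2 hz2 ▸ hwl)
        · exact hw3 (line_unique hL hl s3B hyz hql hpl hy3 hz3 ▸ hwl)
        · exact hpq rfl
  rw [hset]
  exact key

end Plane




open Finset

section Plane

variable {α : Type*} [Fintype α] [DecidableEq α] {Bf : Finset (Finset α)}

theorem inter_eq_singleton_of_card {l A : Finset α} {v : α} (hv : v ∈ l ∩ A)
    (h : (l ∩ A).card = 1) : l ∩ A = {v} := by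
  obtain ⟨a, ha⟩ := card_eq_one.mp h
  rw [ha] at hv ⊢
  rw [mem_singleton.mp hv]

/-- The secants of a 4-arc through one of its vertices are three in number. -/
theorem card_secants_through (hL : Cfsg.IsSteinerSystem 2 5 (Bf : Set (Finset α)))
    {A : Finset α} (hA : IsArc Bf A) (hA4 : A.card = 4) {v : α} (hvA : v ∈ A) :
    (Bf.filter (fun l => v ∈ l ∧ 2 ≤ (l ∩ A).card)).card = 3 := by
  have h3 : (A.erase v).card = 3 := by rw [card_erase_of_mem hvA, hA4]
  have himg : Bf.filter (fun l => v ∈ l ∧ 2 ≤ (l ∩ A).card)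
      = (A.erase v).image (fun w => lineThru Bf v w) := by
    ext l
    simp only [mem_filter, mem_image, mem_erase]
    constructor
    · rintro ⟨hl, hvl, h2⟩
      obtain ⟨p, hp, q, hq, hpq⟩ := one_lt_card.mp h2
      by_cases hpv : p = v
      · have hqv : q ≠ v := fun h => hpq (hpv.trans h.symm)
        exact ⟨q, ⟨hqv, (mem_inter.mp hq).2⟩,
          lineThru_eq hL hqv.symm hl hvl (mem_inter.mp hq).1⟩
      · exact ⟨p, ⟨hpv, (mem_inter.mp hp).2⟩,
          lineThru_eq hL (Ne.symm hpv) hl hvl (mem_inter.mp hp).1⟩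
    · rintro ⟨w, ⟨hwv, hwA⟩, rfl⟩
      obtain ⟨h1, h2, h3⟩ := lineThru_spec (Bf := Bf) hL hwv.symm
      exact ⟨h1, h2, two_le_card_inter hwv.symm h2 h3 hvA hwA⟩
  rw [himg, card_image_of_injOn, h3]
  intro w hw w' hw' heq
  by_contra hne
  have hw1 := mem_erase.mp (mem_coe.mp hw)
  have hw2 := mem_erase.mp (mem_coe.mp hw')
  obtain ⟨h1, h2, h3⟩ := lineThru_spec (Bf := Bf) hL hw1.1.symm
  obtain ⟨_, _, h3'⟩ := lineThru_spec (Bf := Bf) hL hw2.1.symm
  have heq' : lineThru Bf v w = lineThru Bf v w' := heq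
  exact hA.not_three h1 hvA hw1.2 hw2.2 hw1.1.symm hw2.1.symm hne h2 h3 (heq' ▸ h3')

/-- The tangents of a 4-arc at one of its vertices are two in number. -/
theorem card_tangents (hL : Cfsg.IsSteinerSystem 2 5 (Bf : Set (Finset α)))
    (hα : Fintype.card α = 21) {A : Finset α} (hA : IsArc Bf A) (hA4 : A.card = 4) {v : α}
    (hvA : v ∈ A) : (Bf.filter (fun t => t ∩ A = {v})).card = 2 := by
  have h5 := card_lines_through hL hα v
  have h3 := card_secants_through hL hA hA4 hvA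
  have hsplit : Bf.filter (fun l => v ∈ l)
      = Bf.filter (fun t => t ∩ A = {v}) ∪ Bf.filter (fun l => v ∈ l ∧ 2 ≤ (l ∩ A).card) := by
    ext l
    simp only [mem_filter, mem_union]
    constructor
    · rintro ⟨hl, hvl⟩
      have hv : v ∈ l ∩ A := mem_inter.mpr ⟨hvl, hvA⟩
      have hpos : 1 ≤ (l ∩ A).card := card_pos.mpr ⟨v, hv⟩
      by_cases h1 : (l ∩ A).card = 1
      · exact Or.inl ⟨hl, inter_eq_singleton_of_card hv h1⟩
      · exact Or.inr ⟨hl, hvl, by omega⟩
    · rintro (⟨hl, h⟩ | ⟨hl, hvl, _⟩)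
      · refine ⟨hl, ?_⟩
        have : v ∈ l ∩ A := by rw [h]; exact mem_singleton_self v
        exact (mem_inter.mp this).1
      · exact ⟨hl, hvl⟩
  have hdisj : Disjoint (Bf.filter (fun t => t ∩ A = {v}))
      (Bf.filter (fun l => v ∈ l ∧ 2 ≤ (l ∩ A).card)) := by
    rw [disjoint_left]
    intro l h1 h2
    have e1 := (mem_filter.mp h1).2
    have e2 := (mem_filter.mp h2).2.2
    rw [e1, card_singleton] at e2
    omega
  rw [hsplit, card_union_of_disjoint hdisj, h3] at h5
  omega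

/-- A 4-arc has exactly two points on none of its secants. -/
theorem card_offSec (hL : Cfsg.IsSteinerSystem 2 5 (Bf : Set (Finset α)))
    (hα : Fintype.card α = 21) {A : Finset α} (hA : IsArc Bf A) (hA4 : A.card = 4) :
    (offSec Bf A).card = 2 := by
  obtain ⟨v, hvA⟩ : A.Nonempty := card_pos.mp (by omega)
  have hdis := offSec_disjoint (Bf := Bf) hL (A := A) (by omega)
  have hvE : v ∉ offSec Bf A := disjoint_left.mp hdis hvA
  set T := Bf.filter (fun t => t ∩ A = {v}) with hT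
  have hE : offSec Bf A = T.biUnion (fun t => t ∩ offSec Bf A) := by
    ext x
    simp only [mem_biUnion, mem_inter]
    constructor
    · intro hx
      have hxv : x ≠ v := fun h => hvE (h ▸ hx)
      obtain ⟨h1, h2, h3⟩ := lineThru_spec (Bf := Bf) hL hxv.symm
      refine ⟨lineThru Bf v x, ?_, h3, hx⟩
      rw [hT, mem_filter]
      refine ⟨h1, ?_⟩
      have hv : v ∈ lineThru Bf v x ∩ A := mem_inter.mpr ⟨h2, hvA⟩
      apply inter_eq_singleton_of_card hv
      have hpos : 1 ≤ (lineThru Bf v x ∩ A).card := card_pos.mpr ⟨v, hv⟩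
      by_contra hne
      exact mem_offSec.mp hx _ h1 (by omega) h3
    · rintro ⟨t, _, _, hx⟩
      exact hx
  have hcard : ∀ t ∈ T, (t ∩ offSec Bf A).card = 1 := by
    intro t ht
    rw [hT, mem_filter] at ht
    exact tangent_offSec hL hα hA hA4 ht.1 ht.2
  have hpd : ∀ t ∈ T, ∀ t' ∈ T, t ≠ t' →
      Disjoint (t ∩ offSec Bf A) (t' ∩ offSec Bf A) := by
    intro t ht t' ht' hne
    rw [hT, mem_filter] at ht ht'
    rw [disjoint_left]
    intro x hx hx'
    have hvt : v ∈ t := by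
      have : v ∈ t ∩ A := by rw [ht.2]; exact mem_singleton_self v
      exact (mem_inter.mp this).1
    have hvt' : v ∈ t' := by
      have : v ∈ t' ∩ A := by rw [ht'.2]; exact mem_singleton_self v
      exact (mem_inter.mp this).1
    have hxv : x ≠ v := fun h => hvE (h ▸ (mem_inter.mp hx).2)
    exact hne (line_unique hL ht.1 ht'.1 hxv (mem_inter.mp hx).1 hvt (mem_inter.mp hx').1 hvt')
  rw [hE, card_biUnion hpd, sum_congr rfl hcard, sum_const, smul_eq_mul, mul_one]
  exact card_tangents hL hα hA hA4 hvA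

/-- Completing a 4-arc by the two points off its secants gives a hyperoval. -/
theorem hyperoval_of_arc (hL : Cfsg.IsSteinerSystem 2 5 (Bf : Set (Finset α)))
    (hα : Fintype.card α = 21) {A : Finset α} (hA : IsArc Bf A) (hA4 : A.card = 4) :
    (A ∪ offSec Bf A).card = 6 ∧ IsArc Bf (A ∪ offSec Bf A) := by
  have hdis := offSec_disjoint (Bf := Bf) hL (A := A) (by omega)
  have hE2 := card_offSec hL hα hA hA4
  refine ⟨by rw [card_union_of_disjoint hdis, hA4, hE2], ?_⟩
  intro l hl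
  have hsplit : l ∩ (A ∪ offSec Bf A) = (l ∩ A) ∪ (l ∩ offSec Bf A) := inter_union_distrib_left _ _ _
  have hd' : Disjoint (l ∩ A) (l ∩ offSec Bf A) :=
    disjoint_of_subset_left inter_subset_right (disjoint_of_subset_right inter_subset_right hdis)
  rw [hsplit, card_union_of_disjoint hd']
  have hle := hA l hl
  have hEle : (l ∩ offSec Bf A).card ≤ 2 := by
    rw [← hE2]; exact card_le_card inter_subset_right
  rcases Nat.lt_or_ge (l ∩ A).card 1 with h0 | h1
  · omega
  · rcases Nat.lt_or_ge (l ∩ A).card 2 with h1' | h2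
    · have h1'' : (l ∩ A).card = 1 := by omega
      obtain ⟨v, hv⟩ := card_eq_one.mp h1''
      have := tangent_offSec hL hα hA hA4 hl hv
      omega
    · have : l ∩ offSec Bf A = ∅ := by
        rw [eq_empty_iff_forall_notMem]
        intro x hx
        exact mem_offSec.mp (mem_inter.mp hx).2 l hl h2 (mem_inter.mp hx).1
      rw [this, card_empty]
      omega

theorem IsArc.subset {S S' : Finset α} (hS : IsArc Bf S) (h : S' ⊆ S) : IsArc Bf S' :=
  fun l hl => (card_le_card (inter_subset_inter_left h)).trans (hS l hl)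

/-- The hyperoval containing a given 4-arc is unique. -/
theorem hyperoval_unique (hL : Cfsg.IsSteinerSystem 2 5 (Bf : Set (Finset α)))
    (hα : Fintype.card α = 21) {A H : Finset α} (hA4 : A.card = 4) (hH : IsArc Bf H)
    (hH6 : H.card = 6) (hAH : A ⊆ H) : H = A ∪ offSec Bf A := by
  have hA : IsArc Bf A := hH.subset hAH
  have hE2 := card_offSec hL hα hA hA4
  have hsub : H \ A ⊆ offSec Bf A := by
    intro x hx
    rw [mem_sdiff] at hx
    rw [mem_offSec]
    intro l hl h2 hxl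
    obtain ⟨p, hp, q, hq, hpq⟩ := one_lt_card.mp h2
    have hpA := (mem_inter.mp hp).2
    have hqA := (mem_inter.mp hq).2
    have hxp : p ≠ x := fun h => hx.2 (h ▸ hpA)
    have hxq : q ≠ x := fun h => hx.2 (h ▸ hqA)
    exact hH.not_three hl (hAH hpA) (hAH hqA) hx.1 hpq hxp hxq (mem_inter.mp hp).1
      (mem_inter.mp hq).1 hxl
  have hc : (H \ A).card = 2 := by rw [card_sdiff_of_subset hAH, hH6, hA4]
  have heq : H \ A = offSec Bf A := eq_of_subset_of_card_le hsub (by rw [hc, hE2])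
  rw [← heq, union_sdiff_of_subset hAH]

theorem exists_hyperoval (hL : Cfsg.IsSteinerSystem 2 5 (Bf : Set (Finset α)))
    (hα : Fintype.card α = 21) : ∃ H : Finset α, H.card = 6 ∧ IsArc Bf H := by
  obtain ⟨A, hA4, hA⟩ := exists_arc hL hα 4 le_rfl
  exact ⟨_, hyperoval_of_arc hL hα hA hA4⟩

end Plane




open Finset

section Plane

variable {α : Type*} [Fintype α] [DecidableEq α] {Bf : Finset (Finset α)}

/-- A hyperoval has no tangents: a line through one of its points contains a second one. -/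
theorem hyperoval_second_point (hL : Cfsg.IsSteinerSystem 2 5 (Bf : Set (Finset α)))
    (hα : Fintype.card α = 21) {H : Finset α} (hH : IsArc Bf H) (hH6 : H.card = 6)
    {l : Finset α} (hl : l ∈ Bf) {x : α} (hxH : x ∈ H) (hxl : x ∈ l) :
    ∃ y ∈ H, y ≠ x ∧ y ∈ l := by
  by_contra hcon
  push Not at hcon
  have h5 := card_lines_through hL hα x
  have hmaps : ∀ y ∈ H.erase x, lineThru Bf x y ∈ (Bf.filter (fun m => x ∈ m)).erase l := by
    intro y hy
    obtain ⟨hyx, hyH⟩ := mem_erase.mp hy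
    obtain ⟨h1, h2, h3⟩ := lineThru_spec (Bf := Bf) hL hyx.symm
    rw [mem_erase, mem_filter]
    refine ⟨?_, h1, h2⟩
    intro heq
    exact hcon y hyH hyx (heq ▸ h3)
  have hinj : Set.InjOn (fun y => lineThru Bf x y) (H.erase x : Set α) := by
    intro y hy y' hy' heq
    by_contra hne
    obtain ⟨hyx, hyH⟩ := mem_erase.mp (mem_coe.mp hy)
    obtain ⟨hyx', hyH'⟩ := mem_erase.mp (mem_coe.mp hy')
    obtain ⟨h1, h2, h3⟩ := lineThru_spec (Bf := Bf) hL hyx.symm
    obtain ⟨_, _, h3'⟩ := lineThru_spec (Bf := Bf) hL hyx'.symm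
    have heq' : lineThru Bf x y = lineThru Bf x y' := heq
    exact hH.not_three h1 hxH hyH hyH' hyx.symm hyx'.symm hne h2 h3 (heq' ▸ h3')
  have := card_le_card_of_injOn (fun y => lineThru Bf x y) hmaps hinj
  rw [card_erase_of_mem hxH, hH6, card_erase_of_mem (mem_filter.mpr ⟨hl, hxl⟩), h5] at this
  omega

/-- The common point of two lines (a default value if there is none). -/
noncomputable def meetPt (v0 : α) (l m : Finset α) : α :=
  if h : (l ∩ m).Nonempty then h.choose else v0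

theorem meetPt_mem (hL : Cfsg.IsSteinerSystem 2 5 (Bf : Set (Finset α)))
    (hα : Fintype.card α = 21) (v0 : α) {l m : Finset α} (hl : l ∈ Bf) (hm : m ∈ Bf)
    (hlm : l ≠ m) : meetPt v0 l m ∈ l ∧ meetPt v0 l m ∈ m := by
  have hne : (l ∩ m).Nonempty := by
    obtain ⟨x, hx⟩ := lines_meet hL hα hl hm hlm
    exact ⟨x, by rw [hx]; exact mem_singleton_self x⟩
  rw [meetPt, dif_pos hne]
  exact mem_inter.mp hne.choose_spec

/-- In a hyperoval `p 0, …, p 5`, the common point of the secants `p 0 p 1` and `p 2 p 3` lies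
off the hyperoval and on the secant `p 4 p 5`. -/
theorem off_point (hL : Cfsg.IsSteinerSystem 2 5 (Bf : Set (Finset α)))
    (hα : Fintype.card α = 21) {H : Finset α} (hH : IsArc Bf H) (hH6 : H.card = 6)
    (p : Fin 6 → α) (hp : Function.Injective p) (hpH : ∀ k, p k ∈ H) (v0 : α) :
    meetPt v0 (lineThru Bf (p 0) (p 1)) (lineThru Bf (p 2) (p 3)) ∈ lineThru Bf (p 0) (p 1)
    ∧ meetPt v0 (lineThru Bf (p 0) (p 1)) (lineThru Bf (p 2) (p 3)) ∈ lineThru Bf (p 2) (p 3)
    ∧ meetPt v0 (lineThru Bf (p 0) (p 1)) (lineThru Bf (p 2) (p 3)) ∈ lineThru Bf (p 4) (p 5)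
    ∧ meetPt v0 (lineThru Bf (p 0) (p 1)) (lineThru Bf (p 2) (p 3)) ∉ H := by
  have hne : ∀ i j : Fin 6, i ≠ j → p i ≠ p j := fun i j hij h => hij (hp h)
  have hHimg : ∀ x ∈ H, ∃ k, p k = x := by
    have : univ.image p = H := by
      apply eq_of_subset_of_card_le
      · intro x hx
        obtain ⟨k, _, rfl⟩ := mem_image.mp hx
        exact hpH k
      · rw [card_image_of_injective _ hp, hH6]; simp
    intro x hx
    rw [← this] at hx
    obtain ⟨k, _, hk⟩ := mem_image.mp hx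
    exact ⟨k, hk⟩
  obtain ⟨l01, a01, b01⟩ := lineThru_spec (Bf := Bf) hL (hne 0 1 (by decide))
  obtain ⟨l23, a23, b23⟩ := lineThru_spec (Bf := Bf) hL (hne 2 3 (by decide))
  obtain ⟨l45, a45, b45⟩ := lineThru_spec (Bf := Bf) hL (hne 4 5 (by decide))
  -- a secant `p i p j` contains no third point of the hyperoval
  have hsec : ∀ i j k : Fin 6, i ≠ j → i ≠ k → j ≠ k → p k ∉ lineThru Bf (p i) (p j) := by
    intro i j k hij hik hjk
    obtain ⟨h1, h2, h3⟩ := lineThru_spec (Bf := Bf) hL (hne i j hij)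
    exact hH.not_three h1 (hpH i) (hpH j) (hpH k) (hne i j hij) (hne i k hik) (hne j k hjk) h2 h3
  have hlne : lineThru Bf (p 0) (p 1) ≠ lineThru Bf (p 2) (p 3) := by
    intro h
    exact hsec 0 1 2 (by decide) (by decide) (by decide) (h ▸ a23)
  obtain ⟨hq1, hq2⟩ := meetPt_mem hL hα v0 l01 l23 hlne
  set q := meetPt v0 (lineThru Bf (p 0) (p 1)) (lineThru Bf (p 2) (p 3)) with hq
  have hqH : q ∉ H := by
    intro hqH
    obtain ⟨k, hk⟩ := hHimg q hqH
    have h01 : k = 0 ∨ k = 1 := by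
      by_contra hcon
      push Not at hcon
      exact hsec 0 1 k (by decide) hcon.1.symm hcon.2.symm (hk ▸ hq1)
    have h23 : k = 2 ∨ k = 3 := by
      by_contra hcon
      push Not at hcon
      exact hsec 2 3 k (by decide) hcon.1.symm hcon.2.symm (hk ▸ hq2)
    rcases h01 with rfl | rfl <;> rcases h23 with h | h <;> exact absurd h (by decide)
  refine ⟨hq1, hq2, ?_, hqH⟩
  have hq4 : q ≠ p 4 := fun h => hqH (h ▸ hpH 4)
  obtain ⟨m, hm, hqm, h4m⟩ := exists_line hL hq4
  obtain ⟨y, hyH, hy4, hym⟩ := hyperoval_second_point hL hα hH hH6 hm (hpH 4) h4m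
  obtain ⟨k, rfl⟩ := hHimg y hyH
  have hk4 : k ≠ 4 := fun h => hy4 (by rw [h])
  have hqk : q ≠ p k := fun h => hqH (h ▸ hpH k)
  -- `m` is the line through `q` and `p k`
  have hk5 : k = 5 := by
    by_contra hk5
    have hcases : k = 0 ∨ k = 1 ∨ k = 2 ∨ k = 3 := by
      fin_cases k <;> simp_all
    rcases hcases with rfl | rfl | rfl | rfl
    · have : m = lineThru Bf (p 0) (p 1) := line_unique hL hm l01 hqk hqm hym hq1 a01
      exact hsec 0 1 4 (by decide) (by decide) (by decide) (this ▸ h4m)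
    · have : m = lineThru Bf (p 0) (p 1) := line_unique hL hm l01 hqk hqm hym hq1 b01
      exact hsec 0 1 4 (by decide) (by decide) (by decide) (this ▸ h4m)
    · have : m = lineThru Bf (p 2) (p 3) := line_unique hL hm l23 hqk hqm hym hq2 a23
      exact hsec 2 3 4 (by decide) (by decide) (by decide) (this ▸ h4m)
    · have : m = lineThru Bf (p 2) (p 3) := line_unique hL hm l23 hqk hqm hym hq2 b23
      exact hsec 2 3 4 (by decide) (by decide) (by decide) (this ▸ h4m)
  subst hk5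
  have : m = lineThru Bf (p 4) (p 5) :=
    line_unique hL hm l45 (hne 4 5 (by decide)) h4m hym a45 b45
  exact this ▸ hqm

end Plane




open Finset

/-- The 15 synthemes of `{0,…,5}`: each entry lists three disjoint pairs. -/
def synL : List (List ℕ) :=
  [[0,1,2,3,4,5],[0,1,2,4,3,5],[0,1,2,5,3,4],[0,2,1,3,4,5],[0,2,1,4,3,5],[0,2,1,5,3,4],
   [0,3,1,2,4,5],[0,3,1,4,2,5],[0,3,1,5,2,4],[0,4,1,2,3,5],[0,4,1,3,2,5],[0,4,1,5,2,3],
   [0,5,1,2,3,4],[0,5,1,3,2,4],[0,5,1,4,2,3]]

/-- Entry `k` of syntheme `s`. -/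
def synAt (s k : ℕ) : ℕ := (synL.getD s []).getD k 0

/-- `{a, b}` is one of the three pairs of syntheme `s`. -/
def isPair (s a b : ℕ) : Prop :=
  ∃ j : Fin 3, (synAt s (2 * j.val) = a ∧ synAt s (2 * j.val + 1) = b)
    ∨ (synAt s (2 * j.val) = b ∧ synAt s (2 * j.val + 1) = a)

instance instDecIsPair (s a b : ℕ) : Decidable (isPair s a b) := by
  unfold isPair; infer_instance

theorem synAt_lt : ∀ s : Fin 15, ∀ k : Fin 6, synAt s.val k.val < 6 := by decide

theorem synAt_inj : ∀ s : Fin 15, ∀ k k' : Fin 6, synAt s.val k.val = synAt s.val k'.val → k = k' := by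
  decide

theorem synAt_surj : ∀ s : Fin 15, ∀ a : Fin 6, ∃ k : Fin 6, synAt s.val k.val = a.val := by decide

theorem syn_eq_of_pairs : ∀ s s' : Fin 15,
    (∀ j : Fin 3, isPair s.val (synAt s'.val (2 * j.val)) (synAt s'.val (2 * j.val + 1))) →
      s = s' := by decide

section Plane

variable {α : Type*} [Fintype α] [DecidableEq α] {Bf : Finset (Finset α)}

/-- Extend a labelling of the hyperoval to all naturals. -/
def hN (h : Fin 6 → α) (n : ℕ) : α := h ⟨n % 6, Nat.mod_lt _ (by norm_num)⟩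

theorem hN_of_lt (h : Fin 6 → α) {n : ℕ} (hn : n < 6) : hN h n = h ⟨n, hn⟩ := by
  simp [hN, Nat.mod_eq_of_lt hn]

theorem hN_inj (h : Fin 6 → α) (hh : Function.Injective h) {a b : ℕ} (ha : a < 6) (hb : b < 6)
    (hab : hN h a = hN h b) : a = b := by
  rw [hN_of_lt h ha, hN_of_lt h hb] at hab
  exact Fin.mk.inj_iff.mp (hh hab)

/-- The six hyperoval points in the order given by syntheme `s`. -/
def pS (h : Fin 6 → α) (s : ℕ) (k : Fin 6) : α := hN h (synAt s k.val)

/-- The labelling of the plane by `{0,…,20}` determined by a labelling of a hyperoval. -/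
noncomputable def psiN (Bf : Finset (Finset α)) (h : Fin 6 → α) (n : ℕ) : α :=
  if n < 6 then hN h n else
    meetPt (h 0) (lineThru Bf (pS h (n - 6) 0) (pS h (n - 6) 1))
      (lineThru Bf (pS h (n - 6) 2) (pS h (n - 6) 3))

theorem psiN_lt (h : Fin 6 → α) {n : ℕ} (hn : n < 6) : psiN Bf h n = hN h n := by
  simp [psiN, hn]

theorem pS_inj (h : Fin 6 → α) (hh : Function.Injective h) {s : ℕ} (hs : s < 15) :
    Function.Injective (pS h s) := by
  intro k k' hkk
  have h1 := synAt_lt ⟨s, hs⟩ k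
  have h2 := synAt_lt ⟨s, hs⟩ k'
  exact synAt_inj ⟨s, hs⟩ k k' (hN_inj h hh h1 h2 hkk)

theorem psiN_off (hL : Cfsg.IsSteinerSystem 2 5 (Bf : Set (Finset α)))
    (hα : Fintype.card α = 21) {H : Finset α} (hH : IsArc Bf H) (hH6 : H.card = 6)
    (h : Fin 6 → α) (hh : Function.Injective h) (hhH : ∀ k, h k ∈ H) {s : ℕ} (hs : s < 15) :
    (∀ j : Fin 3, psiN Bf h (6 + s)
      ∈ lineThru Bf (hN h (synAt s (2 * j.val))) (hN h (synAt s (2 * j.val + 1))))
    ∧ psiN Bf h (6 + s) ∉ H := by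
  have hp := pS_inj h hh hs
  have hpH : ∀ k, pS h s k ∈ H := fun k => hhH _
  have key := off_point hL hα hH hH6 (pS h s) hp hpH (h 0)
  have hpsi : psiN Bf h (6 + s) = meetPt (h 0) (lineThru Bf (pS h s 0) (pS h s 1))
      (lineThru Bf (pS h s 2) (pS h s 3)) := by
    have : ¬ (6 + s < 6) := by omega
    simp [psiN, this]
  rw [hpsi]
  refine ⟨?_, key.2.2.2⟩
  intro j
  fin_cases j
  · exact key.1
  · exact key.2.1
  · exact key.2.2.1

theorem lineThru_comm (hL : Cfsg.IsSteinerSystem 2 5 (Bf : Set (Finset α))) {a b : α}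
    (hab : a ≠ b) : lineThru Bf a b = lineThru Bf b a := by
  obtain ⟨h1, h2, h3⟩ := lineThru_spec (Bf := Bf) hL hab.symm
  exact lineThru_eq hL hab h1 h3 h2

/-- If the point labelled by syntheme `s` lies on the secant `a b` then `{a, b}` is one of the
pairs of `s`. -/
theorem pair_of_mem (hL : Cfsg.IsSteinerSystem 2 5 (Bf : Set (Finset α)))
    (hα : Fintype.card α = 21) {H : Finset α} (hH : IsArc Bf H) (hH6 : H.card = 6)
    (h : Fin 6 → α) (hh : Function.Injective h) (hhH : ∀ k, h k ∈ H) {s : ℕ} (hs : s < 15)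
    {a b : ℕ} (ha : a < 6) (hb : b < 6) (hab : a ≠ b)
    (hq : psiN Bf h (6 + s) ∈ lineThru Bf (hN h a) (hN h b)) : isPair s a b := by
  obtain ⟨hlines, hqH⟩ := psiN_off hL hα hH hH6 h hh hhH hs
  set q := psiN Bf h (6 + s) with hqdef
  have hne : hN h a ≠ hN h b := fun e => hab (hN_inj h hh ha hb e)
  obtain ⟨lab, aab, bab⟩ := lineThru_spec (Bf := Bf) hL hne
  have hqa : q ≠ hN h a := fun e => hqH (e ▸ hhH _)
  -- the general step: if `a = synAt s i` and `i, i'` are partners then `b = synAt s i'`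
  have step : ∀ i i' : Fin 6, i ≠ i' → synAt s i.val = a →
      q ∈ lineThru Bf (hN h (synAt s i.val)) (hN h (synAt s i'.val)) → synAt s i'.val = b := by
    intro i i' hii hia hqi
    by_contra hne'
    have hi' := synAt_lt ⟨s, hs⟩ i'
    have hne1 : hN h (synAt s i.val) ≠ hN h (synAt s i'.val) := by
      intro e
      exact hii (synAt_inj ⟨s, hs⟩ i i' (hN_inj h hh (synAt_lt ⟨s, hs⟩ i) hi' e))
    obtain ⟨l1, a1, b1⟩ := lineThru_spec (Bf := Bf) hL hne1
    rw [hia] at hqi a1 l1 b1 hne1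
    have : lineThru Bf (hN h a) (hN h b) = lineThru Bf (hN h a) (hN h (synAt s i'.val)) :=
      line_unique hL lab l1 hqa hq aab hqi a1
    have hb' : hN h b ∈ lineThru Bf (hN h a) (hN h (synAt s i'.val)) := this ▸ bab
    have hne2 : hN h (synAt s i'.val) ≠ hN h b := fun e => hne' (hN_inj h hh hi' hb e)
    exact hH.not_three l1 (hhH _) (hhH _) (hhH _) hne1 hne hne2 a1 b1 hb'
  obtain ⟨k, hk⟩ := synAt_surj ⟨s, hs⟩ ⟨a, ha⟩
  have hk' : synAt s k.val = a := hk
  have l0 := hlines 0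
  have l1 := hlines 1
  have l2 := hlines 2
  simp only [Fin.val_zero, Fin.val_one, Fin.val_two, Nat.mul_zero, Nat.zero_add, Nat.mul_one] at l0 l1 l2
  have c0 := lineThru_comm (Bf := Bf) hL (a := hN h (synAt s 0)) (b := hN h (synAt s 1))
  have c1 := lineThru_comm (Bf := Bf) hL (a := hN h (synAt s 2)) (b := hN h (synAt s 3))
  have c2 := lineThru_comm (Bf := Bf) hL (a := hN h (synAt s 4)) (b := hN h (synAt s 5))
  have d : ∀ i i' : ℕ, i < 6 → i' < 6 → i ≠ i' → hN h (synAt s i) ≠ hN h (synAt s i') := by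
    intro i i' hi hi' hii e
    have := synAt_inj ⟨s, hs⟩ ⟨i, hi⟩ ⟨i', hi'⟩
      (hN_inj h hh (synAt_lt ⟨s, hs⟩ ⟨i, hi⟩) (synAt_lt ⟨s, hs⟩ ⟨i', hi'⟩) e)
    exact hii (Fin.mk.inj_iff.mp this)
  fin_cases k
  · exact ⟨0, Or.inl ⟨hk', step 0 1 (by decide) hk' l0⟩⟩
  · refine ⟨0, Or.inr ⟨step 1 0 (by decide) hk' ?_, hk'⟩⟩
    show q ∈ lineThru Bf (hN h (synAt s 1)) (hN h (synAt s 0))
    rw [← c0 (d 0 1 (by norm_num) (by norm_num) (by norm_num))]; exact l0
  · exact ⟨1, Or.inl ⟨hk', step 2 3 (by decide) hk' l1⟩⟩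
  · refine ⟨1, Or.inr ⟨step 3 2 (by decide) hk' ?_, hk'⟩⟩
    show q ∈ lineThru Bf (hN h (synAt s 3)) (hN h (synAt s 2))
    rw [← c1 (d 2 3 (by norm_num) (by norm_num) (by norm_num))]; exact l1
  · exact ⟨2, Or.inl ⟨hk', step 4 5 (by decide) hk' l2⟩⟩
  · refine ⟨2, Or.inr ⟨step 5 4 (by decide) hk' ?_, hk'⟩⟩
    show q ∈ lineThru Bf (hN h (synAt s 5)) (hN h (synAt s 4))
    rw [← c2 (d 4 5 (by norm_num) (by norm_num) (by norm_num))]; exact l2

end Plane


end Cfsg.Agent.Helper27.Witt
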