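import Mathlib
import Cfsg.Agent.Lib.Helper27.WittPlane
import Cfsg.Agent.Lib.Helper27.WittData21

set_option autoImplicit false
set_option linter.unusedSectionVars false

/-! A projective plane of order 4 with a labelled hyperoval is the standard plane. -/

namespace Cfsg.Agent.Helper27.Witt


open Finset

/-- Every secant line of the standard plane consists of two hyperoval points `a`, `b` and the
three synthemes containing the pair `{a, b}`. -/
theorem duadL_struct : ∀ ys ∈ duadL, ys.length = 5 ∧ ∃ a : Fin 6, ∃ b : Fin 6, a ≠ b ∧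
    ∀ y ∈ ys, y < 21 ∧ (y = a.val ∨ y = b.val ∨ (6 ≤ y ∧ isPair (y - 6) a.val b.val)) := by
  decide

theorem duadL_cover : ∀ a b : Fin 6, a ≠ b → ∃ ys ∈ duadL, a.val ∈ ys ∧ b.val ∈ ys := by
  decide

section Plane

variable {α : Type*} [Fintype α] [DecidableEq α] {Bf : Finset (Finset α)}

theorem psiN_inj (hL : Cfsg.IsSteinerSystem 2 5 (Bf : Set (Finset α)))
    (hα : Fintype.card α = 21) {H : Finset α} (hH : IsArc Bf H) (hH6 : H.card = 6)
    (h : Fin 6 → α) (hh : Function.Injective h) (hhH : ∀ k, h k ∈ H) {i j : ℕ} (hi : i < 21)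
    (hj : j < 21) (hij : psiN Bf h i = psiN Bf h j) : i = j := by
  have hHmem : ∀ n, n < 6 → psiN Bf h n ∈ H := by
    intro n hn
    rw [psiN_lt h hn]
    exact hhH _
  have hoff : ∀ n, 6 ≤ n → n < 21 → psiN Bf h n ∉ H := by
    intro n h6 h21
    have := (psiN_off hL hα hH hH6 h hh hhH (s := n - 6) (by omega)).2
    rwa [show 6 + (n - 6) = n by omega] at this
  rcases Nat.lt_or_ge i 6 with hi6 | hi6 <;> rcases Nat.lt_or_ge j 6 with hj6 | hj6
  · rw [psiN_lt h hi6, psiN_lt h hj6] at hij
    exact hN_inj h hh hi6 hj6 hij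
  · exact absurd (hij ▸ hHmem i hi6) (hoff j hj6 hj)
  · exact absurd (hij.symm ▸ hHmem j hj6) (hoff i hi6 hi)
  · have hs : i - 6 < 15 := by omega
    have hs' : j - 6 < 15 := by omega
    have key : (⟨i - 6, hs⟩ : Fin 15) = ⟨j - 6, hs'⟩ := by
      apply syn_eq_of_pairs
      intro j3
      have hl := (psiN_off hL hα hH hH6 h hh hhH hs').1 j3
      rw [show 6 + (j - 6) = j by omega, ← hij, show i = 6 + (i - 6) by omega] at hl
      have h1 : 2 * j3.val < 6 := by omega
      have h2 : 2 * j3.val + 1 < 6 := by omega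
      apply pair_of_mem hL hα hH hH6 h hh hhH hs (synAt_lt ⟨j - 6, hs'⟩ ⟨2 * j3.val, h1⟩)
        (synAt_lt ⟨j - 6, hs'⟩ ⟨2 * j3.val + 1, h2⟩) _ hl
      intro e
      have := synAt_inj ⟨j - 6, hs'⟩ ⟨2 * j3.val, h1⟩ ⟨2 * j3.val + 1, h2⟩ e
      have := Fin.mk.inj_iff.mp this
      omega
    have := Fin.mk.inj_iff.mp key
    omega

/-- The labelling as a map from `Fin 21`. -/
noncomputable def psiF (Bf : Finset (Finset α)) (h : Fin 6 → α) (i : Fin 21) : α :=
  psiN Bf h i.val

theorem psiF_bijective (hL : Cfsg.IsSteinerSystem 2 5 (Bf : Set (Finset α)))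
    (hα : Fintype.card α = 21) {H : Finset α} (hH : IsArc Bf H) (hH6 : H.card = 6)
    (h : Fin 6 → α) (hh : Function.Injective h) (hhH : ∀ k, h k ∈ H) :
    Function.Bijective (psiF Bf h) := by
  rw [Fintype.bijective_iff_injective_and_card]
  refine ⟨?_, by rw [hα]; simp⟩
  intro i j hij
  exact Fin.ext (psiN_inj hL hα hH hH6 h hh hhH i.isLt j.isLt hij)

/-- The image of a standard secant line is the secant through the corresponding two points. -/
theorem image_duad (hL : Cfsg.IsSteinerSystem 2 5 (Bf : Set (Finset α)))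
    (hα : Fintype.card α = 21) {H : Finset α} (hH : IsArc Bf H) (hH6 : H.card = 6)
    (h : Fin 6 → α) (hh : Function.Injective h) (hhH : ∀ k, h k ∈ H) {ys : List ℕ}
    (hys : ys ∈ duadL) :
    ∃ a b : Fin 6, a ≠ b ∧ a.val ∈ ys ∧ b.val ∈ ys ∧
      (∀ y ∈ ys, y < 6 → y = a.val ∨ y = b.val) ∧
      (ofL 21 ys).image (psiF Bf h) = lineThru Bf (h a) (h b) := by
  obtain ⟨hlen, a, b, hab, hall⟩ := duadL_struct ys hys
  obtain ⟨hnd, hlt⟩ := validAllB_spec 21 duadL valid_duadL ys hys
  have hne : h a ≠ h b := fun e => hab (hh e)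
  obtain ⟨lab, aab, bab⟩ := lineThru_spec (Bf := Bf) hL hne
  have hsub : (ofL 21 ys).image (psiF Bf h) ⊆ lineThru Bf (h a) (h b) := by
    intro x hx
    obtain ⟨i, hi, rfl⟩ := mem_image.mp hx
    rw [mem_ofL] at hi
    obtain ⟨_, hcase⟩ := hall i.val hi
    rcases hcase with e | e | ⟨h6, hp⟩
    · have : psiF Bf h i = h a := by
        rw [psiF, e, psiN_lt h a.isLt, hN_of_lt h a.isLt]
      rw [this]; exact aab
    · have : psiF Bf h i = h b := by
        rw [psiF, e, psiN_lt h b.isLt, hN_of_lt h b.isLt]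
      rw [this]; exact bab
    · have hs : i.val - 6 < 15 := by have := i.isLt; omega
      obtain ⟨j3, hj3⟩ := hp
      have hl := (psiN_off hL hα hH hH6 h hh hhH hs).1 j3
      rw [show 6 + (i.val - 6) = i.val by omega] at hl
      rcases hj3 with ⟨e1, e2⟩ | ⟨e1, e2⟩
      · rw [e1, e2, hN_of_lt h a.isLt, hN_of_lt h b.isLt] at hl
        exact hl
      · rw [e1, e2, hN_of_lt h a.isLt, hN_of_lt h b.isLt, ← lineThru_comm hL hne] at hl
        exact hl
  have hcard : ((ofL 21 ys).image (psiF Bf h)).card = 5 := by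
    rw [card_image_of_injective _ (psiF_bijective hL hα hH hH6 h hh hhH).injective,
      card_ofL ys hnd hlt, hlen]
  have heq := eq_of_subset_of_card_le hsub (by rw [hcard, line_card hL lab])
  -- `a` and `b` are in `ys`: the line has five points, so all of them are images
  have hmem : ∀ c : Fin 6, h c ∈ lineThru Bf (h a) (h b) → c.val ∈ ys := by
    intro c hc
    rw [← heq] at hc
    obtain ⟨i, hi, hic⟩ := mem_image.mp hc
    rw [mem_ofL] at hi
    have : psiF Bf h i = psiN Bf h c.val := by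
      rw [hic, psiN_lt h c.isLt, hN_of_lt h c.isLt]
    have := psiN_inj hL hα hH hH6 h hh hhH i.isLt (by have := c.isLt; omega) this
    rw [← this]; exact hi
  refine ⟨a, b, hab, hmem a aab, hmem b bab, ?_, heq⟩
  intro y hy hy6
  rcases (hall y hy).2 with e | e | ⟨h6, _⟩
  · exact Or.inl e
  · exact Or.inr e
  · omega

end Plane




open Finset

theorem pts21_eq : [6, 7, 8, 9, 10, 11, 12, 13, 14, 15, 16, 17, 18, 19, 20] = List.range' 6 15 := by
  decide

section Plane

variable {α : Type*} [Fintype α] [DecidableEq α]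

theorem card_lines (Bf : Finset (Finset α)) (hL : Cfsg.IsSteinerSystem 2 5 (Bf : Set (Finset α)))
    (hα : Fintype.card α = 21) : Bf.card = 21 := by
  have := steiner_lambda Bf hL ∅ (by simp)
  rw [hα] at this
  simp only [card_empty, empty_subset, filter_true] at this
  norm_num [Nat.choose] at this
  have h2 : Bf.filter (fun _ => True) = Bf := filter_true_of_mem (fun _ _ => trivial)
  omega

/-- A projective plane of order 4 with a labelled hyperoval is the standard plane, by a
labelling extending the given one. -/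
theorem plane_label {L : Set (Finset α)} (hL : Cfsg.IsSteinerSystem 2 5 L)
    (hα : Fintype.card α = 21) (H : Finset α) (hH6 : H.card = 6)
    (hH : ∀ l ∈ L, (l ∩ H).card ≤ 2) (h : Fin 6 → α) (hh : Function.Injective h)
    (hhH : ∀ k, h k ∈ H) :
    ∃ e : α ≃ Fin 21, (∀ k : Fin 6, (e (h k)).val = k.val)
      ∧ (fun b : Finset α => b.image e) '' L = famO 21 DL21 := by
  classical
  obtain ⟨Bf, rfl⟩ := exists_finset_blocks L
  have hHarc : IsArc Bf H := fun l hl => hH l (by exact_mod_cast hl)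
  have hbij := psiF_bijective hL hα hHarc hH6 h hh hhH
  set ψ := psiF Bf h with hψ
  set e : α ≃ Fin 21 := (Equiv.ofBijective ψ hbij).symm with he
  have heψ : ∀ i, e (ψ i) = i := fun i => by
    rw [he]; exact (Equiv.ofBijective ψ hbij).symm_apply_apply i
  have hψe : ∀ x, ψ (e x) = x := fun x => by
    rw [he]; exact (Equiv.ofBijective ψ hbij).apply_symm_apply x
  have himg : ∀ (X : Finset (Fin 21)) (l : Finset α), X.image ψ = l → l.image e = X := by
    intro X l hXl
    rw [← hXl, image_image]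
    conv_rhs => rw [← image_id (s := X)]
    apply image_congr
    intro i _
    exact heψ i
  have hHimg : ∀ x ∈ H, ∃ k, h k = x := by
    have : univ.image h = H := by
      apply eq_of_subset_of_card_le
      · intro x hx
        obtain ⟨k, _, rfl⟩ := mem_image.mp hx
        exact hhH k
      · rw [card_image_of_injective _ hh, hH6]; simp
    intro x hx
    rw [← this] at hx
    obtain ⟨k, _, hk⟩ := mem_image.mp hx
    exact ⟨k, hk⟩
  have hψk : ∀ k : Fin 6, ψ ⟨k.val, by have := k.isLt; omega⟩ = h k := by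
    intro k
    rw [hψ, psiF, psiN_lt h k.isLt, hN_of_lt h k.isLt]
  refine ⟨e, ?_, ?_⟩
  · intro k
    rw [← hψk k, heψ]
  set F : Set (Finset (Fin 21)) := (fun b : Finset α => b.image e) '' (Bf : Set (Finset α)) with hF
  set K : Set (Finset (Fin 21)) := famO 21 duadL with hK
  have hKF : K ⊆ F := by
    rintro Y ⟨ys, hys, rfl⟩
    obtain ⟨a, b, hab, _, _, _, himgd⟩ := image_duad hL hα hHarc hH6 h hh hhH hys
    have hne : h a ≠ h b := fun e' => hab (hh e')
    refine ⟨lineThru Bf (h a) (h b), mem_coe.mpr (lineThru_spec hL hne).1, ?_⟩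
    exact himg _ _ himgd
  have hAF : ∀ X ∈ F, ∀ Y ∈ F, X ≠ Y → (X ∩ Y).card = 1 := by
    rintro X ⟨l, hl, rfl⟩ Y ⟨m, hm, rfl⟩ hXY
    have hlm : l ≠ m := fun e' => hXY (by rw [e'])
    show (l.image e ∩ m.image e).card = 1
    rw [← image_inter _ _ e.injective, card_image_of_injective _ e.injective]
    exact lines_meet_card hL hα (mem_coe.mp hl) (mem_coe.mp hm) hlm
  have hQ : ∀ X ∈ F, X ∉ K → (X.card = 5 ∧ ∀ i ∈ X, 6 ≤ i.val) := by
    rintro X ⟨l, hl, rfl⟩ hXK
    have hl' : l ∈ Bf := mem_coe.mp hl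
    refine ⟨?_, ?_⟩
    · show (l.image e).card = 5
      rw [card_image_of_injective _ e.injective]
      exact line_card hL hl'
    · intro i hi
      by_contra hi6
      push Not at hi6
      apply hXK
      obtain ⟨x, hxl, hxi⟩ := mem_image.mp hi
      have hx : x = h ⟨i.val, hi6⟩ := by
        rw [← hψe x, hxi, ← hψk ⟨i.val, hi6⟩]
      have hxH : x ∈ H := hx ▸ hhH _
      obtain ⟨y, hyH, hyx, hyl⟩ := hyperoval_second_point hL hα hHarc hH6 hl' hxH hxl
      obtain ⟨c, rfl⟩ := hHimg y hyH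
      have hci : (⟨i.val, hi6⟩ : Fin 6) ≠ c := by
        intro e'
        exact hyx (by rw [hx, e'])
      obtain ⟨ys, hys, hiy, hcy⟩ := duadL_cover ⟨i.val, hi6⟩ c hci
      obtain ⟨a, b, hab, _, _, hsmall, himgd⟩ := image_duad hL hα hHarc hH6 h hh hhH hys
      have hne : h a ≠ h b := fun e' => hab (hh e')
      obtain ⟨lab, aab, bab⟩ := lineThru_spec (Bf := Bf) hL hne
      have h1 := hsmall _ hiy hi6
      have h2 := hsmall _ hcy c.isLt
      have hxl' : x ∈ lineThru Bf (h a) (h b) := by
        rcases h1 with e1 | e1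
        · have : (⟨i.val, hi6⟩ : Fin 6) = a := Fin.ext e1
          rw [hx, this]; exact aab
        · have : (⟨i.val, hi6⟩ : Fin 6) = b := Fin.ext e1
          rw [hx, this]; exact bab
      have hcl' : h c ∈ lineThru Bf (h a) (h b) := by
        rcases h2 with e1 | e1
        · rw [Fin.ext e1]; exact aab
        · rw [Fin.ext e1]; exact bab
      have hleq : lineThru Bf (h a) (h b) = l :=
        line_unique hL lab hl' hyx.symm hxl' hcl' hxl hyl
      refine ⟨ys, hys, ?_⟩
      show l.image e = ofL 21 ys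
      rw [← hleq]
      exact himg _ _ himgd
  have hC1 : ∀ X : Finset (Fin 21), (X.card = 5 ∧ ∀ i ∈ X, 6 ≤ i.val) →
      (∀ Y ∈ K, (X ∩ Y).card = 1) → ∃ _ : Unit, X ∈ famO 21 totalL := by
    intro X hX hXK
    refine ⟨(), ?_⟩
    apply classify 5 [6, 7, 8, 9, 10, 11, 12, 13, 14, 15, 16, 17, 18, 19, 20] duadL totalL true
      LP21 _ (by decide) LP21_eq tgt21_eq dfs21 X _ hX.1
    · intro ys hys
      rw [hXK _ ⟨ys, hys, rfl⟩]
      rfl
    · intro i hi
      rw [pts21_eq, List.mem_range'_1]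
      have := i.isLt
      have := hX.2 i hi
      omega
  have hC2 : ∀ i j : Unit, ∀ X ∈ famO 21 totalL, ∀ X' ∈ famO 21 totalL,
      (X ∩ X').card = 1 → i = j := fun _ _ _ _ _ _ _ => rfl
  have hcount : ∀ _ : Unit, (famO 21 totalL).ncard + K.ncard ≤ F.ncard := by
    intro _
    have h1 := ncard_famO_le 21 totalL
    have h2 := ncard_famO_le 21 duadL
    have h3 : F.ncard = 21 := by
      rw [hF, Set.ncard_image_of_injective _ (Finset.image_injective e.injective),
        Set.ncard_coe_finset, card_lines Bf hL hα]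
    have e1 : totalL.length = 6 := rfl
    have e2 : duadL.length = 15 := rfl
    rw [hK]
    omega
  obtain ⟨_, hres⟩ := family_completion F K (fun _ : Unit => famO 21 totalL) (fun n => n = 1)
    (fun X => X.card = 5 ∧ ∀ i ∈ X, 6 ≤ i.val) hKF hAF hQ hC1 hC2 hcount
  rw [DL21, famO_append]
  exact hres

end Plane


end Cfsg.Agent.Helper27.Witt
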