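import Mathlib
import Cfsg.Agent.Lib.Helper27.WittPlane2
import Cfsg.Agent.Lib.Helper27.WittData24
import Cfsg.Agent.S0350
import Cfsg.Agent.S0351
import Cfsg.Agent.S0352
import Cfsg.Agent.S0355
import Cfsg.Agent.S0356

set_option autoImplicit false
set_option linter.unusedSectionVars false
set_option maxRecDepth 100000

/-! Every `S(2,5,21)`, `S(3,6,22)`, `S(4,7,23)`, `S(5,8,24)` is isomorphic to an explicit standard one. -/

namespace Cfsg.Agent.Helper27.Witt


open Finset

/-- Every projective plane of order 4 is the standard one. -/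
theorem std21 {α : Type*} [Fintype α] [DecidableEq α] {L : Set (Finset α)}
    (hL : Cfsg.IsSteinerSystem 2 5 L) (hα : Fintype.card α = 21) :
    ∃ e : α ≃ Fin 21, (fun b : Finset α => b.image e) '' L = famO 21 DL21 := by
  obtain ⟨Bf, rfl⟩ := exists_finset_blocks L
  obtain ⟨H, hH6, hH⟩ := exists_hyperoval hL hα
  set eq6 := Finset.equivFinOfCardEq hH6
  obtain ⟨e, _, he⟩ := plane_label hL hα H hH6 (fun l hl => hH l (by exact_mod_cast hl))
    (fun k => (eq6.symm k).val) (fun a b hab => eq6.symm.injective (Subtype.ext hab))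
    (fun k => (eq6.symm k).2)
  exact ⟨e, he⟩

/-- The three classes of hyperovals. -/
def EL22 : Fin 3 → List (List ℕ) := ![hyp0, hyp1, hyp2]

theorem okA22_iff (n : ℕ) : okA22 n = true ↔ (n = 0 ∨ n = 2) := by
  simp [okA22]

theorem hC2_22 : ∀ i j : Fin 3, ∀ xs ∈ EL22 i, ∀ xs' ∈ EL22 j,
    ((ofL 22 xs ∩ ofL 22 xs').card = 0 ∨ (ofL 22 xs ∩ ofL 22 xs').card = 2) → i = j := by
  intro i j xs hxs xs' hxs' hA
  have hA' := (okA22_iff _).mpr hA
  have c01 := crossB_spec (n := 22) okA22 hyp0 hyp1 valid_hyp0 cross22_01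
  have c02 := crossB_spec (n := 22) okA22 hyp0 hyp2 valid_hyp0 cross22_02
  have c10 := crossB_spec (n := 22) okA22 hyp1 hyp0 valid_hyp1 cross22_10
  have c12 := crossB_spec (n := 22) okA22 hyp1 hyp2 valid_hyp1 cross22_12
  have c20 := crossB_spec (n := 22) okA22 hyp2 hyp0 valid_hyp2 cross22_20
  have c21 := crossB_spec (n := 22) okA22 hyp2 hyp1 valid_hyp2 cross22_21
  fin_cases i <;> fin_cases j
  · rfl
  · exact absurd hA' (by rw [c01 xs hxs xs' hxs']; simp)
  · exact absurd hA' (by rw [c02 xs hxs xs' hxs']; simp)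
  · exact absurd hA' (by rw [c10 xs hxs xs' hxs']; simp)
  · rfl
  · exact absurd hA' (by rw [c12 xs hxs xs' hxs']; simp)
  · exact absurd hA' (by rw [c20 xs hxs xs' hxs']; simp)
  · exact absurd hA' (by rw [c21 xs hxs xs' hxs']; simp)
  · rfl

theorem card_blocks {α : Type*} [Fintype α] [DecidableEq α] {t k : ℕ} {B : Set (Finset α)}
    (hB : Cfsg.IsSteinerSystem t k B) : B.ncard * Nat.choose k t = Nat.choose (Fintype.card α) t :=
  Cfsg.Agent.S0350.result hB

/-- Every Steiner system `S(3,6,22)` is the standard one, with any prescribed point labelled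
last. -/
theorem std22 {α : Type*} [Fintype α] [DecidableEq α] {B : Set (Finset α)}
    (hB : Cfsg.IsSteinerSystem 3 6 B) (hα : Fintype.card α = 22) (p : α) :
    ∃ e : α ≃ Fin 22, e p = Fin.last 21
      ∧ (fun b : Finset α => b.image e) '' B = famO 22 DL22 := by
  classical
  have hder := Cfsg.Agent.S0351.result (t := 2) (k := 5) hB p
  have hcard' : Fintype.card {a : α // a ≠ p} = 21 := by
    rw [Fintype.card_subtype_compl, Fintype.card_subtype_eq, hα]
  obtain ⟨e0, he0⟩ := std21 hder hcard'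
  have hncard : B.ncard = 77 := by
    have := card_blocks hB
    rw [hα] at this
    norm_num [Nat.choose] at this
    omega
  have hA : ∀ b ∈ B, ∀ c ∈ B, b ≠ c → ((b ∩ c).card = 0 ∨ (b ∩ c).card = 2) :=
    fun b hb c hc hbc => Cfsg.Agent.S0356.result hα hB hb hc hbc
  have hC1 : ∀ X : Finset (Fin (21 + 1)), Fin.last 21 ∉ X → X.card = 5 + 1 →
      (∀ ys ∈ DL21, ((X ∩ ofL (21 + 1) (21 :: ys)).card = 0
        ∨ (X ∩ ofL (21 + 1) (21 :: ys)).card = 2)) → ∃ j, X ∈ famO (21 + 1) (EL22 j) := by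
    intro X h1 h2 h3
    have := hC1_of_dfs (v := 21) (k := 5) DL21 (hyp0 ++ (hyp1 ++ hyp2)) false LP22 0
      (fun n => n = 0 ∨ n = 2) (by rintro n (rfl | rfl) <;> rfl) LP22_eq tgt22_eq dfs22 X h1 h2 h3
    rw [famO_append, famO_append] at this
    rcases this with h | h | h
    · exact ⟨0, h⟩
    · exact ⟨1, h⟩
    · exact ⟨2, h⟩
  have hcount : ∀ j, (EL22 j).length + DL21.length ≤ B.ncard := by
    intro j
    rw [hncard]
    fin_cases j <;> decide
  obtain ⟨j, hj⟩ := extend_std (t := 2) (k := 5) (v := 21) hB (fun n => n = 0 ∨ n = 2) hA p DL21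
    e0 he0 EL22 hC1 hC2_22 hcount
  have hp : extEquiv p e0 p = Fin.last 21 := extEquiv_self p e0
  rw [DL22, famO_append]
  fin_cases j
  · exact ⟨extEquiv p e0, hp, hj⟩
  · refine ⟨(extEquiv p e0).trans (permOfL 22 g22_1 g22_1_inv perm22_1), ?_, ?_⟩
    · rw [Equiv.trans_apply, hp]
      apply Fin.ext
      rw [permOfL_val]
      rfl
    · exact adjust_class (extEquiv p e0) B g22_1 g22_1_inv perm22_1 _ hyp1 hyp0 _ _ _ _
        map22_1_K map22_1_K' map22_1_E map22_1_E' hj
  · refine ⟨(extEquiv p e0).trans (permOfL 22 g22_2 g22_2_inv perm22_2), ?_, ?_⟩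
    · rw [Equiv.trans_apply, hp]
      apply Fin.ext
      rw [permOfL_val]
      rfl
    · exact adjust_class (extEquiv p e0) B g22_2 g22_2_inv perm22_2 _ hyp2 hyp0 _ _ _ _
        map22_2_K map22_2_K' map22_2_E map22_2_E' hj




open Finset

/-- The two classes of heptads. -/
def EL23 : Fin 2 → List (List ℕ) := ![hept0, hept1]

theorem okA23_iff (n : ℕ) : okA23 n = true ↔ (n = 1 ∨ n = 3) := by
  simp [okA23]

theorem hC2_23 : ∀ i j : Fin 2, ∀ xs ∈ EL23 i, ∀ xs' ∈ EL23 j,
    ((ofL 23 xs ∩ ofL 23 xs').card = 1 ∨ (ofL 23 xs ∩ ofL 23 xs').card = 3) → i = j := by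
  intro i j xs hxs xs' hxs' hA
  have hA' := (okA23_iff _).mpr hA
  have c01 := crossB_spec (n := 23) okA23 hept0 hept1 valid_hept0 cross23_01
  have c10 := crossB_spec (n := 23) okA23 hept1 hept0 valid_hept1 cross23_10
  fin_cases i <;> fin_cases j
  · rfl
  · exact absurd hA' (by rw [c01 xs hxs xs' hxs']; simp)
  · exact absurd hA' (by rw [c10 xs hxs xs' hxs']; simp)
  · rfl

theorem len23_0 : hept0.length + DL22.length ≤ 253 := by decide +kernel

theorem len23_1 : hept1.length + DL22.length ≤ 253 := by decide +kernel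

theorem len24 : oct0.length + DL23.length ≤ 759 := by decide +kernel

/-- Every Steiner system `S(4,7,23)` is the standard one, with any prescribed two points
labelled last. -/
theorem std23 {α : Type*} [Fintype α] [DecidableEq α] {B : Set (Finset α)}
    (hB : Cfsg.IsSteinerSystem 4 7 B) (hα : Fintype.card α = 23) (p : α) :
    ∃ e : α ≃ Fin 23, e p = Fin.last 22
      ∧ (fun b : Finset α => b.image e) '' B = famO 23 DL23 := by
  classical
  have hder := Cfsg.Agent.S0351.result (t := 3) (k := 6) hB p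
  have hcard' : Fintype.card {a : α // a ≠ p} = 22 := by
    rw [Fintype.card_subtype_compl, Fintype.card_subtype_eq, hα]
  obtain ⟨q0⟩ : Nonempty {a : α // a ≠ p} := by
    rw [← Fintype.card_pos_iff, hcard']; norm_num
  obtain ⟨e0, _, he0⟩ := std22 hder hcard' q0
  have hncard : B.ncard = 253 := by
    have := card_blocks hB
    rw [hα] at this
    norm_num [Nat.choose] at this
    omega
  have hA : ∀ b ∈ B, ∀ c ∈ B, b ≠ c → ((b ∩ c).card = 1 ∨ (b ∩ c).card = 3) :=
    fun b hb c hc hbc => Cfsg.Agent.S0355.result hα hB hb hc hbc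
  have hC1 : ∀ X : Finset (Fin (22 + 1)), Fin.last 22 ∉ X → X.card = 6 + 1 →
      (∀ ys ∈ DL22, ((X ∩ ofL (22 + 1) (22 :: ys)).card = 1
        ∨ (X ∩ ofL (22 + 1) (22 :: ys)).card = 3)) → ∃ j, X ∈ famO (22 + 1) (EL23 j) := by
    intro X h1 h2 h3
    have := hC1_of_dfs (v := 22) (k := 6) DL22 (hept0 ++ hept1) true LP23 _
      (fun n => n = 1 ∨ n = 3) (by rintro n (rfl | rfl) <;> rfl) LP23_eq tgt23_eq dfs23 X h1 h2 h3
    rw [famO_append] at this
    rcases this with h | h
    · exact ⟨0, h⟩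
    · exact ⟨1, h⟩
  have hcount : ∀ j, (EL23 j).length + DL22.length ≤ B.ncard := by
    intro j
    rw [hncard]
    fin_cases j
    · exact len23_0
    · exact len23_1
  obtain ⟨j, hj⟩ := extend_std (t := 3) (k := 6) (v := 22) hB (fun n => n = 1 ∨ n = 3) hA p DL22
    e0 he0 EL23 hC1 hC2_23 hcount
  have hp : extEquiv p e0 p = Fin.last 22 := extEquiv_self p e0
  rw [DL23, famO_append]
  fin_cases j
  · exact ⟨extEquiv p e0, hp, hj⟩
  · refine ⟨(extEquiv p e0).trans (permOfL 23 g23 g23_inv perm23), ?_, ?_⟩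
    · rw [Equiv.trans_apply, hp]
      apply Fin.ext
      rw [permOfL_val]
      rfl
    · exact adjust_class (extEquiv p e0) B g23 g23_inv perm23 _ hept1 hept0 _ _ _ _
        map23_K map23_K' map23_E map23_E' hj

/-- Every Steiner system `S(5,8,24)` is the standard one, with any prescribed point labelled
last. -/
theorem std24 {α : Type*} [Fintype α] [DecidableEq α] {B : Set (Finset α)}
    (hB : Cfsg.IsSteinerSystem 5 8 B) (hα : Fintype.card α = 24) (p : α) :
    ∃ e : α ≃ Fin 24, e p = Fin.last 23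
      ∧ (fun b : Finset α => b.image e) '' B = famO 24 DL24 := by
  classical
  have hder := Cfsg.Agent.S0351.result (t := 4) (k := 7) hB p
  have hcard' : Fintype.card {a : α // a ≠ p} = 23 := by
    rw [Fintype.card_subtype_compl, Fintype.card_subtype_eq, hα]
  obtain ⟨q0⟩ : Nonempty {a : α // a ≠ p} := by
    rw [← Fintype.card_pos_iff, hcard']; norm_num
  obtain ⟨e0, _, he0⟩ := std23 hder hcard' q0
  have hncard : B.ncard = 759 := by
    have := card_blocks hB
    rw [hα] at this
    norm_num [Nat.choose] at this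
    omega
  have hA : ∀ b ∈ B, ∀ c ∈ B, b ≠ c →
      ((b ∩ c).card = 0 ∨ (b ∩ c).card = 2 ∨ (b ∩ c).card = 4) :=
    fun b hb c hc hbc => Cfsg.Agent.S0352.result hα hB hb hc hbc
  have hC1 : ∀ X : Finset (Fin (23 + 1)), Fin.last 23 ∉ X → X.card = 7 + 1 →
      (∀ ys ∈ DL23, ((X ∩ ofL (23 + 1) (23 :: ys)).card = 0
        ∨ (X ∩ ofL (23 + 1) (23 :: ys)).card = 2 ∨ (X ∩ ofL (23 + 1) (23 :: ys)).card = 4)) →
        ∃ _ : Unit, X ∈ famO (23 + 1) oct0 := by
    intro X h1 h2 h3
    exact ⟨(), hC1_of_dfs (v := 23) (k := 7) DL23 oct0 false LP24 _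
      (fun n => n = 0 ∨ n = 2 ∨ n = 4) (by rintro n (rfl | rfl | rfl) <;> rfl) LP24_eq tgt24_eq
      dfs24 X h1 h2 h3⟩
  have hcount : ∀ _ : Unit, oct0.length + DL23.length ≤ B.ncard := by
    intro _
    rw [hncard]
    exact len24
  obtain ⟨_, hj⟩ := extend_std (t := 4) (k := 7) (v := 23) hB (fun n => n = 0 ∨ n = 2 ∨ n = 4) hA
    p DL23 e0 he0 (fun _ : Unit => oct0) hC1 (fun _ _ _ _ _ _ _ => rfl) hcount
  rw [DL24, famO_append]
  exact ⟨extEquiv p e0, extEquiv_self p e0, hj⟩




open Finset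

/-- Two families labelled onto the same standard family are isomorphic. -/
theorem setSystemIso_of_std {α β γ : Type*} [DecidableEq α] [DecidableEq β] [DecidableEq γ]
    {B : Set (Finset α)} {B' : Set (Finset β)} {D : Set (Finset γ)} (e1 : α ≃ γ) (e2 : β ≃ γ)
    (h1 : (fun b : Finset α => b.image e1) '' B = D)
    (h2 : (fun b : Finset β => b.image e2) '' B' = D) : Cfsg.SetSystemIso B B' := by
  refine ⟨e1.trans e2.symm, ?_⟩
  have h3 : (fun b : Finset α => b.image (e1.trans e2.symm)) '' B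
      = (fun X : Finset γ => X.image e2.symm) '' ((fun b : Finset α => b.image e1) '' B) := by
    rw [Set.image_image]
    congr 1
    ext b : 1
    rw [Finset.image_image]
    rfl
  rw [h3, h1, ← h2, Set.image_image]
  convert Set.image_id B' using 2
  ext b : 1
  rw [Finset.image_image]
  simp


end Cfsg.Agent.Helper27.Witt
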