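import Mathlib
import Cfsg.Agent.Lib.Helper27.FixTools

set_option autoImplicit false

/-!
More fixed-point congruences.
-/

namespace Cfsg.Agent.Helper27.FixT

variable {G : Type*} [Group G] {X : Type*} [MulAction G X] [Finite X]

/-- If `y` has `p`-power order, commutes with `t`, and `x₀` is the only point fixed by both `t` and
`y`, then the number of fixed points of `t` is `1` modulo `p`. -/
theorem card_fixedBy_modEq_one_of_commute {p k : ℕ} [Fact p.Prime] (t y : G) (hc : Commute t y)
    (hy : y ^ p ^ k = 1) (x₀ : X) (h0t : t • x₀ = x₀) (h0y : y • x₀ = x₀)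
    (huniq : ∀ x : X, t • x = x → y • x = x → x = x₀) :
    Nat.card (MulAction.fixedBy X t) ≡ 1 [MOD p] := by
  let S : SubMulAction (Subgroup.zpowers y) X :=
    { carrier := MulAction.fixedBy X t
      smul_mem' := by
        rintro ⟨c, hc'⟩ x hx
        obtain ⟨n, rfl⟩ := Subgroup.mem_zpowers_iff.1 hc'
        show t • (y ^ n • x) = y ^ n • x
        rw [smul_smul, ((hc.zpow_right n).eq), ← smul_smul]
        congr 1 }
  have h1 := (isPGroup_zpowers y hy).card_modEq_card_fixedPoints S
  have h2 : Unique (MulAction.fixedPoints (Subgroup.zpowers y) S) :=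
    { default := ⟨⟨x₀, h0t⟩, by
        rintro ⟨c, hc'⟩
        obtain ⟨n, rfl⟩ := Subgroup.mem_zpowers_iff.1 hc'
        apply Subtype.ext
        show y ^ n • x₀ = x₀
        exact MulAction.mem_fixedBy_zpow h0y n⟩
      uniq := by
        rintro ⟨⟨x, hx⟩, hs⟩
        have h3 := hs ⟨y, Subgroup.mem_zpowers y⟩
        have h4 : y • x = x := congrArg Subtype.val h3
        apply Subtype.ext
        apply Subtype.ext
        exact huniq x hx h4 }
  have h4 : Nat.card (MulAction.fixedPoints (Subgroup.zpowers y) S) = 1 := Nat.card_unique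
  have h3 : Nat.card S = Nat.card (MulAction.fixedBy X t) := rfl
  rw [h3, h4] at h1
  exact h1

end Cfsg.Agent.Helper27.FixT
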