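import Mathlib
import Cfsg.Agent.Lib.Helper3.SmallOrd
import Cfsg.Agent.Lib.Lead.PermTools
import Cfsg.Agent.S0985
import Cfsg.Agent.S0904

set_option autoImplicit false
open Cfsg

/-!
No simple group of order 612 (piece O612 of S0496).
-/

namespace Cfsg.Agent.Helper27.Ord

variable {G : Type*} [Group G] [Finite G]

/-- A nontrivial element of a Sylow subgroup `P` of prime order that normalizes another Sylow
subgroup `R` forces `P = R`. -/
theorem sylow_eq_of_mem_normalizer {p : ℕ} [Fact p.Prime] (P R : Sylow p G)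
    (hP : Nat.card (P : Subgroup G) = p) (hR : Nat.card (R : Subgroup G) = p)
    {x : G} (hx : x ∈ (P : Subgroup G)) (hx1 : x ≠ 1)
    (hxR : x ∈ Subgroup.normalizer ((R : Subgroup G) : Set G)) : P = R := by
  have hxp : x ^ p ^ 1 = 1 := by
    rw [pow_one]
    have h1 := pow_card_eq_one' (G := (P : Subgroup G)) (x := ⟨x, hx⟩)
    rw [hP] at h1
    have h2 := congrArg Subtype.val h1
    simpa using h2
  have hxR' : x ∈ (R : Subgroup G) :=
    Cfsg.Agent.Lead.mem_sylow_of_mem_normalizer_of_pow R hxR hxp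
  have hle : (P : Subgroup G) ≤ (R : Subgroup G) := by
    intro g hg
    have hx1' : (⟨x, hx⟩ : (P : Subgroup G)) ≠ 1 := fun h => hx1 (congrArg Subtype.val h)
    have htop := zpowers_eq_top_of_prime_card hP hx1'
    have hg' : (⟨g, hg⟩ : (P : Subgroup G)) ∈
        Subgroup.zpowers (⟨x, hx⟩ : (P : Subgroup G)) := by
      rw [htop]; trivial
    obtain ⟨n, hn⟩ := Subgroup.mem_zpowers_iff.1 hg'
    have hg2 : x ^ n = g := by
      have := congrArg Subtype.val hn
      simpa using this
    rw [← hg2]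
    exact Subgroup.zpow_mem _ hxR' n
  exact Sylow.ext (Subgroup.eq_of_le_of_card_ge hle (by rw [hP, hR]))

/-- If there are `p + 1` Sylow `p`-subgroups, all of prime order `p ≠ 2` and self-centralizing,
then an involution normalizes at most two of them. -/
theorem involution_fix_le_two {p : ℕ} [Fact p.Prime] (hp2 : p ≠ 2)
    (hn : Nat.card (Sylow p G) = p + 1)
    (hcard : ∀ P : Sylow p G, Nat.card (P : Subgroup G) = p)
    (hC : ∀ P : Sylow p G, Subgroup.centralizer ((P : Subgroup G) : Set G) = (P : Subgroup G))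
    (u : G) (hu : orderOf u = 2) (P R S : Sylow p G) (hPR : R ≠ P) (hPS : S ≠ P) (hRS : R ≠ S)
    (huP : u • P = P) (huR : u • R = R) (huS : u • S = S) : False := by
  have hpp : p.Prime := Fact.out
  -- the map x ↦ x • R from P to the Sylow subgroups other than P
  let φ : ↥(P : Subgroup G) → {Q : Sylow p G // Q ≠ P} := fun x => ⟨(x : G) • R, by
    intro hxR
    apply hPR
    have h1 : (x : G) • P = P :=
      Sylow.smul_eq_iff_mem_normalizer.2 (Subgroup.le_normalizer x.2)
    exact smul_left_cancel _ (hxR.trans h1.symm)⟩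
  have hφ : Function.Injective φ := by
    intro x x' hxx
    have h1 : (x : G) • R = (x' : G) • R := congrArg Subtype.val hxx
    have h2 : ((x' : G)⁻¹ * (x : G)) • R = R := by
      rw [mul_smul, h1, inv_smul_smul]
    have h3 : (x' : G)⁻¹ * (x : G) ∈ Subgroup.normalizer ((R : Subgroup G) : Set G) :=
      Sylow.smul_eq_iff_mem_normalizer.1 h2
    have h4 : (x' : G)⁻¹ * (x : G) ∈ (P : Subgroup G) :=
      Subgroup.mul_mem _ (Subgroup.inv_mem _ x'.2) x.2
    by_contra hne
    have h5 : (x' : G)⁻¹ * (x : G) ≠ 1 := by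
      intro h
      apply hne
      apply Subtype.ext
      exact (inv_mul_eq_one.1 h).symm
    exact hPR (sylow_eq_of_mem_normalizer P R (hcard P) (hcard R) h4 h5 h3).symm
  have hcle : Nat.card {Q : Sylow p G // Q ≠ P} ≤ Nat.card (P : Subgroup G) := by
    have h1 := Finite.card_subtype_lt (p := fun Q : Sylow p G => Q ≠ P) (x := P)
      (fun hne => hne rfl)
    rw [hn] at h1
    rw [hcard P]
    omega
  have hbij := hφ.bijective_of_nat_card_le hcle
  obtain ⟨x, hx⟩ := hbij.2 ⟨S, hPS⟩
  have hxS : (x : G) • R = S := congrArg Subtype.val hx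
  have hx1 : (x : G) ≠ 1 := by
    intro h1
    rw [h1, one_smul] at hxS
    exact hRS hxS
  have huNP : u ∈ Subgroup.normalizer ((P : Subgroup G) : Set G) :=
    Sylow.smul_eq_iff_mem_normalizer.1 huP
  have huNR : u ∈ Subgroup.normalizer ((R : Subgroup G) : Set G) :=
    Sylow.smul_eq_iff_mem_normalizer.1 huR
  have hcomm : Commute u (x : G) := by
    by_contra hnc
    have hc1 : (x : G)⁻¹ * u * (x : G) * u⁻¹ ≠ 1 := by
      intro h
      apply hnc
      have h1 : (x : G)⁻¹ * u * (x : G) = u := mul_inv_eq_one.1 h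
      show u * (x : G) = (x : G) * u
      calc u * (x : G) = (x : G) * ((x : G)⁻¹ * u * (x : G)) := by group
        _ = (x : G) * u := by rw [h1]
    have hcP : (x : G)⁻¹ * u * (x : G) * u⁻¹ ∈ (P : Subgroup G) := by
      have h1 : u * (x : G) * u⁻¹ ∈ (P : Subgroup G) :=
        (Subgroup.mem_normalizer_iff.1 huNP (x : G)).1 x.2
      have h2 : (x : G)⁻¹ * u * (x : G) * u⁻¹ = (x : G)⁻¹ * (u * (x : G) * u⁻¹) := by group
      rw [h2]
      exact Subgroup.mul_mem _ (Subgroup.inv_mem _ x.2) h1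
    have hcR : (x : G)⁻¹ * u * (x : G) * u⁻¹ ∈
        Subgroup.normalizer ((R : Subgroup G) : Set G) := by
      have h1 : ((x : G)⁻¹ * u * (x : G)) • R = R := by
        rw [mul_smul, mul_smul, hxS, huS, ← hxS, inv_smul_smul]
      have h2 : (x : G)⁻¹ * u * (x : G) ∈ Subgroup.normalizer ((R : Subgroup G) : Set G) :=
        Sylow.smul_eq_iff_mem_normalizer.1 h1
      exact Subgroup.mul_mem _ h2 (Subgroup.inv_mem _ huNR)
    exact hPR (sylow_eq_of_mem_normalizer P R (hcard P) (hcard R) hcP hc1 hcR).symm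
  have huC : u ∈ Subgroup.centralizer ((P : Subgroup G) : Set G) :=
    Cfsg.Agent.Lead.mem_centralizer_of_commute_of_prime_card (P : Subgroup G) (hcard P) x.2 hx1
      hcomm
  rw [hC P] at huC
  have h2 := Subgroup.orderOf_dvd_natCard _ huC
  rw [hu, hcard P] at h2
  exact hp2 ((Nat.prime_dvd_prime_iff_eq Nat.prime_two hpp).1 h2).symm

end Cfsg.Agent.Helper27.Ord

namespace Cfsg.Agent.Helper3.SmallOrd

variable {G : Type*} [Group G] [Finite G] [IsSimpleGroup G]

theorem no_simple_612 (h : Nat.card G = 612) : False := by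
  have hG : ∃ x y : G, x * y ≠ y * x :=
    Cfsg.Agent.Lead.nonabelian_of_not_prime (by rw [h]; norm_num)
  have hG2 : 2 < Nat.card G := by rw [h]; norm_num
  have : Fact (Nat.Prime 17) := ⟨by norm_num⟩
  have : Fact (Nat.Prime 3) := ⟨by norm_num⟩
  have : Fact (Nat.Prime 2) := ⟨Nat.prime_two⟩
  obtain ⟨h17d, h17m, h17n, -, h17P⟩ :=
    basic hG (p := 17) (a := 1) (m := 36) Nat.one_pos (by rw [h]; norm_num) (by norm_num)
  obtain ⟨h3d, h3m, h3n, h3f, h3P⟩ :=
    basic hG (p := 3) (a := 2) (m := 68) (by norm_num) (by rw [h]; norm_num) (by norm_num)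
  -- n_17 = 18
  have hn17 : Nat.card (Sylow 17 G) = 18 := by
    obtain ⟨n, hn⟩ : ∃ n, n = Nat.card (Sylow 17 G) := ⟨_, rfl⟩
    rw [← hn] at h17d h17m h17n ⊢
    have hle : n ≤ 36 := Nat.le_of_dvd (by norm_num) h17d
    clear hn h17P
    interval_cases n <;> omega
  -- n_3 = 34
  have hn3 : Nat.card (Sylow 3 G) = 34 := by
    obtain ⟨n, hn⟩ : ∃ n, n = Nat.card (Sylow 3 G) := ⟨_, rfl⟩
    rw [← hn] at h3d h3m h3n h3f ⊢
    rw [h] at h3f
    have hle : n ≤ 68 := Nat.le_of_dvd (by norm_num) h3d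
    have hcases : n = 4 ∨ n = 34 := by
      clear h3f hn h3P
      interval_cases n <;> omega
    rcases hcases with rfl | rfl
    · exfalso; revert h3f; decide
    · rfl
  have hN17 : ∀ P : Sylow 17 G,
      Nat.card (Subgroup.normalizer ((P : Subgroup G) : Set G)) = 34 := by
    intro P
    have := (h17P P).2
    rw [hn17, h] at this
    omega
  have hP17 : ∀ P : Sylow 17 G, Nat.card (P : Subgroup G) = 17 := fun P => by
    have := (h17P P).1
    rwa [pow_one] at this
  have hC17 : ∀ P : Sylow 17 G,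
      Subgroup.centralizer ((P : Subgroup G) : Set G) = (P : Subgroup G) := fun P =>
    Cfsg.Agent.S0904.result 2 3 17 2 2 Nat.prime_two (by norm_num) (by norm_num) (by norm_num)
      (by norm_num) (by rw [h]; norm_num) P
  have hP9 : ∀ P : Sylow 3 G, Nat.card (P : Subgroup G) = 9 := fun P => by
    have := (h3P P).1
    norm_num at this
    exact this
  -- two Sylow 3-subgroups meeting in a subgroup of order 3
  have hmod : ¬ Nat.card (Sylow 3 G) ≡ 1 [MOD 3 ^ 2] := by rw [hn3]; decide
  obtain ⟨P, R, hPR, hidx⟩ := Cfsg.Agent.S0985.result (G := G) 3 2 hmod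
  have hidx3 : ((R : Subgroup G).subgroupOf (P : Subgroup G)).index ≤ 3 := by
    have : 3 ^ (2 - 1) = 3 := by norm_num
    rw [this] at hidx
    exact hidx
  have h1 : Nat.card ((R : Subgroup G).subgroupOf (P : Subgroup G)) *
      ((R : Subgroup G).subgroupOf (P : Subgroup G)).index = Nat.card (P : Subgroup G) :=
    Subgroup.card_mul_index _
  rw [Cfsg.Agent.Lead.card_subgroupOf_eq, hP9 P] at h1
  obtain ⟨D, hD⟩ : ∃ D : Subgroup G, D = (R : Subgroup G) ⊓ (P : Subgroup G) := ⟨_, rfl⟩
  rw [← hD] at h1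
  have hDP : D ≤ (P : Subgroup G) := hD ▸ inf_le_right
  have hDR : D ≤ (R : Subgroup G) := hD ▸ inf_le_left
  have hD3 : Nat.card D = 3 := by
    have hne9 : Nat.card D ≠ 9 := by
      intro h9
      have h2 : D = (P : Subgroup G) :=
        Subgroup.eq_of_le_of_card_ge hDP (by rw [h9, hP9 P])
      have hle : (P : Subgroup G) ≤ (R : Subgroup G) := by rw [← h2]; exact hDR
      exact hPR (Sylow.ext (Subgroup.eq_of_le_of_card_ge hle (by rw [hP9 P, hP9 R])))
    obtain ⟨i, hi⟩ : ∃ i, i = ((R : Subgroup G).subgroupOf (P : Subgroup G)).index := ⟨_, rfl⟩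
    obtain ⟨c, hc⟩ : ∃ c, c = Nat.card D := ⟨_, rfl⟩
    rw [← hi] at h1 hidx3
    rw [← hc] at h1 hne9 ⊢
    clear hi hc
    interval_cases i <;> omega
  have hPK : (P : Subgroup G) ≤ Subgroup.centralizer (D : Set G) := by
    intro x hx
    rw [Subgroup.mem_centralizer_iff]
    intro d hd
    have := (IsPGroup.isMulCommutative_of_card_eq_prime_sq (p := 3) (G := (P : Subgroup G))
      (by rw [hP9 P]; norm_num)).is_comm.comm ⟨d, hDP hd⟩ ⟨x, hx⟩
    exact congrArg Subtype.val this
  have hRK : (R : Subgroup G) ≤ Subgroup.centralizer (D : Set G) := by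
    intro x hx
    rw [Subgroup.mem_centralizer_iff]
    intro d hd
    have := (IsPGroup.isMulCommutative_of_card_eq_prime_sq (p := 3) (G := (R : Subgroup G))
      (by rw [hP9 R]; norm_num)).is_comm.comm ⟨d, hDR hd⟩ ⟨x, hx⟩
    exact congrArg Subtype.val this
  obtain ⟨-, hK36⟩ := Cfsg.Agent.Lead.card_ge_of_two_sylow_le P R hPR
    (Subgroup.centralizer (D : Set G)) hPK hRK
  rw [hP9 P] at hK36
  have hK9 : 9 ∣ Nat.card (Subgroup.centralizer (D : Set G)) := by
    have := Subgroup.card_dvd_of_le hPK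
    rwa [hP9 P] at this
  have hK612 : Nat.card (Subgroup.centralizer (D : Set G)) ∣ 612 := by
    have := Subgroup.card_subgroup_dvd_card (Subgroup.centralizer (D : Set G))
    rwa [h] at this
  have hKG : Nat.card (Subgroup.centralizer (D : Set G)) *
      (Subgroup.centralizer (D : Set G)).index = 612 := by
    rw [Subgroup.card_mul_index, h]
  -- the centralizer of D has even order
  have h2K : 2 ∣ Nat.card (Subgroup.centralizer (D : Set G)) := by
    by_contra hodd
    have hc153 : Nat.card (Subgroup.centralizer (D : Set G)) = 153 := by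
      obtain ⟨c', hc'⟩ := hK9
      rw [hc'] at hK612 hodd hK36 ⊢
      have h4 : 9 * c' ∣ 9 * 68 := hK612
      have hc'68 : c' ∣ 68 := Nat.dvd_of_mul_dvd_mul_left (by norm_num) h4
      have hc'le : c' ≤ 68 := Nat.le_of_dvd (by norm_num) hc'68
      clear hc' hKG h4 hK612
      interval_cases c' <;> omega
    rw [hc153] at hKG
    have hidx4 : (Subgroup.centralizer (D : Set G)).index = 4 := by omega
    have hKt : Subgroup.centralizer (D : Set G) ≠ ⊤ := by
      intro ht
      rw [ht, Subgroup.index_top] at hidx4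
      omega
    have h5 := two_mul_card_dvd_factorial_index hG _ hKt
    rw [hidx4, h] at h5
    revert h5
    decide
  obtain ⟨u, hu⟩ := exists_prime_orderOf_dvd_card'
    (G := Subgroup.centralizer (D : Set G)) 2 h2K
  obtain ⟨d, hd⟩ := exists_prime_orderOf_dvd_card' (G := D) 3 (by rw [hD3])
  have hu2 : orderOf (u : G) = 2 := by rw [Subgroup.orderOf_coe]; exact hu
  have hd3 : orderOf (d : G) = 3 := by rw [Subgroup.orderOf_coe]; exact hd
  have hc : (u : G) * (d : G) = (d : G) * (u : G) :=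
    ((Subgroup.mem_centralizer_iff.1 u.2) (d : G) d.2).symm
  have huu : (u : G) ^ 2 = 1 := by
    have := pow_orderOf_eq_one (u : G)
    rwa [hu2] at this
  have hdd : (d : G) ^ 3 = 1 := by
    have := pow_orderOf_eq_one (d : G)
    rwa [hd3] at this
  -- u fixes a Sylow 17-subgroup
  have hdE := Cfsg.Agent.Lead.involution_even_of_simple hG2 (X := Sylow 17 G) (u : G) huu
  have hfpos : 0 < Nat.card (MulAction.fixedBy (Sylow 17 G) (u : G)) := by
    rcases Nat.eq_zero_or_pos (Nat.card (MulAction.fixedBy (Sylow 17 G) (u : G))) with h0 | h0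
    · exfalso
      rw [h0, hn17] at hdE
      revert hdE
      decide
    · exact h0
  obtain ⟨⟨P0, hP0⟩⟩ := Finite.card_pos_iff.1 hfpos
  have huP0 : (u : G) • P0 = P0 := hP0
  -- d moves every Sylow 17-subgroup
  have hdfix : ∀ Q : Sylow 17 G, (d : G) • Q ≠ Q := by
    intro Q hQ
    have h1 : (d : G) ∈ Subgroup.normalizer ((Q : Subgroup G) : Set G) :=
      Sylow.smul_eq_iff_mem_normalizer.1 hQ
    have h2 := Subgroup.orderOf_dvd_natCard _ h1
    rw [hd3, hN17 Q] at h2
    omega
  have hd3P : (d : G) • (d : G) • (d : G) • P0 = P0 := by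
    rw [smul_smul, smul_smul, ← pow_three', hdd, one_smul]
  have huR0 : (u : G) • ((d : G) • P0) = (d : G) • P0 := by
    rw [smul_smul, hc, ← smul_smul, huP0]
  have huS0 : (u : G) • ((d : G) • (d : G) • P0) = (d : G) • (d : G) • P0 := by
    rw [smul_smul, hc, ← smul_smul, huR0]
  refine Cfsg.Agent.Helper27.Ord.involution_fix_le_two (p := 17) (by norm_num) hn17 hP17 hC17
    (u : G) hu2 P0 ((d : G) • P0) ((d : G) • (d : G) • P0) (hdfix P0) ?_ ?_ huP0 huR0 huS0
  · intro hS
    apply hdfix P0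
    have h3 : (d : G) • (d : G) • (d : G) • P0 = (d : G) • P0 := congrArg (fun Q => (d : G) • Q) hS
    exact h3.symm.trans hd3P
  · intro hRS
    exact hdfix P0 (smul_left_cancel _ hRS).symm

end Cfsg.Agent.Helper3.SmallOrd
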