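import Mathlib
import Cfsg.Agent.Lib.Helper3.SmallOrd
import Cfsg.Agent.Lib.Lead.PermTools
import Cfsg.Agent.Lib.Helper27.FixTools2
import Cfsg.Agent.Lib.Helper27.Ord840
import Cfsg.Agent.Lib.Helper27.Ord612

set_option autoImplicit false

/-!
A fixed-point sieve for Sylow subgroups of prime order in simple groups: if `y` is an element of
prime order `q` centralizing a Sylow `p`-subgroup `P` of order `p`, then the number `f` of Sylow
`p`-subgroups normalized by `y` satisfies `f < n_p`, `f ≡ n_p (mod q)`, `f ≡ 1 (mod p)`, and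
`(n_p - f) / 2` is even when `q = 2`.
-/

namespace Cfsg.Agent.Helper27.Sieve

variable {G : Type*} [Group G] [Finite G] [IsSimpleGroup G]

theorem exists_fixed_count (hG : ∃ x y : G, x * y ≠ y * x) (hG2 : 2 < Nat.card G) {p : ℕ}
    [Fact p.Prime] (hp : p ∣ Nat.card G) (P : Sylow p G)
    (hP : ∀ R : Sylow p G, Nat.card (R : Subgroup G) = p) {q : ℕ} [Fact q.Prime]
    (hq : q ∣ Nat.card (Subgroup.centralizer ((P : Subgroup G) : Set G))) :
    ∃ f, f < Nat.card (Sylow p G) ∧ f % q = Nat.card (Sylow p G) % q ∧ f % p = 1 ∧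
      (q = 2 → ((Nat.card (Sylow p G) - f) / 2) % 2 = 0) := by
  have hpp : p.Prime := Fact.out
  have hqp : q.Prime := Fact.out
  obtain ⟨y, hy⟩ := exists_prime_orderOf_dvd_card'
    (G := Subgroup.centralizer ((P : Subgroup G) : Set G)) q hq
  obtain ⟨x, hx⟩ := exists_prime_orderOf_dvd_card' (G := (P : Subgroup G)) p (by rw [hP P])
  have hyq : orderOf (y : G) = q := by rw [Subgroup.orderOf_coe]; exact hy
  have hxp : orderOf (x : G) = p := by rw [Subgroup.orderOf_coe]; exact hx
  have hcomm : Commute (y : G) (x : G) :=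
    ((Subgroup.mem_centralizer_iff.1 y.2) (x : G) x.2).symm
  have hyy : (y : G) ^ q ^ 1 = 1 := by
    rw [pow_one]
    have := pow_orderOf_eq_one (y : G)
    rwa [hyq] at this
  have hxx : (x : G) ^ p ^ 1 = 1 := by
    rw [pow_one]
    have := pow_orderOf_eq_one (x : G)
    rwa [hxp] at this
  have hx1 : (x : G) ≠ 1 := by
    intro h1
    rw [h1, orderOf_one] at hxp
    exact hpp.one_lt.ne hxp
  have hy1 : (y : G) ≠ 1 := by
    intro h1
    rw [h1, orderOf_one] at hyq
    exact hqp.one_lt.ne hyq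
  have ha := Cfsg.Agent.Helper27.FixT.card_modEq_card_fixedBy (X := Sylow p G) (p := q)
    (k := 1) (y : G) hyy
  have hb := Cfsg.Agent.Helper27.FixT.card_fixedBy_modEq_one_of_commute (X := Sylow p G)
    (p := p) (k := 1) (y : G) (x : G) hcomm hxx P
    (Sylow.smul_eq_iff_mem_normalizer.2 (Subgroup.centralizer_le_normalizer _ y.2))
    (Sylow.smul_eq_iff_mem_normalizer.2 (Subgroup.le_normalizer x.2))
    (by
      intro R _ hxR
      exact (Cfsg.Agent.Helper27.Ord.sylow_eq_of_mem_normalizer P R (hP P) (hP R) x.2 hx1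
        (Sylow.smul_eq_iff_mem_normalizer.1 hxR)).symm)
  have hle : Nat.card (MulAction.fixedBy (Sylow p G) (y : G)) ≤ Nat.card (Sylow p G) :=
    Finite.card_subtype_le _
  refine ⟨Nat.card (MulAction.fixedBy (Sylow p G) (y : G)), ?_, ha.symm, ?_, ?_⟩
  · rcases lt_or_eq_of_le hle with hlt | heq
    · exact hlt
    · exfalso
      have hall : ∀ R : Sylow p G, (y : G) • R = R := by
        intro R
        by_contra hR
        have h1 := Finite.card_subtype_lt
          (p := fun R : Sylow p G => R ∈ MulAction.fixedBy (Sylow p G) (y : G)) (x := R) hR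
        have h2 : Nat.card {R : Sylow p G // R ∈ MulAction.fixedBy (Sylow p G) (y : G)} =
            Nat.card (Sylow p G) := heq
        rw [h2] at h1
        exact lt_irrefl _ h1
      have hNt := Cfsg.Agent.Lead.sylow_normalizer_ne_top hG hp P
      exact hy1 (Cfsg.Agent.Helper27.FixT.eq_one_of_forall_smul_eq (X := Sylow p G)
        (Cfsg.Agent.Helper27.Ord.exists_smul_sylow_ne P hNt) (y : G) hall)
  · have h1 : Nat.card (MulAction.fixedBy (Sylow p G) (y : G)) % p = 1 % p := hb
    rw [h1]
    exact Nat.mod_eq_of_lt hpp.one_lt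
  · intro hq2
    have hy2 : (y : G) ^ 2 = 1 := by
      have := pow_orderOf_eq_one (y : G)
      rwa [hyq, hq2] at this
    have := Cfsg.Agent.Lead.involution_even_of_simple hG2 (X := Sylow p G) (y : G) hy2
    exact Nat.even_iff.1 this

/-- The sieve packaged for a Sylow `p`-subgroup of order `p`: `k = |N(P) : C(P)|` divides `p - 1`, is
not `1`, `|C(P)| * k = |N(P)|`, and every prime divisor `q` of `|C(P)|` yields a fixed-point count. -/
theorem sylow_sieve (hG : ∃ x y : G, x * y ≠ y * x) (hG2 : 2 < Nat.card G) {p : ℕ}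
    [Fact p.Prime] (hp : p ∣ Nat.card G) (P : Sylow p G)
    (hP : ∀ R : Sylow p G, Nat.card (R : Subgroup G) = p) :
    ∃ k c, k ∣ p - 1 ∧ k ≠ 1 ∧
      c * k = Nat.card (Subgroup.normalizer ((P : Subgroup G) : Set G)) ∧
      ∀ q, q.Prime → q ∣ c →
        ∃ f, f < Nat.card (Sylow p G) ∧ f % q = Nat.card (Sylow p G) % q ∧ f % p = 1 ∧
          (q = 2 → ((Nat.card (Sylow p G) - f) / 2) % 2 = 0) := by
  refine ⟨(Subgroup.centralizer ((P : Subgroup G) : Set G)).relIndex
      (Subgroup.normalizer ((P : Subgroup G) : Set G)),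
    Nat.card (Subgroup.centralizer ((P : Subgroup G) : Set G)),
    Cfsg.Agent.Lead.relIndex_centralizer_normalizer_dvd P (hP P), ?_,
    Cfsg.Agent.Helper27.Ord.card_centralizer_mul_relIndex (P : Subgroup G), ?_⟩
  · intro h1
    exact Cfsg.Agent.S0073.not_normalizer_le_centralizer hG P hp (Subgroup.relIndex_eq_one.1 h1)
  · intro q hq hqc
    have : Fact q.Prime := ⟨hq⟩
    exact exists_fixed_count hG hG2 hp P hP hqc

end Cfsg.Agent.Helper27.Sieve
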