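import Mathlib
import Cfsg.Agent.Lib.Helper23.S63Defs

/-!
# S2863, piece S63-GEN: `g ∈ L \ N(Y)` gives `Y ⊔ Y^g = L`
-/

set_option autoImplicit false
set_option linter.unusedVariables false

namespace Cfsg.Agent.Helper23.S63

open Cfsg
open scoped Pointwise

theorem s63_gen_mem_conj {G : Type*} [Group G] (g x : G) (S : Subgroup G) :
    x ∈ MulAut.conj g • S ↔ g⁻¹ * x * g ∈ S := by
  rw [Subgroup.mem_pointwise_smul_iff_inv_smul_mem]
  rw [MulAut.smul_def, ← map_inv, MulAut.conj_apply, inv_inv]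

/-- conjugating an element of `N(Y^g)` back by `g` lands in `N(Y)`, and conversely -/
theorem s63_gen_normalizer_conj {G : Type*} [Group G] (Y : Subgroup G) (g x : G) :
    x ∈ Subgroup.normalizer ((MulAut.conj g • Y : Subgroup G) : Set G) ↔
      g⁻¹ * x * g ∈ Subgroup.normalizer (Y : Set G) := by
  rw [Subgroup.mem_normalizer_iff, Subgroup.mem_normalizer_iff]
  constructor
  · intro h y
    have h1 := h (g * y * g⁻¹)
    rw [s63_gen_mem_conj, s63_gen_mem_conj] at h1
    have e1 : g⁻¹ * (g * y * g⁻¹) * g = y := by group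
    have e2 : g⁻¹ * (x * (g * y * g⁻¹) * x⁻¹) * g = g⁻¹ * x * g * y * (g⁻¹ * x * g)⁻¹ := by group
    rw [e1, e2] at h1
    exact h1
  · intro h y'
    have h1 := h (g⁻¹ * y' * g)
    rw [s63_gen_mem_conj, s63_gen_mem_conj]
    have e2 : g⁻¹ * x * g * (g⁻¹ * y' * g) * (g⁻¹ * x * g)⁻¹ = g⁻¹ * (x * y' * x⁻¹) * g := by group
    rw [e2] at h1
    exact h1

/-- the `max` field for the conjugate `Y^g` -/
theorem s63_gen_max_conj {G : Type*} [Group G] {L Y A : Subgroup G} (h : Ctx L Y A) (g : G)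
    (hg : g ∈ L) (X : Subgroup G) (hYX : (MulAut.conj g • Y : Subgroup G) ≤ X) (hXL : X ≤ L)
    (hne : X ≠ L) :
    X ≤ Subgroup.normalizer ((MulAut.conj g • Y : Subgroup G) : Set G) := by
  have h1 : Y ≤ (MulAut.conj g⁻¹ • X : Subgroup G) := by
    intro y hy
    rw [s63_gen_mem_conj, inv_inv]
    apply hYX
    rw [s63_gen_mem_conj]
    have : g⁻¹ * (g * y * g⁻¹) * g = y := by group
    rwa [this]
  have h2 : (MulAut.conj g⁻¹ • X : Subgroup G) ≤ L := by
    intro x hx
    rw [s63_gen_mem_conj, inv_inv] at hx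
    have h3 := hXL hx
    have : x = g⁻¹ * (g * x * g⁻¹) * g := by group
    rw [this]
    exact Subgroup.mul_mem _ (Subgroup.mul_mem _ (Subgroup.inv_mem _ hg) h3) hg
  have h3 : (MulAut.conj g⁻¹ • X : Subgroup G) ≠ L := by
    intro heq
    apply hne
    apply le_antisymm hXL
    intro l hl
    have h4 : g⁻¹ * l * g ∈ (MulAut.conj g⁻¹ • X : Subgroup G) := by
      rw [heq]
      exact Subgroup.mul_mem _ (Subgroup.mul_mem _ (Subgroup.inv_mem _ hg) hl) hg
    rw [s63_gen_mem_conj, inv_inv] at h4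
    have : g * (g⁻¹ * l * g) * g⁻¹ = l := by group
    rwa [this] at h4
  have h4 := h.max _ h1 h2 h3
  intro x hx
  rw [s63_gen_normalizer_conj]
  apply h4
  rw [s63_gen_mem_conj, inv_inv]
  have : g * (g⁻¹ * x * g) * g⁻¹ = x := by group
  rwa [this]

/-- PIECE S63-GEN -/
theorem gen_of_not_mem {G : Type*} [Group G] [Finite G] {L Y A : Subgroup G} (h : Ctx L Y A)
    (g : G) (hg : g ∈ L) (hgN : g ∉ Subgroup.normalizer (Y : Set G)) :
    Y ⊔ (MulAut.conj g • Y : Subgroup G) = L := by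
  have hYgL : (MulAut.conj g • Y : Subgroup G) ≤ L := by
    intro x hx
    rw [s63_gen_mem_conj] at hx
    have h3 := h.YL hx
    have : x = g * (g⁻¹ * x * g) * g⁻¹ := by group
    rw [this]
    exact Subgroup.mul_mem _ (Subgroup.mul_mem _ hg h3) (Subgroup.inv_mem _ hg)
  have hXL : Y ⊔ (MulAut.conj g • Y : Subgroup G) ≤ L := sup_le h.YL hYgL
  by_contra hne
  have h1 : Y ⊔ (MulAut.conj g • Y : Subgroup G) ≤ Subgroup.normalizer (Y : Set G) :=
    h.max _ le_sup_left hXL hne
  -- `N = N_L(Y)`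
  have hYgN : (MulAut.conj g • Y : Subgroup G) ≤ L ⊓ Subgroup.normalizer (Y : Set G) :=
    le_inf hYgL (le_sup_right.trans h1)
  have hNne : L ⊓ Subgroup.normalizer (Y : Set G) ≠ L := by
    intro heq
    apply h.Nlt
    rw [← heq]
    exact inf_le_right
  have h2 := s63_gen_max_conj h g hg _ hYgN inf_le_left hNne
  -- `N ≤ g N g⁻¹`, hence equality
  have h3 : L ⊓ Subgroup.normalizer (Y : Set G) ≤
      (MulAut.conj g • (L ⊓ Subgroup.normalizer (Y : Set G)) : Subgroup G) := by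
    intro n hn
    rw [s63_gen_mem_conj]
    refine ⟨Subgroup.mul_mem _ (Subgroup.mul_mem _ (Subgroup.inv_mem _ hg) hn.1) hg, ?_⟩
    exact (s63_gen_normalizer_conj Y g n).1 (h2 hn)
  have hcard : Nat.card (MulAut.conj g • (L ⊓ Subgroup.normalizer (Y : Set G)) : Subgroup G) =
      Nat.card (L ⊓ Subgroup.normalizer (Y : Set G) : Subgroup G) :=
    (Nat.card_congr (Subgroup.equivSMul (MulAut.conj g)
      (L ⊓ Subgroup.normalizer (Y : Set G))).toEquiv).symm
  have h4 : L ⊓ Subgroup.normalizer (Y : Set G) =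
      (MulAut.conj g • (L ⊓ Subgroup.normalizer (Y : Set G)) : Subgroup G) :=
    Subgroup.eq_of_le_of_card_ge h3 (le_of_eq hcard)
  -- `Y ≤ N`
  have hYN : Y ≤ L ⊓ Subgroup.normalizer (Y : Set G) := le_inf h.YL Subgroup.le_normalizer
  -- `M' = N_L(N)` contains `Y` and `g`
  have hgM : g ∈ L ⊓ Subgroup.normalizer
      ((L ⊓ Subgroup.normalizer (Y : Set G) : Subgroup G) : Set G) := by
    refine ⟨hg, ?_⟩
    show g ∈ Subgroup.normalizer ((L ⊓ Subgroup.normalizer (Y : Set G) : Subgroup G) : Set G)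
    rw [Subgroup.mem_normalizer_iff]
    intro n
    constructor
    · intro hn
      rw [h4, s63_gen_mem_conj]
      have : g⁻¹ * (g * n * g⁻¹) * g = n := by group
      rwa [this]
    · intro hn
      rw [h4, s63_gen_mem_conj] at hn
      have : g⁻¹ * (g * n * g⁻¹) * g = n := by group
      rwa [this] at hn
  have hYM : Y ≤ L ⊓ Subgroup.normalizer
      ((L ⊓ Subgroup.normalizer (Y : Set G) : Subgroup G) : Set G) :=
    le_inf h.YL (hYN.trans Subgroup.le_normalizer)
  have hML : L ⊓ Subgroup.normalizer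
      ((L ⊓ Subgroup.normalizer (Y : Set G) : Subgroup G) : Set G) = L := by
    by_contra hne'
    have h5 := h.max _ hYM inf_le_left hne'
    exact hgN (h5 hgM)
  -- `N` is `L`-invariant
  have hinv : ∀ l ∈ L, ∀ n ∈ (L ⊓ Subgroup.normalizer (Y : Set G) : Subgroup G),
      l * n * l⁻¹ ∈ (L ⊓ Subgroup.normalizer (Y : Set G) : Subgroup G) := by
    intro l hl n hn
    have hl' : l ∈ L ⊓ Subgroup.normalizer
        ((L ⊓ Subgroup.normalizer (Y : Set G) : Subgroup G) : Set G) := by rw [hML]; exact hl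
    have hl'' : l ∈ Subgroup.normalizer
        ((L ⊓ Subgroup.normalizer (Y : Set G) : Subgroup G) : Set G) := hl'.2
    rw [Subgroup.mem_normalizer_iff] at hl''
    exact (hl'' n).1 hn
  have h6 := h.ncl _ hYN hinv
  exact h.Nlt (h6.trans inf_le_right)

end Cfsg.Agent.Helper23.S63
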