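import Mathlib

/-!
# S1774: abstract configuration (definitions only)

`Side z Q`: the elementary facts about `Q = F*(C_G(z))` (as a subgroup of `G`) used in the proof,
for `Q` a 2-group of symplectic type and exponent dividing 4.
`Cfg z a Q Qa`: two sides, `a` a conjugate of `z` lying in `Q`, `a ≠ z`.
`Cfg1 .. Cfg4`: the configuration plus the facts proved so far (each piece of the farm-out
takes one of these as its only hypothesis, so pieces do not depend on each other).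
-/

set_option autoImplicit false

namespace Cfsg.Agent.Helper27.Sy

variable {G : Type*} [Group G]

/-- structure of a non-abelian 2-group of symplectic type and exponent 4 (as a type). -/
def Struct (T : Type*) [Group T] : Prop :=
  ∃ z0 : T, z0 ≠ 1 ∧ z0 * z0 = 1 ∧ (∀ x : T, x * z0 = z0 * x) ∧
    (∀ x : T, x * x = 1 ∨ x * x = z0) ∧
    (∀ x y : T, x * y = y * x ∨ x * y = z0 * (y * x)) ∧
    (∀ c : T, (∀ x : T, c * x = x * c) → c * c = 1 → c = 1 ∨ c = z0)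

/-- one side: `Q` plays the role of `F*(C_G(z))` inside `G`. -/
structure Side (z : G) (Q : Subgroup G) : Prop where
  zz : z * z = 1
  z1 : z ≠ 1
  zQ : z ∈ Q
  cen : ∀ x ∈ Q, x * z = z * x
  sq : ∀ x ∈ Q, x * x = 1 ∨ x * x = z
  comm : ∀ x ∈ Q, ∀ y ∈ Q, x * y = y * x ∨ x * y = z * (y * x)
  inv1 : ∀ c ∈ Q, (∀ x ∈ Q, c * x = x * c) → c * c = 1 → c = 1 ∨ c = z
  nrm : ∀ c : G, c * z = z * c → ∀ x ∈ Q, c * x * c⁻¹ ∈ Q
  self : ∀ c : G, c * z = z * c → (∀ x ∈ Q, c * x = x * c) → c ∈ Q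

/-- the two-sided configuration. -/
structure Cfg (z a : G) (Q Qa : Subgroup G) : Prop where
  S : Side z Q
  Sa : Side a Qa
  aQ : a ∈ Q
  ne : a ≠ z
  tr : ∀ n : G, n * z * n⁻¹ = a → ∀ x ∈ Q, n * x * n⁻¹ ∈ Qa

/-- configuration + an element `x0 ∈ Q` moving `a` to `z * a`, the coset decomposition
`Q = D ∪ x0 D` (`D = C_Q(a)`), and the involutions of `C_Q(D)`. -/
structure Cfg1 (z a : G) (Q Qa : Subgroup G) (x0 : G) : Prop extends Cfg z a Q Qa where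
  x0Q : x0 ∈ Q
  x0a : x0 * a * x0⁻¹ = z * a
  coset : ∀ x ∈ Q, x * a = a * x ∨ (x0⁻¹ * x) * a = a * (x0⁻¹ * x)
  invD : ∀ x ∈ Q, (∀ d ∈ Q, d * a = a * d → x * d = d * x) → x * x = 1 →
    x = 1 ∨ x = z ∨ x = a ∨ x = z * a

/-- ... + the assumption `z ∉ Qa` (to be refuted) and the first consequences. -/
structure Cfg2 (z a : G) (Q Qa : Subgroup G) (x0 : G) : Prop extends Cfg1 z a Q Qa x0 where
  hz : z ∉ Qa
  inter : ∀ x ∈ Q, x ∈ Qa → x = 1 ∨ x = a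
  commDE : ∀ d ∈ Q, d * a = a * d → ∀ e ∈ Qa, e * z = z * e →
    d * e * d⁻¹ * e⁻¹ = 1 ∨ d * e * d⁻¹ * e⁻¹ = a
  noTwist : ∀ y ∈ Qa, z * y * z⁻¹ ≠ a * y

/-- ... + `[Qa, D] ≤ C_{Qa}(z)`. -/
structure Cfg3 (z a : G) (Q Qa : Subgroup G) (x0 : G) : Prop extends Cfg2 z a Q Qa x0 where
  D1 : ∀ y ∈ Qa, ∀ d ∈ Q, d * a = a * d →
    z * (y⁻¹ * (d * y * d⁻¹)) = (y⁻¹ * (d * y * d⁻¹)) * z

/-- ... + `D = C_Q(a)` is elementary abelian. -/
structure Cfg4 (z a : G) (Q Qa : Subgroup G) (x0 : G) : Prop extends Cfg3 z a Q Qa x0 where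
  notSq : ∀ d ∈ Q, d * a = a * d → d * d ≠ z
  notComm : ∀ d ∈ Q, d * a = a * d → ∀ d' ∈ Q, d' * a = a * d' → d * d' * d⁻¹ * d'⁻¹ ≠ z

end Cfsg.Agent.Helper27.Sy
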