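import Mathlib

/-!
# S1786 / TI-ALG piece TIALG-HUA (sub-lead helper5): `alg_hua`
Inverse closure and the Hua identity `a b a ∈ K` for an additive subgroup `K` of a ring of characteristic 2
whose nonzero elements are invertible and whose inverses are additively closed.
-/

set_option autoImplicit false

namespace Cfsg.Agent.Helper26.TI

section
variable {E : Type*} [Ring E]

theorem tialg_hua_neg_one (h2 : ∀ k : E, k + k = 0) : (-1 : E) = 1 :=
  neg_eq_of_add_eq_zero_left (h2 1)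

/-- Lemma A. -/
theorem tialg_hua_lemA (h2 : ∀ k : E, k + k = 0) (K : AddSubgroup E) (h1 : (1 : E) ∈ K)
    (hadd : ∀ k₁ ∈ K, ∀ k₂ ∈ K, ∀ i₁ i₂ : E, k₁ * i₁ = 1 → i₁ * k₁ = 1 → k₂ * i₂ = 1 → i₂ * k₂ = 1 →
      i₁ + i₂ = 0 ∨ ∃ k₃ ∈ K, k₃ * (i₁ + i₂) = 1 ∧ (i₁ + i₂) * k₃ = 1)
    {k i : E} (hk : k ∈ K) (hki : k * i = 1) (hik : i * k = 1) :
    i = 1 ∨ ∃ j ∈ K, (1 + k) * j = 1 ∧ j * (1 + k) = 1 := by
  rcases hadd k hk 1 h1 i 1 hki hik (one_mul 1) (one_mul 1) with h | ⟨m, hm, hm1, hm2⟩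
  · left
    have hi : i = -1 := eq_neg_of_add_eq_zero_left h
    rw [hi, tialg_hua_neg_one h2]
  · right
    have e1 : 1 + k = k * (i + 1) := by rw [mul_add, hki, mul_one]
    have e2 : 1 + k = (i + 1) * k := by rw [add_mul, hik, one_mul]
    refine ⟨m + 1, K.add_mem hm h1, ?_, ?_⟩
    · have s1 : (1 + k) * m = k := by
        rw [e1, mul_assoc, hm2, mul_one]
      calc (1 + k) * (m + 1) = (1 + k) * m + (1 + k) := by rw [mul_add, mul_one]
        _ = k + (1 + k) := by rw [s1]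
        _ = 1 + (k + k) := by abel
        _ = 1 := by rw [h2, add_zero]
    · have s1 : m * (1 + k) = k := by
        rw [e2, ← mul_assoc, hm1, one_mul]
      calc (m + 1) * (1 + k) = m * (1 + k) + (1 + k) := by rw [add_mul, one_mul]
        _ = k + (1 + k) := by rw [s1]
        _ = 1 + (k + k) := by abel
        _ = 1 := by rw [h2, add_zero]

/-- (a): `K` is closed under (two-sided) inverses. -/
theorem tialg_hua_inv (h2 : ∀ k : E, k + k = 0) (K : AddSubgroup E) (h1 : (1 : E) ∈ K)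
    (hadd : ∀ k₁ ∈ K, ∀ k₂ ∈ K, ∀ i₁ i₂ : E, k₁ * i₁ = 1 → i₁ * k₁ = 1 → k₂ * i₂ = 1 → i₂ * k₂ = 1 →
      i₁ + i₂ = 0 ∨ ∃ k₃ ∈ K, k₃ * (i₁ + i₂) = 1 ∧ (i₁ + i₂) * k₃ = 1)
    {k i : E} (hk : k ∈ K) (hki : k * i = 1) (hik : i * k = 1) : i ∈ K := by
  rcases tialg_hua_lemA h2 K h1 hadd hk hki hik with h | ⟨j, hj, hj1, hj2⟩
  · rw [h]; exact h1
  · have hk' : 1 + k ∈ K := K.add_mem h1 hk
    rcases tialg_hua_lemA h2 K h1 hadd hk' hj1 hj2 with h | ⟨j', hj', hj'1, hj'2⟩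
    · -- j = 1, so 1 + k = 1, k = 0, ring trivial
      rw [h, mul_one] at hj1
      have hk0 : k = 0 := by
        have : 1 + k = 1 + 0 := by rw [hj1, add_zero]
        exact add_left_cancel this
      have h10 : (1 : E) = 0 := by rw [← hki, hk0, zero_mul]
      have : i = 0 := by rw [← mul_one i, h10, mul_zero]
      rw [this]; exact K.zero_mem
    · have e : 1 + (1 + k) = k := by
        calc 1 + (1 + k) = (1 + 1) + k := by abel
          _ = k := by rw [h2, zero_add]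
      rw [e] at hj'1 hj'2
      have : i = j' := by
        calc i = i * (k * j') := by rw [hj'1, mul_one]
          _ = (i * k) * j' := by rw [mul_assoc]
          _ = j' := by rw [hik, one_mul]
      rw [this]; exact hj'

theorem alg_hua {E : Type*} [Ring E] (h2 : ∀ k : E, k + k = 0) (K : AddSubgroup E) (h1 : (1 : E) ∈ K)
    (hinv : ∀ k ∈ K, k ≠ 0 → ∃ i : E, k * i = 1 ∧ i * k = 1)
    (hadd : ∀ k₁ ∈ K, ∀ k₂ ∈ K, ∀ i₁ i₂ : E, k₁ * i₁ = 1 → i₁ * k₁ = 1 → k₂ * i₂ = 1 → i₂ * k₂ = 1 →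
      i₁ + i₂ = 0 ∨ ∃ k₃ ∈ K, k₃ * (i₁ + i₂) = 1 ∧ (i₁ + i₂) * k₃ = 1) :
    (∀ k ∈ K, ∀ i : E, k * i = 1 → i * k = 1 → i ∈ K) ∧ (∀ a ∈ K, ∀ b ∈ K, a * b * a ∈ K) := by
  have hA : ∀ k ∈ K, ∀ i : E, k * i = 1 → i * k = 1 → i ∈ K :=
    fun k hk i hki hik => tialg_hua_inv h2 K h1 hadd hk hki hik
  refine ⟨hA, ?_⟩
  intro a ha b hb
  by_cases ha0 : a = 0
  · rw [ha0]; simp
  by_cases hb0 : b = 0
  · rw [hb0]; simp
  obtain ⟨ia, hia1, hia2⟩ := hinv a ha ha0
  obtain ⟨ib, hib1, hib2⟩ := hinv b hb hb0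
  have hiaK : ia ∈ K := hA a ha ia hia1 hia2
  have hibK : ib ∈ K := hA b hb ib hib1 hib2
  by_cases hiba : ib = a
  · -- a b a = a
    have : a * b * a = a := by
      rw [mul_assoc, ← hiba, hib1, mul_one]
    rw [this]; exact ha
  · obtain ⟨c, hc⟩ : ∃ c : E, c = ib + a := ⟨_, rfl⟩
    have hcK : c ∈ K := hc ▸ K.add_mem hibK ha
    have hc0 : c ≠ 0 := by
      intro h
      apply hiba
      have : ib = -a := eq_neg_of_add_eq_zero_left (hc ▸ h)
      rw [this]
      exact neg_eq_of_add_eq_zero_left (h2 a)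
    obtain ⟨ic, hic1, hic2⟩ := hinv c hcK hc0
    have hicK : ic ∈ K := hA c hcK ic hic1 hic2
    have hib_eq : ib = c + a := by
      calc ib = ib + (a + a) := by rw [h2, add_zero]
        _ = c + a := by rw [hc]; abel
    -- d := ia + ic = ia * ib * ic
    have hd : ia + ic = ia * ib * ic := by
      calc ia + ic = ia * (c * ic) + (ia * a) * ic := by rw [hic1, hia2, mul_one, one_mul]
        _ = ia * (c + a) * ic := by noncomm_ring
        _ = ia * ib * ic := by rw [← hib_eq]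
    have hdK : ia + ic ∈ K := K.add_mem hiaK hicK
    -- the inverse of d is c * b * a
    have hd1 : (ia + ic) * (c * b * a) = 1 := by
      rw [hd]
      calc ia * ib * ic * (c * b * a) = ia * (ib * ((ic * c) * b)) * a := by simp only [mul_assoc]
        _ = 1 := by rw [hic2, one_mul, hib2, mul_one, hia2]
    have hd2 : (c * b * a) * (ia + ic) = 1 := by
      rw [hd]
      calc c * b * a * (ia * ib * ic) = c * (b * ((a * ia) * ib)) * ic := by simp only [mul_assoc]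
        _ = 1 := by rw [hia1, one_mul, hib1, mul_one, hic1]
    have hcba : c * b * a ∈ K := hA _ hdK _ hd1 hd2
    have hexp : c * b * a = a + a * b * a := by
      rw [hc, add_mul, add_mul, hib2, one_mul]
    rw [hexp] at hcba
    have : a * b * a = (a + a * b * a) - a := by abel
    rw [this]
    exact K.sub_mem hcba ha

end

end Cfsg.Agent.Helper26.TI
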