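import Mathlib
import Cfsg.Agent.Lib.Helper26.TIDefs2

/-!
# S1786 piece TI-PHI2 (design helper26): `Cfg1.surjU`, `Cfg1.surjA`, `Cfg1.decomp`, `Cfg1.partition`.
Self-contained (own versions of the small facts G0 / `A ⊓ V = ⊥` / dichotomy, prefixed `tiphi2_`).
-/

set_option autoImplicit false

namespace Cfsg.Agent.Helper26.TI

variable {G : Type*} [Group G] {V P A PA U : Subgroup G}

/-- G0 for a conjugate `cj g V`. -/
theorem tiphi2_cent_le_norm (h : Base V) {g b c : G} (hb : b ∈ cj g V) (hb1 : b ≠ 1)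
    (hc : c * b = b * c) : cj c (cj g V) = cj g V := by
  rw [cj_cj]
  rcases h.ti (g⁻¹ * (c * g)) with h1 | h1
  · have := congrArg (cj g) h1
    rwa [cj_cj, show g * (g⁻¹ * (c * g)) = c * g by group] at this
  · exfalso
    have h2 := congrArg (cj g) h1
    rw [cj_inf, cj_cj, show g * (g⁻¹ * (c * g)) = c * g by group, cj_bot] at h2
    have hb2 : b ∈ cj (c * g) V := by
      rw [← cj_cj]
      have : b = c * b * c⁻¹ := by rw [hc]; group
      rw [this]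
      exact conj_mem_cj hb
    have : b ∈ cj (c * g) V ⊓ cj g V := ⟨hb2, hb⟩
    rw [h2, Subgroup.mem_bot] at this
    exact hb1 this

theorem tiphi2_inf_eq_bot (h : Cfg V P A PA) : A ⊓ V = ⊥ := by
  obtain ⟨g, hA, -⟩ := h.conj
  rcases h.loc.base.ti g with h1 | h1
  · exact absurd (hA.trans h1) h.ne
  · rw [hA]; exact h1

theorem tiphi2_dich (h : Cfg V P A PA) {x a0 : G} (hx : x ∈ P) (ha0 : a0 ∈ A) (h1 : a0 ≠ 1)
    (hc : x * a0 = a0 * x) : ∀ a ∈ A, x * a = a * x := by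
  intro a ha
  obtain ⟨g, hA, -⟩ := h.conj
  have hn : cj x A = A := by
    rw [hA]; exact tiphi2_cent_le_norm h.loc.base (hA ▸ ha0) h1 hc
  have hA1 : x * a * x⁻¹ * a⁻¹ ∈ A := by
    have : x * a * x⁻¹ ∈ A := by
      have := conj_mem_cj (x := x) ha
      rwa [hn] at this
    exact A.mul_mem this (A.inv_mem ha)
  have hV1 : x * a * x⁻¹ * a⁻¹ ∈ V := h.loc.comm x hx a (h.le ha)
  have : x * a * x⁻¹ * a⁻¹ ∈ A ⊓ V := ⟨hA1, hV1⟩
  rw [tiphi2_inf_eq_bot h, Subgroup.mem_bot] at this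
  calc x * a = (x * a * x⁻¹ * a⁻¹) * (a * x) := by group
    _ = a * x := by rw [this, one_mul]

theorem tiphi2_card_U (h : Cfg1 V P A PA U) : Nat.card U = Nat.card V := by
  obtain ⟨k, hU⟩ := h.conjU
  rw [hU]; exact card_cj k V

theorem tiphi2_card_A (h : Cfg V P A PA) : Nat.card A = Nat.card V := by
  obtain ⟨g, hA, -⟩ := h.conj
  rw [hA]; exact card_cj g V

theorem Cfg1.surjU [Finite G] (h : Cfg1 V P A PA U) {a v : G} (ha : a ∈ A) (ha1 : a ≠ 1)
    (hv : v ∈ V) : ∃ u ∈ U, u * a * u⁻¹ * a⁻¹ = v := by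
  classical
  let f : U → V := fun u => ⟨(u : G) * a * (u : G)⁻¹ * a⁻¹, h.loc.comm u (h.U_le u.2) a (h.le ha)⟩
  have hinj : Function.Injective f := by
    intro u u' huu
    have h1 : (u : G) * a * (u : G)⁻¹ * a⁻¹ = (u' : G) * a * (u' : G)⁻¹ * a⁻¹ := congrArg Subtype.val huu
    have h2 : (u : G) * a * (u : G)⁻¹ = (u' : G) * a * (u' : G)⁻¹ := mul_right_cancel h1
    have h3 : ((u' : G)⁻¹ * u) * a = a * ((u' : G)⁻¹ * u) := by
      calc ((u' : G)⁻¹ * u) * a = (u' : G)⁻¹ * ((u : G) * a * (u : G)⁻¹) * u := by group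
        _ = (u' : G)⁻¹ * ((u' : G) * a * (u' : G)⁻¹) * u := by rw [h2]
        _ = a * ((u' : G)⁻¹ * u) := by group
    have h4 : (u' : G)⁻¹ * u = 1 := by
      by_contra hne
      exact h.U_nc _ (U.mul_mem (U.inv_mem u'.2) u.2) hne a ha ha1 h3
    apply Subtype.ext
    have : (u : G) = (u' : G) * ((u' : G)⁻¹ * u) := by group
    rw [this, h4, mul_one]
  have hbij : Function.Bijective f :=
    hinj.bijective_of_nat_card_le (le_of_eq (tiphi2_card_U h).symm)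
  obtain ⟨u, hu⟩ := hbij.2 ⟨v, hv⟩
  exact ⟨u, u.2, congrArg Subtype.val hu⟩

theorem Cfg1.surjA [Finite G] (h : Cfg1 V P A PA U) {u v : G} (hu : u ∈ U) (hu1 : u ≠ 1)
    (hv : v ∈ V) : ∃ a ∈ A, u * a * u⁻¹ * a⁻¹ = v := by
  classical
  have huP : u ∈ P := h.U_le hu
  let f : A → V := fun a => ⟨u * (a : G) * u⁻¹ * (a : G)⁻¹, h.loc.comm u huP a (h.le a.2)⟩
  have hinj : Function.Injective f := by
    intro a a' haa
    have h1 : u * (a : G) * u⁻¹ * (a : G)⁻¹ = u * (a' : G) * u⁻¹ * (a' : G)⁻¹ := congrArg Subtype.val haa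
    set c := u * (a' : G) * u⁻¹ * (a' : G)⁻¹ with hc
    have hcV : c ∈ V := h.loc.comm u huP a' (h.le a'.2)
    -- `c` commutes with `a⁻¹`
    have hca : (a : G)⁻¹ * c = c * (a : G)⁻¹ := h.loc.cent _ (P.inv_mem (h.le a.2)) c hcV
    have hcc : c * c = 1 := h.loc.base.sq c hcV
    -- `u` commutes with `a * a'`
    have h3 : u * ((a : G) * a') * u⁻¹ * ((a : G) * a')⁻¹ = 1 := by
      calc u * ((a : G) * a') * u⁻¹ * ((a : G) * a')⁻¹
          = (u * (a : G) * u⁻¹) * (u * (a' : G) * u⁻¹ * (a' : G)⁻¹) * (a : G)⁻¹ := by group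
        _ = (u * (a : G) * u⁻¹) * c * (a : G)⁻¹ := by rw [hc]
        _ = (u * (a : G) * u⁻¹) * ((a : G)⁻¹ * c) := by rw [hca]; group
        _ = (u * (a : G) * u⁻¹ * (a : G)⁻¹) * c := by group
        _ = c * c := by rw [h1]
        _ = 1 := hcc
    have h4 : u * ((a : G) * a') = ((a : G) * a') * u := by
      calc u * ((a : G) * a') = (u * ((a : G) * a') * u⁻¹ * ((a : G) * a')⁻¹) * (((a : G) * a') * u) := by group
        _ = ((a : G) * a') * u := by rw [h3, one_mul]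
    have h5 : (a : G) * a' = 1 := by
      by_contra hne
      exact h.U_nc u hu hu1 _ (A.mul_mem a.2 a'.2) hne h4
    have h6 : (a' : G) * a' = 1 := h.locA.base.sq a' a'.2
    apply Subtype.ext
    calc (a : G) = ((a : G) * a') * ((a' : G) * a')⁻¹ * a' := by group
      _ = a' := by rw [h5, h6]; group
  have hbij : Function.Bijective f :=
    hinj.bijective_of_nat_card_le (le_of_eq (tiphi2_card_A h.toCfg).symm)
  obtain ⟨a, ha⟩ := hbij.2 ⟨v, hv⟩
  exact ⟨a, a.2, congrArg Subtype.val ha⟩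

/-- `P = U D`. -/
theorem Cfg1.decomp [Finite G] (h : Cfg1 V P A PA U) {x : G} (hx : x ∈ P) :
    ∃ u ∈ U, ∀ a ∈ A, (u⁻¹ * x) * a = a * (u⁻¹ * x) := by
  by_cases hall : ∀ a ∈ A, x * a = a * x
  · exact ⟨1, U.one_mem, fun a ha => by simpa using hall a ha⟩
  · push Not at hall
    obtain ⟨a0, ha0, hne⟩ := hall
    have ha01 : a0 ≠ 1 := by
      rintro rfl; exact hne (by simp)
    have hv : x * a0 * x⁻¹ * a0⁻¹ ∈ V := h.loc.comm x hx a0 (h.le ha0)
    obtain ⟨u, hu, hua⟩ := h.surjU ha0 ha01 hv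
    refine ⟨u, hu, ?_⟩
    have h2 : u * a0 * u⁻¹ = x * a0 * x⁻¹ := mul_right_cancel hua
    have h3 : (u⁻¹ * x) * a0 = a0 * (u⁻¹ * x) := by
      calc (u⁻¹ * x) * a0 = u⁻¹ * (x * a0 * x⁻¹) * x := by group
        _ = u⁻¹ * (u * a0 * u⁻¹) * x := by rw [h2]
        _ = a0 * (u⁻¹ * x) := by group
    exact tiphi2_dich h.toCfg (P.mul_mem (P.inv_mem (h.U_le hu)) hx) ha0 ha01 h3

/-- the partition of `V A`. -/
theorem Cfg1.partition [Finite G] (h : Cfg1 V P A PA U) {v a : G} (hv : v ∈ V) (ha : a ∈ A)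
    (ha1 : a ≠ 1) : ∃ u ∈ U, v * a ∈ cj u A := by
  obtain ⟨u, hu, hua⟩ := h.surjU ha ha1 hv
  refine ⟨u, hu, ?_⟩
  have : v * a = u * a * u⁻¹ := by rw [← hua]; group
  rw [this]
  exact conj_mem_cj ha

end Cfsg.Agent.Helper26.TI
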