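import Mathlib
import Cfsg.Prelude.Def_PLocal
import Cfsg.Agent.Lib.Helper3.Thompson

set_option autoImplicit false

/-! Behaviour of `J(U)` and `Ω₁(Z(U))` under a homomorphism that is injective on `U`. -/

namespace Cfsg.Agent.Helper27

open Cfsg

variable {G : Type*} [Group G] {H : Type*} [Group H]

/-- The elementary abelian subgroups of `U` of largest order, as subgroups of the ambient group. -/
def relMaxEA (p : ℕ) (U : Subgroup G) : Set (Subgroup G) :=
  {A | A ≤ U ∧ IsElementaryAbelian p A ∧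
    ∀ B : Subgroup G, B ≤ U → IsElementaryAbelian p B → Nat.card B ≤ Nat.card A}

theorem thompsonSubgroupOf_eq_sSup_rel (p : ℕ) (U : Subgroup G) :
    thompsonSubgroupOf p U = sSup (relMaxEA p U) := by
  apply le_antisymm
  · unfold thompsonSubgroupOf thompsonSubgroup
    rw [Subgroup.map_le_iff_le_comap]
    apply sSup_le
    intro B hB
    rw [← Subgroup.map_le_iff_le_comap]
    apply le_sSup
    refine ⟨Subgroup.map_subtype_le _, Helper3.isElementaryAbelian_map _ hB.1, ?_⟩
    intro C hCU hC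
    rw [Helper3.card_map_subtype, ← Helper3.card_subgroupOf_of_le hCU]
    exact hB.2 _ (Helper3.isElementaryAbelian_subgroupOf U hC)
  · apply sSup_le
    rintro A ⟨hAU, hA, hmax⟩
    have hmem : A.subgroupOf U ∈ maxElementaryAbelianSubgroups p U := by
      refine ⟨Helper3.isElementaryAbelian_subgroupOf U hA, fun B hB => ?_⟩
      rw [Helper3.card_subgroupOf_of_le hAU, ← Helper3.card_map_subtype]
      exact hmax _ (Subgroup.map_subtype_le _) (Helper3.isElementaryAbelian_map _ hB)
    have h1 : A.subgroupOf U ≤ thompsonSubgroup p U := le_sSup hmem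
    have h2 := Subgroup.map_mono (f := U.subtype) h1
    rwa [Subgroup.map_subgroupOf_eq_of_le hAU] at h2

section inj

variable (f : G →* H) (U : Subgroup G) (hinj : ∀ x ∈ U, f x = 1 → x = 1)

include hinj

theorem eq_of_map_eq {x y : G} (hx : x ∈ U) (hy : y ∈ U) (h : f x = f y) : x = y := by
  have h1 : f (x * y⁻¹) = 1 := by rw [map_mul, map_inv, h, mul_inv_cancel]
  have h2 := hinj _ (U.mul_mem hx (U.inv_mem hy)) h1
  exact mul_inv_eq_one.mp h2

theorem card_map_of_injOn {A : Subgroup G} (hAU : A ≤ U) : Nat.card (A.map f) = Nat.card A := by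
  have hinj' : Function.Injective (f.subgroupMap A) := by
    intro a b hab
    apply Subtype.ext
    have h1 : f a = f b := congrArg Subtype.val hab
    exact eq_of_map_eq f U hinj (hAU a.2) (hAU b.2) h1
  exact (Nat.card_congr (Equiv.ofBijective _ ⟨hinj', f.subgroupMap_surjective A⟩)).symm

theorem isElementaryAbelian_of_map {p : ℕ} {A : Subgroup G} (hAU : A ≤ U)
    (h : IsElementaryAbelian p (A.map f)) : IsElementaryAbelian p A := by
  refine ⟨⟨⟨?_⟩⟩, ?_⟩
  · rintro ⟨a, ha⟩ ⟨b, hb⟩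
    apply Subtype.ext
    show a * b = b * a
    apply eq_of_map_eq f U hinj (U.mul_mem (hAU ha) (hAU hb)) (U.mul_mem (hAU hb) (hAU ha))
    rw [map_mul, map_mul]
    exact Helper3.IsElementaryAbelian.commute h ⟨a, ha, rfl⟩ ⟨b, hb, rfl⟩
  · intro a ha
    apply hinj _ (U.pow_mem (hAU ha) p)
    rw [map_pow]
    exact h.2 _ ⟨a, ha, rfl⟩

omit hinj in
theorem map_comap_inf {B' : Subgroup H} (hB' : B' ≤ U.map f) : (B'.comap f ⊓ U).map f = B' := by
  apply le_antisymm
  · rintro _ ⟨x, ⟨hx, -⟩, rfl⟩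
    exact hx
  · intro y hy
    obtain ⟨u, hu, rfl⟩ := hB' hy
    exact ⟨u, ⟨hy, hu⟩, rfl⟩

theorem map_sSup_relMaxEA (p : ℕ) :
    (sSup (relMaxEA p U)).map f = sSup (relMaxEA p (U.map f)) := by
  apply le_antisymm
  · rw [Subgroup.map_le_iff_le_comap]
    apply sSup_le
    rintro A ⟨hAU, hA, hmax⟩
    rw [← Subgroup.map_le_iff_le_comap]
    apply le_sSup
    refine ⟨Subgroup.map_mono hAU, Helper3.isElementaryAbelian_map _ hA, ?_⟩
    intro B' hB'U hB'
    have hmap := map_comap_inf f U hB'U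
    have hBU : B'.comap f ⊓ U ≤ U := inf_le_right
    have hB : IsElementaryAbelian p (B'.comap f ⊓ U) :=
      isElementaryAbelian_of_map f U hinj hBU (hmap.symm ▸ hB')
    have := hmax _ hBU hB
    rw [card_map_of_injOn f U hinj hAU]
    calc Nat.card B' = Nat.card ((B'.comap f ⊓ U).map f) := by rw [hmap]
      _ = Nat.card (B'.comap f ⊓ U : Subgroup G) := card_map_of_injOn f U hinj hBU
      _ ≤ Nat.card A := this
  · apply sSup_le
    rintro A' ⟨hA'U, hA', hmax⟩
    have hmap := map_comap_inf f U hA'U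
    have hAU : A'.comap f ⊓ U ≤ U := inf_le_right
    have hA : IsElementaryAbelian p (A'.comap f ⊓ U) :=
      isElementaryAbelian_of_map f U hinj hAU (hmap.symm ▸ hA')
    have hmem : (A'.comap f ⊓ U) ∈ relMaxEA p U := by
      refine ⟨hAU, hA, ?_⟩
      intro B hBU hB
      have := hmax (B.map f) (Subgroup.map_mono hBU) (Helper3.isElementaryAbelian_map _ hB)
      rw [card_map_of_injOn f U hinj hBU] at this
      calc Nat.card B ≤ Nat.card A' := this
        _ = Nat.card ((A'.comap f ⊓ U).map f) := by rw [hmap]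
        _ = Nat.card (A'.comap f ⊓ U : Subgroup G) := card_map_of_injOn f U hinj hAU
    rw [← hmap]
    exact Subgroup.map_mono (le_sSup hmem)

theorem map_thompsonSubgroupOf (p : ℕ) :
    (thompsonSubgroupOf p U).map f = thompsonSubgroupOf p (U.map f) := by
  rw [thompsonSubgroupOf_eq_sSup_rel, thompsonSubgroupOf_eq_sSup_rel,
    map_sSup_relMaxEA f U hinj]

theorem map_omegaOne_center (p : ℕ) :
    (omegaOne p (U ⊓ Subgroup.centralizer (U : Set G))).map f =
      omegaOne p (U.map f ⊓ Subgroup.centralizer ((U.map f : Subgroup H) : Set H)) := by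
  unfold omegaOne
  rw [MonoidHom.map_closure]
  congr 1
  ext y
  constructor
  · rintro ⟨x, ⟨⟨hxU, hxC⟩, hxp⟩, rfl⟩
    refine ⟨⟨⟨x, hxU, rfl⟩, ?_⟩, ?_⟩
    · rintro _ ⟨u, hu, rfl⟩
      rw [← map_mul, ← map_mul, hxC u hu]
    · rw [← map_pow, hxp, map_one]
  · rintro ⟨⟨⟨x, hxU, rfl⟩, hyC⟩, hyp⟩
    refine ⟨x, ⟨⟨hxU, ?_⟩, ?_⟩, rfl⟩
    · intro u hu
      apply eq_of_map_eq f U hinj (U.mul_mem hu hxU) (U.mul_mem hxU hu)
      rw [map_mul, map_mul]
      exact hyC _ ⟨u, hu, rfl⟩
    · apply hinj _ (U.pow_mem hxU p)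
      rw [map_pow]
      exact hyp

end inj

end Cfsg.Agent.Helper27
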