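import Mathlib
import Cfsg.Agent.Lib.Helper10.EODefs

/-! EO-UNIQ (S2264, design helper10): `factorization_unique`. -/

set_option autoImplicit false

open Polynomial

namespace Cfsg.Agent.Helper10.EO

section poly
variable {F : Type*} [Field F]

/-- PIECE EO-UNIQ. -/
theorem factorization_unique (s t : Multiset F[X]) (hs : ∀ f ∈ s, f.Monic ∧ Irreducible f)
    (ht : ∀ f ∈ t, f.Monic ∧ Irreducible f) (h : s.prod = t.prod) : s = t := by
  have hrel : Multiset.Rel Associated s t :=
    UniqueFactorizationMonoid.factors_unique (fun x hx => (hs x hx).2) (fun x hx => (ht x hx).2)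
      (h ▸ Associated.refl _)
  have hrel' : Multiset.Rel Eq s t :=
    hrel.mono (fun a ha b hb hab => eq_of_monic_of_associated (hs a ha).1 (ht b hb).1 hab)
  exact Multiset.rel_eq.mp hrel'

end poly

end Cfsg.Agent.Helper10.EO
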