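import Mathlib
import Cfsg.Agent.Lib.Helper27.Zp1B

set_option autoImplicit false
set_option linter.unusedSectionVars false
set_option linter.style.haveILetI false

/-! Arithmetic over a finite field `K` of odd order, generalising `Zp1B`: counting squares, the pigeonhole argument `ph_core` (order at least 19), the test predicate `TCGood` for the small cases and its transport along ring isomorphisms. -/

namespace Cfsg.Agent.Helper27.ZQ

open Cfsg.Agent.Helper27.ZP

section

variable {K : Type*} [Field K] [Fintype K]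

/-- the image of `z ↦ u z²` on the non-zero elements has at least `(q-1)/2` elements -/
theorem card_sq_class_ge (u : K) (hu : u ≠ 0) (S : Finset K)
    (hS : ∀ z : K, z ≠ 0 → u * z ^ 2 ∈ S) : Fintype.card K - 1 ≤ 2 * S.card := by
  classical
  set D : Finset K := Finset.univ.filter (fun z => z ≠ 0) with hD
  have hDcard : D.card = Fintype.card K - 1 := by
    rw [hD, Finset.filter_ne' Finset.univ (0 : K), Finset.card_erase_of_mem (Finset.mem_univ _),
      Finset.card_univ]
  have hmaps : ∀ z ∈ D, u * z ^ 2 ∈ S := by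
    intro z hz
    rw [hD, Finset.mem_filter] at hz
    exact hS z hz.2
  have hfib : ∀ y ∈ S, (D.filter (fun z => u * z ^ 2 = y)).card ≤ 2 := by
    intro y _
    by_contra hcon
    push Not at hcon
    obtain ⟨a, ha, b, hb, c, hc, hab, hac, hbc⟩ := Finset.two_lt_card.1 hcon
    rw [Finset.mem_filter] at ha hb hc
    have e1 : u * a ^ 2 + 0 * a + (-y) = 0 := by rw [ha.2]; ring
    have e2 : u * b ^ 2 + 0 * b + (-y) = 0 := by rw [hb.2]; ring
    have e3 : u * c ^ 2 + 0 * c + (-y) = 0 := by rw [hc.2]; ring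
    exact hu (quad_three_roots u 0 (-y) a b c hab hac hbc e1 e2 e3).1
  have := Finset.card_le_mul_card_image_of_maps_to hmaps 2 hfib
  rw [hDcard] at this
  exact this

theorem ph_core (h19 : 19 ≤ Fintype.card K) (cc : K → K) (c1 c2 α γ cb u : K)
    (hcc : ∀ i, cc i = c1 ∨ cc i = c2)
    (hc1 : c1 ≠ 0) (hα : α ≠ 0) (hcb : cb ≠ 0) (hu : u ≠ 0)
    (hucb : ∀ z : K, z ≠ 0 → cc (u * z ^ 2) = cb) (hne : α * cb ≠ γ)
    (τ : K → K) (hform : ∀ i, i ≠ 0 → τ i = cc i / i) (hτ1 : τ 1 = c1)
    (hb : ∀ y, y ≠ 0 → (τ y = -1 ↔ α * y + γ = 0))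
    (hc : ∀ y, y ≠ 0 → τ y ≠ -1 → τ (τ y + 1) = τ 1 + τ (α * y + γ)) : False := by
  classical
  set S : Finset K := Finset.univ.filter (fun y => y ≠ 0 ∧ cc y = cb) with hS
  have hScard : Fintype.card K - 1 ≤ 2 * S.card := by
    apply card_sq_class_ge u hu
    intro z hz
    rw [hS, Finset.mem_filter]
    exact ⟨Finset.mem_univ _, mul_ne_zero hu (pow_ne_zero 2 hz), hucb z hz⟩
  set T : Finset (K × K) := ({c1, c2} : Finset K) ×ˢ ({c1, c2} : Finset K)
    with hT
  have hTcard : T.card ≤ 4 := by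
    rw [hT, Finset.card_product]
    have : ({c1, c2} : Finset K).card ≤ 2 := Finset.card_le_two
    calc _ ≤ 2 * 2 := Nat.mul_le_mul this this
      _ = 4 := by norm_num
  set f : K → K × K := fun y => (cc (cb / y + 1), cc (α * y + γ)) with hf
  have hmem : ∀ v : K, cc v ∈ ({c1, c2} : Finset K) := by
    intro v
    rw [Finset.mem_insert, Finset.mem_singleton]
    exact hcc v
  have hmaps : ∀ y ∈ S, f y ∈ T := by
    intro y _
    rw [hT, Finset.mem_product]
    exact ⟨hmem _, hmem _⟩
  have hlt : T.card * 2 < S.card := by omega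
  obtain ⟨⟨c', c''⟩, -, hfib⟩ := Finset.exists_lt_card_fiber_of_mul_lt_card_of_maps_to hmaps hlt
  obtain ⟨y1, hy1, y2, hy2, y3, hy3, h12, h13, h23⟩ := Finset.two_lt_card.1 hfib
  have key : ∀ y ∈ S.filter (fun y => f y = (c', c'')),
      (α * (c' - c1)) * y ^ 2 + (c' * γ - c1 * α * cb - c1 * γ - c'') * y +
        (-(c1 * γ + c'') * cb) = 0 := by
    intro y hy
    rw [Finset.mem_filter, hS, Finset.mem_filter] at hy
    obtain ⟨⟨-, hy0, hycb⟩, hfy⟩ := hy
    have hf1 : cc (cb / y + 1) = c' := congrArg Prod.fst hfy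
    have hf2 : cc (α * y + γ) = c'' := congrArg Prod.snd hfy
    have hτy : τ y = cb / y := by rw [hform y hy0, hycb]
    have hτne : τ y ≠ -1 := by
      intro h
      have h1 := (hb y hy0).1 h
      rw [hτy] at h
      have h2 : cb = -y := by
        field_simp at h
        exact h
      apply hne
      rw [h2]
      linear_combination -h1
    have hz2 : α * y + γ ≠ 0 := fun h => hτne ((hb y hy0).2 h)
    have hz1 : cb / y + 1 ≠ 0 := by
      intro h
      apply hτne
      rw [hτy]
      exact eq_neg_of_add_eq_zero_left h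
    have hz1' : cb + y ≠ 0 := by
      intro h
      apply hz1
      have : cb / y + 1 = (cb + y) / y := by field_simp
      rw [this, h, zero_div]
    have e := hc y hy0 hτne
    rw [hτy, hform _ hz1, hform _ hz2, hf1, hf2, hτ1] at e
    have e' : c' * y * (α * y + γ) = (c1 * (α * y + γ) + c'') * (cb + y) := by
      have h1 : cb / y + 1 = (cb + y) / y := by field_simp
      rw [h1, div_div_eq_mul_div, add_div' _ _ _ hz2, div_eq_div_iff hz1' hz2] at e
      linear_combination e
    linear_combination e'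
  have e1 := key y1 hy1
  have e2 := key y2 hy2
  have e3 := key y3 hy3
  obtain ⟨hA, hB, hC⟩ := quad_three_roots _ _ _ y1 y2 y3 h12 h13 h23 e1 e2 e3
  have hc' : c' = c1 := by
    rcases mul_eq_zero.1 hA with h | h
    · exact absurd h hα
    · exact sub_eq_zero.1 h
  have hc'' : c'' = - (c1 * γ) := by
    rcases mul_eq_zero.1 hC with h | h
    · have : c1 * γ + c'' = 0 := by
        have := neg_eq_zero.1 h
        exact this
      exact eq_neg_of_add_eq_zero_right this
    · exact absurd h hcb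
  rw [hc', hc''] at hB
  have : c1 * (γ - α * cb) = 0 := by linear_combination hB
  rcases mul_eq_zero.1 this with h | h
  · exact hc1 h
  · exact hne (sub_eq_zero.1 h).symm

end

end Cfsg.Agent.Helper27.ZQ

namespace Cfsg.Agent.Helper27.ZQ

open Cfsg.Agent.Helper27.ZP

def tauK {K : Type*} [Field K] [DecidableEq K] (m : ℕ) (c1 c2 i : K) : K :=
  (if i ^ m = 1 then c1 else c2) * i ^ (2 * m - 1)

def TCK (K : Type*) [Field K] [DecidableEq K] (m : ℕ) (c1 c2 α γ : K) : Prop :=
  tauK m c1 c2 γ = - tauK m c1 c2 1 ∧ ∀ y : K, y ≠ 0 →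
    ((tauK m c1 c2 y = -1 ↔ α * y + γ = 0) ∧
      (tauK m c1 c2 y ≠ -1 →
        tauK m c1 c2 (tauK m c1 c2 y + 1) = tauK m c1 c2 1 + tauK m c1 c2 (α * y + γ)))

def TCGood (K : Type*) [Field K] [DecidableEq K] (m : ℕ) : Prop :=
  ∀ c1 c2 α γ : K, c1 ≠ 0 → c2 ≠ 0 → α ≠ 0 → γ ≠ 0 → TCK K m c1 c2 α γ → c1 = c2

instance (K : Type*) [Field K] [DecidableEq K] [Fintype K] (m : ℕ) (c1 c2 α γ : K) :
    Decidable (TCK K m c1 c2 α γ) := by
  unfold TCK; infer_instance

instance (K : Type*) [Field K] [DecidableEq K] [Fintype K] (m : ℕ) : Decidable (TCGood K m) := by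
  unfold TCGood; infer_instance

theorem tauK_map {K L : Type*} [Field K] [DecidableEq K] [Field L] [DecidableEq L] (e : K ≃+* L)
    (m : ℕ) (c1 c2 i : K) : e (tauK m c1 c2 i) = tauK m (e c1) (e c2) (e i) := by
  unfold tauK
  rw [map_mul, map_pow]
  congr 1
  by_cases h : i ^ m = 1
  · have h' : (e i) ^ m = 1 := by rw [← map_pow, h, map_one]
    rw [if_pos h, if_pos h']
  · have h' : ¬ (e i) ^ m = 1 := by
      intro h'
      apply h
      apply e.injective
      rw [map_pow, h', map_one]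
    rw [if_neg h, if_neg h']

theorem TCGood_of_equiv {K L : Type*} [Field K] [DecidableEq K] [Field L] [DecidableEq L]
    (e : K ≃+* L) (m : ℕ) (hL : TCGood L m) : TCGood K m := by
  intro c1 c2 α γ hc1 hc2 hα hγ hT
  apply e.injective
  apply hL (e c1) (e c2) (e α) (e γ) ((map_ne_zero e).2 hc1) ((map_ne_zero e).2 hc2)
    ((map_ne_zero e).2 hα) ((map_ne_zero e).2 hγ)
  obtain ⟨h1, h2⟩ := hT
  refine ⟨?_, ?_⟩
  · rw [← tauK_map, h1, map_neg, tauK_map, map_one]
  · intro y' hy'
    obtain ⟨y, rfl⟩ := e.surjective y'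
    have hy : y ≠ 0 := by
      intro h
      apply hy'
      rw [h, map_zero]
    obtain ⟨h3, h4⟩ := h2 y hy
    have hneg : ∀ z : K, (e z = -1 ↔ z = -1) := by
      intro z
      constructor
      · intro h
        apply e.injective
        rw [h, map_neg, map_one]
      · intro h
        rw [h, map_neg, map_one]
    refine ⟨?_, ?_⟩
    · rw [← tauK_map, hneg, h3, ← map_mul, ← map_add]
      constructor
      · intro h; rw [h, map_zero]
      · intro h
        apply e.injective
        rw [h, map_zero]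
    · intro hne
      rw [← tauK_map, Ne, hneg] at hne
      have := h4 hne
      have h5 := congrArg e this
      rw [tauK_map, map_add, tauK_map, map_add, tauK_map, tauK_map, map_one, map_add, map_mul]
        at h5
      exact h5

section

variable {K : Type*} [Field K] [Fintype K] [DecidableEq K]

theorem pow_card_sub_two_eq_inv {m : ℕ} (hq : Fintype.card K = 2 * m + 1) {v : K} (hv : v ≠ 0) :
    v ^ (2 * m - 1) = v⁻¹ := by
  have hm1 : 1 ≤ m := by
    rcases Nat.eq_zero_or_pos m with h | h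
    · subst h
      have := Fintype.one_lt_card (α := K)
      omega
    · exact h
  have h1 : v ^ (2 * m - 1) * v = 1 := by
    rw [← pow_succ]
    have : 2 * m - 1 + 1 = Fintype.card K - 1 := by omega
    rw [this]
    exact FiniteField.pow_card_sub_one_eq_one v hv
  exact eq_inv_of_mul_eq_one_left h1

theorem tc_bridge {m : ℕ} (hq : Fintype.card K = 2 * m + 1) (hTC : TCGood K m)
    (c1 c2 α γ : K) (hc1 : c1 ≠ 0) (hc2 : c2 ≠ 0) (hα : α ≠ 0) (hγ : γ ≠ 0)
    (τ : K → K)
    (hform : ∀ i, i ≠ 0 → τ i = (if i ^ m = 1 then c1 else c2) / i)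
    (hγc : τ γ = - τ 1)
    (hb : ∀ y, y ≠ 0 → (τ y = -1 ↔ α * y + γ = 0))
    (hc : ∀ y, y ≠ 0 → τ y ≠ -1 → τ (τ y + 1) = τ 1 + τ (α * y + γ)) : c1 = c2 := by
  have hT : ∀ v : K, v ≠ 0 → tauK m c1 c2 v = τ v := by
    intro v hv
    rw [hform v hv, tauK, pow_card_sub_two_eq_inv hq hv, div_eq_mul_inv]
  apply hTC c1 c2 α γ hc1 hc2 hα hγ
  refine ⟨?_, ?_⟩
  · rw [hT γ hγ, hT 1 one_ne_zero, hγc]
  · intro y hy
    rw [hT y hy]
    refine ⟨hb y hy, ?_⟩
    intro hne
    have hz1 : τ y + 1 ≠ 0 := fun h => hne (eq_neg_of_add_eq_zero_left h)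
    have hz2 : α * y + γ ≠ 0 := fun h => hne ((hb y hy).2 h)
    rw [hT _ hz1, hT 1 one_ne_zero, hT _ hz2]
    exact hc y hy hne

end

end Cfsg.Agent.Helper27.ZQ
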