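import Mathlib
import Cfsg.Agent.Lib.Helper27.Zq1A

set_option autoImplicit false
set_option linter.unusedSectionVars false
set_option linter.style.haveILetI false

/-! The small cases of `TCGood` (prime fields of order at most 17 from `Zp1A`, the field with nine elements as a quadratic algebra over `ZMod 3` by kernel evaluation) and the lemma `two_const` for every finite field of odd order: a map `τ` on the non-zero elements with `τ (μ i) = μ⁻¹ τ i` for squares `μ` and the structure equation is `i ↦ c / i`. -/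

namespace Cfsg.Agent.Helper27.ZQ

open Cfsg.Agent.Helper27.ZP

instance instFactThree : Fact (Nat.Prime 3) := ⟨Nat.prime_three⟩

instance instFactF9 : Fact (∀ r : ZMod 3, r ^ 2 ≠ (2 : ZMod 3) + 0 * r) := ⟨by decide⟩

abbrev F9 := QuadraticAlgebra (ZMod 3) 2 0

instance instFintypeF9 : Fintype F9 :=
  Fintype.ofEquiv _ (QuadraticAlgebra.equivProd (2 : ZMod 3) 0).symm

theorem card_F9 : Fintype.card F9 = 9 := by
  rw [Fintype.card_congr (QuadraticAlgebra.equivProd (2 : ZMod 3) 0), Fintype.card_prod, ZMod.card]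

set_option maxRecDepth 100000 in
theorem tcF9 : TCGood F9 4 := by
  unfold TCGood
  decide +kernel

end Cfsg.Agent.Helper27.ZQ

namespace Cfsg.Agent.Helper27.ZQ

open Cfsg.Agent.Helper27.ZP

instance instFact5 : Fact (Nat.Prime 5) := ⟨by norm_num⟩
instance instFact7 : Fact (Nat.Prime 7) := ⟨by norm_num⟩
instance instFact11 : Fact (Nat.Prime 11) := ⟨by norm_num⟩
instance instFact13 : Fact (Nat.Prime 13) := ⟨by norm_num⟩
instance instFact17 : Fact (Nat.Prime 17) := ⟨by norm_num⟩

theorem tcZ3 : TCGood (ZMod 3) 1 := fun c1 c2 α γ h1 h2 h3 h4 h => tc3 c1 c2 α γ h1 h2 h3 h4 h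
theorem tcZ5 : TCGood (ZMod 5) 2 := fun c1 c2 α γ h1 h2 h3 h4 h => tc5 c1 c2 α γ h1 h2 h3 h4 h
theorem tcZ7 : TCGood (ZMod 7) 3 := fun c1 c2 α γ h1 h2 h3 h4 h => tc7 c1 c2 α γ h1 h2 h3 h4 h
theorem tcZ11 : TCGood (ZMod 11) 5 := fun c1 c2 α γ h1 h2 h3 h4 h => tc11 c1 c2 α γ h1 h2 h3 h4 h
theorem tcZ13 : TCGood (ZMod 13) 6 := fun c1 c2 α γ h1 h2 h3 h4 h => tc13 c1 c2 α γ h1 h2 h3 h4 h
theorem tcZ17 : TCGood (ZMod 17) 8 := fun c1 c2 α γ h1 h2 h3 h4 h => tc17 c1 c2 α γ h1 h2 h3 h4 h

/-- the small cases -/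
theorem tcGood_small {K : Type*} [Field K] [Fintype K] [DecidableEq K] {m : ℕ}
    (hq : Fintype.card K = 2 * m + 1) (h19 : Fintype.card K < 19) : TCGood K m := by
  obtain ⟨p, _, n, hp, hpn⟩ := FiniteField.card' K
  have hn1 : 1 ≤ (n : ℕ) := n.pos
  have hp2 := hp.two_le
  have hpodd : p ≠ 2 := by
    rintro rfl
    have : 2 ∣ Fintype.card K := by
      rw [hpn]
      exact dvd_pow_self 2 (by omega)
    omega
  have hp3 : 3 ≤ p := by omega
  have hn2 : (n : ℕ) ≤ 2 := by
    by_contra hcon
    push Not at hcon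
    have : 3 ^ 3 ≤ p ^ (n : ℕ) :=
      calc 3 ^ 3 ≤ p ^ 3 := Nat.pow_le_pow_left hp3 3
        _ ≤ p ^ (n : ℕ) := Nat.pow_le_pow_right (by omega) hcon
    omega
  have hcases : (n : ℕ) = 1 ∨ (n : ℕ) = 2 := by omega
  rcases hcases with h1 | h2
  · rw [h1, pow_one] at hpn
    have hplt : p < 19 := by omega
    have hcases : p = 3 ∨ p = 5 ∨ p = 7 ∨ p = 11 ∨ p = 13 ∨ p = 17 := by
      interval_cases p <;> first | omega | (exfalso; revert hp; norm_num)
    rcases hcases with h | h | h | h | h | h
    · subst h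
      obtain rfl : m = 1 := by omega
      exact TCGood_of_equiv (FiniteField.ringEquivOfCardEq (by rw [hpn, ZMod.card])) 1 tcZ3
    · subst h
      obtain rfl : m = 2 := by omega
      exact TCGood_of_equiv (FiniteField.ringEquivOfCardEq (by rw [hpn, ZMod.card])) 2 tcZ5
    · subst h
      obtain rfl : m = 3 := by omega
      exact TCGood_of_equiv (FiniteField.ringEquivOfCardEq (by rw [hpn, ZMod.card])) 3 tcZ7
    · subst h
      obtain rfl : m = 5 := by omega
      exact TCGood_of_equiv (FiniteField.ringEquivOfCardEq (by rw [hpn, ZMod.card])) 5 tcZ11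
    · subst h
      obtain rfl : m = 6 := by omega
      exact TCGood_of_equiv (FiniteField.ringEquivOfCardEq (by rw [hpn, ZMod.card])) 6 tcZ13
    · subst h
      obtain rfl : m = 8 := by omega
      exact TCGood_of_equiv (FiniteField.ringEquivOfCardEq (by rw [hpn, ZMod.card])) 8 tcZ17
  · rw [h2] at hpn
    have hp3' : p = 3 := by
      by_contra hne
      have : 4 ≤ p := by omega
      have : 4 ^ 2 ≤ p ^ 2 := Nat.pow_le_pow_left this 2
      have h5 : p ≠ 4 := by
        rintro rfl
        revert hp; norm_num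
      have : 5 ≤ p := by omega
      have : 5 ^ 2 ≤ p ^ 2 := Nat.pow_le_pow_left this 2
      omega
    subst hp3'
    obtain rfl : m = 4 := by omega
    exact TCGood_of_equiv (FiniteField.ringEquivOfCardEq (by rw [hpn, card_F9]; norm_num)) 4 tcF9

end Cfsg.Agent.Helper27.ZQ

namespace Cfsg.Agent.Helper27.ZQ

open Cfsg.Agent.Helper27.ZP

section

variable {K : Type*} [Field K] [Fintype K]

theorem two_const {m : ℕ} (hq : Fintype.card K = 2 * m + 1) (τ : K → K) (α γ : K)
    (hτ0 : ∀ i, i ≠ 0 → τ i ≠ 0)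
    (hinv : ∀ μ i : K, μ ^ m = 1 → i ≠ 0 → τ (μ * i) = μ⁻¹ * τ i)
    (hα : α ≠ 0) (hγ : γ ≠ 0) (hγc : τ γ = - τ 1)
    (hb : ∀ y, y ≠ 0 → (τ y = -1 ↔ α * y + γ = 0))
    (hc : ∀ y, y ≠ 0 → τ y ≠ -1 → τ (τ y + 1) = τ 1 + τ (α * y + γ)) :
    ∃ c : K, c ≠ 0 ∧ (∀ i, i ≠ 0 → τ i = c / i) ∧ α * c = -1 := by
  classical
  have hm1 : 1 ≤ m := by
    rcases Nat.eq_zero_or_pos m with h | h
    · subst h
      have := Fintype.one_lt_card (α := K)
      omega
    · exact h
  have hq2 : Fintype.card K / 2 = m := by omega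
  have hq1 : Fintype.card K - 1 = 2 * m := by omega
  have hchar : ringChar K ≠ 2 := by
    intro h
    have := FiniteField.even_card_iff_char_two.1 h
    omega
  have hneg1 : (-1 : K) ≠ 1 := by
    intro h
    have h2' : (2 : K) = 0 := by
      have : (1 : K) + 1 = 0 := by nth_rewrite 1 [← h]; exact neg_add_cancel 1
      rw [← this]; norm_num
    exact (Ring.two_ne_zero hchar) h2'
  have hpm1 : ∀ i : K, i ≠ 0 → i ^ m = 1 ∨ i ^ m = -1 := by
    intro i hi
    have h1 : (i ^ m) * (i ^ m) = 1 := by
      rw [← pow_add, ← two_mul, ← hq1]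
      exact FiniteField.pow_card_sub_one_eq_one i hi
    exact mul_self_eq_one_iff.1 h1
  have hsq : ∀ z : K, z ≠ 0 → (z ^ 2) ^ m = 1 := by
    intro z hz
    rw [← pow_mul, ← hq1]
    exact FiniteField.pow_card_sub_one_eq_one z hz
  -- a non-square
  obtain ⟨n, hn0, hnm⟩ : ∃ n : K, n ≠ 0 ∧ n ^ m = -1 := by
    obtain ⟨a, ha⟩ := FiniteField.exists_nonsquare hchar
    have ha0 : a ≠ 0 := by
      intro h
      apply ha
      rw [h]
      exact IsSquare.zero
    refine ⟨a, ha0, ?_⟩
    rcases hpm1 a ha0 with h | h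
    · exfalso
      apply ha
      rw [FiniteField.isSquare_iff hchar ha0, hq2]
      exact h
    · exact h
  set c1 : K := τ 1 with hc1def
  set c2 : K := n * τ n with hc2def
  have hc1 : c1 ≠ 0 := hτ0 1 one_ne_zero
  have hc2 : c2 ≠ 0 := mul_ne_zero hn0 (hτ0 n hn0)
  have hform : ∀ i, i ≠ 0 → τ i = (if i ^ m = 1 then c1 else c2) / i := by
    intro i hi
    by_cases h : i ^ m = 1
    · rw [if_pos h]
      have := hinv i 1 h one_ne_zero
      rw [mul_one] at this
      rw [this, div_eq_mul_inv, mul_comm]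
    · rw [if_neg h]
      have hi' : i ^ m = -1 := (hpm1 i hi).resolve_left h
      have hμ : (i / n) ^ m = 1 := by
        rw [div_pow, hi', hnm]
        exact div_self (by
          intro h0
          have : (1 : K) = 0 := by
            have := congrArg (fun z => -z) h0
            simpa using this
          exact one_ne_zero this)
      have := hinv (i / n) n hμ hn0
      rw [div_mul_cancel₀ _ hn0] at this
      rw [this, hc2def]
      field_simp
  have hτ1 : τ 1 = c1 := rfl
  -- the special point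
  set y0 : K := -γ / α with hy0def
  have hy0 : y0 ≠ 0 := div_ne_zero (neg_ne_zero.2 hγ) hα
  have hy0z : α * y0 + γ = 0 := by
    rw [hy0def]
    field_simp
    ring
  have hτy0 : τ y0 = -1 := (hb y0 hy0).2 hy0z
  have hcy0 : (if y0 ^ m = 1 then c1 else c2) = γ / α := by
    have := hform y0 hy0
    rw [hτy0] at this
    have h3 : (if y0 ^ m = 1 then c1 else c2) = - y0 := by
      field_simp at this
      linear_combination -this
    rw [h3, hy0def]
    ring
  have hceq : c1 = c2 := by
    by_cases h19 : 19 ≤ Fintype.card K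
    · by_contra hne
      have hcc : ∀ i : K, (if i ^ m = 1 then c1 else c2) = c1 ∨
          (if i ^ m = 1 then c1 else c2) = c2 := by
        intro i
        by_cases h : i ^ m = 1
        · left; rw [if_pos h]
        · right; rw [if_neg h]
      by_cases hy : y0 ^ m = 1
      · rw [if_pos hy] at hcy0
        -- use the non-square class
        refine ph_core h19 (fun i => if i ^ m = 1 then c1 else c2) c1 c2 α γ c2 n hcc hc1 hα hc2 hn0
          ?_ ?_ τ hform hτ1 hb hc
        · intro z hz
          have : (n * z ^ 2) ^ m ≠ 1 := by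
            rw [mul_pow, hnm, hsq z hz, mul_one]
            exact hneg1
          show (if (n * z ^ 2) ^ m = 1 then c1 else c2) = c2
          rw [if_neg this]
        · intro h
          apply hne
          have : α * c2 = α * c1 := by
            rw [h, hcy0]
            field_simp
          exact (mul_left_cancel₀ hα this).symm
      · rw [if_neg hy] at hcy0
        refine ph_core h19 (fun i => if i ^ m = 1 then c1 else c2) c1 c2 α γ c1 1 hcc hc1 hα hc1
          one_ne_zero ?_ ?_ τ hform hτ1 hb hc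
        · intro z hz
          have : (1 * z ^ 2) ^ m = 1 := by
            rw [one_mul, hsq z hz]
          show (if (1 * z ^ 2) ^ m = 1 then c1 else c2) = c1
          rw [if_pos this]
        · intro h
          apply hne
          have : α * c1 = α * c2 := by
            rw [h, hcy0]
            field_simp
          exact mul_left_cancel₀ hα this
    · push Not at h19
      exact tc_bridge hq (tcGood_small hq h19) c1 c2 α γ hc1 hc2 hα hγ τ hform hγc hb hc
  have hform' : ∀ i, i ≠ 0 → τ i = c1 / i := by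
    intro i hi
    rw [hform i hi]
    by_cases h : i ^ m = 1
    · rw [if_pos h]
    · rw [if_neg h, hceq]
  refine ⟨c1, hc1, hform', ?_⟩
  have h1 : γ = α * c1 := by
    have : (if y0 ^ m = 1 then c1 else c2) = c1 := by
      by_cases h : y0 ^ m = 1
      · rw [if_pos h]
      · rw [if_neg h, hceq]
    rw [this] at hcy0
    rw [hcy0]
    field_simp
  have h2' : γ = -1 := by
    have := hform' γ hγ
    rw [hγc] at this
    have h3 : -c1 * γ = c1 := by
      rw [eq_div_iff hγ] at this
      exact this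
    have h4 : c1 * (γ + 1) = 0 := by linear_combination -h3
    rcases mul_eq_zero.1 h4 with h | h
    · exact absurd h hc1
    · exact eq_neg_of_add_eq_zero_left h
  rw [← h1, h2']

end

end Cfsg.Agent.Helper27.ZQ
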