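import Mathlib
import Cfsg.Agent.Lib.Helper27.Zq1B
import Cfsg.Agent.Lib.Helper16.PSL2Recog
import Cfsg.Agent.Lib.Helper11.DicksonIdx

set_option autoImplicit false
set_option linter.unusedSectionVars false
set_option linter.style.haveILetI false

/-! Contexts `QCtx G K`: a group acting faithfully on the projective line over a finite field `K`, containing the translations, with affine stabiliser of the point at infinity, and an element exchanging the two base points. Multipliers, the structure equation, `form_of_inv`, and the recognition `equiv_psl_of_inv` of `PSL₂(K)` when the two-point stabiliser has order `(q - 1)/2` and is inverted by the exchanging element. -/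

namespace Cfsg.Agent.Helper27.ZQ

/-- a group acting faithfully on the projective line over `K`, containing the translations, with affine stabiliser of the point at infinity, and an element exchanging `∞` and `0` -/
structure QCtx (G : Type*) [Group G] (K : Type*) [Field K] where
  ρ : G →* Equiv.Perm (OnePoint K)
  hinj : Function.Injective ρ
  tr : K → G
  tr_coe : ∀ b z : K, ρ (tr b) (z : OnePoint K) = ((z + b : K) : OnePoint K)
  tr_infty : ∀ b : K, ρ (tr b) OnePoint.infty = OnePoint.infty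
  aff : ∀ g : G, ρ g OnePoint.infty = OnePoint.infty →
    ∃ α β : K, α ≠ 0 ∧ ∀ z : K, ρ g (z : OnePoint K) = ((α * z + β : K) : OnePoint K)
  sw : G
  sw_infty : ρ sw OnePoint.infty = ((0 : K) : OnePoint K)
  sw_zero : ρ sw ((0 : K) : OnePoint K) = OnePoint.infty

def finPart {K : Type*} [Zero K] (q : OnePoint K) : K := Option.elim q 0 id

theorem finPart_coe {K : Type*} [Zero K] (i : K) : finPart (i : OnePoint K) = i := rfl

theorem coe_finPart {K : Type*} [Zero K] (q : OnePoint K) (hq : q ≠ OnePoint.infty) :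
    ((finPart q : K) : OnePoint K) = q := by
  induction q using OnePoint.rec with
  | infty => exact absurd rfl hq
  | coe i => rfl

namespace QCtx

variable {G : Type*} [Group G] {K : Type*} [Field K] (C : QCtx G K)

/-- the stabiliser of `∞` and `0` -/
def Hs : Subgroup G where
  carrier := {g | C.ρ g OnePoint.infty = OnePoint.infty ∧
    C.ρ g ((0 : K) : OnePoint K) = ((0 : K) : OnePoint K)}
  one_mem' := by simp
  mul_mem' := by
    rintro a b ⟨ha1, ha2⟩ ⟨hb1, hb2⟩
    refine ⟨?_, ?_⟩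
    · rw [map_mul, Equiv.Perm.mul_apply, hb1, ha1]
    · rw [map_mul, Equiv.Perm.mul_apply, hb2, ha2]
  inv_mem' := by
    rintro a ⟨ha1, ha2⟩
    refine ⟨?_, ?_⟩
    · rw [map_inv, Equiv.Perm.inv_def, Equiv.symm_apply_eq, ha1]
    · rw [map_inv, Equiv.Perm.inv_def, Equiv.symm_apply_eq, ha2]

theorem mem_Hs_iff (g : G) : g ∈ C.Hs ↔ C.ρ g OnePoint.infty = OnePoint.infty ∧
    C.ρ g ((0 : K) : OnePoint K) = ((0 : K) : OnePoint K) := Iff.rfl

theorem exists_mult (g : G) (hg : g ∈ C.Hs) :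
    ∃ μ : K, μ ≠ 0 ∧ ∀ z : K, C.ρ g (z : OnePoint K) = ((μ * z : K) : OnePoint K) := by
  obtain ⟨α, β, hα, h⟩ := C.aff g hg.1
  have h0 := h 0
  rw [hg.2, mul_zero, zero_add] at h0
  have hβ : β = 0 := (OnePoint.coe_eq_coe.1 h0).symm
  refine ⟨α, hα, ?_⟩
  intro z
  rw [h z, hβ, add_zero]

open Classical in
/-- the multiplier of an element of `Hs` -/
noncomputable def mult (g : G) : K :=
  if hg : g ∈ C.Hs then (C.exists_mult g hg).choose else 1

theorem mult_spec (g : G) (hg : g ∈ C.Hs) :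
    C.mult g ≠ 0 ∧ ∀ z : K, C.ρ g (z : OnePoint K) = ((C.mult g * z : K) : OnePoint K) := by
  unfold mult
  rw [dif_pos hg]
  exact (C.exists_mult g hg).choose_spec

theorem mult_unique (g : G) (hg : g ∈ C.Hs) (μ : K)
    (h : C.ρ g ((1 : K) : OnePoint K) = ((μ : K) : OnePoint K)) : C.mult g = μ := by
  have := (C.mult_spec g hg).2 1
  rw [h, mul_one] at this
  exact (OnePoint.coe_eq_coe.1 this).symm

theorem mult_one : C.mult 1 = 1 := by
  apply C.mult_unique 1 C.Hs.one_mem
  rw [map_one, Equiv.Perm.one_apply]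

theorem mult_mul (g h : G) (hg : g ∈ C.Hs) (hh : h ∈ C.Hs) :
    C.mult (g * h) = C.mult g * C.mult h := by
  apply C.mult_unique _ (C.Hs.mul_mem hg hh)
  rw [map_mul, Equiv.Perm.mul_apply, (C.mult_spec h hh).2, (C.mult_spec g hg).2, mul_one]

theorem mult_inv (g : G) (hg : g ∈ C.Hs) : C.mult g⁻¹ = (C.mult g)⁻¹ := by
  have h1 := C.mult_mul g g⁻¹ hg (C.Hs.inv_mem hg)
  rw [mul_inv_cancel, C.mult_one] at h1
  exact eq_inv_of_mul_eq_one_right h1.symm

theorem eq_one_of_mult (g : G) (hg : g ∈ C.Hs) (h : C.mult g = 1) : g = 1 := by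
  apply C.hinj
  rw [map_one]
  ext q
  induction q using OnePoint.rec with
  | infty => rw [hg.1, Equiv.Perm.one_apply]
  | coe z => rw [(C.mult_spec g hg).2, h, one_mul, Equiv.Perm.one_apply]

/-- the multiplier as a homomorphism to the units -/
noncomputable def multHom : C.Hs →* Kˣ where
  toFun g := Units.mk0 (C.mult g) (C.mult_spec g g.2).1
  map_one' := by
    apply Units.ext
    simp only [Units.val_mk0, Units.val_one]
    exact C.mult_one
  map_mul' a b := by
    apply Units.ext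
    simp only [Units.val_mk0, Units.val_mul]
    exact C.mult_mul a b a.2 b.2

theorem multHom_val (g : C.Hs) : ((C.multHom g : Kˣ) : K) = C.mult g := rfl

theorem multHom_injective : Function.Injective C.multHom := by
  rw [injective_iff_map_eq_one]
  intro g hg
  have h1 : C.mult g = 1 := by
    have := congrArg Units.val hg
    rwa [multHom_val, Units.val_one] at this
  exact Subtype.ext (C.eq_one_of_mult g g.2 h1)

end QCtx

end Cfsg.Agent.Helper27.ZQ

namespace Cfsg.Agent.Helper27.ZQ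

namespace QCtx

variable {G : Type*} [Group G] [Finite G] {K : Type*} [Field K] [Fintype K] (C : QCtx G K)

/-- every root of unity of the right order is a multiplier -/
theorem exists_mult_of_pow (μ : K) (hμ : μ ^ Nat.card C.Hs = 1) : ∃ h ∈ C.Hs, C.mult h = μ := by
  classical
  set d := Nat.card C.Hs with hd
  have hd0 : 0 < d := Nat.card_pos
  have hμ0 : μ ≠ 0 := by
    intro h
    rw [h, zero_pow hd0.ne'] at hμ
    exact zero_ne_one hμ
  set u : Kˣ := Units.mk0 μ hμ0 with hu
  have hud : u ^ d = 1 := by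
    apply Units.ext
    rw [Units.val_pow_eq_pow_val, Units.val_one, hu, Units.val_mk0, hμ]
  set R : Subgroup Kˣ := C.multHom.range with hR
  have hRcard : Nat.card R = d :=
    (Nat.card_congr (MonoidHom.ofInjective C.multHom_injective).toEquiv).symm
  have hsub : (Finset.univ.filter (fun a : Kˣ => a ∈ R)) ⊆
      Finset.univ.filter (fun a : Kˣ => a ^ d = 1) := by
    intro a ha
    rw [Finset.mem_filter] at ha ⊢
    refine ⟨Finset.mem_univ _, ?_⟩
    have := pow_card_eq_one' (G := R) (x := ⟨a, ha.2⟩)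
    rw [hRcard] at this
    exact congrArg Subtype.val this
  have hle : (Finset.univ.filter (fun a : Kˣ => a ^ d = 1)).card ≤
      (Finset.univ.filter (fun a : Kˣ => a ∈ R)).card := by
    have h1 : (Finset.univ.filter (fun a : Kˣ => a ∈ R)).card = d := by
      rw [← hRcard, Nat.card_eq_fintype_card, Fintype.card_subtype]
    rw [h1]
    exact IsCyclic.card_pow_eq_one_le hd0
  have heq := Finset.eq_of_subset_of_card_le hsub hle
  have hmem : u ∈ Finset.univ.filter (fun a : Kˣ => a ∈ R) := by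
    rw [heq, Finset.mem_filter]
    exact ⟨Finset.mem_univ _, hud⟩
  rw [Finset.mem_filter] at hmem
  obtain ⟨h, hh⟩ := hmem.2
  refine ⟨h.1, h.2, ?_⟩
  have := congrArg Units.val hh
  rw [C.multHom_val, hu, Units.val_mk0] at this
  exact this

/-- the multiplier of an element fixing `∞` is a root of unity of the right order -/
theorem affine_mult_pow (w : G) (hw : C.ρ w OnePoint.infty = OnePoint.infty) (μ β : K)
    (h : ∀ i : K, C.ρ w (i : OnePoint K) = ((μ * i + β : K) : OnePoint K)) :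
    μ ^ Nat.card C.Hs = 1 := by
  set w' : G := C.tr (-β) * w with hw'
  have h1 : ∀ i : K, C.ρ w' (i : OnePoint K) = ((μ * i : K) : OnePoint K) := by
    intro i
    rw [hw', map_mul, Equiv.Perm.mul_apply, h, C.tr_coe]
    congr 1
    ring
  have hI : C.ρ w' OnePoint.infty = OnePoint.infty := by
    rw [hw', map_mul, Equiv.Perm.mul_apply, hw, C.tr_infty]
  have hmem : w' ∈ C.Hs := by
    rw [C.mem_Hs_iff]
    refine ⟨hI, ?_⟩
    have := h1 0
    rwa [mul_zero] at this
  have hm : C.mult w' = μ := by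
    apply C.mult_unique w' hmem
    rw [h1 1, mul_one]
  have h2 := pow_card_eq_one' (G := C.Hs) (x := ⟨w', hmem⟩)
  have h3 : C.multHom (⟨w', hmem⟩ ^ Nat.card C.Hs) = 1 := by rw [h2, map_one]
  rw [map_pow] at h3
  have h4 := congrArg Units.val h3
  rw [Units.val_pow_eq_pow_val, C.multHom_val, Units.val_one, hm] at h4
  exact h4

end QCtx

end Cfsg.Agent.Helper27.ZQ

namespace Cfsg.Agent.Helper27.ZQ

namespace QCtx

variable {G : Type*} [Group G] {K : Type*} [Field K] (C : QCtx G K)

/-- the finite part of the action of `t` -/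
noncomputable def tau (t : G) (i : K) : K := finPart (C.ρ t (i : OnePoint K))

theorem swap_basic (t : G) (hTI : C.ρ t OnePoint.infty = ((0 : K) : OnePoint K))
    (hT0 : C.ρ t ((0 : K) : OnePoint K) = OnePoint.infty) :
    ∀ i : K, i ≠ 0 →
      C.ρ t (i : OnePoint K) = ((C.tau t i : K) : OnePoint K) ∧ C.tau t i ≠ 0 := by
  intro i hi
  have h1 : C.ρ t (i : OnePoint K) ≠ OnePoint.infty := by
    intro h
    rw [← hT0] at h
    exact hi (OnePoint.coe_eq_coe.1 ((C.ρ t).injective h))
  have h2 : ((C.tau t i : K) : OnePoint K) = C.ρ t (i : OnePoint K) :=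
    coe_finPart _ h1
  refine ⟨h2.symm, ?_⟩
  intro h0
  rw [h0, ← hTI] at h2
  exact OnePoint.coe_ne_infty i ((C.ρ t).injective h2).symm

/-- the structure equation `t x t = x ^ c t n` -/
theorem struct_eq (t : G) (hTI : C.ρ t OnePoint.infty = ((0 : K) : OnePoint K))
    (hT0 : C.ρ t ((0 : K) : OnePoint K) = OnePoint.infty) :
    ∃ (α γ : K) (n : G), C.ρ n OnePoint.infty = OnePoint.infty ∧
      (∀ i : K, C.ρ n (i : OnePoint K) = ((α * i + γ : K) : OnePoint K)) ∧
      α ≠ 0 ∧ γ ≠ 0 ∧ C.tau t γ = - C.tau t 1 ∧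
      (∀ y : K, y ≠ 0 → (C.tau t y = -1 ↔ α * y + γ = 0)) ∧
      (∀ y : K, y ≠ 0 → C.tau t y ≠ -1 →
        C.tau t (C.tau t y + 1) = C.tau t 1 + C.tau t (α * y + γ)) := by
  have hTi := C.swap_basic t hTI hT0
  set τ : K → K := C.tau t with hτ
  have hTinf : ∀ q : OnePoint K, C.ρ t q = OnePoint.infty →
      q = ((0 : K) : OnePoint K) := by
    intro q hq
    rw [← hT0] at hq
    exact (C.ρ t).injective hq
  set c : K := τ 1 with hc
  have hc0 : c ≠ 0 := (hTi 1 one_ne_zero).2
  have hXc : ∀ i : K, C.ρ (C.tr c) (i : OnePoint K) = ((i + c : K) : OnePoint K) := by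
    intro i
    rw [C.tr_coe]
  have hXcI : C.ρ (C.tr c) OnePoint.infty = OnePoint.infty := C.tr_infty _
  have hXcinf : ∀ q : OnePoint K, C.ρ (C.tr c) q = OnePoint.infty →
      q = OnePoint.infty := by
    intro q hq
    rw [← hXcI] at hq
    exact (C.ρ (C.tr c)).injective hq
  set n : G := (C.tr c * t)⁻¹ * (t * C.tr 1 * t) with hn
  have hkey : ∀ q, C.ρ t (C.ρ (C.tr 1) (C.ρ t q)) = C.ρ (C.tr c) (C.ρ t (C.ρ n q)) := by
    intro q
    rw [← Equiv.Perm.mul_apply, ← Equiv.Perm.mul_apply, ← Equiv.Perm.mul_apply,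
      ← Equiv.Perm.mul_apply, ← map_mul, ← map_mul, ← map_mul, ← map_mul]
    congr 2
    rw [hn]
    group
  have hnI : C.ρ n OnePoint.infty = OnePoint.infty := by
    have h2 := hkey OnePoint.infty
    rw [hTI, C.tr_coe, zero_add, (hTi 1 one_ne_zero).1] at h2
    by_contra hne
    obtain ⟨j, hj⟩ : ∃ j : K, C.ρ n OnePoint.infty = (j : OnePoint K) := by
      induction hq : C.ρ n OnePoint.infty using OnePoint.rec with
      | infty => exact absurd hq hne
      | coe j => exact ⟨j, rfl⟩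
    rw [hj] at h2
    by_cases hj0 : j = 0
    · rw [hj0, hT0, hXcI] at h2
      exact OnePoint.coe_ne_infty _ h2
    · rw [(hTi j hj0).1, hXc] at h2
      have h3 := OnePoint.coe_eq_coe.1 h2
      apply (hTi j hj0).2
      have : τ j + c = c := h3.symm
      simpa using this
  obtain ⟨α, γ, hα0, hN⟩ := C.aff n hnI
  have hy0 := hkey ((0 : K) : OnePoint K)
  rw [hT0, C.tr_infty, hTI, hN, mul_zero, zero_add] at hy0
  have hγ0 : γ ≠ 0 := by
    intro h
    rw [h, hT0, hXcI] at hy0
    exact OnePoint.coe_ne_infty _ hy0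
  have hγc : τ γ = - τ 1 := by
    rw [(hTi γ hγ0).1, hXc] at hy0
    have h3 := OnePoint.coe_eq_coe.1 hy0
    exact eq_neg_of_add_eq_zero_left h3.symm
  have hgen : ∀ y : K, y ≠ 0 →
      C.ρ t (((τ y + 1 : K)) : OnePoint K) =
        C.ρ (C.tr c) (C.ρ t ((α * y + γ : K) : OnePoint K)) := by
    intro y hy
    have h2 := hkey (y : OnePoint K)
    rwa [(hTi y hy).1, C.tr_coe, hN] at h2
  have hb : ∀ y : K, y ≠ 0 → (τ y = -1 ↔ α * y + γ = 0) := by
    intro y hy
    have h2 := hgen y hy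
    constructor
    · intro h
      rw [h, neg_add_cancel, hT0] at h2
      exact OnePoint.coe_eq_coe.1 (hTinf _ (hXcinf _ h2.symm))
    · intro h
      rw [h, hT0, hXcI] at h2
      have h3 := OnePoint.coe_eq_coe.1 (hTinf _ h2)
      exact eq_neg_of_add_eq_zero_left h3
  have hcc : ∀ y : K, y ≠ 0 → τ y ≠ -1 → τ (τ y + 1) = τ 1 + τ (α * y + γ) := by
    intro y hy hne
    have h2 := hgen y hy
    have hne1 : τ y + 1 ≠ 0 := fun h => hne (eq_neg_of_add_eq_zero_left h)
    have hne2 : α * y + γ ≠ 0 := fun h => hne ((hb y hy).2 h)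
    rw [(hTi _ hne1).1, (hTi _ hne2).1, hXc] at h2
    rw [OnePoint.coe_eq_coe.1 h2, add_comm]
  exact ⟨α, γ, n, hnI, hN, hα0, hγ0, hγc, hb, hcc⟩

end QCtx

end Cfsg.Agent.Helper27.ZQ

namespace Cfsg.Agent.Helper27.ZQ

open Cfsg.Agent.Helper16 Matrix

theorem affine_mem_range {K : Type*} [Field K] [DecidableEq K] (σ : Equiv.Perm (OnePoint K))
    (μ β : K) (hμ : IsSquare μ) (hμ0 : μ ≠ 0) (hI : σ OnePoint.infty = OnePoint.infty)
    (h : ∀ i : K, σ (i : OnePoint K) = ((μ * i + β : K) : OnePoint K)) :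
    σ ∈ (mobius K).range := by
  obtain ⟨d, rfl⟩ := hμ
  have hd : d ≠ 0 := fun h0 => hμ0 (by rw [h0, mul_zero])
  refine ⟨translMat β * diagMat d hd, ?_⟩
  ext q
  rw [map_mul, Equiv.Perm.mul_apply]
  induction q using OnePoint.rec with
  | infty => rw [mobius_diagMat_infty, mobius_translMat_infty, hI]
  | coe i => rw [mobius_diagMat_coe, mobius_translMat_coe, h]

theorem anti_mem_range {K : Type*} [Field K] [DecidableEq K] (σ : Equiv.Perm (OnePoint K))
    (d : K) (hd : d ≠ 0) (hI : σ OnePoint.infty = ((0 : K) : OnePoint K))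
    (h0 : σ ((0 : K) : OnePoint K) = OnePoint.infty)
    (h : ∀ k : K, k ≠ 0 → σ (k : OnePoint K) = ((- d ^ 2 / k : K) : OnePoint K)) :
    σ ∈ (mobius K).range := by
  have hdet : -(-d * d⁻¹) = 1 := by
    rw [neg_mul, neg_neg, mul_inv_cancel₀ hd]
  refine ⟨antiMat (-d) d⁻¹ hdet, ?_⟩
  ext q
  induction q using OnePoint.rec with
  | infty => rw [mobius_antiMat_infty, hI]
  | coe i =>
    by_cases hi : i = 0
    · rw [hi, mobius_antiMat_zero, h0]
    · rw [mobius_antiMat_coe _ _ _ _ hi, h i hi]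
      congr 1
      field_simp

namespace QCtx

variable {G : Type*} [Group G] [Finite G] {K : Type*} [Field K] [Fintype K] (C : QCtx G K)

/-- if `t` inverts the two-point stabiliser then `t` is a Möbius map -/
theorem form_of_inv {m : ℕ} (hq : Fintype.card K = 2 * m + 1) (t : G)
    (hTI : C.ρ t OnePoint.infty = ((0 : K) : OnePoint K))
    (hT0 : C.ρ t ((0 : K) : OnePoint K) = OnePoint.infty)
    (hINV : ∀ μ : K, μ ^ m = 1 → ∃ h ∈ C.Hs, C.mult h = μ ∧ t * h * t⁻¹ = h⁻¹) :
    ∃ c : K, c ≠ 0 ∧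
      (∀ k : K, k ≠ 0 → C.ρ t (k : OnePoint K) = ((c / k : K) : OnePoint K)) ∧
      ∃ (α γ : K) (n : G), C.ρ n OnePoint.infty = OnePoint.infty ∧
        (∀ i : K, C.ρ n (i : OnePoint K) = ((α * i + γ : K) : OnePoint K)) ∧
        α * c = -1 := by
  have hTi := C.swap_basic t hTI hT0
  obtain ⟨α, γ, n, hnP, hN, hα0, hγ0, hγc, hb, hcc⟩ := C.struct_eq t hTI hT0
  have hinv : ∀ μ i : K, μ ^ m = 1 → i ≠ 0 → C.tau t (μ * i) = μ⁻¹ * C.tau t i := by
    intro μ i hμ hi
    obtain ⟨h, hh, hm, hth⟩ := hINV μ hμ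
    have hμ0 : μ ≠ 0 := by
      rw [← hm]
      exact (C.mult_spec h hh).1
    have e1 : t * h = h⁻¹ * t := by
      rw [← hth]
      group
    have e2 : C.ρ t (C.ρ h (i : OnePoint K)) = C.ρ h⁻¹ (C.ρ t (i : OnePoint K)) := by
      rw [← Equiv.Perm.mul_apply, ← Equiv.Perm.mul_apply, ← map_mul, ← map_mul, e1]
    rw [(C.mult_spec h hh).2 i, hm, (hTi _ (mul_ne_zero hμ0 hi)).1, (hTi i hi).1,
      (C.mult_spec h⁻¹ (C.Hs.inv_mem hh)).2, C.mult_inv h hh, hm] at e2
    exact OnePoint.coe_eq_coe.1 e2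
  obtain ⟨c, hc0, hform, hαc⟩ := two_const hq (C.tau t) α γ (fun i hi => (hTi i hi).2) hinv hα0 hγ0
    hγc hb hcc
  refine ⟨c, hc0, ?_, α, γ, n, hnP, hN, hαc⟩
  intro k hk
  rw [(hTi k hk).1, hform k hk]

theorem closure_eq_top (t : G) (hTI : C.ρ t OnePoint.infty = ((0 : K) : OnePoint K)) :
    Subgroup.closure ({w | C.ρ w OnePoint.infty = OnePoint.infty} ∪ {t}) = ⊤ := by
  rw [eq_top_iff]
  intro g _
  have htS : t ∈ Subgroup.closure ({w | C.ρ w OnePoint.infty = OnePoint.infty} ∪ {t}) :=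
    Subgroup.subset_closure (Or.inr rfl)
  by_cases h : C.ρ g OnePoint.infty = OnePoint.infty
  · exact Subgroup.subset_closure (Or.inl h)
  · obtain ⟨j, hj⟩ : ∃ j : K, C.ρ g OnePoint.infty = (j : OnePoint K) := by
      induction hq : C.ρ g OnePoint.infty using OnePoint.rec with
      | infty => exact absurd hq h
      | coe j => exact ⟨j, rfl⟩
    have ha : C.ρ (C.tr j * t) OnePoint.infty = C.ρ g OnePoint.infty := by
      rw [map_mul, Equiv.Perm.mul_apply, hTI, C.tr_coe, zero_add, hj]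
    have hn : C.ρ ((C.tr j * t)⁻¹ * g) OnePoint.infty = OnePoint.infty := by
      rw [map_mul, Equiv.Perm.mul_apply, ← ha, ← Equiv.Perm.mul_apply, ← map_mul,
        inv_mul_cancel, map_one, Equiv.Perm.one_apply]
    have hg : g = C.tr j * t * ((C.tr j * t)⁻¹ * g) := by group
    rw [hg]
    exact Subgroup.mul_mem _ (Subgroup.mul_mem _
      (Subgroup.subset_closure (Or.inl (C.tr_infty j))) htS)
      (Subgroup.subset_closure (Or.inl hn))

theorem equiv_psl_of_form {m : ℕ} (hq : Fintype.card K = 2 * m + 1)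
    (hG : Nat.card G = (2 * m + 2) * ((2 * m + 1) * m))
    (hHs : Nat.card C.Hs = m) (t : G)
    (hTI : C.ρ t OnePoint.infty = ((0 : K) : OnePoint K))
    (hT0 : C.ρ t ((0 : K) : OnePoint K) = OnePoint.infty)
    (d : K) (hd0 : d ≠ 0)
    (hTk : ∀ k : K, k ≠ 0 → C.ρ t (k : OnePoint K) = ((- d ^ 2 / k : K) : OnePoint K)) :
    Nonempty (G ≃* Matrix.ProjectiveSpecialLinearGroup (Fin 2) K) := by
  classical
  have hq2 : Fintype.card K / 2 = m := by omega
  have hchar : ringChar K ≠ 2 := by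
    intro h
    have := FiniteField.even_card_iff_char_two.1 h
    omega
  refine equiv_psl_of_mobius C.ρ C.hinj _ (C.closure_eq_top t hTI) ?_ ?_
  · rintro s (hs | hs)
    · obtain ⟨μ, β, hμ0, ha⟩ := C.aff s hs
      have hμm := C.affine_mult_pow s hs μ β ha
      rw [hHs] at hμm
      have hsq : IsSquare μ := by
        rw [FiniteField.isSquare_iff hchar hμ0, hq2]
        exact hμm
      exact affine_mem_range _ μ β hsq hμ0 hs ha
    · rw [Set.mem_singleton_iff] at hs
      rw [hs]
      exact anti_mem_range _ d hd0 hTI hT0 hTk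
  · have h1 := Cfsg.Agent.Helper11.Dickson.card_PSL2_mul (F := K)
    rw [hq] at h1
    have h2 : Nat.gcd 2 (2 * m + 1 - 1) = 2 := by
      have : 2 * m + 1 - 1 = 2 * m := by omega
      rw [this]
      exact Nat.gcd_mul_right_right m 2
    rw [h2] at h1
    have h3 : 2 * m + 1 - 1 = 2 * m := by omega
    rw [h3] at h1
    rw [hG]
    have h4 : 2 * Nat.card (Matrix.ProjectiveSpecialLinearGroup (Fin 2) K) =
        2 * ((2 * m + 2) * ((2 * m + 1) * m)) := by
      rw [h1]; ring
    exact (Nat.eq_of_mul_eq_mul_left (by norm_num) h4).symm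

/-- the case of a two-point stabiliser of order `(q - 1) / 2` -/
theorem equiv_psl_of_inv {m : ℕ} (hq : Fintype.card K = 2 * m + 1)
    (hG : Nat.card G = (2 * m + 2) * ((2 * m + 1) * m))
    (hHs : Nat.card C.Hs = m) (t : G)
    (hTI : C.ρ t OnePoint.infty = ((0 : K) : OnePoint K))
    (hT0 : C.ρ t ((0 : K) : OnePoint K) = OnePoint.infty)
    (hINV : ∀ h ∈ C.Hs, t * h * t⁻¹ = h⁻¹) :
    Nonempty (G ≃* Matrix.ProjectiveSpecialLinearGroup (Fin 2) K) := by
  have hINV' : ∀ μ : K, μ ^ m = 1 → ∃ h ∈ C.Hs, C.mult h = μ ∧ t * h * t⁻¹ = h⁻¹ := by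
    intro μ hμ
    rw [← hHs] at hμ
    obtain ⟨h, hh, hm⟩ := C.exists_mult_of_pow μ hμ
    exact ⟨h, hh, hm, hINV h hh⟩
  obtain ⟨c, hc0, hform, α, γ, n, hnP, hN, hαc⟩ := C.form_of_inv hq t hTI hT0 hINV'
  have hq2 : Fintype.card K / 2 = m := by omega
  have hchar : ringChar K ≠ 2 := by
    intro h
    have := FiniteField.even_card_iff_char_two.1 h
    omega
  have hαm : α ^ m = 1 := by
    have := C.affine_mult_pow n hnP α γ hN
    rwa [hHs] at this
  have hα0 : α ≠ 0 := by
    intro h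
    rw [h, zero_mul] at hαc
    have : (1 : K) = 0 := by
      have := congrArg (fun z => -z) hαc
      simpa using this.symm
    exact one_ne_zero this
  have hsq : IsSquare α := by
    rw [FiniteField.isSquare_iff hchar hα0, hq2]
    exact hαm
  obtain ⟨e, he⟩ := hsq
  have he0 : e ≠ 0 := fun h => hα0 (by rw [he, h, mul_zero])
  refine C.equiv_psl_of_form hq hG hHs t hTI hT0 e⁻¹ (inv_ne_zero he0) ?_
  intro k hk
  rw [hform k hk]
  congr 1
  have : c = - (e⁻¹) ^ 2 := by
    have h1 : e * e * c = -1 := by rw [← he]; exact hαc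
    field_simp
    linear_combination h1
  rw [this]

end QCtx

end Cfsg.Agent.Helper27.ZQ
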