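import Mathlib

set_option autoImplicit false
set_option linter.unusedSectionVars false
set_option linter.style.haveILetI false

/-! The data `ZD G Ω x y F`: a doubly transitive group in which only the identity fixes three points, with an abelian subgroup `F` of the stabiliser of `x`, normal in it and regular on the other points. Double transitivity, the order formula, divisibility of `n - 1` by the order of the two-point stabiliser, normal subgroups are transitive, uniqueness of normal subgroups of order `n + 1`, and the Burnside transfer argument for a trivial two-point stabiliser. -/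

namespace Cfsg.Agent.Helper27.ZQ

open MulAction

/-- the data of a doubly transitive group in which only the identity fixes three points, with an abelian subgroup `F` of the stabiliser of `x`, normal in it and regular on the other points -/
structure ZD (G : Type*) [Group G] (Ω : Type*) [MulAction G Ω] (x y : Ω) (F : Subgroup G) :
    Prop where
  faith : ∀ g : G, (∀ a : Ω, g • a = a) → g = 1
  hxy : x ≠ y
  third : ∃ z : Ω, z ≠ x ∧ z ≠ y
  three : ∀ g : G, ∀ a b c : Ω, a ≠ b → b ≠ c → a ≠ c → g • a = a → g • b = b → g • c = c → g = 1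
  hFx : ∀ f ∈ F, f • x = x
  hFn : ∀ g : G, g • x = x → ∀ f ∈ F, g * f * g⁻¹ ∈ F
  hFab : ∀ a ∈ F, ∀ b ∈ F, a * b = b * a
  hreg : ∀ z w : Ω, z ≠ x → w ≠ x → ∃ u ∈ F, u • z = w
  hfree : ∀ u ∈ F, ∀ z : Ω, z ≠ x → u • z = z → u = 1
  move : ∃ g : G, g • x ≠ x

namespace ZD

variable {G : Type*} [Group G] {Ω : Type*} [MulAction G Ω] {x y : Ω} {F : Subgroup G}

theorem F_unique (D : ZD G Ω x y F) {u v : G} (hu : u ∈ F) (hv : v ∈ F) {z : Ω} (hz : z ≠ x)
    (h : u • z = v • z) : u = v := by
  have h1 : (v⁻¹ * u) • z = z := by rw [mul_smul, h, inv_smul_smul]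
  have h2 := D.hfree _ (F.mul_mem (F.inv_mem hv) hu) z hz h1
  have := congrArg (fun w => v * w) h2
  simpa using this

theorem smul_ne_x (D : ZD G Ω x y F) {g : G} (hg : g • x = x) {z : Ω} (hz : z ≠ x) :
    g • z ≠ x := by
  intro h
  apply hz
  rw [← hg] at h
  exact smul_left_cancel g h

/-- every ordered pair of distinct points is the image of `(x, y)` -/
theorem exists_smul_pair (D : ZD G Ω x y F) {a b : Ω} (hab : a ≠ b) :
    ∃ g : G, g • x = a ∧ g • y = b := by
  -- transitivity
  have htr : ∀ a : Ω, ∃ g : G, g • x = a := by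
    intro a
    by_cases ha : a = x
    · exact ⟨1, by rw [one_smul, ha]⟩
    · obtain ⟨g0, hg0⟩ := D.move
      obtain ⟨u, hu, huz⟩ := D.hreg (g0 • x) a hg0 ha
      exact ⟨u * g0, by rw [mul_smul, huz]⟩
  obtain ⟨g1, hg1⟩ := htr a
  have hb : g1⁻¹ • b ≠ x := by
    intro h
    apply hab
    rw [← hg1, ← h, smul_inv_smul]
  obtain ⟨u, hu, huy⟩ := D.hreg y (g1⁻¹ • b) D.hxy.symm hb
  refine ⟨g1 * u, ?_, ?_⟩
  · rw [mul_smul, D.hFx u hu, hg1]
  · rw [mul_smul, huy, smul_inv_smul]

theorem twoTrans (D : ZD G Ω x y F) {a b c d : Ω} (hab : a ≠ b) (hcd : c ≠ d) :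
    ∃ g : G, g • a = c ∧ g • b = d := by
  obtain ⟨u, hu1, hu2⟩ := D.exists_smul_pair hab
  obtain ⟨v, hv1, hv2⟩ := D.exists_smul_pair hcd
  refine ⟨v * u⁻¹, ?_, ?_⟩
  · rw [mul_smul, ← hu1, inv_smul_smul, hv1]
  · rw [mul_smul, ← hu2, inv_smul_smul, hv2]

theorem isPretransitive (D : ZD G Ω x y F) : IsPretransitive G Ω := by
  refine ⟨fun a b => ?_⟩
  by_cases hab : a = b
  · exact ⟨1, by rw [one_smul, hab]⟩
  · obtain ⟨g, hg, -⟩ := D.twoTrans hab hab
    obtain ⟨g, hg, -⟩ := D.twoTrans hab (Ne.symm hab)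
    obtain ⟨g', hg', -⟩ := D.twoTrans (Ne.symm hab) (Ne.symm hab)
    exact ⟨g' * g, by rw [mul_smul, hg, hg']⟩

theorem faithfulSMul (D : ZD G Ω x y F) : FaithfulSMul G Ω := by
  refine ⟨fun {g1 g2} h => ?_⟩
  have : g2⁻¹ * g1 = 1 := by
    apply D.faith
    intro a
    rw [mul_smul, h a, inv_smul_smul]
  have := congrArg (fun w => g2 * w) this
  simpa using this

end ZD

end Cfsg.Agent.Helper27.ZQ

namespace Cfsg.Agent.Helper27.ZQ

open MulAction

namespace ZD

variable {G : Type*} [Group G] {Ω : Type*} [MulAction G Ω] {x y : Ω} {F : Subgroup G}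

/-- the two-point stabiliser -/
abbrev HH (G : Type*) [Group G] {Ω : Type*} [MulAction G Ω] (x y : Ω) : Subgroup G :=
  stabilizer G x ⊓ stabilizer G y

theorem mem_HH {g : G} : g ∈ HH G x y ↔ g • x = x ∧ g • y = y := by
  rw [Subgroup.mem_inf, mem_stabilizer_iff, mem_stabilizer_iff]

theorem card_Omega (D : ZD G Ω x y F) [Finite G] : Nat.card Ω = Nat.card F + 1 := by
  classical
  let f : Option F → Ω := fun o => Option.elim o x (fun u => (u : G) • y)
  have hf : Function.Bijective f := by
    constructor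
    · intro a b hab
      cases a with
      | none =>
        cases b with
        | none => rfl
        | some v =>
          exfalso
          have : x = (v : G) • y := hab
          exact D.smul_ne_x (D.hFx v v.2) D.hxy.symm this.symm
      | some u =>
        cases b with
        | none =>
          exfalso
          have : (u : G) • y = x := hab
          exact D.smul_ne_x (D.hFx u u.2) D.hxy.symm this
        | some v =>
          have : (u : G) • y = (v : G) • y := hab
          have := D.F_unique u.2 v.2 D.hxy.symm this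
          rw [Subtype.ext this]
    · intro a
      by_cases ha : a = x
      · exact ⟨none, ha.symm⟩
      · obtain ⟨u, hu, hua⟩ := D.hreg y a D.hxy.symm ha
        exact ⟨some ⟨u, hu⟩, hua⟩
  rw [← Nat.card_eq_of_bijective f hf, Finite.card_option]

theorem card_stab (D : ZD G Ω x y F) [Finite G] :
    Nat.card (stabilizer G x) = Nat.card F * Nat.card (HH G x y) := by
  let f : F × HH G x y → stabilizer G x := fun p =>
    ⟨(p.1 : G) * (p.2 : G), by
      rw [mem_stabilizer_iff, mul_smul, (mem_HH.1 p.2.2).1, D.hFx _ p.1.2]⟩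
  have hf : Function.Bijective f := by
    constructor
    · rintro ⟨u, h⟩ ⟨u', h'⟩ hab
      have h1 : (u : G) * (h : G) = (u' : G) * (h' : G) := congrArg Subtype.val hab
      have h2 : (u : G) • y = (u' : G) • y := by
        have := congrArg (fun g : G => g • y) h1
        simp only [mul_smul] at this
        rwa [(mem_HH.1 h.2).2, (mem_HH.1 h'.2).2] at this
      have h3 := D.F_unique u.2 u'.2 D.hxy.symm h2
      have h4 : (h : G) = (h' : G) := by
        rw [h3] at h1
        exact mul_left_cancel h1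
      rw [Prod.mk.injEq]
      exact ⟨Subtype.ext h3, Subtype.ext h4⟩
    · rintro ⟨g, hg⟩
      rw [mem_stabilizer_iff] at hg
      obtain ⟨u, hu, huy⟩ := D.hreg y (g • y) D.hxy.symm (D.smul_ne_x hg D.hxy.symm)
      have hh : u⁻¹ * g ∈ HH G x y := by
        rw [mem_HH]
        refine ⟨?_, ?_⟩
        · rw [mul_smul, hg, inv_smul_eq_iff, D.hFx u hu]
        · rw [mul_smul, inv_smul_eq_iff, huy]
      refine ⟨(⟨u, hu⟩, ⟨u⁻¹ * g, hh⟩), ?_⟩
      apply Subtype.ext
      show u * (u⁻¹ * g) = g
      group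
  rw [← Nat.card_eq_of_bijective f hf, Nat.card_prod]

theorem card_G (D : ZD G Ω x y F) [Finite G] [Finite Ω] :
    Nat.card G = (Nat.card F + 1) * (Nat.card F * Nat.card (HH G x y)) := by
  haveI := D.isPretransitive
  have h1 := Subgroup.card_mul_index (stabilizer G x)
  rw [index_stabilizer_of_transitive, D.card_Omega, D.card_stab] at h1
  rw [← h1, mul_comm]

end ZD

end Cfsg.Agent.Helper27.ZQ

namespace Cfsg.Agent.Helper27.ZQ

open MulAction

namespace ZD

variable {G : Type*} [Group G] {Ω : Type*} [MulAction G Ω] {x y : Ω} {F : Subgroup G}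

/-- the points other than `x` and `y`, as a set with an action of the two-point stabiliser -/
def rest (G : Type*) [Group G] {Ω : Type*} [MulAction G Ω] (x y : Ω) :
    SubMulAction (HH G x y) Ω where
  carrier := {z | z ≠ x ∧ z ≠ y}
  smul_mem' := by
    rintro ⟨h, hh⟩ z ⟨hzx, hzy⟩
    rw [mem_HH] at hh
    refine ⟨?_, ?_⟩
    · intro h1
      apply hzx
      have : h • z = h • x := by rw [hh.1]; exact h1
      exact smul_left_cancel h this
    · intro h1
      apply hzy
      have : h • z = h • y := by rw [hh.2]; exact h1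
      exact smul_left_cancel h this

theorem mem_rest {z : Ω} : z ∈ rest G x y ↔ z ≠ x ∧ z ≠ y := Iff.rfl

theorem card_rest (D : ZD G Ω x y F) [Finite G] [Finite Ω] :
    Nat.card (rest G x y) + 2 = Nat.card Ω := by
  have h1 : Nat.card (rest G x y) = ({x, y} : Set Ω)ᶜ.ncard := by
    rw [← Nat.card_coe_set_eq]
    apply Nat.card_congr
    refine Equiv.subtypeEquivRight ?_
    intro z
    rw [Set.mem_compl_iff, Set.mem_insert_iff, Set.mem_singleton_iff, not_or]
    exact Iff.rfl
  have h2 := Set.ncard_add_ncard_compl ({x, y} : Set Ω)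
  rw [Set.ncard_pair D.hxy] at h2
  omega

theorem card_HH_dvd (D : ZD G Ω x y F) [Finite G] [Finite Ω] :
    Nat.card (HH G x y) ∣ Nat.card F - 1 := by
  have hfree : ∀ b : rest G x y, stabilizer (HH G x y) b = ⊥ := by
    intro b
    rw [eq_bot_iff]
    intro h hh
    rw [mem_stabilizer_iff] at hh
    rw [Subgroup.mem_bot]
    have hb := congrArg Subtype.val hh
    have hb' : (h : G) • (b : Ω) = b := hb
    have hm := mem_HH.1 h.2
    apply Subtype.ext
    exact D.three h x y b D.hxy (Ne.symm b.2.2) (Ne.symm b.2.1) hm.1 hm.2 hb'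
  have e := MulAction.selfEquivOrbitsQuotientProd hfree
  have h1 := Nat.card_congr e
  rw [Nat.card_prod] at h1
  have h2 := D.card_rest
  have h3 := D.card_Omega
  have h4 : Nat.card F - 1 = Nat.card (rest G x y) := by omega
  rw [h4, h1]
  exact Dvd.intro_left _ rfl

/-- the two-point stabiliser has fewer than `n + 1` elements -/
theorem card_HH_le (D : ZD G Ω x y F) [Finite G] [Finite Ω] :
    Nat.card (HH G x y) ≤ Nat.card F - 1 := by
  obtain ⟨z, hzx, hzy⟩ := D.third
  have h2 := D.card_rest
  have h3 := D.card_Omega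
  have hpos : 0 < Nat.card (rest G x y) := by
    haveI : Nonempty (rest G x y) := ⟨⟨z, hzx, hzy⟩⟩
    exact Nat.card_pos
  exact Nat.le_of_dvd (by omega) D.card_HH_dvd

end ZD

end Cfsg.Agent.Helper27.ZQ

namespace Cfsg.Agent.Helper27.ZQ

open MulAction

namespace ZD

variable {G : Type*} [Group G] {Ω : Type*} [MulAction G Ω] {x y : Ω} {F : Subgroup G}

theorem normal_transitive (D : ZD G Ω x y F) (N : Subgroup G) [hN : N.Normal]
    (hNb : N ≠ ⊥) (a b : Ω) : ∃ n ∈ N, n • a = b := by
  by_cases hab : a = b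
  · exact ⟨1, N.one_mem, by rw [one_smul, hab]⟩
  obtain ⟨g, hg1⟩ := (Subgroup.ne_bot_iff_exists_ne_one).1 hNb
  have hg1' : (g : G) ≠ 1 := fun h => hg1 (Subtype.ext h)
  have : ∃ c : Ω, (g : G) • c ≠ c := by
    by_contra hcon
    push Not at hcon
    exact hg1' (D.faith _ hcon)
  obtain ⟨c, hc⟩ := this
  obtain ⟨k, hk1, hk2⟩ := D.twoTrans (Ne.symm hc) hab
  refine ⟨k * g * k⁻¹, hN.conj_mem _ g.2 k, ?_⟩
  rw [mul_smul, mul_smul, ← hk1, inv_smul_smul, hk2]

theorem dvd_card_normal (D : ZD G Ω x y F) [Finite G] [Finite Ω] (N : Subgroup G) [hN : N.Normal]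
    (hNb : N ≠ ⊥) : Nat.card F + 1 ∣ Nat.card N := by
  haveI : IsPretransitive N Ω := by
    refine ⟨fun a b => ?_⟩
    obtain ⟨n, hn, hnab⟩ := D.normal_transitive N hNb a b
    exact ⟨⟨n, hn⟩, hnab⟩
  have h1 := index_stabilizer_of_transitive N x
  rw [D.card_Omega] at h1
  rw [← h1]
  exact Subgroup.index_dvd_card _

/-- there is at most one normal subgroup of order `n + 1` -/
theorem uniq_normal (D : ZD G Ω x y F) [Finite G] [Finite Ω] (M1 M2 : Subgroup G)
    [h1 : M1.Normal] [h2 : M2.Normal] (hc1 : Nat.card M1 = Nat.card F + 1)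
    (hc2 : Nat.card M2 = Nat.card F + 1) : M1 = M2 := by
  by_contra hne
  have hL : M1 ⊓ M2 = ⊥ := by
    by_contra hLb
    have hdvd := D.dvd_card_normal (M1 ⊓ M2) hLb
    have hge : Nat.card F + 1 ≤ Nat.card (M1 ⊓ M2 : Subgroup G) :=
      Nat.le_of_dvd Nat.card_pos hdvd
    have e1 : M1 ⊓ M2 = M1 := by
      apply Subgroup.eq_of_le_of_card_ge inf_le_left
      rw [hc1]; exact hge
    have e2 : M1 ⊓ M2 = M2 := by
      apply Subgroup.eq_of_le_of_card_ge inf_le_right
      rw [hc2]; exact hge
    exact hne (e1.symm.trans e2)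
  set f : M2 →* G ⧸ M1 := (QuotientGroup.mk' M1).comp M2.subtype with hf
  have hfinj : Function.Injective f := by
    rw [injective_iff_map_eq_one]
    intro b hb
    have hb1 : (b : G) ∈ M1 := by
      have : (QuotientGroup.mk' M1) (b : G) = 1 := hb
      rwa [QuotientGroup.mk'_apply, QuotientGroup.eq_one_iff] at this
    have hb2 : (b : G) ∈ M1 ⊓ M2 := ⟨hb1, b.2⟩
    rw [hL, Subgroup.mem_bot] at hb2
    exact Subtype.ext hb2
  have hdvd := Subgroup.card_dvd_of_injective f hfinj
  rw [hc2] at hdvd
  have hidx : Nat.card (G ⧸ M1) = Nat.card F * Nat.card (HH G x y) := by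
    have h3 := Subgroup.card_eq_card_quotient_mul_card_subgroup M1
    rw [hc1, D.card_G] at h3
    have h4 : (Nat.card F + 1) * (Nat.card F * Nat.card (HH G x y)) =
        (Nat.card F + 1) * Nat.card (G ⧸ M1) := by
      rw [h3, mul_comm]
    exact (Nat.eq_of_mul_eq_mul_left (Nat.succ_pos _) h4).symm
  rw [hidx] at hdvd
  have hcop : Nat.Coprime (Nat.card F + 1) (Nat.card F) := by
    rw [Nat.coprime_comm]
    exact (Nat.coprime_self_add_right).2 (Nat.coprime_one_right _)
  have hd := hcop.dvd_of_dvd_mul_left hdvd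
  have h6 := D.card_HH_le
  have h7 : Nat.card F + 1 ≤ Nat.card (HH G x y) := Nat.le_of_dvd Nat.card_pos hd
  omega

/-- the normaliser of `F` fixes `x` -/
theorem normalizer_le_stab (D : ZD G Ω x y F) :
    Subgroup.normalizer (F : Set G) ≤ stabilizer G x := by
  intro g hg
  rw [mem_stabilizer_iff]
  by_contra hne
  -- some non-trivial element of `F`
  obtain ⟨z, hzx, hzy⟩ := D.third
  obtain ⟨u, hu, huz⟩ := D.hreg y z D.hxy.symm hzx
  have hu1 : u ≠ 1 := by
    rintro rfl
    rw [one_smul] at huz
    exact hzy huz.symm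
  have h1 : g * u * g⁻¹ ∈ F := by
    have := (Subgroup.mem_normalizer_iff.1 hg u).1 hu
    exact this
  have h2 : (g * u * g⁻¹) • (g • x) = g • x := by
    rw [mul_smul, mul_smul, inv_smul_smul, D.hFx u hu]
  have h3 := D.hfree _ h1 (g • x) hne h2
  apply hu1
  have : u = g⁻¹ * (g * u * g⁻¹) * g := by group
  rw [this, h3]
  group

/-- Burnside: a trivial two-point stabiliser gives a normal subgroup of order `n + 1` -/
theorem exists_normal_of_card_one (D : ZD G Ω x y F) [Finite G] [Finite Ω] (p : ℕ)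
    [hp : Fact p.Prime] (hFp : IsPGroup p F) (h1 : Nat.card (HH G x y) = 1) :
    ∃ N : Subgroup G, N.Normal ∧ Nat.card N = Nat.card F + 1 := by
  have hG := D.card_G
  rw [h1, mul_one] at hG
  have hidx : F.index = Nat.card F + 1 := by
    have h2 := Subgroup.card_mul_index F
    rw [hG] at h2
    have h3 : Nat.card F * F.index = Nat.card F * (Nat.card F + 1) := by rw [h2, mul_comm]
    exact Nat.eq_of_mul_eq_mul_left Nat.card_pos h3
  -- `p` does not divide the index
  obtain ⟨k, hk⟩ := hFp.exists_card_eq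
  have hnd : ¬ p ∣ F.index := by
    rw [hidx, hk]
    intro hdvd
    rcases Nat.eq_zero_or_pos k with hk0 | hk0
    · subst hk0
      rw [pow_zero] at hk
      -- `F` is trivial, impossible
      obtain ⟨z, hzx, hzy⟩ := D.third
      obtain ⟨u, hu, huz⟩ := D.hreg y z D.hxy.symm hzx
      have : (⟨u, hu⟩ : F) = 1 := by
        obtain ⟨hsub, -⟩ := Nat.card_eq_one_iff_unique.1 hk
        exact Subsingleton.elim _ _
      have hu1 : u = 1 := congrArg Subtype.val this
      rw [hu1, one_smul] at huz
      exact hzy huz.symm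
    · have h3 : p ∣ p ^ k := dvd_pow_self p hk0.ne'
      have h4 : p ∣ 1 := (Nat.dvd_add_right h3).1 hdvd
      exact hp.out.one_lt.ne' (Nat.dvd_one.1 h4)
  set P : Sylow p G := hFp.toSylow hnd with hP
  have hPF : (P : Subgroup G) = F := rfl
  have hstab : stabilizer G x = F := by
    symm
    apply Subgroup.eq_of_le_of_card_ge
    · intro u hu
      rw [mem_stabilizer_iff]
      exact D.hFx u hu
    · rw [D.card_stab, h1, mul_one]
  have hPn : Subgroup.normalizer ((P : Subgroup G) : Set G) ≤
      Subgroup.centralizer ((P : Subgroup G) : Set G) := by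
    rw [hPF]
    intro g hg
    have hgF : g ∈ F := by
      rw [← hstab]
      exact D.normalizer_le_stab hg
    rw [Subgroup.mem_centralizer_iff]
    intro h hh
    exact D.hFab h hh g hgF
  have hcomp := MonoidHom.ker_transferSylow_isComplement' P hPn
  refine ⟨(MonoidHom.transferSylow P hPn).ker, inferInstance, ?_⟩
  have h2 := hcomp.card_mul_card
  have h3 : Nat.card (MonoidHom.transferSylow P hPn).ker * Nat.card F =
      (Nat.card F + 1) * Nat.card F := by
    rw [← hG]
    exact h2
  exact Nat.eq_of_mul_eq_mul_right Nat.card_pos h3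

end ZD

end Cfsg.Agent.Helper27.ZQ
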