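import Mathlib
import Cfsg.Agent.Lib.Helper27.Zq1D
import Cfsg.Prelude.Def_LieExceptional
import Cfsg.Agent.S0741
import Cfsg.Agent.S0885
import Cfsg.Agent.S0739

set_option autoImplicit false
set_option linter.unusedSectionVars false
set_option linter.style.haveILetI false

/-! `ZD` continued: the Zassenhaus property, the bound `n - 1 ≤ 2d`, restriction to normal subgroups containing `F`, absence of normal subgroups of odd prime power index (`no_normal_index`), inversion of an odd two-point stabiliser (`inv_of_odd`), the involution of an even two-point stabiliser inverts `F` and is unique, involutions exchanging the base points (`exists_swap_fix`), and `inv_of_even` by counting. -/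

namespace Cfsg.Agent.Helper27.ZQ

open MulAction

/-- no normal subgroup of order `n + 1` -/
def NoRegN (G : Type*) [Group G] (n : ℕ) : Prop :=
  ∀ N : Subgroup G, N.Normal → Nat.card N ≠ n + 1

namespace ZD

variable {G : Type*} [Group G] {Ω : Type*} [MulAction G Ω] {x y : Ω} {F : Subgroup G}

theorem isZassenhaus (D : ZD G Ω x y F) [Finite G] [Finite Ω]
    (hd2 : 2 ≤ Nat.card (HH G x y)) (hnr : NoRegN G (Nat.card F)) :
    Cfsg.IsZassenhausGroup G Ω := by
  refine ⟨D.faithfulSMul, ?_, D.three, ?_, ?_⟩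
  · rw [MulAction.is_two_pretransitive_iff]
    intro a b c d hab hcd
    exact D.twoTrans hab hcd
  · have hne : HH G x y ≠ ⊥ := by
      intro h
      rw [h, Subgroup.card_bot] at hd2
      omega
    obtain ⟨g, hg1⟩ := (Subgroup.ne_bot_iff_exists_ne_one).1 hne
    have hm := mem_HH.1 g.2
    exact ⟨g, fun h => hg1 (Subtype.ext h), x, y, D.hxy, hm.1, hm.2⟩
  · intro N hN htr
    by_contra hcon
    push Not at hcon
    apply hnr N hN
    have h1 := Subgroup.card_mul_index (stabilizer N x)
    rw [index_stabilizer_of_transitive, hcon x, Subgroup.card_bot, one_mul, D.card_Omega] at h1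
    exact h1.symm

theorem bound_of_zassenhaus (D : ZD G Ω x y F) [Finite G] [Finite Ω]
    (hZ : Cfsg.IsZassenhausGroup G Ω) :
    Nat.card F - 1 ≤ 2 * Nat.card (HH G x y) := by
  letI : Fintype Ω := Fintype.ofFinite _
  have hcardΩ : Fintype.card Ω = Nat.card F + 1 := by
    rw [← Nat.card_eq_fintype_card, D.card_Omega]
  rcases Nat.even_or_odd (Nat.card (HH G x y)) with hev | hodd
  · have := Cfsg.Agent.S0741.result hZ D.hxy hev
    rw [hcardΩ] at this
    have h3 : Nat.card ↥(MulAction.stabilizer G x ⊓ MulAction.stabilizer G y) =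
        Nat.card (HH G x y) := rfl
    rw [h3] at this
    omega
  · have hHa : F ≤ MulAction.stabilizer G x := by
      intro g hg
      rw [MulAction.mem_stabilizer_iff]
      exact D.hFx g hg
    have hHcard : Nat.card F + 1 = Fintype.card Ω := hcardΩ.symm
    have := Cfsg.Agent.S0885.result hZ D.hxy (Nat.card F) (Nat.card (HH G x y)) hcardΩ rfl hodd
      F hHa hHcard (fun u hu hu1 c hc => by
        by_contra hcx
        exact hu1 (D.hfree u hu c hcx hc))
    rcases this with h | ⟨-, ⟨u, v, huv⟩, -⟩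
    · exact h
    · exfalso
      apply huv
      apply Subtype.ext
      exact D.hFab u u.2 v v.2

theorem half_le (D : ZD G Ω x y F) [Finite G] [Finite Ω] (p : ℕ) [hp : Fact p.Prime]
    (hFp : IsPGroup p F) (hnr : NoRegN G (Nat.card F)) :
    2 ≤ Nat.card (HH G x y) ∧ Nat.card F - 1 ≤ 2 * Nat.card (HH G x y) := by
  have hd0 : 0 < Nat.card (HH G x y) := Nat.card_pos
  have hd2 : 2 ≤ Nat.card (HH G x y) := by
    by_contra hcon
    have h1 : Nat.card (HH G x y) = 1 := by omega
    obtain ⟨N, hN, hNc⟩ := D.exists_normal_of_card_one p hFp h1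
    exact hnr N hN hNc
  exact ⟨hd2, D.bound_of_zassenhaus (D.isZassenhaus hd2 hnr)⟩

/-- the restriction to a subgroup containing `F` and moving `x` -/
theorem sub (D : ZD G Ω x y F) (N : Subgroup G) (hFN : F ≤ N) (hmove : ∃ g ∈ N, g • x ≠ x) :
    ZD N Ω x y (F.subgroupOf N) where
  faith := by
    intro g hg
    apply Subtype.ext
    exact D.faith g hg
  hxy := D.hxy
  third := D.third
  three := by
    intro g a b c hab hbc hac ha hb hc
    apply Subtype.ext
    exact D.three g a b c hab hbc hac ha hb hc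
  hFx := by
    intro f hf
    exact D.hFx f (Subgroup.mem_subgroupOf.1 hf)
  hFn := by
    intro g hg f hf
    rw [Subgroup.mem_subgroupOf] at hf ⊢
    exact D.hFn g hg f hf
  hFab := by
    intro a ha b hb
    rw [Subgroup.mem_subgroupOf] at ha hb
    apply Subtype.ext
    exact D.hFab a ha b hb
  hreg := by
    intro z w hz hw
    obtain ⟨u, hu, huz⟩ := D.hreg z w hz hw
    exact ⟨⟨u, hFN hu⟩, Subgroup.mem_subgroupOf.2 hu, huz⟩
  hfree := by
    intro u hu z hz huz
    apply Subtype.ext
    exact D.hfree u (Subgroup.mem_subgroupOf.1 hu) z hz huz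
  move := by
    obtain ⟨g, hg, hgx⟩ := hmove
    exact ⟨⟨g, hg⟩, hgx⟩

theorem card_subgroupOf (N : Subgroup G) (hFN : F ≤ N) :
    Nat.card (F.subgroupOf N) = Nat.card F :=
  Nat.card_congr (Subgroup.subgroupOfEquivOfLe hFN).toEquiv

theorem F_ne_bot (D : ZD G Ω x y F) : F ≠ ⊥ := by
  intro h
  obtain ⟨z, hzx, hzy⟩ := D.third
  obtain ⟨u, hu, huz⟩ := D.hreg y z D.hxy.symm hzx
  rw [h, Subgroup.mem_bot] at hu
  rw [hu, one_smul] at huz
  exact hzy huz.symm

theorem exists_move_of_normal (D : ZD G Ω x y F) (N : Subgroup G) [hN : N.Normal] (hFN : F ≤ N) :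
    ∃ g ∈ N, g • x ≠ x := by
  have hNb : N ≠ ⊥ := by
    intro h
    apply D.F_ne_bot
    rw [eq_bot_iff, ← h]
    exact hFN
  obtain ⟨n, hn, hnx⟩ := D.normal_transitive N hNb x y
  exact ⟨n, hn, by rw [hnx]; exact D.hxy.symm⟩

/-- a normal subgroup of order `n + 1` of a normal subgroup containing `F` is normal -/
theorem normal_of_normal_sub (D : ZD G Ω x y F) [Finite G] [Finite Ω] (N : Subgroup G)
    [hN : N.Normal] (hFN : F ≤ N) (M : Subgroup N) [hM : M.Normal]
    (hMc : Nat.card M = Nat.card F + 1) :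
    (M.map N.subtype).Normal ∧ Nat.card (M.map N.subtype) = Nat.card F + 1 := by
  have DN := D.sub N hFN (D.exists_move_of_normal N hFN)
  have hcF := card_subgroupOf (F := F) N hFN
  refine ⟨⟨?_⟩, ?_⟩
  · rintro _ ⟨m, hm, rfl⟩ g
    obtain ⟨φ, hφ⟩ : ∃ φ : N ≃* N, ∀ n : N, ((φ n : N) : G) = g * n * g⁻¹ :=
      ⟨MulAut.conjNormal g, fun n => by simp⟩
    have hinjφ : Function.Injective φ.toMonoidHom := φ.injective
    have hsurjφ : Function.Surjective φ.toMonoidHom := φ.surjective
    haveI : (M.map φ.toMonoidHom).Normal := hM.map _ hsurjφ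
    have hc' : Nat.card (M.map φ.toMonoidHom) = Nat.card (F.subgroupOf N) + 1 := by
      rw [Subgroup.card_map_of_injective hinjφ, hMc, hcF]
    have hMc' : Nat.card M = Nat.card (F.subgroupOf N) + 1 := by rw [hMc, hcF]
    have heq := DN.uniq_normal (M.map φ.toMonoidHom) M hc' hMc'
    have hmem : φ m ∈ M.map φ.toMonoidHom := ⟨m, hm, rfl⟩
    rw [heq] at hmem
    exact ⟨φ m, hmem, hφ m⟩
  · rw [Subgroup.card_map_of_injective N.subtype_injective, hMc]

end ZD

end Cfsg.Agent.Helper27.ZQ

namespace Cfsg.Agent.Helper27.ZQ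

open MulAction

namespace ZD

variable {G : Type*} [Group G] {Ω : Type*} [MulAction G Ω] {x y : Ω} {F : Subgroup G}

theorem two_le_card_F (D : ZD G Ω x y F) [Finite G] : 2 ≤ Nat.card F := by
  have := (Subgroup.one_lt_card_iff_ne_bot (H := F)).2 D.F_ne_bot
  omega

theorem no_normal_index (D : ZD G Ω x y F) [Finite G] [Finite Ω] (p : ℕ) [hp : Fact p.Prime]
    (hFp : IsPGroup p F) (hnr : NoRegN G (Nat.card F)) (q : ℕ)
    (hq : q.Prime) (hqd : q ∣ Nat.card (HH G x y)) (hq2 : q ≠ 2) :
    ¬ ∃ N : Subgroup G, N.Normal ∧ N.index = q ^ (Nat.card G).factorization q := by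
  rintro ⟨N, hN, hidx⟩
  have hn2 := D.two_le_card_F
  have hdn := D.card_HH_dvd
  have hdle := D.card_HH_le
  have hqn1 : q ∣ Nat.card F - 1 := hqd.trans hdn
  have hqn : ¬ q ∣ Nat.card F := by
    intro h
    have h1 := Nat.dvd_sub h hqn1
    have h2 : Nat.card F - (Nat.card F - 1) = 1 := by omega
    rw [h2] at h1
    exact hq.one_lt.ne' (Nat.dvd_one.1 h1)
  have hqG : q ∣ Nat.card G := by
    rw [D.card_G]
    exact Dvd.dvd.mul_left (Dvd.dvd.mul_left hqd _) _
  have hv : 1 ≤ (Nat.card G).factorization q :=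
    (hq.dvd_iff_one_le_factorization Nat.card_pos.ne').1 hqG
  set v := (Nat.card G).factorization q with hvdef
  have hcop : Nat.Coprime (q ^ v) (Nat.card F) := by
    apply Nat.Coprime.pow_left
    exact (Nat.Prime.coprime_iff_not_dvd hq).2 hqn
  have hFN : F ≤ N := by
    intro f hf
    have h1 : f ^ N.index ∈ N := Subgroup.pow_index_mem N f
    rw [hidx] at h1
    have hord : orderOf f ∣ Nat.card F := by
      have := orderOf_dvd_natCard (⟨f, hf⟩ : F)
      rwa [Subgroup.orderOf_mk] at this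
    have hcop' : Nat.Coprime (q ^ v) (orderOf f) := Nat.Coprime.coprime_dvd_right hord hcop
    obtain ⟨k, hk⟩ := exists_pow_eq_self_of_coprime hcop'
    rw [← hk]
    exact Subgroup.pow_mem _ h1 _
  have DN := D.sub N hFN (D.exists_move_of_normal N hFN)
  have hcF := card_subgroupOf (F := F) N hFN
  have hcardN := DN.card_G
  rw [hcF] at hcardN
  have hmul := Subgroup.card_mul_index N
  rw [hidx, hcardN, D.card_G] at hmul
  have hd : Nat.card (HH N x y) * q ^ v = Nat.card (HH G x y) := by
    have : (Nat.card F + 1) * Nat.card F * (Nat.card (HH N x y) * q ^ v) =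
        (Nat.card F + 1) * Nat.card F * Nat.card (HH G x y) := by
      linarith [hmul]
    exact Nat.eq_of_mul_eq_mul_left (Nat.mul_pos (Nat.succ_pos _) Nat.card_pos) this
  have hq3 : 3 ≤ q := by
    have := hq.two_le
    omega
  have hqv : 3 ≤ q ^ v := by
    calc 3 ≤ q := hq3
      _ = q ^ 1 := (pow_one q).symm
      _ ≤ q ^ v := Nat.pow_le_pow_right hq.pos hv
  have hd'pos : 0 < Nat.card (HH N x y) := Nat.card_pos
  have hsmall : ¬ (Nat.card F - 1 ≤ 2 * Nat.card (HH N x y)) := by
    intro hcon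
    have : Nat.card (HH N x y) * 3 ≤ Nat.card (HH N x y) * q ^ v :=
      Nat.mul_le_mul_left _ hqv
    omega
  have hFpN : IsPGroup p (F.subgroupOf N) := hFp.comap_subtype
  have hnotNR : ¬ NoRegN N (Nat.card (F.subgroupOf N)) := by
    intro h
    have := (DN.half_le p hFpN h).2
    rw [hcF] at this
    exact hsmall this
  unfold NoRegN at hnotNR
  push Not at hnotNR
  obtain ⟨M, hM, hMc⟩ := hnotNR
  rw [hcF] at hMc
  obtain ⟨hnorm, hcard⟩ := D.normal_of_normal_sub N hFN M hMc
  exact hnr _ hnorm hcard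

/-- for an odd two-point stabiliser, in the absence of a regular normal subgroup, every
element swapping the two points inverts the stabiliser, which is cyclic -/
theorem inv_of_odd (D : ZD G Ω x y F) [Finite G] [Finite Ω] (p : ℕ) [hp : Fact p.Prime]
    (hFp : IsPGroup p F) (hnr : NoRegN G (Nat.card F))
    (hodd : Odd (Nat.card (HH G x y))) :
    IsCyclic (HH G x y) ∧
      ∀ t : G, t • x = y → t • y = x → ∀ h ∈ HH G x y, t * h * t⁻¹ = h⁻¹ := by
  obtain ⟨hd2, -⟩ := D.half_le p hFp hnr
  have hZ := D.isZassenhaus hd2 hnr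
  letI : Fintype Ω := Fintype.ofFinite _
  have hnil : ∀ q : ℕ, q.Prime →
      q ∣ Nat.card ↥(MulAction.stabilizer G x ⊓ MulAction.stabilizer G y) →
      ¬ ∃ N : Subgroup G, N.Normal ∧ N.index = q ^ (Nat.card G).factorization q := by
    intro q hq hqd
    apply D.no_normal_index p hFp hnr q hq hqd
    rintro rfl
    have : Even (Nat.card (HH G x y)) := (even_iff_two_dvd).2 hqd
    exact (Nat.not_even_iff_odd.2 hodd) this
  have := Cfsg.Agent.S0739.result hZ D.hxy hodd hnil
  exact ⟨this.1, this.2.2⟩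

end ZD

end Cfsg.Agent.Helper27.ZQ

namespace Cfsg.Agent.Helper27.ZQ

open MulAction

namespace ZD

variable {G : Type*} [Group G] {Ω : Type*} [MulAction G Ω] {x y : Ω} {F : Subgroup G}

/-- an involution in the two-point stabiliser inverts `F` -/
theorem invol_inverts (D : ZD G Ω x y F) (j : G) (hj : j ∈ HH G x y) (hj2 : j * j = 1)
    (hj1 : j ≠ 1) (f : G) (hf : f ∈ F) : j * f * j⁻¹ = f⁻¹ := by
  have hjx := (mem_HH.1 hj).1
  have hjy := (mem_HH.1 hj).2
  have hφf : j * f * j⁻¹ ∈ F := D.hFn j hjx f hf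
  have hg : f * (j * f * j⁻¹) ∈ F := F.mul_mem hf hφf
  have hjj : j * (j * f * j⁻¹) * j⁻¹ = f := by
    calc j * (j * f * j⁻¹) * j⁻¹ = (j * j) * f * (j * j)⁻¹ := by group
      _ = f := by rw [hj2]; group
  have hcomm : j * (f * (j * f * j⁻¹)) = (f * (j * f * j⁻¹)) * j := by
    have h1 : j * (f * (j * f * j⁻¹)) * j⁻¹ = (j * f * j⁻¹) * (j * (j * f * j⁻¹) * j⁻¹) := by
      group
    rw [hjj, D.hFab _ hφf f hf] at h1
    calc j * (f * (j * f * j⁻¹)) = (j * (f * (j * f * j⁻¹)) * j⁻¹) * j := by group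
      _ = (f * (j * f * j⁻¹)) * j := by rw [h1]
  by_cases hg1 : f * (j * f * j⁻¹) = 1
  · exact eq_inv_of_mul_eq_one_right hg1
  · exfalso
    apply hj1
    have hgy : (f * (j * f * j⁻¹)) • y ≠ y := fun h => hg1 (D.hfree _ hg y D.hxy.symm h)
    have hgx : (f * (j * f * j⁻¹)) • y ≠ x := D.smul_ne_x (D.hFx _ hg) D.hxy.symm
    have hfix : j • ((f * (j * f * j⁻¹)) • y) = (f * (j * f * j⁻¹)) • y := by
      rw [← mul_smul, hcomm, mul_smul, hjy]
    exact D.three j x y _ D.hxy (Ne.symm hgy) (Ne.symm hgx) hjx hjy hfix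

/-- the two-point stabiliser contains at most one involution -/
theorem invol_unique (D : ZD G Ω x y F) (j j' : G) (hj : j ∈ HH G x y) (hj2 : j * j = 1)
    (hj1 : j ≠ 1) (hj' : j' ∈ HH G x y) (hj'2 : j' * j' = 1) (hj'1 : j' ≠ 1) : j = j' := by
  have hc : j * j' = 1 := by
    apply D.faith
    intro a
    have hcy : (j * j') • y = y := by
      rw [mul_smul, (mem_HH.1 hj').2, (mem_HH.1 hj).2]
    by_cases ha : a = x
    · rw [ha, mul_smul, (mem_HH.1 hj').1, (mem_HH.1 hj).1]
    · obtain ⟨f, hf, hfa⟩ := D.hreg y a D.hxy.symm ha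
      have h1 : (j * j') * f = f * (j * j') := by
        have e1 := D.invol_inverts j' hj' hj'2 hj'1 f hf
        have e2 := D.invol_inverts j hj hj2 hj1 f⁻¹ (F.inv_mem hf)
        rw [inv_inv] at e2
        have e3 : (j * j') * f * (j * j')⁻¹ = f := by
          calc (j * j') * f * (j * j')⁻¹ = j * (j' * f * j'⁻¹) * j⁻¹ := by group
            _ = f := by rw [e1, e2]
        calc (j * j') * f = ((j * j') * f * (j * j')⁻¹) * (j * j') := by group
          _ = f * (j * j') := by rw [e3]
      rw [← hfa, ← mul_smul, h1, mul_smul, hcy]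
  have h2 : j' = j⁻¹ := eq_inv_of_mul_eq_one_right hc
  have h3 : j⁻¹ = j := inv_eq_of_mul_eq_one_left hj2
  rw [h2, h3]

theorem invol_unique_pair (D : ZD G Ω x y F) {a b : Ω} (hab : a ≠ b) (s s' : G)
    (hs2 : s * s = 1) (hs1 : s ≠ 1) (hsa : s • a = a) (hsb : s • b = b)
    (hs'2 : s' * s' = 1) (hs'1 : s' ≠ 1) (hs'a : s' • a = a) (hs'b : s' • b = b) : s = s' := by
  obtain ⟨g, hga, hgb⟩ := D.exists_smul_pair hab
  have key : ∀ r : G, r * r = 1 → r ≠ 1 → r • a = a → r • b = b →
      g⁻¹ * r * g ∈ HH G x y ∧ (g⁻¹ * r * g) * (g⁻¹ * r * g) = 1 ∧ g⁻¹ * r * g ≠ 1 := by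
    intro r hr2 hr1 hra hrb
    refine ⟨?_, ?_, ?_⟩
    · rw [mem_HH]
      refine ⟨?_, ?_⟩
      · rw [mul_smul, mul_smul, hga, hra, ← hga, inv_smul_smul]
      · rw [mul_smul, mul_smul, hgb, hrb, ← hgb, inv_smul_smul]
    · calc g⁻¹ * r * g * (g⁻¹ * r * g) = g⁻¹ * (r * r) * g := by group
        _ = 1 := by rw [hr2]; group
    · intro h
      apply hr1
      have : r = g * (g⁻¹ * r * g) * g⁻¹ := by group
      rw [this, h]
      group
  obtain ⟨h1, h2, h3⟩ := key s hs2 hs1 hsa hsb
  obtain ⟨h1', h2', h3'⟩ := key s' hs'2 hs'1 hs'a hs'b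
  have := D.invol_unique _ _ h1 h2 h3 h1' h2' h3'
  have e : s = g * (g⁻¹ * s * g) * g⁻¹ := by group
  rw [e, this]
  group

/-- for each point `z` other than `x`, `y` there is an involution exchanging `x` and `y` and
fixing `z` -/
theorem exists_swap_fix (D : ZD G Ω x y F) (j : G) (hj : j ∈ HH G x y) (hj2 : j * j = 1)
    (hj1 : j ≠ 1) (z : Ω) (hzx : z ≠ x) (hzy : z ≠ y) :
    ∃ s : G, s * s = 1 ∧ s ≠ 1 ∧ s • x = y ∧ s • y = x ∧ s • z = z := by
  have hjx := (mem_HH.1 hj).1
  have hjy := (mem_HH.1 hj).2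
  have hjz : j • z ≠ z := by
    intro h
    exact hj1 (D.three j x y z D.hxy (Ne.symm hzy) (Ne.symm hzx) hjx hjy h)
  have hjjz : j • (j • z) = z := by rw [← mul_smul, hj2, one_smul]
  obtain ⟨g, hgx, hgy⟩ := D.exists_smul_pair (Ne.symm hjz)
  set s := g * j * g⁻¹ with hs
  have hsz : s • z = z := by
    rw [hs, mul_smul, mul_smul, ← hgx, inv_smul_smul, hjx]
  have hsw : s • (j • z) = j • z := by
    rw [hs, mul_smul, mul_smul, ← hgy, inv_smul_smul, hjy]
  have hs2 : s * s = 1 := by
    rw [hs]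
    calc g * j * g⁻¹ * (g * j * g⁻¹) = g * (j * j) * g⁻¹ := by group
      _ = 1 := by rw [hj2]; group
  have hs1 : s ≠ 1 := by
    intro h
    apply hj1
    have : j = g⁻¹ * s * g := by rw [hs]; group
    rw [this, h]
    group
  have hjinv : j⁻¹ = j := inv_eq_of_mul_eq_one_left hj2
  -- `j s j` is again an involution fixing `z` and `j z`
  have hcomm : j * s * j⁻¹ = s := by
    apply D.invol_unique_pair (Ne.symm hjz) (j * s * j⁻¹) s
    · calc j * s * j⁻¹ * (j * s * j⁻¹) = j * (s * s) * j⁻¹ := by group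
        _ = 1 := by rw [hs2]; group
    · intro h
      apply hs1
      have : s = j⁻¹ * (j * s * j⁻¹) * j := by group
      rw [this, h]
      group
    · rw [mul_smul, mul_smul, hjinv, hsw, hjjz]
    · rw [mul_smul, mul_smul, hjinv, hjjz, hsz]
    · exact hs2
    · exact hs1
    · exact hsz
    · exact hsw
  have hjs : j * s = s * j := by
    calc j * s = (j * s * j⁻¹) * j := by group
      _ = s * j := by rw [hcomm]
  -- `s` permutes the fixed points of `j`
  have hfixj : ∀ a : Ω, j • a = a → a = x ∨ a = y := by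
    intro a ha
    by_contra hcon
    push Not at hcon
    exact hj1 (D.three j x y a D.hxy (Ne.symm hcon.2) (Ne.symm hcon.1) hjx hjy ha)
  have hsx : s • x = y := by
    have h1 : j • (s • x) = s • x := by rw [← mul_smul, hjs, mul_smul, hjx]
    rcases hfixj _ h1 with h | h
    · exfalso
      exact hs1 (D.three s x z (j • z) (Ne.symm hzx) (Ne.symm hjz)
        (fun h' => D.smul_ne_x hjx hzx h'.symm) h hsz hsw)
    · exact h
  have hsy : s • y = x := by
    rw [← hsx, ← mul_smul, hs2, one_smul]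
  exact ⟨s, hs2, hs1, hsx, hsy, hsz⟩

end ZD

end Cfsg.Agent.Helper27.ZQ

namespace Cfsg.Agent.Helper27.ZQ

open MulAction

namespace ZD

variable {G : Type*} [Group G] {Ω : Type*} [MulAction G Ω] {x y : Ω} {F : Subgroup G}

/-- if the two-point stabiliser has even order `(n - 1) / 2`, every element exchanging `x` and
`y` is an involution -/
theorem all_swaps_invol (D : ZD G Ω x y F) [Finite G] [Finite Ω]
    (heven : Even (Nat.card (HH G x y))) (h2d : 2 * Nat.card (HH G x y) = Nat.card F - 1)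
    (g : G) (hgx : g • x = y) (hgy : g • y = x) : g * g = 1 := by
  classical
  letI : Fintype G := Fintype.ofFinite G
  letI : Fintype Ω := Fintype.ofFinite Ω
  haveI : Fact (Nat.Prime 2) := ⟨Nat.prime_two⟩
  -- the involution of the two-point stabiliser
  obtain ⟨j0, hj0⟩ := exists_prime_orderOf_dvd_card' (G := HH G x y) 2 (even_iff_two_dvd.1 heven)
  set j : G := (j0 : G) with hjdef
  have hj : j ∈ HH G x y := j0.2
  have hj1 : j ≠ 1 := by
    intro h
    have : j0 = 1 := Subtype.ext h
    rw [this, orderOf_one] at hj0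
    norm_num at hj0
  have hj2 : j * j = 1 := by
    have := pow_orderOf_eq_one j0
    rw [hj0, pow_two] at this
    exact congrArg Subtype.val this
  -- the sets
  set X : Finset Ω := Finset.univ.filter (fun z => z ≠ x ∧ z ≠ y) with hX
  set T : Finset G := Finset.univ.filter (fun s => s • x = y ∧ s • y = x) with hT
  set T2 : Finset G := Finset.univ.filter (fun s => s • x = y ∧ s • y = x ∧ s * s = 1 ∧ s ≠ 1)
    with hT2
  have hXcard : X.card = Nat.card F - 1 := by
    have h1 : X = (Finset.univ.erase x).erase y := by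
      ext z
      simp only [hX, Finset.mem_filter, Finset.mem_univ, true_and, Finset.mem_erase, ne_eq]
      tauto
    rw [h1, Finset.card_erase_of_mem, Finset.card_erase_of_mem (Finset.mem_univ _),
      Finset.card_univ, ← Nat.card_eq_fintype_card, D.card_Omega]
    · omega
    · rw [Finset.mem_erase]
      exact ⟨D.hxy.symm, Finset.mem_univ _⟩
  have hTcard : T.card = Nat.card (HH G x y) := by
    have h1 : (Finset.univ.filter (fun a : G => a ∈ HH G x y)).card = Nat.card (HH G x y) := by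
      rw [Nat.card_eq_fintype_card, Fintype.card_subtype]
    rw [← h1]
    symm
    apply Finset.card_bij (fun a _ => g * a)
    · intro a ha
      rw [Finset.mem_filter] at ha
      have hm := mem_HH.1 ha.2
      rw [hT, Finset.mem_filter]
      refine ⟨Finset.mem_univ _, ?_, ?_⟩
      · rw [mul_smul, hm.1, hgx]
      · rw [mul_smul, hm.2, hgy]
    · intro a _ b _ hab
      exact mul_left_cancel hab
    · intro s hs
      rw [hT, Finset.mem_filter] at hs
      refine ⟨g⁻¹ * s, ?_, ?_⟩
      · rw [Finset.mem_filter]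
        refine ⟨Finset.mem_univ _, ?_⟩
        rw [mem_HH]
        refine ⟨?_, ?_⟩
        · rw [mul_smul, hs.2.1, inv_smul_eq_iff, hgx]
        · rw [mul_smul, hs.2.2, inv_smul_eq_iff, hgy]
      · group
  -- the choice of an involution for each point
  have hex : ∀ z : Ω, ∃ s : G, (z ≠ x ∧ z ≠ y) →
      (s * s = 1 ∧ s ≠ 1 ∧ s • x = y ∧ s • y = x ∧ s • z = z) := by
    intro z
    by_cases hz : z ≠ x ∧ z ≠ y
    · obtain ⟨s, hs⟩ := D.exists_swap_fix j hj hj2 hj1 z hz.1 hz.2
      exact ⟨s, fun _ => hs⟩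
    · exact ⟨1, fun h => absurd h hz⟩
  choose Φ hΦ using hex
  have hmaps : ∀ z ∈ X, Φ z ∈ T2 := by
    intro z hz
    rw [hX, Finset.mem_filter] at hz
    obtain ⟨h1, h2, h3, h4, -⟩ := hΦ z hz.2
    rw [hT2, Finset.mem_filter]
    exact ⟨Finset.mem_univ _, h3, h4, h1, h2⟩
  have hfib : ∀ s ∈ T2, (X.filter (fun z => Φ z = s)).card ≤ 2 := by
    intro s hs
    rw [hT2, Finset.mem_filter] at hs
    by_contra hcon
    push Not at hcon
    obtain ⟨a, ha, b, hb, c, hc, hab, hac, hbc⟩ := Finset.two_lt_card.1 hcon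
    rw [Finset.mem_filter, hX, Finset.mem_filter] at ha hb hc
    have hfa : s • a = a := by
      have := (hΦ a ha.1.2).2.2.2.2
      rwa [ha.2] at this
    have hfb : s • b = b := by
      have := (hΦ b hb.1.2).2.2.2.2
      rwa [hb.2] at this
    have hfc : s • c = c := by
      have := (hΦ c hc.1.2).2.2.2.2
      rwa [hc.2] at this
    exact hs.2.2.2.2 (D.three s a b c hab hbc hac hfa hfb hfc)
  have hle := Finset.card_le_mul_card_image_of_maps_to hmaps 2 hfib
  have hsub : T2 ⊆ T := by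
    intro s hs
    rw [hT2, Finset.mem_filter] at hs
    rw [hT, Finset.mem_filter]
    exact ⟨Finset.mem_univ _, hs.2.1, hs.2.2.1⟩
  have hcard : T.card ≤ T2.card := by
    rw [hTcard]
    rw [hXcard] at hle
    omega
  have heq := Finset.eq_of_subset_of_card_le hsub hcard
  have hgT : g ∈ T := by
    rw [hT, Finset.mem_filter]
    exact ⟨Finset.mem_univ _, hgx, hgy⟩
  rw [← heq, hT2, Finset.mem_filter] at hgT
  exact hgT.2.2.2.1

theorem inv_of_even (D : ZD G Ω x y F) [Finite G] [Finite Ω]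
    (heven : Even (Nat.card (HH G x y))) (h2d : 2 * Nat.card (HH G x y) = Nat.card F - 1)
    (t : G) (htx : t • x = y) (hty : t • y = x) (h : G) (hh : h ∈ HH G x y) :
    t * h * t⁻¹ = h⁻¹ := by
  have ht2 := D.all_swaps_invol heven h2d t htx hty
  have hm := mem_HH.1 hh
  have hth2 := D.all_swaps_invol heven h2d (t * h) (by rw [mul_smul, hm.1, htx])
    (by rw [mul_smul, hm.2, hty])
  have htinv : t⁻¹ = t := inv_eq_of_mul_eq_one_left ht2
  rw [htinv]
  have h1 : (t * h * t) * h = 1 := by
    calc t * h * t * h = (t * h) * (t * h) := by group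
      _ = 1 := hth2
  exact eq_inv_of_mul_eq_one_left h1

/-- a subgroup inverted by conjugation is commutative -/
theorem comm_of_inv (t : G) (H : Subgroup G) (hinv : ∀ h ∈ H, t * h * t⁻¹ = h⁻¹)
    (a b : G) (ha : a ∈ H) (hb : b ∈ H) : a * b = b * a := by
  have h1 := hinv (a * b) (H.mul_mem ha hb)
  have h2 : t * (a * b) * t⁻¹ = (t * a * t⁻¹) * (t * b * t⁻¹) := by group
  rw [h2, hinv a ha, hinv b hb, mul_inv_rev] at h1
  have h3 := congrArg (fun z => z⁻¹) h1
  simp only [mul_inv_rev, inv_inv] at h3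
  exact h3.symm

end ZD

end Cfsg.Agent.Helper27.ZQ
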