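import Mathlib
import Cfsg.Agent.Lib.Helper27.Zq1E
import Cfsg.Agent.Lib.Helper27.Zq1C
import Cfsg.Agent.Lib.Helper18.SolvEP6

set_option autoImplicit false
set_option linter.unusedSectionVars false
set_option linter.style.haveILetI false

/-! `ZD` continued: the conjugation action of the two-point stabiliser on `F` satisfies helper18's hypotheses when the stabiliser is abelian of order `(n - 1)/2`, coordinates in a field (`coords`), the resulting context `QCtx` (`exists_qctx`) and the isomorphism with `PSL₂` (`psl_of_half`). -/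

namespace Cfsg.Agent.Helper27.ZQ

open MulAction Cfsg.Agent.Helper18.SolvEP

section

variable {G : Type*} [Group G] {Ω : Type*} [MulAction G Ω] {x y : Ω} {F : Subgroup G}

/-- conjugation by an element normalising `F`, as an endomorphism of `F` written additively -/
def conjEnd (g : G) (hg : ∀ f ∈ F, g * f * g⁻¹ ∈ F) : AddMonoid.End (Additive F) :=
  MonoidHom.toAdditive
    { toFun := fun f => ⟨g * (f : G) * g⁻¹, hg f f.2⟩
      map_one' := by
        apply Subtype.ext
        simp
      map_mul' := by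
        intro a b
        apply Subtype.ext
        simp only [Subgroup.coe_mul]
        group }

theorem conjEnd_apply (g : G) (hg : ∀ f ∈ F, g * f * g⁻¹ ∈ F) (v : Additive F) :
    (((conjEnd g hg v).toMul : F) : G) = g * ((v.toMul : F) : G) * g⁻¹ := rfl

end

namespace ZD

variable {G : Type*} [Group G] {Ω : Type*} [MulAction G Ω] {x y : Ω} {F : Subgroup G}

theorem HH_norm (D : ZD G Ω x y F) (h : HH G x y) : ∀ f ∈ F, (h : G) * f * (h : G)⁻¹ ∈ F :=
  D.hFn h (mem_HH.1 h.2).1

/-- the conjugation action of the two-point stabiliser on `F` -/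
def conjF (D : ZD G Ω x y F) : HH G x y →* AddMonoid.End (Additive F) where
  toFun h := conjEnd (h : G) (D.HH_norm h)
  map_one' := by
    ext v
    rw [conjEnd_apply]
    simp
  map_mul' a b := by
    ext v
    rw [conjEnd_apply]
    show _ = (a : G) * (((conjEnd (b : G) (D.HH_norm b) v).toMul : F) : G) * (a : G)⁻¹
    rw [conjEnd_apply]
    simp only [Subgroup.coe_mul]
    group

theorem conjF_apply (D : ZD G Ω x y F) (h : HH G x y) (v : Additive F) :
    (((D.conjF h v).toMul : F) : G) = (h : G) * ((v.toMul : F) : G) * (h : G)⁻¹ := rfl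

/-- an element of the two-point stabiliser commuting with a non-trivial element of `F` is
trivial -/
theorem eq_one_of_commute (D : ZD G Ω x y F) (h : G) (hh : h ∈ HH G x y) (f : G) (hf : f ∈ F)
    (hf1 : f ≠ 1) (hc : h * f * h⁻¹ = f) : h = 1 := by
  have hm := mem_HH.1 hh
  have hfy : f • y ≠ y := fun h' => hf1 (D.hfree f hf y D.hxy.symm h')
  have hfx : f • y ≠ x := D.smul_ne_x (D.hFx f hf) D.hxy.symm
  have hfix : h • (f • y) = f • y := by
    have : h * f = f * h := by
      calc h * f = (h * f * h⁻¹) * h := by group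
        _ = f * h := by rw [hc]
    rw [← mul_smul, this, mul_smul, hm.2]
  exact D.three h x y _ D.hxy (Ne.symm hfy) (Ne.symm hfx) hm.1 hm.2 hfix

end ZD

end Cfsg.Agent.Helper27.ZQ

namespace Cfsg.Agent.Helper27.ZQ

open MulAction Cfsg.Agent.Helper18.SolvEP

namespace ZD

variable {G : Type*} [Group G] {Ω : Type*} [MulAction G Ω] {x y : Ω} {F : Subgroup G}

theorem conjF_eq_imp (D : ZD G Ω x y F) (a b : HH G x y) (v : Additive F) (hv : v ≠ 0)
    (h : D.conjF a v = D.conjF b v) : a = b := by
  have h1 : (a : G) * ((v.toMul : F) : G) * (a : G)⁻¹ = (b : G) * ((v.toMul : F) : G) * (b : G)⁻¹ := by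
    rw [← D.conjF_apply a v, ← D.conjF_apply b v, h]
  have hv1 : ((v.toMul : F) : G) ≠ 1 := by
    intro h0
    apply hv
    have : (v.toMul : F) = 1 := Subtype.ext h0
    exact this
  have hc : ((b : G)⁻¹ * (a : G)) * ((v.toMul : F) : G) * ((b : G)⁻¹ * (a : G))⁻¹ =
      ((v.toMul : F) : G) := by
    calc ((b : G)⁻¹ * (a : G)) * ((v.toMul : F) : G) * ((b : G)⁻¹ * (a : G))⁻¹
        = (b : G)⁻¹ * ((a : G) * ((v.toMul : F) : G) * (a : G)⁻¹) * (b : G) := by group
      _ = ((v.toMul : F) : G) := by rw [h1]; group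
  have hmem : (b : G)⁻¹ * (a : G) ∈ HH G x y := (HH G x y).mul_mem ((HH G x y).inv_mem b.2) a.2
  have h2 := D.eq_one_of_commute _ hmem _ (v.toMul : F).2 hv1 hc
  apply Subtype.ext
  have := congrArg (fun z => (b : G) * z) h2
  simpa using this

theorem exists_ne_zero (D : ZD G Ω x y F) : ∃ v : Additive F, v ≠ 0 := by
  obtain ⟨f, hf1⟩ := (Subgroup.ne_bot_iff_exists_ne_one).1 D.F_ne_bot
  exact ⟨Additive.ofMul f, fun h => hf1 h⟩

theorem hyp_conjF (D : ZD G Ω x y F) [Finite G] [Finite Ω]
    (hHab : ∀ a ∈ HH G x y, ∀ b ∈ HH G x y, a * b = b * a)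
    (h2d : 2 * Nat.card (HH G x y) = Nat.card F - 1) :
    letI := commGroupOfComm F D.hFab
    Hyp D.conjF (⊤ : Subgroup (HH G x y)) := by
  letI := commGroupOfComm F D.hFab
  refine ⟨?_, ?_, ?_, ?_⟩
  · intro a b hab
    obtain ⟨v, hv⟩ := D.exists_ne_zero
    exact D.conjF_eq_imp a b v hv (by rw [hab])
  · intro a _ b _
    exact Subtype.ext (hHab a a.2 b b.2)
  · intro L hinv
    by_cases hL : L = ⊥
    · exact Or.inl hL
    · right
      obtain ⟨v, hvL, hv0⟩ : ∃ v ∈ L, v ≠ 0 := by
        by_contra hcon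
        push Not at hcon
        apply hL
        rw [AddSubgroup.eq_bot_iff_forall]
        exact hcon
      -- an injection of `Option H` into `L`
      let f : Option (HH G x y) → L := fun o =>
        Option.elim o 0 (fun h => ⟨D.conjF h v, hinv h (Subgroup.mem_top _) v hvL⟩)
      have hf : Function.Injective f := by
        intro a b hab
        cases a with
        | none =>
          cases b with
          | none => rfl
          | some h' =>
            exfalso
            have h1 : (0 : Additive F) = D.conjF h' v := congrArg Subtype.val hab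
            have h4 : D.conjF h'⁻¹ (D.conjF h' v) = v := by
              have : (D.conjF h'⁻¹ * D.conjF h') v = v := by
                rw [← map_mul, inv_mul_cancel, map_one]
                rfl
              exact this
            rw [← h1, map_zero] at h4
            exact hv0 h4.symm
        | some h =>
          cases b with
          | none =>
            exfalso
            have h1 : D.conjF h v = (0 : Additive F) := congrArg Subtype.val hab
            have h4 : D.conjF h⁻¹ (D.conjF h v) = v := by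
              have : (D.conjF h⁻¹ * D.conjF h) v = v := by
                rw [← map_mul, inv_mul_cancel, map_one]
                rfl
              exact this
            rw [h1, map_zero] at h4
            exact hv0 h4.symm
          | some h' =>
            have h1 : D.conjF h v = D.conjF h' v := congrArg Subtype.val hab
            rw [D.conjF_eq_imp h h' v hv0 h1]
      have hcard := Nat.card_le_card_of_injective f hf
      rw [Finite.card_option] at hcard
      have hmul := AddSubgroup.card_mul_index L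
      have hcA : Nat.card (Additive F) = Nat.card F := rfl
      rw [hcA] at hmul
      have hn2 := D.two_le_card_F
      have hidx : L.index = 1 := by
        by_contra hne
        have hpos : L.index ≠ 0 := AddSubgroup.index_ne_zero_of_finite
        have h2 : 2 ≤ L.index := by omega
        have : Nat.card L * 2 ≤ Nat.card L * L.index := Nat.mul_le_mul_left _ h2
        omega
      exact AddSubgroup.index_eq_one.1 hidx
  · intro h v
    exact ⟨h, Subgroup.mem_top _, rfl⟩

end ZD

end Cfsg.Agent.Helper27.ZQ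

namespace Cfsg.Agent.Helper27.ZQ

open MulAction Cfsg.Agent.Helper18.SolvEP

/-- coordinates: if the whole group acts irreducibly and is abelian, then in the coordinates of a field of the right order it acts by multiplications -/
theorem coords {A : Type*} [AddCommGroup A] {H : Type*} [Group H] {ρ : H →* AddMonoid.End A}
    (hyp : Hyp ρ (⊤ : Subgroup H)) [Nontrivial A] [Finite A] (K0 : Type*) [Field K0] [Fintype K0]
    (hK0 : Fintype.card K0 = Nat.card A) :
    ∃ E : A ≃ K0, (∀ u v : A, E (u + v) = E u + E v) ∧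
      ∀ h : H, ∃ a : K0, a ≠ 0 ∧ ∀ v : A, E (ρ h v) = a * E v := by
  classical
  letI : Fintype (KK hyp) := Fintype.ofFinite _
  have hcK : Fintype.card (KK hyp) = Fintype.card K0 := by
    rw [← Nat.card_eq_fintype_card, KK.card hyp, hK0]
  let ψ : KK hyp ≃+* K0 := FiniteField.ringEquivOfCardEq hcK
  obtain ⟨v₀, hv₀⟩ := exists_ne (0 : A)
  let ev : KK hyp → A := fun r => r.val v₀
  have hev : Function.Bijective ev := hyp.bijective_eval hv₀
  let evE : KK hyp ≃ A := Equiv.ofBijective ev hev
  have hev_add : ∀ r s : KK hyp, ev (r + s) = ev r + ev s := by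
    intro r s
    rfl
  let E : A ≃ K0 := evE.symm.trans ψ.toEquiv
  have hE : ∀ r : KK hyp, E (ev r) = ψ r := by
    intro r
    show ψ (evE.symm (evE r)) = ψ r
    rw [Equiv.symm_apply_apply]
  refine ⟨E, ?_, ?_⟩
  · intro u v
    obtain ⟨r, rfl⟩ := hev.2 u
    obtain ⟨s, rfl⟩ := hev.2 v
    rw [← hev_add, hE, hE, hE, map_add]
  · intro h
    let s : KK hyp := KK.mk hyp (ρ h) (rho_mem_RR ρ ⊤ (Subgroup.mem_top h))
    have hs0 : s ≠ 0 := by
      intro h0
      have h1 : ρ h = 0 := congrArg Subtype.val h0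
      have h2 : ρ h⁻¹ (ρ h v₀) = v₀ := by
        have : (ρ h⁻¹ * ρ h) v₀ = v₀ := by
          rw [← map_mul, inv_mul_cancel, map_one]
          rfl
        exact this
      rw [h1] at h2
      apply hv₀
      rw [← h2]
      simp
    refine ⟨ψ s, (map_ne_zero ψ).2 hs0, ?_⟩
    intro v
    obtain ⟨r, rfl⟩ := hev.2 v
    have h1 : ρ h (ev r) = ev (s * r) := rfl
    rw [h1, hE, hE, map_mul]

end Cfsg.Agent.Helper27.ZQ

namespace Cfsg.Agent.Helper27.ZQ

open MulAction Cfsg.Agent.Helper18.SolvEP

section

variable {G : Type*} [Group G] {F : Subgroup G}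

/-- the element of `G` of an element of `F` written additively -/
def toG (a : Additive F) : G := ((a.toMul : F) : G)

theorem toG_add (a b : Additive F) : toG (a + b) = toG a * toG b := rfl

theorem toG_zero : toG (0 : Additive F) = 1 := rfl

theorem toG_mem (a : Additive F) : toG a ∈ F := (a.toMul : F).2

theorem toG_ofMul (f : F) : toG (Additive.ofMul f) = (f : G) := rfl

end

namespace ZD

variable {G : Type*} [Group G] {Ω : Type*} [MulAction G Ω] {x y : Ω} {F : Subgroup G}

theorem exists_qctx (D : ZD G Ω x y F) (K0 : Type*) [Field K0]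
    (E : Additive F ≃ K0) (hEadd : ∀ u v : Additive F, E (u + v) = E u + E v)
    (hEmul : ∀ h : HH G x y, ∃ a : K0, a ≠ 0 ∧ ∀ v : Additive F, E (D.conjF h v) = a * E v) :
    ∃ C : QCtx G K0, (∀ g : G, g ∈ C.Hs ↔ g ∈ HH G x y) ∧
      ∀ t : G, t • x = y → t • y = x →
        C.ρ t OnePoint.infty = ((0 : K0) : OnePoint K0) ∧
        C.ρ t ((0 : K0) : OnePoint K0) = OnePoint.infty := by
  have hEs : ∀ a b : K0, E.symm (a + b) = E.symm a + E.symm b := by
    intro a b
    apply E.injective
    rw [hEadd, Equiv.apply_symm_apply, Equiv.apply_symm_apply, Equiv.apply_symm_apply]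
  have hE0 : E 0 = 0 := by
    have := hEadd 0 0
    rw [add_zero] at this
    exact left_eq_add.mp this
  have hEs0 : E.symm 0 = 0 := by
    rw [Equiv.symm_apply_eq, hE0]
  -- the labelling
  let lab : OnePoint K0 → Ω := fun q => Option.elim q x (fun k => toG (E.symm k) • y)
  have lab_infty : lab OnePoint.infty = x := rfl
  have lab_coe : ∀ k : K0, lab (k : OnePoint K0) = toG (E.symm k) • y := fun k => rfl
  have lab_coe_ne : ∀ k : K0, toG (E.symm k) • y ≠ x := fun k =>
    D.smul_ne_x (D.hFx _ (toG_mem _)) D.hxy.symm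
  have lab_zero : lab ((0 : K0) : OnePoint K0) = y := by
    rw [lab_coe, hEs0, toG_zero, one_smul]
  have lab_inj : Function.Injective lab := by
    intro q q' hqq
    induction q using OnePoint.rec with
    | infty =>
      induction q' using OnePoint.rec with
      | infty => rfl
      | coe j =>
        rw [lab_infty, lab_coe] at hqq
        exact absurd hqq.symm (lab_coe_ne j)
    | coe i =>
      induction q' using OnePoint.rec with
      | infty =>
        rw [lab_infty, lab_coe] at hqq
        exact absurd hqq (lab_coe_ne i)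
      | coe j =>
        rw [lab_coe, lab_coe] at hqq
        have h1 := D.F_unique (toG_mem _) (toG_mem _) D.hxy.symm hqq
        have h2 : (E.symm i).toMul = (E.symm j).toMul := Subtype.ext h1
        have h3 : E.symm i = E.symm j := h2
        rw [E.symm.injective h3]
  have lab_surj : Function.Surjective lab := by
    intro a
    by_cases ha : a = x
    · exact ⟨OnePoint.infty, ha.symm⟩
    · obtain ⟨u, hu, hua⟩ := D.hreg y a D.hxy.symm ha
      refine ⟨((E (Additive.ofMul (⟨u, hu⟩ : F)) : K0) : OnePoint K0), ?_⟩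
      rw [lab_coe, Equiv.symm_apply_apply, toG_ofMul]
      exact hua
  let e : OnePoint K0 ≃ Ω := Equiv.ofBijective lab ⟨lab_inj, lab_surj⟩
  let ρ : G →* Equiv.Perm (OnePoint K0) :=
    (e.symm.permCongrHom).toMonoidHom.comp (MulAction.toPermHom G Ω)
  have ρ_apply : ∀ (g : G) (q : OnePoint K0), ρ g q = e.symm (g • lab q) := fun g q => rfl
  have ρ_eq_iff : ∀ (g : G) (q q' : OnePoint K0), ρ g q = q' ↔ g • lab q = lab q' := by
    intro g q q'
    rw [ρ_apply, Equiv.symm_apply_eq]
    rfl
  have hinj : Function.Injective ρ := by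
    intro a b hab
    haveI := D.faithfulSMul
    apply MulAction.toPerm_injective (α := G) (β := Ω)
    exact (e.symm.permCongrHom).injective hab
  have tr_coe : ∀ b z : K0, ρ (toG (E.symm b)) (z : OnePoint K0) = ((z + b : K0) : OnePoint K0) := by
    intro b z
    rw [ρ_eq_iff, lab_coe, lab_coe, ← mul_smul, ← toG_add, ← hEs, add_comm]
  have tr_infty : ∀ b : K0, ρ (toG (E.symm b)) OnePoint.infty = OnePoint.infty := by
    intro b
    rw [ρ_eq_iff, lab_infty]
    exact D.hFx _ (toG_mem _)
  have aff : ∀ g : G, ρ g OnePoint.infty = OnePoint.infty →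
      ∃ α β : K0, α ≠ 0 ∧ ∀ z : K0, ρ g (z : OnePoint K0) = ((α * z + β : K0) : OnePoint K0) := by
    intro g hg
    rw [ρ_eq_iff, lab_infty] at hg
    obtain ⟨u, hu, huy⟩ := D.hreg y (g • y) D.hxy.symm (D.smul_ne_x hg D.hxy.symm)
    have hh : u⁻¹ * g ∈ HH G x y := by
      rw [mem_HH]
      refine ⟨?_, ?_⟩
      · rw [mul_smul, hg, inv_smul_eq_iff, D.hFx u hu]
      · rw [mul_smul, inv_smul_eq_iff, huy]
    obtain ⟨a, ha0, ha⟩ := hEmul ⟨u⁻¹ * g, hh⟩
    refine ⟨a, E (Additive.ofMul (⟨u, hu⟩ : F)), ha0, ?_⟩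
    intro z
    rw [ρ_eq_iff, lab_coe, lab_coe, add_comm (a * z), hEs, Equiv.symm_apply_apply, toG_add, toG_ofMul]
    have h1 : toG (E.symm (a * z)) = (u⁻¹ * g) * toG (E.symm z) * (u⁻¹ * g)⁻¹ := by
      have := ha (E.symm z)
      rw [Equiv.apply_symm_apply] at this
      rw [← this, Equiv.symm_apply_apply]
      rfl
    rw [h1, mul_smul]
    have h2 : (u⁻¹ * g)⁻¹ • y = y := by
      rw [inv_smul_eq_iff, (mem_HH.1 hh).2]
    rw [mul_smul, mul_smul, h2, ← mul_smul, ← mul_smul, ← mul_smul]
    congr 1
    group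
  obtain ⟨s, hsx, hsy⟩ := D.twoTrans D.hxy D.hxy.symm
  refine ⟨⟨ρ, hinj, fun b => toG (E.symm b), tr_coe, tr_infty, aff, s, ?_, ?_⟩, ?_, ?_⟩
  · rw [ρ_eq_iff, lab_infty, lab_zero, hsx]
  · rw [ρ_eq_iff, lab_infty, lab_zero, hsy]
  · intro g
    rw [QCtx.mem_Hs_iff, mem_HH]
    show ρ g OnePoint.infty = OnePoint.infty ∧ ρ g ((0 : K0) : OnePoint K0) = ((0 : K0) : OnePoint K0) ↔ _
    rw [ρ_eq_iff, ρ_eq_iff, lab_infty, lab_zero]
  · intro t htx hty
    show ρ t OnePoint.infty = ((0 : K0) : OnePoint K0) ∧ ρ t ((0 : K0) : OnePoint K0) = OnePoint.infty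
    rw [ρ_eq_iff, ρ_eq_iff, lab_infty, lab_zero]
    exact ⟨htx, hty⟩

end ZD

end Cfsg.Agent.Helper27.ZQ

namespace Cfsg.Agent.Helper27.ZQ

open MulAction Cfsg.Agent.Helper18.SolvEP

namespace ZD

variable {G : Type*} [Group G] {Ω : Type*} [MulAction G Ω] {x y : Ω} {F : Subgroup G}

/-- every element exchanging `x` and `y` inverts the two-point stabiliser -/
theorem inv_of_half (D : ZD G Ω x y F) [Finite G] [Finite Ω] (p : ℕ) [hp : Fact p.Prime]
    (hFp : IsPGroup p F) (hnr : NoRegN G (Nat.card F))
    (h2d : 2 * Nat.card (HH G x y) = Nat.card F - 1)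
    (t : G) (htx : t • x = y) (hty : t • y = x) (h : G) (hh : h ∈ HH G x y) :
    t * h * t⁻¹ = h⁻¹ := by
  rcases Nat.even_or_odd (Nat.card (HH G x y)) with hev | hodd
  · exact D.inv_of_even hev h2d t htx hty h hh
  · exact (D.inv_of_odd p hFp hnr hodd).2 t htx hty h hh

/-- the case of a two-point stabiliser of order `(n - 1) / 2` -/
theorem psl_of_half (D : ZD G Ω x y F) [Finite G] [Finite Ω] (p : ℕ) [hp : Fact p.Prime]
    (hFp : IsPGroup p F) (hnr : NoRegN G (Nat.card F))
    (h2d : 2 * Nat.card (HH G x y) = Nat.card F - 1)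
    (K0 : Type*) [Field K0] [Fintype K0] (hK0 : Fintype.card K0 = Nat.card F) :
    Nonempty (G ≃* Matrix.ProjectiveSpecialLinearGroup (Fin 2) K0) := by
  obtain ⟨t, htx, hty⟩ := D.twoTrans D.hxy D.hxy.symm
  have hinv := D.inv_of_half p hFp hnr h2d t htx hty
  have hHab : ∀ a ∈ HH G x y, ∀ b ∈ HH G x y, a * b = b * a :=
    fun a ha b hb => comm_of_inv t (HH G x y) hinv a b ha hb
  letI := commGroupOfComm F D.hFab
  have hyp := D.hyp_conjF hHab h2d
  haveI : Nontrivial (Additive F) := by
    obtain ⟨v, hv⟩ := D.exists_ne_zero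
    exact ⟨⟨v, 0, hv⟩⟩
  haveI : Finite (Additive F) := inferInstanceAs (Finite F)
  have hcA : Nat.card (Additive F) = Nat.card F := rfl
  obtain ⟨E, hEadd, hEmul⟩ := coords hyp K0 (by rw [hK0, hcA])
  obtain ⟨C, hCH, hCt⟩ := D.exists_qctx K0 E hEadd hEmul
  have hn2 := D.two_le_card_F
  have hq : Fintype.card K0 = 2 * Nat.card (HH G x y) + 1 := by omega
  have hG : Nat.card G = (2 * Nat.card (HH G x y) + 2) *
      ((2 * Nat.card (HH G x y) + 1) * Nat.card (HH G x y)) := by
    rw [D.card_G]
    have : Nat.card F = 2 * Nat.card (HH G x y) + 1 := by omega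
    rw [this]
  have hHs : C.Hs = HH G x y := Subgroup.ext hCH
  have hHsc : Nat.card C.Hs = Nat.card (HH G x y) := by rw [hHs]
  obtain ⟨hTI, hT0⟩ := hCt t htx hty
  refine C.equiv_psl_of_inv hq hG hHsc t hTI hT0 ?_
  intro h hh
  rw [hHs] at hh
  exact hinv h hh

end ZD

end Cfsg.Agent.Helper27.ZQ
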