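import Mathlib
import Cfsg.Agent.Lib.Helper27.Zq1F
import Cfsg.Agent.S0738
import Cfsg.Agent.S0035

set_option autoImplicit false
set_option linter.unusedSectionVars false
set_option linter.style.haveILetI false

/-! Zassenhaus groups with an abelian regular normal subgroup `F` of a point stabiliser: the data `ZD` (`zd_of_zassenhaus`), sharp triple transitivity when the two-point stabiliser has order `n - 1` (`sharply_three`), the dichotomy `main_of_zd`, and the Frobenius kernel of a point stabiliser (`exists_frob_kernel`). -/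

namespace Cfsg.Agent.Helper27.ZQ

open MulAction

section

variable {G : Type*} [Group G] {Ω : Type*} [MulAction G Ω]

/-- a Zassenhaus group has at least three points -/
theorem exists_third (hZ : Cfsg.IsZassenhausGroup G Ω) (x y : Ω) :
    ∃ z : Ω, z ≠ x ∧ z ≠ y := by
  obtain ⟨hfaith, -, -, ⟨g, hg1, a, b, hab, hga, hgb⟩, -⟩ := hZ
  have : ∃ c : Ω, g • c ≠ c := by
    by_contra hcon
    push Not at hcon
    apply hg1
    apply FaithfulSMul.eq_of_smul_eq_smul (α := Ω)
    intro c
    rw [hcon c, one_smul]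
  obtain ⟨c, hc⟩ := this
  have hca : c ≠ a := by
    rintro rfl
    exact hc hga
  have hcb : c ≠ b := by
    rintro rfl
    exact hc hgb
  by_cases h1 : a = x
  · by_cases h2 : b = y
    · refine ⟨c, ?_, ?_⟩
      · rw [← h1]; exact hca
      · rw [← h2]; exact hcb
    · by_cases h3 : c = y
      · exact ⟨b, by rw [← h1]; exact hab.symm, h2⟩
      · exact ⟨c, by rw [← h1]; exact hca, h3⟩
  · by_cases h2 : a = y
    · by_cases h3 : b = x
      · refine ⟨c, ?_, ?_⟩
        · rw [← h3]; exact hcb
        · rw [← h2]; exact hca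
      · by_cases h4 : c = x
        · exact ⟨b, h3, by rw [← h2]; exact hab.symm⟩
        · exact ⟨c, h4, by rw [← h2]; exact hca⟩
    · exact ⟨a, h1, h2⟩

theorem zd_of_zassenhaus (hZ : Cfsg.IsZassenhausGroup G Ω) {x y : Ω} (hxy : x ≠ y)
    (F : Subgroup G) (hFle : F ≤ MulAction.stabilizer G x)
    (hFn : (F.subgroupOf (MulAction.stabilizer G x)).Normal)
    (hFab : ∀ a ∈ F, ∀ b ∈ F, a * b = b * a)
    (hreg : ∀ y z : Ω, y ≠ x → z ≠ x → ∃! u : F, (u : G) • y = z) : ZD G Ω x y F := by
  have hthird := exists_third hZ x y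
  obtain ⟨hfaith, h2, h3, -, -⟩ := hZ
  have h2' : ∀ {a b c d : Ω}, a ≠ b → c ≠ d → ∃ g : G, g • a = c ∧ g • b = d :=
    MulAction.is_two_pretransitive_iff.mp h2
  refine ⟨?_, hxy, hthird, h3, ?_, ?_, hFab, ?_, ?_, ?_⟩
  · intro g hg
    apply FaithfulSMul.eq_of_smul_eq_smul (α := Ω)
    intro c
    rw [hg c, one_smul]
  · intro f hf
    exact hFle hf
  · intro g hg f hf
    have h1 : (⟨f, hFle hf⟩ : MulAction.stabilizer G x) ∈ F.subgroupOf (MulAction.stabilizer G x) :=
      Subgroup.mem_subgroupOf.2 hf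
    have h4 := hFn.conj_mem _ h1 ⟨g, hg⟩
    exact Subgroup.mem_subgroupOf.1 h4
  · intro z w hz hw
    obtain ⟨u, hu, -⟩ := hreg z w hz hw
    exact ⟨u, u.2, hu⟩
  · intro u hu z hz huz
    obtain ⟨w, -, hw⟩ := hreg z z hz hz
    have e1 := hw ⟨u, hu⟩ huz
    have e2 := hw 1 (by simp)
    have := e1.trans e2.symm
    exact congrArg Subtype.val this
  · obtain ⟨g, hg, -⟩ := h2' hxy hxy.symm
    exact ⟨g, by rw [hg]; exact hxy.symm⟩

end

namespace ZD

variable {G : Type*} [Group G] {Ω : Type*} [MulAction G Ω] {x y : Ω} {F : Subgroup G}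

theorem noReg_of_zassenhaus (D : ZD G Ω x y F) [Finite G] [Finite Ω]
    (hZ : Cfsg.IsZassenhausGroup G Ω) : NoRegN G (Nat.card F) := by
  intro N hN hNc
  obtain ⟨-, -, -, -, h5⟩ := hZ
  have hn2 := D.two_le_card_F
  have hNb : N ≠ ⊥ := by
    intro h
    rw [h, Subgroup.card_bot] at hNc
    omega
  haveI : IsPretransitive N Ω := by
    refine ⟨fun a b => ?_⟩
    obtain ⟨n, hn, hnab⟩ := D.normal_transitive N hNb a b
    exact ⟨⟨n, hn⟩, hnab⟩
  obtain ⟨a, ha⟩ := h5 N hN inferInstance
  apply ha
  have h1 := Subgroup.card_mul_index (stabilizer N a)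
  rw [index_stabilizer_of_transitive, D.card_Omega, hNc] at h1
  have h2 : Nat.card (stabilizer N a) = 1 := by
    have : Nat.card (stabilizer N a) * (Nat.card F + 1) = 1 * (Nat.card F + 1) := by
      rw [h1, one_mul]
    exact Nat.eq_of_mul_eq_mul_right (Nat.succ_pos _) this
  exact (Subgroup.card_eq_one).1 h2

theorem two_le_card_HH (D : ZD G Ω x y F) (hZ : Cfsg.IsZassenhausGroup G Ω) [Finite G] :
    2 ≤ Nat.card (HH G x y) := by
  obtain ⟨-, -, -, ⟨g, hg1, a, b, hab, hga, hgb⟩, -⟩ := hZ
  obtain ⟨k, hka, hkb⟩ := D.exists_smul_pair hab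
  have hmem : k⁻¹ * g * k ∈ HH G x y := by
    rw [mem_HH]
    refine ⟨?_, ?_⟩
    · rw [mul_smul, mul_smul, hka, hga, ← hka, inv_smul_smul]
    · rw [mul_smul, mul_smul, hkb, hgb, ← hkb, inv_smul_smul]
  have hne : HH G x y ≠ ⊥ := by
    intro h
    rw [h, Subgroup.mem_bot] at hmem
    apply hg1
    have : g = k * (k⁻¹ * g * k) * k⁻¹ := by group
    rw [this, hmem]
    group
  have := (Subgroup.one_lt_card_iff_ne_bot (H := HH G x y)).2 hne
  omega

/-- if the two-point stabiliser has order `n - 1` it is transitive on the remaining points -/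
theorem HH_transitive (D : ZD G Ω x y F) [Finite G] [Finite Ω]
    (hd : Nat.card (HH G x y) = Nat.card F - 1) (z w : Ω) (hzx : z ≠ x) (hzy : z ≠ y)
    (hwx : w ≠ x) (hwy : w ≠ y) : ∃ h ∈ HH G x y, h • z = w := by
  let f : HH G x y → rest G x y := fun h => h • (⟨z, hzx, hzy⟩ : rest G x y)
  have hf : Function.Injective f := by
    intro a b hab
    have h1 : (a : G) • z = (b : G) • z := congrArg Subtype.val hab
    have hm : (b : G)⁻¹ * (a : G) ∈ HH G x y := (HH G x y).mul_mem ((HH G x y).inv_mem b.2) a.2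
    have hm' := mem_HH.1 hm
    have h2 : ((b : G)⁻¹ * (a : G)) • z = z := by rw [mul_smul, h1, inv_smul_smul]
    have h3 := D.three _ x y z D.hxy (Ne.symm hzy) (Ne.symm hzx) hm'.1 hm'.2 h2
    apply Subtype.ext
    have := congrArg (fun v => (b : G) * v) h3
    simpa using this
  have hcard : Nat.card (rest G x y) ≤ Nat.card (HH G x y) := by
    have h2 := D.card_rest
    have h3 := D.card_Omega
    omega
  have hbij := hf.bijective_of_nat_card_le hcard
  obtain ⟨h, hh⟩ := hbij.2 ⟨w, hwx, hwy⟩
  exact ⟨h, h.2, congrArg Subtype.val hh⟩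

/-- sharp triple transitivity when the two-point stabiliser has order `n - 1` -/
theorem sharply_three (D : ZD G Ω x y F) [Finite G] [Finite Ω]
    (hd : Nat.card (HH G x y) = Nat.card F - 1) :
    MulAction.IsMultiplyPretransitive G Ω 3 ∧
      ∀ t : Fin 3 ↪ Ω, MulAction.stabilizer G t = ⊥ := by
  refine ⟨⟨fun s t => ?_⟩, ?_⟩
  · have hs01 : s 0 ≠ s 1 := fun h => by simpa using s.injective h
    have hs02 : s 0 ≠ s 2 := fun h => by simpa using s.injective h
    have hs12 : s 1 ≠ s 2 := fun h => by simpa using s.injective h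
    have ht01 : t 0 ≠ t 1 := fun h => by simpa using t.injective h
    have ht02 : t 0 ≠ t 2 := fun h => by simpa using t.injective h
    have ht12 : t 1 ≠ t 2 := fun h => by simpa using t.injective h
    obtain ⟨g1, hg1a, hg1b⟩ := D.exists_smul_pair hs01
    obtain ⟨g2, hg2a, hg2b⟩ := D.exists_smul_pair ht01
    -- transport the third points
    have hz : g1⁻¹ • s 2 ≠ x ∧ g1⁻¹ • s 2 ≠ y := by
      refine ⟨?_, ?_⟩
      · intro h
        apply hs02
        rw [← hg1a, ← h, smul_inv_smul]
      · intro h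
        apply hs12
        rw [← hg1b, ← h, smul_inv_smul]
    have hw : g2⁻¹ • t 2 ≠ x ∧ g2⁻¹ • t 2 ≠ y := by
      refine ⟨?_, ?_⟩
      · intro h
        apply ht02
        rw [← hg2a, ← h, smul_inv_smul]
      · intro h
        apply ht12
        rw [← hg2b, ← h, smul_inv_smul]
    obtain ⟨h, hh, hhz⟩ := D.HH_transitive hd _ _ hz.1 hz.2 hw.1 hw.2
    have hm := mem_HH.1 hh
    refine ⟨g2 * h * g1⁻¹, ?_⟩
    ext i
    rw [Function.Embedding.smul_apply]
    fin_cases i
    · show (g2 * h * g1⁻¹) • s 0 = t 0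
      rw [mul_smul, mul_smul, ← hg1a, inv_smul_smul, hm.1, hg2a]
    · show (g2 * h * g1⁻¹) • s 1 = t 1
      rw [mul_smul, mul_smul, ← hg1b, inv_smul_smul, hm.2, hg2b]
    · show (g2 * h * g1⁻¹) • s 2 = t 2
      rw [mul_smul, mul_smul, hhz, smul_inv_smul]
  · intro t
    rw [eq_bot_iff]
    intro g hg
    rw [mem_stabilizer_iff] at hg
    rw [Subgroup.mem_bot]
    have ht01 : t 0 ≠ t 1 := fun h => by simpa using t.injective h
    have ht02 : t 0 ≠ t 2 := fun h => by simpa using t.injective h
    have ht12 : t 1 ≠ t 2 := fun h => by simpa using t.injective h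
    have hgi : ∀ i, g • t i = t i := by
      intro i
      have := congrArg (fun u : Fin 3 ↪ Ω => u i) hg
      simpa [Function.Embedding.smul_apply] using this
    exact D.three g _ _ _ ht01 ht12 ht02 (hgi 0) (hgi 1) (hgi 2)

end ZD

end Cfsg.Agent.Helper27.ZQ

namespace Cfsg.Agent.Helper27.ZQ

open MulAction

namespace ZD

variable {G : Type*} [Group G] {Ω : Type*} [MulAction G Ω] {x y : Ω} {F : Subgroup G}

theorem main_of_zd (D : ZD G Ω x y F) [Finite G] [Finite Ω] (hZ : Cfsg.IsZassenhausGroup G Ω) :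
    Nat.card (HH G x y) = Nat.card F - 1 ∨
    ∃ (p f : ℕ) (_ : Fact p.Prime), p ≠ 2 ∧ f ≠ 0 ∧ Nat.card F = p ^ f ∧
      2 * Nat.card (HH G x y) = Nat.card F - 1 ∧
      Nonempty (G ≃* Matrix.ProjectiveSpecialLinearGroup (Fin 2) (GaloisField p f)) := by
  letI : Fintype Ω := Fintype.ofFinite _
  have hcardΩ : Fintype.card Ω = Nat.card F + 1 := by
    rw [← Nat.card_eq_fintype_card, D.card_Omega]
  have hbound := D.bound_of_zassenhaus hZ
  have hn2 := D.two_le_card_F
  have hd2 := D.two_le_card_HH hZ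
  have hnr := D.noReg_of_zassenhaus hZ
  have hFle : F ≤ MulAction.stabilizer G x := by
    intro g hg
    rw [MulAction.mem_stabilizer_iff]
    exact D.hFx g hg
  have hFn : (F.subgroupOf (MulAction.stabilizer G x)).Normal := by
    refine ⟨fun n hn g => ?_⟩
    rw [Subgroup.mem_subgroupOf] at hn ⊢
    exact D.hFn g g.2 n hn
  have hreg : ∀ z w : Ω, z ≠ x → w ≠ x → ∃! u : F, (u : G) • z = w := by
    intro z w hz hw
    obtain ⟨u, hu, huz⟩ := D.hreg z w hz hw
    refine ⟨⟨u, hu⟩, huz, ?_⟩
    intro v hv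
    exact Subtype.ext (D.F_unique v.2 hu hz (hv.trans huz.symm))
  have hd' : Fintype.card Ω - 2 ≤
      2 * Nat.card ↥(MulAction.stabilizer G x ⊓ MulAction.stabilizer G y) := by
    have h3 : Nat.card ↥(MulAction.stabilizer G x ⊓ MulAction.stabilizer G y) =
        Nat.card (HH G x y) := rfl
    rw [h3, hcardΩ]
    omega
  obtain ⟨-, p, f, hp, hexp, hcard⟩ := Cfsg.Agent.S0738.result hZ D.hxy hd' F hFle hFn hreg
  haveI : Fact p.Prime := ⟨hp⟩
  have hFp : IsPGroup p F := by
    intro u
    refine ⟨1, ?_⟩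
    rw [pow_one]
    apply Subtype.ext
    have := hexp u u.2
    simpa using this
  have hnpf : Nat.card F = p ^ f := by omega
  have hf0 : f ≠ 0 := by
    rintro rfl
    rw [pow_zero] at hnpf
    omega
  -- the two cases
  obtain ⟨k, hk⟩ := D.card_HH_dvd
  have hk0 : k ≠ 0 := by
    rintro rfl
    omega
  have hk2 : k ≤ 2 := by
    by_contra hcon
    push Not at hcon
    have : Nat.card (HH G x y) * 3 ≤ Nat.card (HH G x y) * k := Nat.mul_le_mul_left _ hcon
    omega
  have hcases : k = 1 ∨ k = 2 := by omega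
  rcases hcases with rfl | rfl
  · left
    omega
  · right
    have h2d : 2 * Nat.card (HH G x y) = Nat.card F - 1 := by omega
    have hp2 : p ≠ 2 := by
      rintro rfl
      have : 2 ∣ Nat.card F := by
        rw [hnpf]
        exact dvd_pow_self 2 hf0
      omega
    letI : Fintype (GaloisField p f) := Fintype.ofFinite _
    have hK0 : Fintype.card (GaloisField p f) = Nat.card F := by
      rw [← Nat.card_eq_fintype_card, GaloisField.card p f hf0, hnpf]
    exact ⟨p, f, ⟨hp⟩, hp2, hf0, hnpf, h2d, D.psl_of_half p hFp hnr h2d (GaloisField p f) hK0⟩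

end ZD

end Cfsg.Agent.Helper27.ZQ

namespace Cfsg.Agent.Helper27.ZQ

open MulAction
open scoped Pointwise

section

variable {G : Type*} [Group G] {Ω : Type*} [MulAction G Ω]

theorem mem_conj_smul {A : Type*} [Group A] (g k : A) (S : Subgroup A) :
    k ∈ MulAut.conj g • S ↔ g⁻¹ * k * g ∈ S := by
  rw [Subgroup.mem_pointwise_smul_iff_inv_smul_mem, MulAut.smul_def, ← map_inv,
    MulAut.conj_apply, inv_inv]

/-- the Frobenius kernel of a point stabiliser of a Zassenhaus group -/
theorem exists_frob_kernel [Finite G] [Finite Ω] (hZ : Cfsg.IsZassenhausGroup G Ω) {a b : Ω}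
    (hab : a ≠ b) :
    ∃ F : Subgroup G, F ≤ MulAction.stabilizer G a ∧
      (F.subgroupOf (MulAction.stabilizer G a)).Normal ∧
      ∀ y z : Ω, y ≠ a → z ≠ a → ∃! u : F, (u : G) • y = z := by
  classical
  obtain ⟨c, hca, hcb⟩ := exists_third hZ a b
  obtain ⟨hfaith, h2, h3, ⟨g0, hg01, a0, b0, hab0, hga0, hgb0⟩, -⟩ := hZ
  have h2' : ∀ {a b c d : Ω}, a ≠ b → c ≠ d → ∃ g : G, g • a = c ∧ g • b = d :=
    MulAction.is_two_pretransitive_iff.mp h2
  set A : Subgroup G := MulAction.stabilizer G a with hA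
  set H' : Subgroup A := (MulAction.stabilizer G b).subgroupOf A with hH'
  have hmemH' : ∀ k : A, k ∈ H' ↔ (k : G) • b = b := by
    intro k
    rw [hH', Subgroup.mem_subgroupOf, mem_stabilizer_iff]
  have hfixa : ∀ k : A, (k : G) • a = a := fun k => k.2
  -- `H'` is a Frobenius complement
  have hFC : Cfsg.IsFrobeniusComplement H' := by
    refine ⟨?_, ?_, ?_⟩
    · intro hbot
      obtain ⟨k, hka, hkb⟩ := h2' hab0 hab
      have hk1 : (k * g0 * k⁻¹) • a = a := by
        rw [mul_smul, mul_smul, ← hka, inv_smul_smul, hga0]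
      have hk2 : (k * g0 * k⁻¹) • b = b := by
        rw [mul_smul, mul_smul, ← hkb, inv_smul_smul, hgb0]
      have hmem : (⟨k * g0 * k⁻¹, hk1⟩ : A) ∈ H' := (hmemH' _).2 hk2
      rw [hbot, Subgroup.mem_bot] at hmem
      have h1 : k * g0 * k⁻¹ = 1 := congrArg Subtype.val hmem
      apply hg01
      have : g0 = k⁻¹ * (k * g0 * k⁻¹) * k := by group
      rw [this, h1]
      group
    · intro htop
      obtain ⟨g, hga, hgb⟩ := h2' hab (Ne.symm hca)
      have hmem : (⟨g, hga⟩ : A) ∈ H' := by rw [htop]; exact Subgroup.mem_top _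
      have := (hmemH' _).1 hmem
      have h1 : g • b = b := this
      rw [hgb] at h1
      exact hcb h1
    · intro g hg
      rw [eq_bot_iff]
      intro k hk
      rw [Subgroup.mem_bot]
      obtain ⟨hk1, hk2⟩ := Subgroup.mem_inf.1 hk
      rw [mem_conj_smul] at hk2
      have hkb : (k : G) • b = b := (hmemH' k).1 hk1
      have hgb : (g : G) • b ≠ b := fun h => hg ((hmemH' g).2 h)
      have hgba : (g : G) • b ≠ a := by
        intro h
        apply hab
        have : (g : G) • b = (g : G) • a := by rw [h, hfixa g]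
        exact (smul_left_cancel _ this).symm
      have hkgb : (k : G) • ((g : G) • b) = (g : G) • b := by
        have h1 := (hmemH' _).1 hk2
        have h4 : ((g : G)⁻¹ * (k : G) * (g : G)) • b = b := h1
        rw [mul_smul, mul_smul, inv_smul_eq_iff] at h4
        exact h4
      apply Subtype.ext
      exact h3 (k : G) a b ((g : G) • b) hab (Ne.symm hgb) (Ne.symm hgba) (hfixa k) hkb hkgb
  obtain ⟨N, hNker, hNn, hNc⟩ := Cfsg.Agent.S0035.result H' hFC
  -- non-identity elements of `N` fix only `a`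
  have hNfree : ∀ n : A, n ∈ N → n ≠ 1 → ∀ z : Ω, z ≠ a → (n : G) • z ≠ z := by
    intro n hn hn1 z hz hnz
    have h1 : n ∈ Cfsg.frobeniusKernel H' := by
      rw [← hNker]
      exact hn
    rcases h1 with h1 | h1
    · exact hn1 h1
    · obtain ⟨g, hga, hgb⟩ := h2' hab (Ne.symm hz)
      apply h1 ⟨g, hga⟩
      rw [mem_conj_smul, hmemH']
      show ((g : G)⁻¹ * (n : G) * (g : G)) • b = b
      rw [mul_smul, mul_smul, hgb, hnz, ← hgb, inv_smul_smul]
  -- cardinalities
  have hcardN : Nat.card N + 1 = Nat.card Ω := by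
    have h1 := hNc.card_mul_card
    -- `A` acts on `Ω`, with the orbit of `b` everything except `a`
    have h4 := Subgroup.card_mul_index (stabilizer A b)
    have hstab : stabilizer A b = H' := by
      ext k
      rw [mem_stabilizer_iff, hmemH']
      rfl
    rw [index_stabilizer, hstab] at h4
    have horb : (orbit A b) = ({a} : Set Ω)ᶜ := by
      ext z
      rw [Set.mem_compl_iff, Set.mem_singleton_iff]
      constructor
      · rintro ⟨k, rfl⟩ h
        apply hab
        have : (k : G) • b = (k : G) • a := by rw [hfixa k]; exact h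
        exact (smul_left_cancel _ this).symm
      · intro hz
        obtain ⟨g, hga, hgb⟩ := h2' hab (Ne.symm hz)
        exact ⟨⟨g, hga⟩, hgb⟩
    rw [horb] at h4
    have h5 := Set.ncard_add_ncard_compl ({a} : Set Ω)
    rw [Set.ncard_singleton] at h5
    have hpos : 0 < Nat.card H' := Nat.card_pos
    have h6 : Nat.card N * Nat.card H' = ({a} : Set Ω)ᶜ.ncard * Nat.card H' := by
      rw [h1, ← h4, mul_comm]
    have h7 := Nat.eq_of_mul_eq_mul_right hpos h6
    omega
  set F : Subgroup G := N.map A.subtype with hF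
  have hFle : F ≤ A := Subgroup.map_subtype_le N
  have hFsub : F.subgroupOf A = N := by
    rw [hF, Subgroup.subgroupOf]
    exact Subgroup.comap_map_eq_self_of_injective A.subtype_injective N
  have hFfree : ∀ u ∈ F, u ≠ 1 → ∀ z : Ω, z ≠ a → u • z ≠ z := by
    rintro _ ⟨n, hn, rfl⟩ hu1 z hz
    apply hNfree n hn _ z hz
    intro h
    apply hu1
    rw [h]
    rfl
  have hFcard : Nat.card F + 1 = Nat.card Ω := by
    rw [hF, Subgroup.card_map_of_injective A.subtype_injective, hcardN]
  refine ⟨F, hFle, ?_, ?_⟩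
  · rw [hFsub]
    exact hNn
  · intro y z hy hz
    -- the orbit map is a bijection onto the points other than `a`
    let f : F → {w : Ω // w ≠ a} := fun u => ⟨(u : G) • y, by
      intro h
      apply hy
      have : (u : G) • y = (u : G) • a := by rw [h]; exact (hFle u.2).symm
      exact smul_left_cancel _ this⟩
    have hf : Function.Injective f := by
      intro u v huv
      have h1 : (u : G) • y = (v : G) • y := congrArg Subtype.val huv
      by_contra hne
      have h2 : ((v : G)⁻¹ * (u : G)) • y = y := by rw [mul_smul, h1, inv_smul_smul]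
      apply hFfree _ (F.mul_mem (F.inv_mem v.2) u.2) _ y hy h2
      intro h
      apply hne
      apply Subtype.ext
      have := congrArg (fun w => (v : G) * w) h
      simpa using this
    have hcard : Nat.card {w : Ω // w ≠ a} ≤ Nat.card F := by
      have h5 := Set.ncard_add_ncard_compl ({a} : Set Ω)
      rw [Set.ncard_singleton] at h5
      have h6 : Nat.card {w : Ω // w ≠ a} = ({a} : Set Ω)ᶜ.ncard := by
        rw [← Nat.card_coe_set_eq]
        apply Nat.card_congr
        refine Equiv.subtypeEquivRight ?_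
        intro w
        rw [Set.mem_compl_iff, Set.mem_singleton_iff]
      omega
    have hbij := hf.bijective_of_nat_card_le hcard
    obtain ⟨u, hu⟩ := hbij.2 ⟨z, hz⟩
    refine ⟨u, congrArg Subtype.val hu, ?_⟩
    intro v hv
    apply hf
    apply Subtype.ext
    show (v : G) • y = (u : G) • y
    rw [hv]
    exact (congrArg Subtype.val hu).symm

end

end Cfsg.Agent.Helper27.ZQ
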