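import Mathlib
import Cfsg.Agent.Lib.Helper27.Zq1G

set_option autoImplicit false
set_option linter.unusedSectionVars false
set_option linter.style.haveILetI false

/-! Sharply triply transitive groups of even degree via transfer. The homomorphism `idx2Hom` attached to a subgroup of index two, the setwise stabiliser `pairStab` of a pair of points, the evaluation `ZD.transfer_eq` of the transfer into the pair stabiliser on the two-point stabiliser (for a homomorphism trivial on the exchanging involution), and `ZD.exists_index_two`: a subgroup of index two of the two-point stabiliser invariant under the exchanging involution gives a normal subgroup of index two of the whole group. -/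

namespace Cfsg.Agent.Helper27.ZQ

open MulAction

/-- the homomorphism to the units of the integers with a given kernel of index two -/
noncomputable def idx2Hom {A : Type*} [Group A] (K : Subgroup A) (hK : K.index = 2) : A →* ℤˣ where
  toFun a := by classical exact if a ∈ K then 1 else -1
  map_one' := by simp [K.one_mem]
  map_mul' a b := by
    have h := Subgroup.mul_mem_iff_of_index_two hK (a := a) (b := b)
    by_cases ha : a ∈ K <;> by_cases hb : b ∈ K <;> simp_all

theorem idx2Hom_eq_one_iff {A : Type*} [Group A] (K : Subgroup A) (hK : K.index = 2) (a : A) :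
    idx2Hom K hK a = 1 ↔ a ∈ K := by
  classical
  show (if a ∈ K then (1 : ℤˣ) else -1) = 1 ↔ a ∈ K
  by_cases ha : a ∈ K
  · simp [ha]
  · simp only [ha, if_false, iff_false]
    decide

section

variable {G : Type*} [Group G] {Ω : Type*} [MulAction G Ω]

/-- the setwise stabiliser of a pair of points -/
def pairStab (G : Type*) [Group G] {Ω : Type*} [MulAction G Ω] (x y : Ω) : Subgroup G where
  carrier := {g | (g • x = x ∧ g • y = y) ∨ (g • x = y ∧ g • y = x)}
  one_mem' := Or.inl ⟨one_smul _ _, one_smul _ _⟩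
  mul_mem' := by
    rintro a b (⟨ha1, ha2⟩ | ⟨ha1, ha2⟩) (⟨hb1, hb2⟩ | ⟨hb1, hb2⟩)
    · exact Or.inl ⟨by rw [mul_smul, hb1, ha1], by rw [mul_smul, hb2, ha2]⟩
    · exact Or.inr ⟨by rw [mul_smul, hb1, ha2], by rw [mul_smul, hb2, ha1]⟩
    · exact Or.inr ⟨by rw [mul_smul, hb1, ha1], by rw [mul_smul, hb2, ha2]⟩
    · exact Or.inl ⟨by rw [mul_smul, hb1, ha2], by rw [mul_smul, hb2, ha1]⟩
  inv_mem' := by
    rintro a (⟨ha1, ha2⟩ | ⟨ha1, ha2⟩)
    · exact Or.inl ⟨by rw [inv_smul_eq_iff, ha1], by rw [inv_smul_eq_iff, ha2]⟩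
    · exact Or.inr ⟨by rw [inv_smul_eq_iff, ha2], by rw [inv_smul_eq_iff, ha1]⟩

theorem mem_pairStab {x y : Ω} {g : G} :
    g ∈ pairStab G x y ↔ (g • x = x ∧ g • y = y) ∨ (g • x = y ∧ g • y = x) := Iff.rfl

theorem HH_le_pairStab (x y : Ω) : ZD.HH G x y ≤ pairStab G x y := by
  intro g hg
  exact Or.inl (ZD.mem_HH.1 hg)

end

namespace ZD

variable {G : Type*} [Group G] {Ω : Type*} [MulAction G Ω] {x y : Ω} {F : Subgroup G}

/-- an element exchanging `x` and `y` with a further fixed point is conjugate to `s` under the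
two-point stabiliser -/
theorem swap_conj (D : ZD G Ω x y F) [Finite G] [Finite Ω]
    (hd : Nat.card (HH G x y) = Nat.card F - 1)
    (s : G) (hsx : s • x = y) (hsy : s • y = x) (z : Ω) (hzx : z ≠ x) (hzy : z ≠ y)
    (hsz : s • z = z) (u : G) (hux : u • x = y) (huy : u • y = x) (w : Ω) (hwx : w ≠ x)
    (hwy : w ≠ y) (huw : u • w = w) : ∃ h ∈ HH G x y, u = h * s * h⁻¹ := by
  obtain ⟨h, hh, hhz⟩ := D.HH_transitive hd z w hzx hzy hwx hwy
  have hm := mem_HH.1 hh
  refine ⟨h, hh, ?_⟩
  have hix : h⁻¹ • x = x := by rw [inv_smul_eq_iff, hm.1]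
  have hiy : h⁻¹ • y = y := by rw [inv_smul_eq_iff, hm.2]
  have hiw : h⁻¹ • w = z := by rw [inv_smul_eq_iff, hhz]
  have h1 : (u⁻¹ * (h * s * h⁻¹)) • x = x := by
    rw [mul_smul, mul_smul, mul_smul, hix, hsx, hm.2, inv_smul_eq_iff, hux]
  have h2 : (u⁻¹ * (h * s * h⁻¹)) • y = y := by
    rw [mul_smul, mul_smul, mul_smul, hiy, hsy, hm.1, inv_smul_eq_iff, huy]
  have h3 : (u⁻¹ * (h * s * h⁻¹)) • w = w := by
    rw [mul_smul, mul_smul, mul_smul, hiw, hsz, hhz, inv_smul_eq_iff, huw]
  have := D.three _ x y w D.hxy (Ne.symm hwy) (Ne.symm hwx) h1 h2 h3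
  have := congrArg (fun v => u * v) this
  simpa using this.symm

end ZD

end Cfsg.Agent.Helper27.ZQ

namespace Cfsg.Agent.Helper27.ZQ

open MulAction

namespace ZD

variable {G : Type*} [Group G] {Ω : Type*} [MulAction G Ω] {x y : Ω} {F : Subgroup G}

/-- conjugates of powers of an element of the two-point stabiliser by an element outside the
pair stabiliser, when they lie in the pair stabiliser, are killed by `φ` -/
theorem phi_conj_eq_one (D : ZD G Ω x y F) [Finite G] [Finite Ω]
    (hd : Nat.card (HH G x y) = Nat.card F - 1)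
    (s : G) (hsx : s • x = y) (hsy : s • y = x) (z : Ω) (hzx : z ≠ x) (hzy : z ≠ y)
    (hsz : s • z = z) {A : Type*} [CommGroup A] (φ : pairStab G x y →* A)
    (hφs : φ ⟨s, Or.inr ⟨hsx, hsy⟩⟩ = 1)
    (g : G) (hg : g ∈ HH G x y) (k : G) (hk : k ∉ pairStab G x y)
    (hu : k⁻¹ * g * k ∈ pairStab G x y) : φ ⟨k⁻¹ * g * k, hu⟩ = 1 := by
  have hgm := mem_HH.1 hg
  have hact : ∀ a : Ω, g • (k • a) = k • ((k⁻¹ * g * k) • a) := by
    intro a
    rw [mul_smul, mul_smul, smul_inv_smul]
  rcases hu with ⟨hu1, hu2⟩ | ⟨hu1, hu2⟩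
  · -- `g` fixes `k x` and `k y`
    have h1 : g • (k • x) = k • x := by rw [hact, hu1]
    have h2 : g • (k • y) = k • y := by rw [hact, hu2]
    have hg1 : g = 1 := by
      by_cases hkx : k • x = x ∨ k • x = y
      · by_cases hky : k • y = x ∨ k • y = y
        · exfalso
          apply hk
          rcases hkx with hkx | hkx
          · rcases hky with hky | hky
            · exact absurd (smul_left_cancel k (hkx.trans hky.symm)) D.hxy
            · exact Or.inl ⟨hkx, hky⟩
          · rcases hky with hky | hky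
            · exact Or.inr ⟨hkx, hky⟩
            · exact absurd (smul_left_cancel k (hkx.trans hky.symm)) D.hxy
        · push Not at hky
          exact D.three g x y (k • y) D.hxy (Ne.symm hky.2) (Ne.symm hky.1) hgm.1 hgm.2 h2
      · push Not at hkx
        exact D.three g x y (k • x) D.hxy (Ne.symm hkx.2) (Ne.symm hkx.1) hgm.1 hgm.2 h1
    have : (⟨k⁻¹ * g * k, Or.inl ⟨hu1, hu2⟩⟩ : pairStab G x y) = 1 := by
      apply Subtype.ext
      show k⁻¹ * g * k = 1
      rw [hg1]
      group
    rw [this, map_one]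
  · -- `g` exchanges `k x` and `k y`
    have h1 : g • (k • x) = k • y := by rw [hact, hu1]
    have h2 : g • (k • y) = k • x := by rw [hact, hu2]
    have hkxy : k • x ≠ k • y := fun h => D.hxy (smul_left_cancel k h)
    have hkx1 : k • x ≠ x := by
      intro h
      apply hkxy
      rw [← h1, h, hgm.1]
    have hkx2 : k • x ≠ y := by
      intro h
      apply hkxy
      rw [← h1, h, hgm.2]
    have hky1 : k • y ≠ x := by
      intro h
      apply hkxy
      rw [← h2, h, hgm.1]
    obtain ⟨w, hw⟩ : ∃ w : Ω, w = k⁻¹ • x := ⟨_, rfl⟩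
    have hwx : w ≠ x := by
      intro h
      have h' : k⁻¹ • x = x := hw.symm.trans h
      rw [inv_smul_eq_iff] at h'
      exact hkx1 h'.symm
    have hwy : w ≠ y := by
      intro h
      have h' : k⁻¹ • x = y := hw.symm.trans h
      rw [inv_smul_eq_iff] at h'
      exact hky1 h'.symm
    have huw : (k⁻¹ * g * k) • w = w := by
      rw [hw, mul_smul, mul_smul, smul_inv_smul, hgm.1]
    obtain ⟨h, hh, hconj⟩ := D.swap_conj hd s hsx hsy z hzx hzy hsz (k⁻¹ * g * k) hu1 hu2 w hwx
      hwy huw
    have hhC : h ∈ pairStab G x y := HH_le_pairStab x y hh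
    have : (⟨k⁻¹ * g * k, Or.inr ⟨hu1, hu2⟩⟩ : pairStab G x y) =
        ⟨h, hhC⟩ * ⟨s, Or.inr ⟨hsx, hsy⟩⟩ * ⟨h, hhC⟩⁻¹ := by
      apply Subtype.ext
      exact hconj
    rw [this, map_mul, map_mul, hφs, map_inv, mul_one, mul_inv_cancel]

/-- the transfer into the pair stabiliser of an element of the two-point stabiliser -/
theorem transfer_eq (D : ZD G Ω x y F) [Finite G] [Finite Ω]
    (hd : Nat.card (HH G x y) = Nat.card F - 1)
    (s : G) (hsx : s • x = y) (hsy : s • y = x) (z : Ω) (hzx : z ≠ x) (hzy : z ≠ y)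
    (hsz : s • z = z) {A : Type*} [CommGroup A] (φ : pairStab G x y →* A)
    (hφs : φ ⟨s, Or.inr ⟨hsx, hsy⟩⟩ = 1)
    (g : G) (hg : g ∈ HH G x y) :
    MonoidHom.transfer φ g = φ ⟨g, HH_le_pairStab x y hg⟩ := by
  classical
  haveI : Fintype (Quotient (orbitRel (Subgroup.zpowers g) (G ⧸ (pairStab G x y)))) := Fintype.ofFinite _
  rw [MonoidHom.transfer_eq_prod_quotient_orbitRel_zpowers_quot φ g]
  have hgC : g ∈ (pairStab G x y) := HH_le_pairStab x y hg
  have hpowHH : ∀ n : ℕ, g ^ n ∈ HH G x y := fun n => (HH G x y).pow_mem hg n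
  -- the orbit of the base coset
  let c0 : G ⧸ (pairStab G x y) := QuotientGroup.mk 1
  let q0 : Quotient (orbitRel (Subgroup.zpowers g) (G ⧸ (pairStab G x y))) := Quotient.mk'' c0
  have hfix0 : ∀ u ∈ (pairStab G x y), u • c0 = c0 := by
    intro u hu
    show (QuotientGroup.mk (u * 1) : G ⧸ (pairStab G x y)) = QuotientGroup.mk 1
    rw [QuotientGroup.eq]
    simpa using (pairStab G x y).inv_mem hu
  have hout_mem : ∀ c : G ⧸ (pairStab G x y), c = c0 ↔ c.out ∈ (pairStab G x y) := by
    intro c
    constructor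
    · intro h
      have h1 : (QuotientGroup.mk c.out : G ⧸ (pairStab G x y)) = QuotientGroup.mk 1 := by
        rw [QuotientGroup.out_eq', h]
      rw [QuotientGroup.eq] at h1
      simpa using (pairStab G x y).inv_mem h1
    · intro h
      rw [← QuotientGroup.out_eq' c]
      show (QuotientGroup.mk c.out : G ⧸ (pairStab G x y)) = QuotientGroup.mk 1
      rw [QuotientGroup.eq]
      simpa using (pairStab G x y).inv_mem h
  have hq0out : q0.out = c0 := by
    have h1 : Quotient.mk'' q0.out = q0 := Quotient.out_eq' q0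
    have h2 : (orbitRel (Subgroup.zpowers g) (G ⧸ (pairStab G x y))) q0.out c0 := Quotient.exact' h1
    rw [orbitRel_apply] at h2
    obtain ⟨⟨u, hu⟩, hu2⟩ := h2
    have hu3 : u • c0 = q0.out := hu2
    rw [← hu3]
    apply hfix0
    obtain ⟨n, rfl⟩ := Subgroup.mem_zpowers_iff.1 hu
    exact (pairStab G x y).zpow_mem hgC n
  rw [Finset.prod_eq_single q0]
  · -- the base term
    have hk0 : q0.out.out ∈ (pairStab G x y) := (hout_mem _).1 hq0out
    have hper : Function.minimalPeriod (g • ·) q0.out = 1 := by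
      rw [Function.minimalPeriod_eq_one_iff_isFixedPt, hq0out]
      exact hfix0 g hgC
    have : (⟨q0.out.out⁻¹ * g ^ Function.minimalPeriod (g • ·) q0.out * q0.out.out,
        QuotientGroup.out_conj_pow_minimalPeriod_mem (pairStab G x y) g q0.out⟩ : (pairStab G x y)) =
        (⟨q0.out.out, hk0⟩ : (pairStab G x y))⁻¹ * ⟨g, hgC⟩ * ⟨q0.out.out, hk0⟩ := by
      apply Subtype.ext
      show q0.out.out⁻¹ * g ^ Function.minimalPeriod (g • ·) q0.out * q0.out.out = _
      rw [hper, pow_one]
      rfl
    rw [this, map_mul, map_mul, map_inv, mul_comm, ← mul_assoc, mul_inv_cancel, one_mul]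
  · intro q _ hq
    have hqne : q.out ≠ c0 := by
      intro h
      apply hq
      rw [← Quotient.out_eq' q, h]
    have hkC : q.out.out ∉ (pairStab G x y) := fun h => hqne ((hout_mem _).2 h)
    exact D.phi_conj_eq_one hd s hsx hsy z hzx hzy hsz φ hφs _ (hpowHH _) _ hkC _
  · intro h
    exact absurd (Finset.mem_univ _) h

end ZD

end Cfsg.Agent.Helper27.ZQ

namespace Cfsg.Agent.Helper27.ZQ

open MulAction

namespace ZD

variable {G : Type*} [Group G] {Ω : Type*} [MulAction G Ω] {x y : Ω} {F : Subgroup G}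

/-- an index two subgroup of the two-point stabiliser invariant under the exchanging
involution gives a normal subgroup of index two of the whole group -/
theorem exists_index_two (D : ZD G Ω x y F) [Finite G] [Finite Ω]
    (hd : Nat.card (HH G x y) = Nat.card F - 1)
    (s : G) (hsx : s • x = y) (hsy : s • y = x) (z : Ω) (hzx : z ≠ x) (hzy : z ≠ y)
    (hsz : s • z = z) (N : Subgroup G) (hNle : N ≤ HH G x y)
    (hrel : N.relIndex (HH G x y) = 2) (hNs : ∀ n ∈ N, s * n * s⁻¹ ∈ N) :
    ∃ G0 : Subgroup G, G0.Normal ∧ G0.index = 2 ∧ ∀ h ∈ HH G x y, (h ∈ G0 ↔ h ∈ N) := by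
  classical
  have hss : s * s = 1 := by
    apply D.three (s * s) x y z D.hxy (Ne.symm hzy) (Ne.symm hzx)
    · rw [mul_smul, hsx, hsy]
    · rw [mul_smul, hsy, hsx]
    · rw [mul_smul, hsz, hsz]
  have hsinv : s⁻¹ = s := inv_eq_of_mul_eq_one_left hss
  have hNs' : ∀ n : G, s * n * s⁻¹ ∈ N ↔ n ∈ N := by
    intro n
    constructor
    · intro h
      have := hNs _ h
      have e : s * (s * n * s⁻¹) * s⁻¹ = n := by
        calc s * (s * n * s⁻¹) * s⁻¹ = (s * s) * n * (s * s)⁻¹ := by group
          _ = n := by rw [hss]; group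
      rwa [e] at this
    · exact hNs n
  -- index two in the two-point stabiliser
  have hidxN : (N.subgroupOf (HH G x y)).index = 2 := hrel
  have hmulN : ∀ a ∈ HH G x y, ∀ b ∈ HH G x y, (a * b ∈ N ↔ (a ∈ N ↔ b ∈ N)) := by
    intro a ha b hb
    have := Subgroup.mul_mem_iff_of_index_two hidxN (a := (⟨a, ha⟩ : HH G x y)) (b := ⟨b, hb⟩)
    simpa [Subgroup.mem_subgroupOf] using this
  obtain ⟨h0, hh0, hh0N⟩ : ∃ h0 ∈ HH G x y, h0 ∉ N := by
    by_contra hcon
    push Not at hcon
    have : N.relIndex (HH G x y) = 1 := Subgroup.relIndex_eq_one.2 hcon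
    omega
  -- the subgroup `M`
  let M : Subgroup G :=
    { carrier := {g | g ∈ N ∨ g * s ∈ N}
      one_mem' := Or.inl N.one_mem
      mul_mem' := by
        rintro a b (ha | ha) (hb | hb)
        · exact Or.inl (N.mul_mem ha hb)
        · right
          rw [mul_assoc]
          exact N.mul_mem ha hb
        · right
          have e : a * b * s = (a * s) * (s * b * s⁻¹) := by
            rw [hsinv]
            calc a * b * s = a * (s * s) * b * s := by rw [hss, mul_one]
              _ = a * s * (s * b * s) := by group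
          rw [e]
          exact N.mul_mem ha (hNs b hb)
        · left
          have e : a * b = (a * s) * (s * (b * s) * s⁻¹) := by
            calc a * b = a * (s * s) * b := by rw [hss, mul_one]
              _ = (a * s) * (s * (b * s) * s⁻¹) := by group
          rw [e]
          exact N.mul_mem ha (hNs _ hb)
      inv_mem' := by
        rintro a (ha | ha)
        · exact Or.inl (N.inv_mem ha)
        · right
          have e : a⁻¹ * s = s * (a * s)⁻¹ * s⁻¹ := by
            calc a⁻¹ * s = a⁻¹ * s⁻¹ := by rw [hsinv]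
              _ = s * (a * s)⁻¹ * s⁻¹ := by group
          rw [e]
          exact hNs _ (N.inv_mem ha) }
  have hmemM : ∀ g : G, g ∈ M ↔ g ∈ N ∨ g * s ∈ N := fun g => Iff.rfl
  have hsC : s ∈ pairStab G x y := Or.inr ⟨hsx, hsy⟩
  -- membership in `M` for the two kinds of elements of the pair stabiliser
  have hM1 : ∀ b : G, b • x = x → b • y = y → (b ∈ M ↔ b ∈ N) := by
    intro b hbx hby
    rw [hmemM]
    constructor
    · rintro (h | h)
      · exact h
      · exfalso
        have := (mem_HH.1 (hNle h)).1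
        rw [mul_smul, hsx, hby] at this
        exact D.hxy this.symm
    · exact Or.inl
  have hM2 : ∀ b : G, b • x = y → b • y = x → (b ∈ M ↔ b * s ∈ N) := by
    intro b hbx hby
    rw [hmemM]
    constructor
    · rintro (h | h)
      · exfalso
        have := (mem_HH.1 (hNle h)).1
        rw [hbx] at this
        exact D.hxy this.symm
      · exact h
    · exact Or.inr
  have hidx : (M.subgroupOf (pairStab G x y)).index = 2 := by
    rw [Subgroup.index_eq_two_iff]
    refine ⟨⟨h0, HH_le_pairStab x y hh0⟩, ?_⟩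
    rintro ⟨b, hb⟩
    have hh0m := mem_HH.1 hh0
    simp only [Subgroup.mem_subgroupOf, Subgroup.coe_mul]
    rcases hb with ⟨hbx, hby⟩ | ⟨hbx, hby⟩
    · have hbHH : b ∈ HH G x y := mem_HH.2 ⟨hbx, hby⟩
      have e1 : (b * h0) • x = x := by rw [mul_smul, hh0m.1, hbx]
      have e2 : (b * h0) • y = y := by rw [mul_smul, hh0m.2, hby]
      rw [hM1 _ e1 e2, hM1 _ hbx hby, hmulN b hbHH h0 hh0]
      by_cases hbN : b ∈ N
      · simp [hbN, hh0N]
      · simp [hbN, hh0N]
    · have hbs : b * s ∈ HH G x y := by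
        rw [mem_HH]
        exact ⟨by rw [mul_smul, hsx, hby], by rw [mul_smul, hsy, hbx]⟩
      have e1 : (b * h0) • x = y := by rw [mul_smul, hh0m.1, hbx]
      have e2 : (b * h0) • y = x := by rw [mul_smul, hh0m.2, hby]
      have hc : s * h0 * s⁻¹ ∈ HH G x y := by
        rw [mem_HH, hsinv]
        exact ⟨by rw [mul_smul, mul_smul, hsx, hh0m.2, hsy],
          by rw [mul_smul, mul_smul, hsy, hh0m.1, hsx]⟩
      have e3 : b * h0 * s = (b * s) * (s * h0 * s⁻¹) := by
        calc b * h0 * s = b * (s * s) * h0 * s := by rw [hss, mul_one]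
          _ = (b * s) * (s * h0 * s⁻¹) := by rw [hsinv]; group
      rw [hM2 _ e1 e2, hM2 _ hbx hby, e3, hmulN _ hbs _ hc, hNs']
      by_cases hbN : b * s ∈ N
      · simp [hbN, hh0N]
      · simp [hbN, hh0N]
  -- the homomorphism
  let φ : pairStab G x y →* ℤˣ := idx2Hom (M.subgroupOf (pairStab G x y)) hidx
  have hφ1 : ∀ c : pairStab G x y, φ c = 1 ↔ (c : G) ∈ M := by
    intro c
    show idx2Hom _ hidx c = 1 ↔ _
    rw [idx2Hom_eq_one_iff, Subgroup.mem_subgroupOf]
  have hφs : φ ⟨s, Or.inr ⟨hsx, hsy⟩⟩ = 1 := by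
    rw [hφ1]
    show s ∈ M
    rw [hmemM, hss]
    exact Or.inr N.one_mem
  have hV : ∀ h (hh : h ∈ HH G x y), MonoidHom.transfer φ h = 1 ↔ h ∈ N := by
    intro h hh
    rw [D.transfer_eq hd s hsx hsy z hzx hzy hsz φ hφs h hh, hφ1]
    have hm := mem_HH.1 hh
    exact hM1 h hm.1 hm.2
  refine ⟨(MonoidHom.transfer φ).ker, MonoidHom.normal_ker _, ?_, ?_⟩
  · rw [Subgroup.index_ker]
    have htop : (MonoidHom.transfer φ).range = ⊤ := by
      rw [eq_top_iff]
      intro u _
      rcases Int.units_eq_one_or u with rfl | rfl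
      · exact Subgroup.one_mem _
      · refine ⟨h0, ?_⟩
        rcases Int.units_eq_one_or (MonoidHom.transfer φ h0) with h | h
        · exact absurd ((hV h0 hh0).1 h) hh0N
        · exact h
    rw [htop, Subgroup.card_top, Nat.card_eq_fintype_card, Fintype.card_units_int]
  · intro h hh
    rw [MonoidHom.mem_ker]
    exact hV h hh

end ZD

end Cfsg.Agent.Helper27.ZQ
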