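import Mathlib
import Cfsg.Agent.Lib.Helper27.Zs3A
import Cfsg.Agent.S0740

set_option autoImplicit false
set_option linter.unusedSectionVars false
set_option linter.style.haveILetI false

/-! The statement `S729` on two-point stabilisers of sharply triply transitive groups of even degree as a hypothesis, its transport to abstract groups, `ZD.exists_index_two_of_sharp`, `ZD.not_simple_of_sharp`, cyclicity of a two-point stabiliser of order `(n - 1)/2`, and the cores `s0344_core`, `s0345_core` of the two statements on simple Zassenhaus groups. -/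

namespace Cfsg.Agent.Helper27.ZQ

open MulAction

universe u v

/-- the statement on sharply triply transitive groups of even degree used as a black box -/
def S729 : Prop :=
  ∀ {α : Type u} [Fintype α] [DecidableEq α] (_ : Even (Fintype.card α))
    (_ : 6 ≤ Fintype.card α) (G : Subgroup (Equiv.Perm α))
    (_ : MulAction.IsMultiplyPretransitive G α 3)
    (_ : ∀ x : Fin 3 ↪ α, MulAction.stabilizer G x = ⊥) {a b c : α} (_ : a ≠ b)
    (_ : a ≠ c) (_ : b ≠ c) (s : G) (_ : s • a = b) (_ : s • b = a) (_ : s • c = c),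
    ∃ N : Subgroup G, N ≤ MulAction.stabilizer G a ⊓ MulAction.stabilizer G b ∧
      (N.subgroupOf (MulAction.stabilizer G a ⊓ MulAction.stabilizer G b)).Normal ∧
      N.relIndex (MulAction.stabilizer G a ⊓ MulAction.stabilizer G b) = 2 ∧
      ∀ n ∈ N, s * n * s⁻¹ ∈ N

namespace ZD

variable {G : Type v} [Group G] {Ω : Type u} [MulAction G Ω] {x y : Ω} {F : Subgroup G}

/-- transport of the black box to an abstract group -/
theorem exists_sub_of_S729 (h729 : S729.{u}) (D : ZD G Ω x y F) [Finite G] [Finite Ω]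
    (hd : Nat.card (HH G x y) = Nat.card F - 1) (hev : Even (Nat.card Ω))
    (h6 : 6 ≤ Nat.card Ω)
    (s : G) (hsx : s • x = y) (hsy : s • y = x) (z : Ω) (hzx : z ≠ x) (hzy : z ≠ y)
    (hsz : s • z = z) :
    ∃ N : Subgroup G, N ≤ HH G x y ∧ N.relIndex (HH G x y) = 2 ∧
      ∀ n ∈ N, s * n * s⁻¹ ∈ N := by
  classical
  letI : Fintype Ω := Fintype.ofFinite Ω
  obtain ⟨h3, hsharp⟩ := D.sharply_three hd
  let τ : G →* Equiv.Perm Ω := MulAction.toPermHom G Ω
  let τ' : G →* τ.range := τ.rangeRestrict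
  have hτ' : ∀ (g : G) (a : Ω), (τ' g) • a = g • a := fun g a => rfl
  have hsurj : Function.Surjective τ' := τ.rangeRestrict_surjective
  have h3' : MulAction.IsMultiplyPretransitive τ.range Ω 3 := by
    refine ⟨fun a b => ?_⟩
    obtain ⟨g, hg⟩ := h3.exists_smul_eq a b
    refine ⟨τ' g, ?_⟩
    ext i
    have h2 : (g • a) i = b i := congrArg (fun e : Fin 3 ↪ Ω => e i) hg
    rw [Function.Embedding.smul_apply] at h2
    rw [Function.Embedding.smul_apply, hτ']
    exact h2
  have hsharp' : ∀ e : Fin 3 ↪ Ω, MulAction.stabilizer τ.range e = ⊥ := by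
    intro e
    rw [eq_bot_iff]
    intro g' hg'
    obtain ⟨g, rfl⟩ := hsurj g'
    rw [mem_stabilizer_iff] at hg'
    have hg : g ∈ MulAction.stabilizer G e := by
      rw [mem_stabilizer_iff]
      ext i
      have h2 : (τ' g • e) i = e i := congrArg (fun e' : Fin 3 ↪ Ω => e' i) hg'
      rw [Function.Embedding.smul_apply, hτ'] at h2
      rw [Function.Embedding.smul_apply]
      exact h2
    rw [hsharp e, Subgroup.mem_bot] at hg
    rw [Subgroup.mem_bot, hg, map_one]
  have hev' : Even (Fintype.card Ω) := by rwa [← Nat.card_eq_fintype_card]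
  have h6' : 6 ≤ Fintype.card Ω := by rwa [← Nat.card_eq_fintype_card]
  obtain ⟨N', hN'le, -, hN'rel, hN's⟩ := h729 hev' h6' τ.range h3' hsharp' D.hxy (Ne.symm hzx)
    (Ne.symm hzy) (τ' s) (by rw [hτ', hsx]) (by rw [hτ', hsy]) (by rw [hτ', hsz])
  have hmap : (HH G x y).map τ' =
      MulAction.stabilizer τ.range x ⊓ MulAction.stabilizer τ.range y := by
    ext g'
    obtain ⟨g, rfl⟩ := hsurj g'
    rw [Subgroup.mem_map, Subgroup.mem_inf, mem_stabilizer_iff, mem_stabilizer_iff, hτ', hτ']
    constructor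
    · rintro ⟨g1, hg1, hg1g⟩
      have hm := mem_HH.1 hg1
      have e : ∀ a : Ω, g • a = g1 • a := by
        intro a
        rw [← hτ' g a, ← hτ' g1 a, hg1g]
      rw [e, e]
      exact hm
    · intro hm
      exact ⟨g, mem_HH.2 hm, rfl⟩
  refine ⟨N'.comap τ', ?_, ?_, ?_⟩
  · intro g hg
    rw [Subgroup.mem_comap] at hg
    have := hN'le hg
    rw [Subgroup.mem_inf, mem_stabilizer_iff, mem_stabilizer_iff, hτ', hτ'] at this
    exact mem_HH.2 this
  · rw [Subgroup.relIndex_comap, hmap]
    exact hN'rel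
  · intro n hn
    rw [Subgroup.mem_comap] at hn ⊢
    rw [map_mul, map_mul, map_inv]
    exact hN's _ hn

end ZD

end Cfsg.Agent.Helper27.ZQ

namespace Cfsg.Agent.Helper27.ZQ

open MulAction

universe u v

namespace ZD

variable {G : Type v} [Group G] {Ω : Type u} [MulAction G Ω] {x y : Ω} {F : Subgroup G}

/-- a sharply triply transitive group of even degree has a normal subgroup of index two -/
theorem exists_index_two_of_sharp (h729 : S729.{u}) (D : ZD G Ω x y F) [Finite G] [Finite Ω]
    (hd : Nat.card (HH G x y) = Nat.card F - 1) (hev : Even (Nat.card (HH G x y))) :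
    ∃ (G0 N : Subgroup G), G0.Normal ∧ G0.index = 2 ∧ N ≤ HH G x y ∧
      N.relIndex (HH G x y) = 2 ∧ ∀ h ∈ HH G x y, (h ∈ G0 ↔ h ∈ N) := by
  classical
  letI : Fintype G := Fintype.ofFinite G
  haveI : Fact (Nat.Prime 2) := ⟨Nat.prime_two⟩
  have hn2 := D.two_le_card_F
  have hΩ := D.card_Omega
  obtain ⟨j0, hj0⟩ := exists_prime_orderOf_dvd_card' (G := HH G x y) 2 (even_iff_two_dvd.1 hev)
  have hj : (j0 : G) ∈ HH G x y := j0.2
  have hj1 : (j0 : G) ≠ 1 := by
    intro h
    have : j0 = 1 := Subtype.ext h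
    rw [this, orderOf_one] at hj0
    omega
  have hj2 : (j0 : G) * (j0 : G) = 1 := by
    have h1 : j0 ^ 2 = 1 := by rw [← hj0]; exact pow_orderOf_eq_one j0
    have h2 : ((j0 ^ 2 : HH G x y) : G) = 1 := by rw [h1]; rfl
    rw [← pow_two]
    exact h2
  obtain ⟨z, hzx, hzy⟩ := D.third
  obtain ⟨s, -, -, hsx, hsy, hsz⟩ := D.exists_swap_fix (j0 : G) hj hj2 hj1 z hzx hzy
  have hN : ∃ N : Subgroup G, N ≤ HH G x y ∧ N.relIndex (HH G x y) = 2 ∧
      ∀ n ∈ N, s * n * s⁻¹ ∈ N := by
    by_cases h6 : 6 ≤ Nat.card Ω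
    · have hevΩ : Even (Nat.card Ω) := by
        rw [hΩ]
        rw [hd] at hev
        rcases hev with ⟨k, hk⟩
        exact ⟨k + 1, by omega⟩
      exact D.exists_sub_of_S729 h729 hd hevΩ h6 s hsx hsy z hzx hzy hsz
    · refine ⟨⊥, bot_le, ?_, ?_⟩
      · rw [Subgroup.relIndex_bot_left]
        rw [hd] at hev
        rcases hev with ⟨k, hk⟩
        omega
      · intro n hn
        rw [Subgroup.mem_bot] at hn ⊢
        rw [hn]
        group
  obtain ⟨N, hNle, hrel, hNs⟩ := hN
  obtain ⟨G0, hG0n, hG0i, hG0⟩ := D.exists_index_two hd s hsx hsy z hzx hzy hsz N hNle hrel hNs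
  exact ⟨G0, N, hG0n, hG0i, hNle, hrel, hG0⟩

/-- a sharply triply transitive group of even degree is not simple -/
theorem not_simple_of_sharp (h729 : S729.{u}) (D : ZD G Ω x y F) [Finite G] [Finite Ω]
    (hd : Nat.card (HH G x y) = Nat.card F - 1) (hev : Even (Nat.card (HH G x y))) :
    ¬ IsSimpleGroup G := by
  intro hsimple
  obtain ⟨G0, N, hG0n, hG0i, -, -, -⟩ := D.exists_index_two_of_sharp h729 hd hev
  have hn2 := D.two_le_card_F
  have hcard := D.card_G
  rcases hG0n.eq_bot_or_eq_top with h | h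
  · rw [h, Subgroup.index_bot] at hG0i
    rw [hG0i] at hcard
    have h1 : 2 ≤ Nat.card (HH G x y) := by
      rcases hev with ⟨k, hk⟩
      have : 0 < Nat.card (HH G x y) := Nat.card_pos
      omega
    have h2 : 3 * (2 * 2) ≤ (Nat.card F + 1) * (Nat.card F * Nat.card (HH G x y)) :=
      Nat.mul_le_mul (by omega) (Nat.mul_le_mul hn2 h1)
    omega
  · rw [h, Subgroup.index_top] at hG0i
    omega

end ZD

end Cfsg.Agent.Helper27.ZQ

namespace Cfsg.Agent.Helper27.ZQ

open MulAction Cfsg.Agent.Helper18.SolvEP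

universe u v

namespace ZD

variable {G : Type v} [Group G] {Ω : Type u} [MulAction G Ω] {x y : Ω} {F : Subgroup G}

/-- the two-point stabiliser is cyclic when it has order `(n - 1) / 2` -/
theorem cyclic_of_half (D : ZD G Ω x y F) [Finite G] [Finite Ω] (p : ℕ) [hp : Fact p.Prime]
    (hFp : IsPGroup p F) (hnr : NoRegN G (Nat.card F))
    (h2d : 2 * Nat.card (HH G x y) = Nat.card F - 1)
    (K0 : Type*) [Field K0] [Fintype K0] (hK0 : Fintype.card K0 = Nat.card F) :
    IsCyclic (HH G x y) := by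
  obtain ⟨t, htx, hty⟩ := D.twoTrans D.hxy D.hxy.symm
  have hinv := D.inv_of_half p hFp hnr h2d t htx hty
  have hHab : ∀ a ∈ HH G x y, ∀ b ∈ HH G x y, a * b = b * a :=
    fun a ha b hb => comm_of_inv t (HH G x y) hinv a b ha hb
  letI := commGroupOfComm F D.hFab
  have hyp := D.hyp_conjF hHab h2d
  haveI : Nontrivial (Additive F) := by
    obtain ⟨v, hv⟩ := D.exists_ne_zero
    exact ⟨⟨v, 0, hv⟩⟩
  haveI : Finite (Additive F) := inferInstanceAs (Finite F)
  have hcA : Nat.card (Additive F) = Nat.card F := rfl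
  obtain ⟨E, hEadd, hEmul⟩ := coords hyp K0 (by rw [hK0, hcA])
  obtain ⟨C, hCH, -⟩ := D.exists_qctx K0 E hEadd hEmul
  have hHs : C.Hs = HH G x y := Subgroup.ext hCH
  have hcyc : IsCyclic C.Hs := by
    apply isCyclic_of_injective_ringHom ((Units.coeHom K0).comp C.multHom)
    intro a b hab
    apply C.multHom_injective
    exact Units.ext hab
  rw [hHs] at hcyc
  exact hcyc

end ZD

section

variable {G : Type v} [Group G] {Ω : Type u} [MulAction G Ω]

/-- the set-up common to the two statements on simple Zassenhaus groups with even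
two-point stabilisers -/
theorem simple_even_cases (h729 : S729.{u}) [Finite G] [Finite Ω]
    (hZ : Cfsg.IsZassenhausGroup G Ω) [IsSimpleGroup G] {a b : Ω} (hab : a ≠ b)
    (heven : Even (Nat.card ↥(MulAction.stabilizer G a ⊓ MulAction.stabilizer G b))) :
    ∃ (F : Subgroup G) (_ : ZD G Ω a b F) (p f : ℕ) (_ : Fact p.Prime), p ≠ 2 ∧ f ≠ 0 ∧
      Nat.card F = p ^ f ∧ IsPGroup p F ∧
      2 * Nat.card (ZD.HH G a b) = Nat.card F - 1 ∧
      Nonempty (G ≃* Matrix.ProjectiveSpecialLinearGroup (Fin 2) (GaloisField p f)) := by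
  letI : Fintype Ω := Fintype.ofFinite Ω
  obtain ⟨F, hFle, hFn, hreg⟩ := exists_frob_kernel hZ hab
  have hbound := Cfsg.Agent.S0741.result hZ hab heven
  obtain ⟨hFab, q, e, hq, hexp, -⟩ := Cfsg.Agent.S0738.result hZ hab hbound F hFle hFn hreg
  have hcomm : ∀ u ∈ F, ∀ v ∈ F, u * v = v * u := by
    intro u hu v hv
    have := hFab.is_comm.comm (⟨u, hu⟩ : F) ⟨v, hv⟩
    exact congrArg Subtype.val this
  have D := zd_of_zassenhaus hZ hab F hFle hFn hcomm hreg
  rcases D.main_of_zd hZ with h | ⟨p, f, hp, hp2, hf0, hnpf, h2d, he⟩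
  · exact absurd (inferInstance : IsSimpleGroup G) (D.not_simple_of_sharp h729 h heven)
  · have hFp : IsPGroup p F := by
      haveI := hp
      exact IsPGroup.of_card hnpf
    exact ⟨F, D, p, f, hp, hp2, hf0, hnpf, hFp, h2d, he⟩

theorem s0344_core (h729 : S729.{u}) [Finite G] [Finite Ω]
    (hZ : Cfsg.IsZassenhausGroup G Ω) [IsSimpleGroup G] {a b : Ω} (hab : a ≠ b)
    (heven : Even (Nat.card ↥(MulAction.stabilizer G a ⊓ MulAction.stabilizer G b))) :
    ∃ (F : Type) (_ : Field F) (_ : Fintype F), 3 < Fintype.card F ∧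
      Nonempty (G ≃* Matrix.ProjectiveSpecialLinearGroup (Fin 2) F) := by
  obtain ⟨F, D, p, f, hp, hp2, hf0, hnpf, hFp, h2d, he⟩ := simple_even_cases h729 hZ hab heven
  letI : Fintype (GaloisField p f) := Fintype.ofFinite _
  refine ⟨GaloisField p f, inferInstance, inferInstance, ?_, he⟩
  have h2 : Fintype.card (GaloisField p f) = Nat.card F := by
    rw [← Nat.card_eq_fintype_card, GaloisField.card p f hf0, hnpf]
  rw [h2]
  have h3 : Nat.card ↥(MulAction.stabilizer G a ⊓ MulAction.stabilizer G b) =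
      Nat.card (ZD.HH G a b) := rfl
  rw [h3] at heven
  rcases heven with ⟨k, hk⟩
  have hpos : 0 < Nat.card (ZD.HH G a b) := Nat.card_pos
  omega

theorem s0345_core (h729 : S729.{u}) [Finite G] [Finite Ω]
    (hZ : Cfsg.IsZassenhausGroup G Ω) [IsSimpleGroup G] {a b : Ω} (hab : a ≠ b) :
    IsCyclic ↥(MulAction.stabilizer G a ⊓ MulAction.stabilizer G b) ∧
      ∃ v : G, orderOf v = 2 ∧ v • a = b ∧ v • b = a ∧
        ∀ h ∈ MulAction.stabilizer G a ⊓ MulAction.stabilizer G b, v * h * v⁻¹ = h⁻¹ := by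
  letI : Fintype Ω := Fintype.ofFinite Ω
  obtain ⟨⟨v, hv2, hva, hvb⟩, -, -⟩ := Cfsg.Agent.S0740.result hZ hab
  rcases Nat.even_or_odd
    (Nat.card ↥(MulAction.stabilizer G a ⊓ MulAction.stabilizer G b)) with heven | hodd
  · obtain ⟨F, D, p, f, hp, hp2, hf0, hnpf, hFp, h2d, he⟩ :=
      simple_even_cases h729 hZ hab heven
    haveI := hp
    have hnr := D.noReg_of_zassenhaus hZ
    letI : Fintype (GaloisField p f) := Fintype.ofFinite _
    have hK0 : Fintype.card (GaloisField p f) = Nat.card F := by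
      rw [← Nat.card_eq_fintype_card, GaloisField.card p f hf0, hnpf]
    refine ⟨D.cyclic_of_half p hFp hnr h2d (GaloisField p f) hK0, v, hv2, hva, hvb, ?_⟩
    intro h hh
    exact D.inv_of_half p hFp hnr h2d v hva hvb h hh
  · have hnil : ∀ q : ℕ, q.Prime →
        q ∣ Nat.card ↥(MulAction.stabilizer G a ⊓ MulAction.stabilizer G b) →
        ¬ ∃ N : Subgroup G, N.Normal ∧ N.index = q ^ (Nat.card G).factorization q := by
      rintro q hq hqd ⟨N, hN, hidx⟩
      have hq2 : q ≠ 2 := by
        rintro rfl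
        exact (Nat.not_even_iff_odd.2 hodd) (even_iff_two_dvd.2 hqd)
      have hqG : q ∣ Nat.card G := hqd.trans (Subgroup.card_subgroup_dvd_card _)
      have hpos : Nat.card G ≠ 0 := Nat.card_pos.ne'
      rcases hN.eq_bot_or_eq_top with h | h
      · rw [h, Subgroup.index_bot] at hidx
        have h2G : 2 ∣ Nat.card G := by
          rw [← hv2]
          exact orderOf_dvd_natCard v
        rw [hidx] at h2G
        have := (Nat.Prime.dvd_of_dvd_pow Nat.prime_two h2G)
        exact hq2 ((Nat.prime_dvd_prime_iff_eq Nat.prime_two hq).1 this).symm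
      · rw [h, Subgroup.index_top] at hidx
        have hk : (Nat.card G).factorization q ≠ 0 := by
          have := (hq.dvd_iff_one_le_factorization hpos).1 hqG
          omega
        have : 1 < q ^ (Nat.card G).factorization q := Nat.one_lt_pow hk hq.one_lt
        omega
    have := Cfsg.Agent.S0739.result hZ hab hodd hnil
    exact ⟨this.1, v, hv2, hva, hvb, this.2.2 v hva hvb⟩

end

end Cfsg.Agent.Helper27.ZQ
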