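import Mathlib
import Cfsg.Agent.Lib.Helper10.PCDefs
import Cfsg.Agent.Lib.Helper10.PCBasic
import Cfsg.Agent.Lib.Helper19.PCCERTP
import Cfsg.Agent.Lib.Helper16.PCEXT
import Cfsg.Agent.Lib.Helper2.PCNSSIX

/-!
# S2276 piece I3A (helper27): `p = 3`, `u = rot n`, `n = 3 q`, `w` with a cycle of length divisible by `9`.
-/

set_option autoImplicit false
set_option linter.unusedSectionVars false
set_option linter.unusedVariables false

namespace Cfsg.Agent.Helper10.PC

open Equiv Equiv.Perm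

/-- the six target points `1, q, q+1, 0, 2q, 2q+1` -/
def i3a_tgt (q n : ℕ) : Fin 6 → ZMod n :=
  ![1, (q : ZMod n), (q : ZMod n) + 1, 0, ((2 * q : ℕ) : ZMod n), ((2 * q : ℕ) : ZMod n) + 1]

/-- the same points as natural numbers -/
def i3a_tgtN (q : ℕ) : Fin 6 → ℕ := ![1, q, q + 1, 0, 2 * q, 2 * q + 1]

theorem i3a_tgt_eq (q n : ℕ) (i : Fin 6) : i3a_tgt q n i = ((i3a_tgtN q i : ℕ) : ZMod n) := by
  fin_cases i <;> simp [i3a_tgt, i3a_tgtN]

theorem i3a_tgt_injective (q n : ℕ) (hq : 3 ≤ q) (hn : n = 3 * q) :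
    Function.Injective (i3a_tgt q n) := by
  intro i j h
  rw [i3a_tgt_eq, i3a_tgt_eq] at h
  have hi : i3a_tgtN q i < n := by
    fin_cases i <;> simp [i3a_tgtN] <;> omega
  have hj : i3a_tgtN q j < n := by
    fin_cases j <;> simp [i3a_tgtN] <;> omega
  have h2 : i3a_tgtN q i = i3a_tgtN q j := by
    have := (ZMod.natCast_eq_natCast_iff' _ _ n).mp h
    rwa [Nat.mod_eq_of_lt hi, Nat.mod_eq_of_lt hj] at this
  fin_cases i <;> fin_cases j <;> simp [i3a_tgtN] at h2 ⊢ <;> omega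

theorem i3a_conj_apply {Ω : Type*} (g w : Perm Ω) (x : Ω) : (g * w * g⁻¹) (g x) = g (w x) := by
  simp

theorem i3a_one_ne (q n : ℕ) (hq : 3 ≤ q) (hn : n = 3 * q) : (1 : ZMod n) ≠ (q : ZMod n) + 1 := by
  intro h
  have h0 := i3a_tgt_injective q n hq hn (a₁ := 0) (a₂ := 2) (by simpa [i3a_tgt] using h)
  exact absurd h0 (by decide)

/-- generic final step: from the six values of `w' ^ m` and the two values of `w'` -/
theorem i3a_finish (q n : ℕ) (hq : 3 ≤ q) (hn : n = 3 * q) [NeZero n]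
    (SIX : ∀ (w' : Perm (ZMod n)) (m : ℕ) (e : ZMod n), (e = 1 ∨ e = 2) → ∀ (b : Perm (Fin 6)),
      (b = patP1 ∨ b = patP2 ∨ b = patP3) →
      (∀ j : Fin 6, (w' ^ m) (d6 q n e j) = d6 q n e (b j)) →
      ¬ Group.IsSolvable ↥(Subgroup.closure ({rot n, w'} : Set (Perm (ZMod n)))))
    (w g : Perm (ZMod n)) (hg : Perm.sign g = 1) (m : ℕ) (b : Perm (Fin 6))
    (hb : b = patP1 ∨ b = patP2 ∨ b = patP3)
    (h1 : (g * w * g⁻¹) 1 = (q : ZMod n)) (h2 : (g * w * g⁻¹) ((q : ZMod n) + 1) = 0)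
    (h6 : ∀ j : Fin 6, ((g * w * g⁻¹) ^ m) (d6 q n 1 j) = d6 q n 1 (b j)) :
    Good 3 (rot n) w := by
  refine ⟨g, hg, ?_, ?_⟩
  · apply not_isPElt_of_two_cycle 3 (by decide) _ (1 : ZMod n) ((q : ZMod n) + 1)
      (i3a_one_ne q n hq hn)
    · rw [Perm.mul_apply, h1, rot_apply]
    · rw [Perm.mul_apply, h2, rot_apply, zero_add]
  · exact SIX _ m 1 (Or.inl rfl) b hb h6

theorem good_I3A_core (q n : ℕ) (hq : 3 ≤ q) (hn : n = 3 * q) [NeZero n]
    (EXT : ∀ (src tgt : Fin 6 → ZMod n), Function.Injective src → Function.Injective tgt →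
      Fintype.card (Fin 6) + 2 ≤ Fintype.card (ZMod n) →
      ∃ g : Perm (ZMod n), Perm.sign g = 1 ∧ ∀ i, g (src i) = tgt i)
    (SIX : ∀ (w' : Perm (ZMod n)) (m : ℕ) (e : ZMod n), (e = 1 ∨ e = 2) → ∀ (b : Perm (Fin 6)),
      (b = patP1 ∨ b = patP2 ∨ b = patP3) →
      (∀ j : Fin 6, (w' ^ m) (d6 q n e j) = d6 q n e (b j)) →
      ¬ Group.IsSolvable ↥(Subgroup.closure ({rot n, w'} : Set (Perm (ZMod n)))))
    (w : Perm (ZMod n)) (hw : IsPElt 3 w) (c : ZMod n)
    (hc : 3 ^ 2 ∣ Function.minimalPeriod w c) : Good 3 (rot n) w := by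
  set L := Function.minimalPeriod w c with hL
  have hLpos : 0 < L := minimalPeriod_pos w c
  obtain ⟨M', hM'⟩ := hc
  -- `L = 9 M'`, `M = 3 M'`
  set M := 3 * M' with hM
  have hLM : L = 3 * M := by rw [hM'] ; ring
  have hM3 : 3 ≤ M := by
    have : 0 < M' := by
      rcases Nat.eq_zero_or_pos M' with h | h
      · rw [h] at hM'; omega
      · exact h
    omega
  -- the points of the cycle
  let ck : ℕ → ZMod n := fun k => (w ^ k) c
  have hck_eq : ∀ j k : ℕ, ck j = ck k ↔ j ≡ k [MOD L] := fun j k => pow_apply_eq_iff w c j k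
  have hck_w : ∀ k, w (ck k) = ck (k + 1) := by
    intro k
    show w ((w ^ k) c) = (w ^ (k + 1)) c
    rw [pow_succ', Perm.mul_apply]
  have hck_pow : ∀ k j, (w ^ j) (ck k) = ck (k + j) := by
    intro k j
    show (w ^ j) ((w ^ k) c) = (w ^ (k + j)) c
    rw [add_comm, pow_add, Perm.mul_apply]
  let idx : Fin 6 → ℕ := ![0, 1, M, M + 1, 2 * M, 2 * M + 1]
  have hidx_lt : ∀ i, idx i < L := by
    intro i
    fin_cases i <;> simp [idx] <;> omega
  have hidx_inj : Function.Injective idx := by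
    intro i j h
    fin_cases i <;> fin_cases j <;> simp [idx] at h ⊢ <;> omega
  let src : Fin 6 → ZMod n := fun i => ck (idx i)
  have hsrc : Function.Injective src := by
    intro i j h
    have h1 : idx i ≡ idx j [MOD L] := (hck_eq _ _).mp h
    have h2 : idx i = idx j := by
      have := h1
      unfold Nat.ModEq at this
      rwa [Nat.mod_eq_of_lt (hidx_lt i), Nat.mod_eq_of_lt (hidx_lt j)] at this
    exact hidx_inj h2
  have hcard : Fintype.card (Fin 6) + 2 ≤ Fintype.card (ZMod n) := by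
    rw [ZMod.card, Fintype.card_fin]; omega
  obtain ⟨g, hg, hgs⟩ := EXT src (i3a_tgt q n) hsrc (i3a_tgt_injective q n hq hn) hcard
  -- values of `g` on the six points
  have g0 : g (ck 0) = 1 := by simpa [src, idx, i3a_tgt] using hgs 0
  have g1 : g (ck 1) = (q : ZMod n) := by simpa [src, idx, i3a_tgt] using hgs 1
  have g2 : g (ck M) = (q : ZMod n) + 1 := by simpa [src, idx, i3a_tgt] using hgs 2
  have g3 : g (ck (M + 1)) = 0 := by simpa [src, idx, i3a_tgt] using hgs 3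
  have g4 : g (ck (2 * M)) = ((2 * q : ℕ) : ZMod n) := by simpa [src, idx, i3a_tgt] using hgs 4
  have g5 : g (ck (2 * M + 1)) = ((2 * q : ℕ) : ZMod n) + 1 := by
    simpa [src, idx, i3a_tgt] using hgs 5
  have hwrap0 : ck (2 * M + M) = ck 0 := by
    rw [hck_eq]
    have : 2 * M + M = L := by omega
    rw [this]
    exact (Nat.modEq_zero_iff_dvd.mpr dvd_rfl)
  have hwrap1 : ck (2 * M + 1 + M) = ck 1 := by
    rw [hck_eq]
    have : 2 * M + 1 + M = 1 + L := by omega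
    rw [this]
    have h0 : L ≡ 0 [MOD L] := Nat.modEq_zero_iff_dvd.mpr dvd_rfl
    simpa using Nat.ModEq.add_left 1 h0
  have key : ∀ k, ((g * w * g⁻¹) ^ M) (g (ck k)) = g (ck (k + M)) := by
    intro k
    rw [conj_pow_apply, hck_pow]
  have step : ∀ (k k' : ℕ) (a b : ZMod n), g (ck k) = a → g (ck k') = b → ck (k + M) = ck k' →
      ((g * w * g⁻¹) ^ M) a = b := by
    intro k k' a b ha hb hk
    rw [← ha, key, hk, hb]
  have hstep1 : ∀ (k k' : ℕ) (a b : ZMod n), g (ck k) = a → g (ck k') = b → k + 1 = k' →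
      (g * w * g⁻¹) a = b := by
    intro k k' a b ha hb hk
    rw [← ha, i3a_conj_apply, hck_w, hk, hb]
  apply i3a_finish q n hq hn SIX w g hg M patP2 (Or.inr (Or.inl rfl))
  · exact hstep1 0 1 _ _ g0 g1 rfl
  · exact hstep1 M (M + 1) _ _ g2 g3 rfl
  · have c0 : ((g * w * g⁻¹) ^ M) (d6 q n 1 0) = d6 q n 1 (patP2 0) := by
      have hp : patP2 0 = 5 := by decide
      have hd : d6 q n 1 (patP2 0) = ((2 * q : ℕ) : ZMod n) + 1 := by rw [hp]; simp [d6]
      have hd0 : d6 q n 1 0 = 0 := by simp [d6]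
      rw [hd, hd0]
      exact step (M + 1) (2 * M + 1) _ _ g3 g5 (by congr 1; ring)
    have c1 : ((g * w * g⁻¹) ^ M) (d6 q n 1 1) = d6 q n 1 (patP2 1) := by
      have hp : patP2 1 = 0 := by decide
      have hd : d6 q n 1 (patP2 1) = 0 := by rw [hp]; simp [d6]
      have hd0 : d6 q n 1 1 = (q : ZMod n) := by simp [d6]
      rw [hd, hd0]
      exact step 1 (M + 1) _ _ g1 g3 (by congr 1; ring)
    have c2 : ((g * w * g⁻¹) ^ M) (d6 q n 1 2) = d6 q n 1 (patP2 2) := by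
      have hp : patP2 2 = 3 := by decide
      have hd : d6 q n 1 (patP2 2) = 1 := by rw [hp]; simp [d6]
      have hd0 : d6 q n 1 2 = ((2 * q : ℕ) : ZMod n) := by simp [d6]
      rw [hd, hd0]
      exact step (2 * M) 0 _ _ g4 g0 hwrap0
    have c3 : ((g * w * g⁻¹) ^ M) (d6 q n 1 3) = d6 q n 1 (patP2 3) := by
      have hp : patP2 3 = 4 := by decide
      have hd : d6 q n 1 (patP2 3) = (q : ZMod n) + 1 := by rw [hp]; simp [d6]
      have hd0 : d6 q n 1 3 = 1 := by simp [d6]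
      rw [hd, hd0]
      exact step 0 M _ _ g0 g2 (by congr 1; ring)
    have c4 : ((g * w * g⁻¹) ^ M) (d6 q n 1 4) = d6 q n 1 (patP2 4) := by
      have hp : patP2 4 = 2 := by decide
      have hd : d6 q n 1 (patP2 4) = ((2 * q : ℕ) : ZMod n) := by rw [hp]; simp [d6]
      have hd0 : d6 q n 1 4 = (q : ZMod n) + 1 := by simp [d6]
      rw [hd, hd0]
      exact step M (2 * M) _ _ g2 g4 (by congr 1; ring)
    have c5 : ((g * w * g⁻¹) ^ M) (d6 q n 1 5) = d6 q n 1 (patP2 5) := by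
      have hp : patP2 5 = 1 := by decide
      have hd : d6 q n 1 (patP2 5) = (q : ZMod n) := by rw [hp]; simp [d6]
      have hd0 : d6 q n 1 5 = ((2 * q : ℕ) : ZMod n) + 1 := by simp [d6]
      rw [hd, hd0]
      exact step (2 * M + 1) 1 _ _ g5 g1 hwrap1
    intro j
    fin_cases j
    exacts [c0, c1, c2, c3, c4, c5]

/-- PIECE I3A -/
theorem good_I3A (q n : ℕ) (hq : 3 ≤ q) (hn : n = 3 * q) [NeZero n]
    (w : Perm (ZMod n)) (hw : IsPElt 3 w) (c : ZMod n)
    (hc : 3 ^ 2 ∣ Function.minimalPeriod w c) : Good 3 (rot n) w :=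
  good_I3A_core q n hq hn
    (fun src tgt hsrc htgt hfree => exists_even_extend src tgt hsrc htgt hfree)
    (fun w' m e he b hb h => not_solvable_of_six q n hn hq w' m e he b hb h)
    w hw c hc

end Cfsg.Agent.Helper10.PC
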