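import Mathlib
import Cfsg.Agent.Lib.Helper10.PCDefs
import Cfsg.Agent.Lib.Helper10.PCBasic
import Cfsg.Agent.Lib.Helper19.PCCERTP
import Cfsg.Agent.Lib.Helper27.PCI3A

/-!
# S2276 piece I3B (helper27): `p = 3`, `u = rot n`, `n = 3 q`, `w` with two different `3`-cycles.
-/

set_option autoImplicit false
set_option linter.unusedSectionVars false
set_option linter.unusedVariables false

namespace Cfsg.Agent.Helper10.PC

open Equiv Equiv.Perm

/-- the six target points `1, q, 2q, q+1, 0, 2q+1` -/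
def i3b_tgt (q n : ℕ) : Fin 6 → ZMod n :=
  ![1, (q : ZMod n), ((2 * q : ℕ) : ZMod n), (q : ZMod n) + 1, 0, ((2 * q : ℕ) : ZMod n) + 1]

/-- reindexing from `i3b_tgt` to `i3a_tgt` -/
def i3b_pi : Fin 6 → Fin 6 := ![0, 1, 4, 2, 3, 5]

theorem i3b_tgt_eq (q n : ℕ) (i : Fin 6) : i3b_tgt q n i = i3a_tgt q n (i3b_pi i) := by
  fin_cases i <;> simp [i3b_tgt, i3a_tgt, i3b_pi]

theorem i3b_tgt_injective (q n : ℕ) (hq : 3 ≤ q) (hn : n = 3 * q) :
    Function.Injective (i3b_tgt q n) := by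
  intro i j h
  rw [i3b_tgt_eq, i3b_tgt_eq] at h
  have h2 := i3a_tgt_injective q n hq hn h
  have hpi : Function.Injective i3b_pi := by decide
  exact hpi h2

theorem good_I3B_core (q n : ℕ) (hq : 3 ≤ q) (hn : n = 3 * q) [NeZero n]
    (EXT : ∀ (src tgt : Fin 6 → ZMod n), Function.Injective src → Function.Injective tgt →
      Fintype.card (Fin 6) + 2 ≤ Fintype.card (ZMod n) →
      ∃ g : Perm (ZMod n), Perm.sign g = 1 ∧ ∀ i, g (src i) = tgt i)
    (SIX : ∀ (w' : Perm (ZMod n)) (m : ℕ) (e : ZMod n), (e = 1 ∨ e = 2) → ∀ (b : Perm (Fin 6)),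
      (b = patP1 ∨ b = patP2 ∨ b = patP3) →
      (∀ j : Fin 6, (w' ^ m) (d6 q n e j) = d6 q n e (b j)) →
      ¬ Group.IsSolvable ↥(Subgroup.closure ({rot n, w'} : Set (Perm (ZMod n)))))
    (w : Perm (ZMod n)) (hw : IsPElt 3 w) (c c' : ZMod n)
    (hc : Function.minimalPeriod w c = 3) (hc' : Function.minimalPeriod w c' = 3)
    (hcc' : c' ∉ orb w c) : Good 3 (rot n) w := by
  let ck : ℕ → ZMod n := fun k => (w ^ k) c
  let dk : ℕ → ZMod n := fun k => (w ^ k) c'
  have hck_eq : ∀ j k : ℕ, ck j = ck k ↔ j ≡ k [MOD 3] := by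
    intro j k
    have := pow_apply_eq_iff w c j k
    rwa [hc] at this
  have hdk_eq : ∀ j k : ℕ, dk j = dk k ↔ j ≡ k [MOD 3] := by
    intro j k
    have := pow_apply_eq_iff w c' j k
    rwa [hc'] at this
  have hck_w : ∀ k, w (ck k) = ck (k + 1) := by
    intro k
    show w ((w ^ k) c) = (w ^ (k + 1)) c
    rw [pow_succ', Perm.mul_apply]
  have hdk_w : ∀ k, w (dk k) = dk (k + 1) := by
    intro k
    show w ((w ^ k) c') = (w ^ (k + 1)) c'
    rw [pow_succ', Perm.mul_apply]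
  have hne : ∀ j k : ℕ, ck j ≠ dk k := by
    intro j k h
    apply hcc'
    refine ⟨2 * k + j, ?_⟩
    -- `w^(2k+j) c = w^(2k) (w^k c') = w^(3k) c' = c'`
    have h1 : (w ^ (2 * k + j)) c = (w ^ (2 * k)) ((w ^ j) c) := by
      rw [pow_add, Perm.mul_apply]
    rw [h1]
    change (w ^ (2 * k)) (ck j) = c'
    rw [h]
    change (w ^ (2 * k)) ((w ^ k) c') = c'
    rw [← Perm.mul_apply, ← pow_add]
    have h3 : dk (2 * k + k) = dk 0 := by
      rw [hdk_eq]
      have : 2 * k + k = 3 * k := by ring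
      rw [this]
      exact (Nat.modEq_zero_iff_dvd.mpr (dvd_mul_right 3 k))
    simpa [dk] using h3
  let src : Fin 6 → ZMod n := ![ck 0, ck 1, ck 2, dk 0, dk 1, dk 2]
  have hsrc : Function.Injective src := by
    have m01 : ¬ (0 ≡ 1 [MOD 3]) := by decide
    have m02 : ¬ (0 ≡ 2 [MOD 3]) := by decide
    have m12 : ¬ (1 ≡ 2 [MOD 3]) := by decide
    have m10 : ¬ (1 ≡ 0 [MOD 3]) := by decide
    have m20 : ¬ (2 ≡ 0 [MOD 3]) := by decide
    have m21 : ¬ (2 ≡ 1 [MOD 3]) := by decide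
    intro i j h
    fin_cases i <;> fin_cases j <;> simp [src] at h ⊢ <;>
      first
        | exact absurd ((hck_eq _ _).mp h) (by decide)
        | exact absurd ((hdk_eq _ _).mp h) (by decide)
        | exact absurd h (hne _ _)
        | exact absurd h.symm (hne _ _)
  have hcard : Fintype.card (Fin 6) + 2 ≤ Fintype.card (ZMod n) := by
    rw [ZMod.card, Fintype.card_fin]; omega
  obtain ⟨g, hg, hgs⟩ := EXT src (i3b_tgt q n) hsrc (i3b_tgt_injective q n hq hn) hcard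
  have g0 : g (ck 0) = 1 := by simpa [src, i3b_tgt] using hgs 0
  have g1 : g (ck 1) = (q : ZMod n) := by simpa [src, i3b_tgt] using hgs 1
  have g2 : g (ck 2) = ((2 * q : ℕ) : ZMod n) := by simpa [src, i3b_tgt] using hgs 2
  have g3 : g (dk 0) = (q : ZMod n) + 1 := by simpa [src, i3b_tgt] using hgs 3
  have g4 : g (dk 1) = 0 := by simpa [src, i3b_tgt] using hgs 4
  have g5 : g (dk 2) = ((2 * q : ℕ) : ZMod n) + 1 := by simpa [src, i3b_tgt] using hgs 5
  have hwrapc : ck (2 + 1) = ck 0 := by rw [hck_eq]; decide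
  have hwrapd : dk (2 + 1) = dk 0 := by rw [hdk_eq]; decide
  have stepc : ∀ (k k' : ℕ) (a b : ZMod n), g (ck k) = a → g (ck k') = b → ck (k + 1) = ck k' →
      ((g * w * g⁻¹) ^ 1) a = b := by
    intro k k' a b ha hb hk
    rw [pow_one, ← ha, i3a_conj_apply, hck_w, hk, hb]
  have stepd : ∀ (k k' : ℕ) (a b : ZMod n), g (dk k) = a → g (dk k') = b → dk (k + 1) = dk k' →
      ((g * w * g⁻¹) ^ 1) a = b := by
    intro k k' a b ha hb hk
    rw [pow_one, ← ha, i3a_conj_apply, hdk_w, hk, hb]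
  apply i3a_finish q n hq hn SIX w g hg 1 patP1 (Or.inl rfl)
  · have := stepc 0 1 _ _ g0 g1 rfl
    rwa [pow_one] at this
  · have := stepd 0 1 _ _ g3 g4 rfl
    rwa [pow_one] at this
  · have c0 : ((g * w * g⁻¹) ^ 1) (d6 q n 1 0) = d6 q n 1 (patP1 0) := by
      have hp : patP1 0 = 5 := by decide
      have hd : d6 q n 1 (patP1 0) = ((2 * q : ℕ) : ZMod n) + 1 := by rw [hp]; simp [d6]
      have hd0 : d6 q n 1 0 = 0 := by simp [d6]
      rw [hd, hd0]
      exact stepd 1 2 _ _ g4 g5 rfl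
    have c1 : ((g * w * g⁻¹) ^ 1) (d6 q n 1 1) = d6 q n 1 (patP1 1) := by
      have hp : patP1 1 = 2 := by decide
      have hd : d6 q n 1 (patP1 1) = ((2 * q : ℕ) : ZMod n) := by rw [hp]; simp [d6]
      have hd0 : d6 q n 1 1 = (q : ZMod n) := by simp [d6]
      rw [hd, hd0]
      exact stepc 1 2 _ _ g1 g2 rfl
    have c2 : ((g * w * g⁻¹) ^ 1) (d6 q n 1 2) = d6 q n 1 (patP1 2) := by
      have hp : patP1 2 = 3 := by decide
      have hd : d6 q n 1 (patP1 2) = 1 := by rw [hp]; simp [d6]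
      have hd0 : d6 q n 1 2 = ((2 * q : ℕ) : ZMod n) := by simp [d6]
      rw [hd, hd0]
      exact stepc 2 0 _ _ g2 g0 hwrapc
    have c3 : ((g * w * g⁻¹) ^ 1) (d6 q n 1 3) = d6 q n 1 (patP1 3) := by
      have hp : patP1 3 = 1 := by decide
      have hd : d6 q n 1 (patP1 3) = (q : ZMod n) := by rw [hp]; simp [d6]
      have hd0 : d6 q n 1 3 = 1 := by simp [d6]
      rw [hd, hd0]
      exact stepc 0 1 _ _ g0 g1 rfl
    have c4 : ((g * w * g⁻¹) ^ 1) (d6 q n 1 4) = d6 q n 1 (patP1 4) := by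
      have hp : patP1 4 = 0 := by decide
      have hd : d6 q n 1 (patP1 4) = 0 := by rw [hp]; simp [d6]
      have hd0 : d6 q n 1 4 = (q : ZMod n) + 1 := by simp [d6]
      rw [hd, hd0]
      exact stepd 0 1 _ _ g3 g4 rfl
    have c5 : ((g * w * g⁻¹) ^ 1) (d6 q n 1 5) = d6 q n 1 (patP1 5) := by
      have hp : patP1 5 = 4 := by decide
      have hd : d6 q n 1 (patP1 5) = (q : ZMod n) + 1 := by rw [hp]; simp [d6]
      have hd0 : d6 q n 1 5 = ((2 * q : ℕ) : ZMod n) + 1 := by simp [d6]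
      rw [hd, hd0]
      exact stepd 2 0 _ _ g5 g3 hwrapd
    intro j
    fin_cases j
    exacts [c0, c1, c2, c3, c4, c5]

/-- PIECE I3B -/
theorem good_I3B (q n : ℕ) (hq : 3 ≤ q) (hn : n = 3 * q) [NeZero n]
    (w : Perm (ZMod n)) (hw : IsPElt 3 w) (c c' : ZMod n)
    (hc : Function.minimalPeriod w c = 3) (hc' : Function.minimalPeriod w c' = 3)
    (hcc' : c' ∉ orb w c) : Good 3 (rot n) w :=
  good_I3B_core q n hq hn
    (fun src tgt hsrc htgt hfree => exists_even_extend src tgt hsrc htgt hfree)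
    (fun w' m e he b hb h => not_solvable_of_six q n hn hq w' m e he b hb h)
    w hw c c' hc hc' hcc'

end Cfsg.Agent.Helper10.PC
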