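import Mathlib
import Cfsg.Agent.Lib.Helper10.PUDefs

/-! PU-NUMDVD (S2263, design helper10): `succ_dvd_Efun`. -/

set_option autoImplicit false

namespace Cfsg.Agent.Helper10.PU

open Polynomial Matrix

/-- PIECE PU-NUMDVD. -/
theorem succ_dvd_Efun (q n : ℕ) (hn : 1 ≤ n) : (q + 1) ∣ Efun q n := by
  unfold Efun
  split_ifs with h
  · obtain ⟨k, rfl⟩ := h
    have h1 : q ^ 2 - 1 ∣ (q ^ 2) ^ k - 1 ^ k := Nat.sub_dvd_pow_sub_pow (q ^ 2) 1 k
    have h2 : q + 1 ∣ q ^ 2 - 1 := by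
      have : q ^ 2 - 1 = (q + 1) * (q - 1) := by
        have := Nat.sq_sub_sq q 1
        simpa using this
      rw [this]
      exact Dvd.intro _ rfl
    rw [one_pow, ← pow_mul, two_mul] at h1
    exact h2.trans h1
  · have hodd : Odd n := Nat.not_even_iff_odd.mp h
    have := Odd.nat_add_dvd_pow_add_pow q 1 hodd
    rwa [one_pow] at this

end Cfsg.Agent.Helper10.PU
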