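import Mathlib
import Cfsg.Prelude.Def_Sporadic_a

set_option autoImplicit false
open Cfsg
open scoped Pointwise

namespace Cfsg.Agent.Helper27

/-- Permuting the coordinates of a binary word. -/
def permWord (σ : Equiv.Perm GolayPt) (w : GolayPt → ZMod 2) : GolayPt → ZMod 2 :=
  fun p => w (σ.symm p)

/-- Coordinate permutation as a linear map. -/
def permWordLin (σ : Equiv.Perm GolayPt) : (GolayPt → ZMod 2) →ₗ[ZMod 2] (GolayPt → ZMod 2) where
  toFun := permWord σ
  map_add' _ _ := rfl
  map_smul' _ _ := rfl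

theorem permWordLin_apply (σ : Equiv.Perm GolayPt) (w : GolayPt → ZMod 2) :
    permWordLin σ w = permWord σ w := rfl

theorem permWord_one (w : GolayPt → ZMod 2) : permWord 1 w = w := rfl

theorem permWord_mul (σ τ : Equiv.Perm GolayPt) (w : GolayPt → ZMod 2) :
    permWord (σ * τ) w = permWord σ (permWord τ w) := rfl

theorem permWord_inv_permWord (σ : Equiv.Perm GolayPt) (w : GolayPt → ZMod 2) :
    permWord σ⁻¹ (permWord σ w) = w := by
  funext p
  show w (σ.symm ((σ⁻¹).symm p)) = w p
  have : (σ⁻¹).symm p = σ p := rfl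
  rw [this, Equiv.symm_apply_apply]

theorem permWord_permWord_inv (σ : Equiv.Perm GolayPt) (w : GolayPt → ZMod 2) :
    permWord σ (permWord σ⁻¹ w) = w := by
  funext p
  show w ((σ⁻¹).symm (σ.symm p)) = w p
  have : (σ⁻¹).symm (σ.symm p) = σ (σ.symm p) := rfl
  rw [this, Equiv.apply_symm_apply]

theorem support₂_permWord (σ : Equiv.Perm GolayPt) (w : GolayPt → ZMod 2) :
    support₂ (permWord σ w) = σ • support₂ w := by
  ext p
  rw [Finset.smul_finset_def, Finset.mem_image]
  unfold support₂ permWord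
  rw [Finset.mem_filter]
  constructor
  · rintro ⟨-, h⟩
    refine ⟨σ.symm p, ?_, ?_⟩
    · rw [Finset.mem_filter]; exact ⟨Finset.mem_univ _, h⟩
    · show σ (σ.symm p) = p
      exact Equiv.apply_symm_apply σ p
  · rintro ⟨q, hq, rfl⟩
    rw [Finset.mem_filter] at hq
    refine ⟨Finset.mem_univ _, ?_⟩
    show w (σ.symm (σ q)) ≠ 0
    rw [Equiv.symm_apply_apply]; exact hq.2

/-- A permutation that, together with its inverse, maps the code into itself lies in `M24`. -/
theorem mem_M24_of_preserves (σ : Equiv.Perm GolayPt)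
    (h : ∀ w ∈ golayCode, permWord σ w ∈ golayCode)
    (h' : ∀ w ∈ golayCode, permWord σ⁻¹ w ∈ golayCode) : σ ∈ M24 := by
  show σ ∈ MulAction.stabilizer (Equiv.Perm GolayPt) (supports (golayCode : Set (GolayPt → ZMod 2)))
  rw [MulAction.mem_stabilizer_iff]
  ext s
  constructor
  · rintro ⟨_, ⟨w, hw, rfl⟩, rfl⟩
    refine ⟨permWord σ w, h w hw, ?_⟩
    exact support₂_permWord σ w
  · rintro ⟨w, hw, rfl⟩
    refine ⟨support₂ (permWord σ⁻¹ w), ⟨permWord σ⁻¹ w, h' w hw, rfl⟩, ?_⟩
    show σ • support₂ (permWord σ⁻¹ w) = support₂ w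
    rw [← support₂_permWord, permWord_permWord_inv]

/-- To check that a coordinate permutation preserves the code it is enough to check generators. -/
theorem permWord_mem_of_gens (σ : Equiv.Perm GolayPt)
    (hq : ∀ t : ZMod 23, permWord σ (qrWord t) ∈ golayCode)
    (h1 : permWord σ (1 : GolayPt → ZMod 2) ∈ golayCode) :
    ∀ w ∈ golayCode, permWord σ w ∈ golayCode := by
  intro w hw
  have : golayCode ≤ golayCode.comap (permWordLin σ) := by
    unfold golayCode
    rw [Submodule.span_le]
    rintro x (⟨t, rfl⟩ | hx)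
    · exact hq t
    · rw [Set.mem_singleton_iff] at hx
      subst hx
      exact h1
  exact this hw

theorem qrWord_mem (t : ZMod 23) : qrWord t ∈ golayCode :=
  Submodule.subset_span (Or.inl ⟨t, rfl⟩)

theorem one_mem_golayCode : (1 : GolayPt → ZMod 2) ∈ golayCode :=
  Submodule.subset_span (Or.inr rfl)

theorem permWord_one_word (σ : Equiv.Perm GolayPt) :
    permWord σ (1 : GolayPt → ZMod 2) = 1 := rfl

/-- A permutation which, together with its inverse, permutes the generators `qrWord t`
lies in `M24`. -/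
theorem mem_M24_of_gens (σ : Equiv.Perm GolayPt)
    (hq : ∀ t : ZMod 23, permWord σ (qrWord t) ∈ golayCode)
    (hq' : ∀ t : ZMod 23, permWord σ⁻¹ (qrWord t) ∈ golayCode) : σ ∈ M24 :=
  mem_M24_of_preserves σ
    (permWord_mem_of_gens σ hq (by rw [permWord_one_word]; exact one_mem_golayCode))
    (permWord_mem_of_gens σ⁻¹ hq' (by rw [permWord_one_word]; exact one_mem_golayCode))

/-- Elements of `M24` preserve the code (as a set of words). -/
theorem permWord_mem_of_mem_M24 {σ : Equiv.Perm GolayPt} (hσ : σ ∈ M24)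
    {w : GolayPt → ZMod 2} (hw : w ∈ golayCode) : permWord σ w ∈ golayCode := by
  have hσ' : σ • supports (golayCode : Set (GolayPt → ZMod 2)) = supports (golayCode : Set (GolayPt → ZMod 2)) :=
    MulAction.mem_stabilizer_iff.mp hσ
  have h1 : σ • support₂ w ∈ σ • supports (golayCode : Set (GolayPt → ZMod 2)) :=
    Set.smul_mem_smul_set ⟨w, hw, rfl⟩
  rw [hσ'] at h1
  obtain ⟨v, hv, hvs⟩ := h1
  rw [← support₂_permWord] at hvs
  -- words over ZMod 2 are determined by their supports
  have : v = permWord σ w := by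
    funext p
    have hp : p ∈ support₂ v ↔ p ∈ support₂ (permWord σ w) := by rw [hvs]
    simp only [support₂, Finset.mem_filter, Finset.mem_univ, true_and] at hp
    have key : ∀ a b : ZMod 2, (a ≠ 0 ↔ b ≠ 0) → a = b := by decide
    exact key _ _ hp
  rw [← this]; exact hv

end Cfsg.Agent.Helper27
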