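import Mathlib
import Cfsg.Agent.S0358

set_option autoImplicit false
open Cfsg

/-! Bit-mask model of the length-24 code: its 4096 words and their weights. -/

namespace Cfsg.Agent.Helper27

open Cfsg.Agent.S0358 (idx)

/-- The `i`-th bit of `n`, as a natural number. -/
def bit' (n i : ℕ) : ℕ := (n >>> i) &&& 1

theorem bit'_eq (n i : ℕ) : bit' n i = if n.testBit i then 1 else 0 := by
  unfold bit'
  rw [Nat.testBit_eq_decide_div_mod_eq, Nat.and_one_is_mod, Nat.shiftRight_eq_div_pow]
  rcases Nat.mod_two_eq_zero_or_one (n / 2 ^ i) with h | h <;> rw [h] <;> simp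

theorem bit'_le_one (n i : ℕ) : bit' n i = 0 ∨ bit' n i = 1 := by
  rw [bit'_eq]; split_ifs <;> simp

/-- The binary word with a given bit mask (bit `j < 23` is the residue `j`, bit 23 the extra
point). -/
def ofMask (n : ℕ) : GolayPt → ZMod 2 := fun p => if n.testBit (idx p) then 1 else 0

theorem ofMask_zero : ofMask 0 = 0 := by
  funext p; simp [ofMask]

theorem ofMask_xor (a b : ℕ) : ofMask (a ^^^ b) = ofMask a + ofMask b := by
  funext p
  simp only [ofMask, Nat.testBit_xor, Pi.add_apply]
  cases a.testBit (idx p) <;> cases b.testBit (idx p) <;> decide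

/-- The code word with index `n < 4096`, as a bit mask. -/
def cw (n : ℕ) : ℕ :=
  bit' n 0 * 340831 ^^^ bit' n 1 * 681662 ^^^ bit' n 2 * 1363324 ^^^ bit' n 3 * 2726648 ^^^
  bit' n 4 * 5453296 ^^^ bit' n 5 * 2517985 ^^^ bit' n 6 * 5035970 ^^^ bit' n 7 * 1683333 ^^^
  bit' n 8 * 3366666 ^^^ bit' n 9 * 6733332 ^^^ bit' n 10 * 5078057 ^^^ bit' n 11 * 16777215

theorem bit'_xor (n m i : ℕ) (M : ℕ) :
    bit' (n ^^^ m) i * M = (bit' n i * M) ^^^ (bit' m i * M) := by
  rw [bit'_eq, bit'_eq, bit'_eq, Nat.testBit_xor]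
  cases n.testBit i <;> cases m.testBit i <;> simp

theorem cw_xor (n m : ℕ) : cw (n ^^^ m) = cw n ^^^ cw m := by
  unfold cw
  simp only [bit'_xor]
  ac_rfl

theorem cw_zero : cw 0 = 0 := by decide

/-- Number of one bits among the lowest 24. -/
def pop24 (m : ℕ) : ℕ :=
  bit' m 0 + bit' m 1 + bit' m 2 + bit' m 3 + bit' m 4 + bit' m 5 + bit' m 6 + bit' m 7 +
  bit' m 8 + bit' m 9 + bit' m 10 + bit' m 11 + bit' m 12 + bit' m 13 + bit' m 14 + bit' m 15 +
  bit' m 16 + bit' m 17 + bit' m 18 + bit' m 19 + bit' m 20 + bit' m 21 + bit' m 22 + bit' m 23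

/-- The coordinate positions, numbered. -/
def idxEquiv : GolayPt ≃ Fin 24 where
  toFun p := ⟨idx p, by cases p with
    | none => decide
    | some x => exact lt_trans x.val_lt (by decide)⟩
  invFun j := if h : j.val < 23 then some (⟨j.val, h⟩ : Fin 23) else none
  left_inv := by decide
  right_inv := by decide

theorem idxEquiv_val (p : GolayPt) : (idxEquiv p).val = idx p := rfl

theorem sum_fin24 (f : ℕ → ℕ) : ∑ j : Fin 24, f j.val = ∑ j ∈ Finset.range 24, f j :=
  Fin.sum_univ_eq_sum_range f 24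

theorem card_support₂_ofMask (m : ℕ) : (support₂ (ofMask m)).card = pop24 m := by
  unfold support₂
  rw [Finset.card_filter]
  have h1 : ∀ p : GolayPt, (if ofMask m p ≠ 0 then 1 else 0) = bit' m (idxEquiv p).val := by
    intro p
    rw [idxEquiv_val, bit'_eq]
    unfold ofMask
    cases m.testBit (idx p) <;> simp
  rw [Finset.sum_congr rfl (fun p _ => h1 p),
    Equiv.sum_comp idxEquiv (fun j : Fin 24 => bit' m j.val), sum_fin24 (bit' m)]
  simp only [Finset.sum_range_succ, Finset.range_zero, Finset.sum_empty, pop24, zero_add]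

def wtOK (k : ℕ) : Bool := k == 0 || k == 8 || k == 12 || k == 16 || k == 24

def allOK : ℕ → Bool
  | 0 => true
  | n + 1 => wtOK (pop24 (cw n)) && allOK n

set_option maxRecDepth 1000000 in
theorem allOK_4096 : allOK 4096 = true := by decide +kernel

theorem wtOK_of_allOK : ∀ N : ℕ, allOK N = true → ∀ n < N, wtOK (pop24 (cw n)) = true := by
  intro N
  induction N with
  | zero => intro _ n hn; exact absurd hn (Nat.not_lt_zero n)
  | succ N ih =>
    intro h n hn
    rw [allOK, Bool.and_eq_true] at h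
    rcases Nat.lt_succ_iff_lt_or_eq.mp hn with h1 | rfl
    · exact ih h.2 n h1
    · exact h.1

theorem wtOK_iff (k : ℕ) : wtOK k = true ↔ k = 0 ∨ k = 8 ∨ k = 12 ∨ k = 16 ∨ k = 24 := by
  simp [wtOK, or_assoc]

/-- The 23 generating words and the all-ones word in the bit-mask model. -/
theorem qrWord_eq_ofMask : ∀ t : ZMod 23, qrWord t = ofMask (cw (Cfsg.Agent.S0358.coefMask t)) := by
  decide

theorem one_eq_ofMask : (1 : GolayPt → ZMod 2) = ofMask (cw 2048) := by decide

theorem coefMask_lt : ∀ t : ZMod 23, Cfsg.Agent.S0358.coefMask t < 4096 := by decide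

/-- Every word of the code is one of the 4096 words `ofMask (cw n)`. -/
theorem exists_cw_of_mem {w : GolayPt → ZMod 2} (hw : w ∈ golayCode) :
    ∃ n < 4096, w = ofMask (cw n) := by
  unfold golayCode at hw
  induction hw using Submodule.span_induction with
  | mem x hx =>
    rcases hx with ⟨t, rfl⟩ | hx
    · exact ⟨_, coefMask_lt t, qrWord_eq_ofMask t⟩
    · rw [Set.mem_singleton_iff] at hx
      subst hx
      exact ⟨2048, by norm_num, one_eq_ofMask⟩
  | zero => exact ⟨0, by norm_num, by rw [cw_zero, ofMask_zero]⟩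
  | add x y _ _ hx hy =>
    obtain ⟨n, hn, rfl⟩ := hx
    obtain ⟨m, hm, rfl⟩ := hy
    refine ⟨n ^^^ m, Nat.xor_lt_two_pow (n := 12) hn hm, ?_⟩
    rw [cw_xor, ofMask_xor]
  | smul a x _ hx =>
    obtain ⟨n, hn, rfl⟩ := hx
    have ha : a = 0 ∨ a = 1 := by
      revert a; decide
    rcases ha with rfl | rfl
    · exact ⟨0, by norm_num, by rw [cw_zero, ofMask_zero, zero_smul]⟩
    · exact ⟨n, hn, by rw [one_smul]⟩

/-- The words of the code have weight 0, 8, 12, 16 or 24. -/
theorem golay_weight {w : GolayPt → ZMod 2} (hw : w ∈ golayCode) :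
    (support₂ w).card = 0 ∨ (support₂ w).card = 8 ∨ (support₂ w).card = 12 ∨
      (support₂ w).card = 16 ∨ (support₂ w).card = 24 := by
  obtain ⟨n, hn, rfl⟩ := exists_cw_of_mem hw
  rw [card_support₂_ofMask, ← wtOK_iff]
  exact wtOK_of_allOK 4096 allOK_4096 n hn

theorem support₂_eq_empty_iff {α : Type*} [Fintype α] (w : α → ZMod 2) :
    support₂ w = ∅ ↔ w = 0 := by
  unfold support₂
  rw [Finset.filter_eq_empty_iff]
  constructor
  · intro h; funext a
    by_contra hne
    exact h (Finset.mem_univ a) hne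
  · rintro rfl a _ h
    exact h rfl

/-- The minimum weight of the code is 8. -/
theorem golay_min_weight {w : GolayPt → ZMod 2} (hw : w ∈ golayCode) (h0 : w ≠ 0) :
    8 ≤ (support₂ w).card := by
  have hne : (support₂ w).card ≠ 0 := by
    rw [Ne, Finset.card_eq_zero, support₂_eq_empty_iff]
    exact h0
  rcases golay_weight hw with h | h | h | h | h <;> omega

/-- All weights of the code are divisible by 4. -/
theorem golay_weight_dvd {w : GolayPt → ZMod 2} (hw : w ∈ golayCode) :
    4 ∣ (support₂ w).card := by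
  rcases golay_weight hw with h | h | h | h | h <;> rw [h] <;> decide

end Cfsg.Agent.Helper27
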