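import Mathlib
import Cfsg.Agent.S0363
import Cfsg.Agent.Lib.Helper27.GolayBasic

set_option autoImplicit false
open Cfsg
open scoped Pointwise

/-! Rigidity of the group of the length-24 code: an element fixing enough points of octads
fixes these octads, and intersections of fixed octads give new fixed points. -/

namespace Cfsg.Agent.Helper27

open Cfsg.Agent.S0358 (idx)

/-- The set of points of a bit mask. -/
def maskSet (m : ℕ) : Finset GolayPt := Finset.univ.filter (fun p => m.testBit (idx p) = true)

theorem mem_maskSet (m : ℕ) (p : GolayPt) : p ∈ maskSet m ↔ m.testBit (idx p) = true := by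
  unfold maskSet
  rw [Finset.mem_filter]
  simp

theorem maskSet_eq_support₂ (m : ℕ) : maskSet m = support₂ (ofMask m) := by
  ext p
  rw [mem_maskSet]
  unfold support₂ ofMask
  rw [Finset.mem_filter]
  cases m.testBit (idx p) <;> simp

theorem card_maskSet (m : ℕ) : (maskSet m).card = pop24 m := by
  rw [maskSet_eq_support₂, card_support₂_ofMask]

theorem maskSet_and (a b : ℕ) : maskSet (a &&& b) = maskSet a ∩ maskSet b := by
  ext p
  rw [Finset.mem_inter, mem_maskSet, mem_maskSet, mem_maskSet, Nat.testBit_and, Bool.and_eq_true]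

theorem idx_lt (p : GolayPt) : idx p < 24 := (idxEquiv p).2

theorem idx_injective : Function.Injective idx := by
  intro p q h
  apply idxEquiv.injective
  exact Fin.ext h

theorem maskSet_cw_mem_octads (n : ℕ) (h : pop24 (cw n) = 8) : maskSet (cw n) ∈ octads := by
  rw [Cfsg.Agent.S0363.mem_octads_iff]
  refine ⟨ofMask (cw n), Cfsg.Agent.Helper29.cw_mem n, (maskSet_eq_support₂ _).symm, ?_⟩
  rw [card_maskSet, h]

/-- Elements of the group of the code map octads to octads. -/
theorem smul_mem_octads {g : Equiv.Perm GolayPt} (hg : g ∈ M24) {o : Finset GolayPt}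
    (ho : o ∈ octads) : g • o ∈ octads := by
  have hσ : g • supports (golayCode : Set (GolayPt → ZMod 2))
      = supports (golayCode : Set (GolayPt → ZMod 2)) := MulAction.mem_stabilizer_iff.mp hg
  refine ⟨?_, ?_⟩
  · rw [← hσ]
    exact Set.smul_mem_smul_set ho.1
  · rw [Finset.card_smul_finset]
    exact ho.2

/-- An element of the group of the code fixing five points of an octad fixes the octad. -/
theorem smul_octad_eq_self {g : Equiv.Perm GolayPt} (hg : g ∈ M24) {o : Finset GolayPt}
    (ho : o ∈ octads) (K : Finset GolayPt) (hK : ∀ p ∈ K, g p = p)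
    (h5 : 5 ≤ (o ∩ K).card) : g • o = o := by
  obtain ⟨s, hs, hs5⟩ := Finset.exists_subset_card_eq h5
  refine Cfsg.Agent.S0363.octad_unique (smul_mem_octads hg ho) ho hs5 ?_
    (hs.trans Finset.inter_subset_left)
  intro p hp
  have hpK : p ∈ K := (Finset.mem_inter.mp (hs hp)).2
  have hpo : p ∈ o := (Finset.mem_inter.mp (hs hp)).1
  have : g • p ∈ g • o := Finset.smul_mem_smul_finset hpo
  rwa [show g • p = g p from rfl, hK p hpK] at this

/-- Two fixed octads meeting outside the known fixed points in a single point: that point is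
fixed. -/
theorem fixed_of_rule {g : Equiv.Perm GolayPt} (hg : g ∈ M24) (K : Finset GolayPt)
    (hK : ∀ p ∈ K, g p = p) {o₁ o₂ : Finset GolayPt} (ho₁ : o₁ ∈ octads) (ho₂ : o₂ ∈ octads)
    (h₁ : 5 ≤ (o₁ ∩ K).card) (h₂ : 5 ≤ (o₂ ∩ K).card) (x : GolayPt)
    (hx : (o₁ ∩ o₂) \ K = {x}) : g x = x := by
  have e₁ := smul_octad_eq_self hg ho₁ K hK h₁
  have e₂ := smul_octad_eq_self hg ho₂ K hK h₂
  have hxm : x ∈ (o₁ ∩ o₂) \ K := by rw [hx]; exact Finset.mem_singleton_self x
  rw [Finset.mem_sdiff, Finset.mem_inter] at hxm
  have hg₁ : g x ∈ o₁ := by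
    have : g • x ∈ g • o₁ := Finset.smul_mem_smul_finset hxm.1.1
    rwa [e₁] at this
  have hg₂ : g x ∈ o₂ := by
    have : g • x ∈ g • o₂ := Finset.smul_mem_smul_finset hxm.1.2
    rwa [e₂] at this
  have hgK : g x ∉ K := by
    intro h
    have := hK (g x) h
    exact hxm.2 (by rw [← g.injective this]; exact h)
  have : g x ∈ (o₁ ∩ o₂) \ K := by
    rw [Finset.mem_sdiff, Finset.mem_inter]
    exact ⟨⟨hg₁, hg₂⟩, hgK⟩
  rw [hx] at this
  exact Finset.mem_singleton.mp this

/-- One step of the derivation of fixed points, on bit masks. -/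
def ruleOK (K : ℕ) (st : ℕ × ℕ × ℕ) : Bool :=
  pop24 (cw st.1) == 8 && pop24 (cw st.2.1) == 8 && decide (5 ≤ pop24 (cw st.1 &&& K)) &&
    decide (5 ≤ pop24 (cw st.2.1 &&& K)) &&
    ((cw st.1 &&& cw st.2.1) &&& (16777215 ^^^ K) == 2 ^ st.2.2) && decide (st.2.2 < 24)

/-- Running a derivation. -/
def runRules : ℕ → List (ℕ × ℕ × ℕ) → Option ℕ
  | K, [] => some K
  | K, st :: rest => if ruleOK K st then runRules (K ||| 2 ^ st.2.2) rest else none

theorem testBit_full (j : ℕ) : (16777215 : ℕ).testBit j = decide (j < 24) := by
  have : (16777215 : ℕ) = 2 ^ 24 - 1 := by norm_num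
  rw [this, Nat.testBit_two_pow_sub_one]

theorem runRules_sound {g : Equiv.Perm GolayPt} (hg : g ∈ M24) :
    ∀ (steps : List (ℕ × ℕ × ℕ)) (K K' : ℕ), runRules K steps = some K' →
      (∀ p ∈ maskSet K, g p = p) → ∀ p ∈ maskSet K', g p = p := by
  intro steps
  induction steps with
  | nil =>
    intro K K' h hK
    rw [runRules, Option.some.injEq] at h
    subst h
    exact hK
  | cons st rest ih =>
    intro K K' h hK
    rw [runRules] at h
    split_ifs at h with hok
    refine ih _ _ h ?_
    unfold ruleOK at hok
    simp only [Bool.and_eq_true, beq_iff_eq, decide_eq_true_eq] at hok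
    obtain ⟨⟨⟨⟨⟨h8a, h8b⟩, h5a⟩, h5b⟩, hmask⟩, hlt⟩ := hok
    -- the new point
    set x : GolayPt := idxEquiv.symm ⟨st.2.2, hlt⟩ with hxdef
    have hidx : idx x = st.2.2 := by
      rw [← idxEquiv_val, hxdef, Equiv.apply_symm_apply]
    have hfix : g x = x := by
      apply fixed_of_rule hg (maskSet K) hK (maskSet_cw_mem_octads _ h8a)
        (maskSet_cw_mem_octads _ h8b)
      · rw [← maskSet_and, card_maskSet]; exact h5a
      · rw [← maskSet_and, card_maskSet]; exact h5b
      · ext p
        rw [Finset.mem_sdiff, Finset.mem_inter, mem_maskSet, mem_maskSet, mem_maskSet,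
          Finset.mem_singleton]
        have hbit := congrArg (fun m => Nat.testBit m (idx p)) hmask
        simp only [Nat.testBit_and, Nat.testBit_xor, testBit_full, Nat.testBit_two_pow,
          idx_lt p, decide_true] at hbit
        constructor
        · rintro ⟨⟨ha, hb⟩, hk⟩
          rw [ha, hb] at hbit
          have hk' : K.testBit (idx p) = false := by
            cases h : K.testBit (idx p)
            · rfl
            · exact absurd h hk
          rw [hk'] at hbit
          simp only [Bool.and_self, Bool.xor_false] at hbit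
          have : st.2.2 = idx p := by
            have := hbit.symm
            simpa using this
          apply idx_injective
          rw [hidx, this]
        · rintro rfl
          rw [hidx] at hbit
          simp only [decide_true] at hbit
          cases ha : (cw st.1).testBit st.2.2 <;> cases hb : (cw st.2.1).testBit st.2.2 <;>
            cases hk : K.testBit st.2.2 <;> simp_all
    intro p hp
    rw [mem_maskSet, Nat.testBit_or, Bool.or_eq_true, Nat.testBit_two_pow] at hp
    rcases hp with hp | hp
    · exact hK p ((mem_maskSet K p).mpr hp)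
    · have : st.2.2 = idx p := by simpa using hp
      have hpx : p = x := by
        apply idx_injective
        rw [hidx, this]
      rw [hpx]
      exact hfix

/-- A base of seven points: six points of an octad and one point outside. -/
def base7 : ℕ := 131687

def steps7 : List (ℕ × ℕ × ℕ) :=
  [(41, 67, 15), (15, 212, 20), (15, 38, 21), (38, 471, 19), (38, 41, 14), (67, 134, 16),
    (67, 76, 22), (19, 134, 18), (19, 140, 13), (19, 53, 4), (30, 35, 10), (30, 47, 7),
    (30, 43, 3), (35, 47, 11), (35, 59, 12), (47, 59, 8), (2073, 2075, 23)]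

set_option maxRecDepth 100000 in
theorem run7 : runRules base7 steps7 = some 16777215 := by decide +kernel

theorem card_maskSet_base7 : (maskSet base7).card = 7 := by
  rw [card_maskSet]; decide

/-- An element of the group of the code fixing the seven base points is the identity. -/
theorem eq_one_of_fix_base7 {g : Equiv.Perm GolayPt} (hg : g ∈ M24)
    (h : ∀ p ∈ maskSet base7, g p = p) : g = 1 := by
  have := runRules_sound hg steps7 base7 16777215 run7 h
  ext p : 1
  apply this
  rw [mem_maskSet, testBit_full]
  simp [idx_lt p]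

end Cfsg.Agent.Helper27
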