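import Mathlib
import Cfsg.Agent.Lib.Helper15.S62Defs

/-!
# S2362 piece S62-DIM3C (helper15 farm-out): `eq_scalar_of_pow`
-/

set_option autoImplicit false

open Polynomial

namespace Cfsg.Agent.Helper15.S62

universe u

section linalg

variable {F : Type u} [Field F] {V : Type u} [AddCommGroup V] [Module F V]

/-- PIECE S62-DIM3C -/
theorem eq_scalar_of_pow {C : Type u} [AddCommGroup C] [Module F C] (p : ℕ) [Fact p.Prime]
    [CharP F p] (a : Module.End F C) (m : ℕ) (hm : Nat.Coprime m p) (ham : a ^ m = 1) (α : F)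
    (h3 : (a - algebraMap F (Module.End F C) α) ^ 3 = 0) :
    ∃ β : F, a = algebraMap F (Module.End F C) β := by
  rcases subsingleton_or_nontrivial C with hC | hC
  · exact ⟨0, Subsingleton.elim _ _⟩
  have : CharP (Module.End F C) p :=
    charP_of_injective_algebraMap (algebraMap F (Module.End F C)).injective p
  have hp : p.Prime := Fact.out
  -- `a ^ (p^2)` is a scalar
  have hcomm : Commute a (algebraMap F (Module.End F C) α) := (Algebra.commutes α a).symm
  have h4 : (a - algebraMap F (Module.End F C) α) ^ (p ^ 2) = 0 := by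
    have h3le : 3 ≤ p ^ 2 := by nlinarith [hp.two_le]
    obtain ⟨d, hd⟩ := Nat.exists_eq_add_of_le h3le
    rw [hd, pow_add, h3, zero_mul]
  rw [sub_pow_char_pow_of_commute p 2 hcomm, sub_eq_zero, ← map_pow] at h4
  -- invert `p^2` modulo `m`
  rcases Nat.lt_or_ge 1 m with hm1 | hm1
  · have hcop : Nat.Coprime (p ^ 2) m := (Nat.Coprime.pow_right 2 hm).symm
    obtain ⟨e, -, he⟩ := Nat.exists_mul_mod_eq_one_of_coprime hcop hm1
    have hdiv := Nat.div_add_mod (p ^ 2 * e) m
    rw [he] at hdiv
    refine ⟨(α ^ p ^ 2) ^ e, ?_⟩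
    rw [map_pow, ← h4, ← pow_mul, ← hdiv, pow_add, pow_mul, ham, one_pow, one_mul, pow_one]
  · have hm0 : m ≠ 0 := by
      rintro rfl
      rw [Nat.coprime_zero_left] at hm
      exact hp.one_lt.ne' hm
    have : m = 1 := by omega
    subst this
    rw [pow_one] at ham
    exact ⟨1, by rw [ham, map_one]⟩

end linalg

end Cfsg.Agent.Helper15.S62
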