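import Mathlib
import Cfsg.Agent.Lib.Helper15.S62Defs

/-!
# S2362 piece S62-SQFREE (helper15 farm-out): `squarefree_geom`
-/

set_option autoImplicit false

open Polynomial

namespace Cfsg.Agent.Helper15.S62

universe u

section linalg

variable {F : Type u} [Field F] {V : Type u} [AddCommGroup V] [Module F V]

/-- PIECE S62-SQFREE -/
theorem squarefree_geom (r : ℕ) (hrF : (r : F) ≠ 0) :
    Squarefree (∑ i ∈ Finset.range r, (X : F[X]) ^ i) := by
  have hsep : (X ^ r - C (1 : F)).Separable := separable_X_pow_sub_C (1 : F) hrF one_ne_zero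
  have hdvd : (∑ i ∈ Finset.range r, (X : F[X]) ^ i) ∣ X ^ r - C (1 : F) := by
    refine ⟨X - 1, ?_⟩
    rw [C_1, geom_sum_mul]
  exact (hsep.of_dvd hdvd).squarefree

end linalg

end Cfsg.Agent.Helper15.S62
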