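import Mathlib
import Cfsg.Agent.Lib.Helper13.InvNDefsC
import Cfsg.Agent.Lib.Lead.TwOrth
import Cfsg.Agent.Lib.Lead.ChevOrderAll
import Cfsg.Agent.Lib.Helper6.ChevLLevi
import Cfsg.Agent.Lib.Helper6.ChevLSL2

/-!
Definitions for the twisted version of the involution theorem (`²E₆(q)`, `q` even): maximal cells among the
conjugates under the twisted group, conjugacy under the twisted group, the radical of a class, and the context record.
-/

set_option autoImplicit false
set_option linter.unusedSectionVars false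
set_option linter.unusedVariables false

namespace Cfsg.Agent.Helper27.Tw6

open Cfsg Cfsg.Lie Cfsg.Agent.Lead.Chev Cfsg.Agent.Lead.Tw Cfsg.Agent.Helper13.InvN Cfsg.Agent.Helper6.ChevL

variable {K : Type*} [Field K] {D : ChevalleyDatum}

/-- `g` lies in the (ambient) cell of `w`, and no conjugate of `g` under `G₁` lies in a longer cell -/
def IsMaxCellT (hF : ChevFacts D K) (G₁ : Subgroup (GL D.Idx K)) (g : GL D.Idx K) (w : List ℕ) : Prop :=
  InCell hF g w ∧ ∀ c ∈ G₁, ∀ w' : List ℕ, WOK D w' → InCell hF (c * g * c⁻¹) w' → len D w' ≤ len D w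

/-- every class is made negative or permuted -/
def CondT (D : ChevalleyDatum) (S : List (List ℕ)) (w : List ℕ) : Prop :=
  ∀ v ∈ S, (∀ i ∈ v, D.IsNegRoot (reflWord D w (D.simple i))) ∨
    (∀ i ∈ v, ∃ j ∈ v, reflWord D w (D.simple i) = D.simple j)

/-- conjugacy under the subgroup `G₁` -/
def CJT (G₁ : Subgroup (GL D.Idx K)) (a b : GL D.Idx K) : Prop := ∃ c ∈ G₁, c * a * c⁻¹ = b

theorem CJT.refl (G₁ : Subgroup (GL D.Idx K)) (a : GL D.Idx K) : CJT G₁ a a := ⟨1, one_mem _, by group⟩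

theorem CJT.symm {G₁ : Subgroup (GL D.Idx K)} {a b : GL D.Idx K} (h : CJT G₁ a b) : CJT G₁ b a := by
  obtain ⟨c, hc, e⟩ := h
  exact ⟨c⁻¹, inv_mem hc, by rw [← e]; group⟩

theorem CJT.trans {G₁ : Subgroup (GL D.Idx K)} {a b c : GL D.Idx K} (h : CJT G₁ a b) (h' : CJT G₁ b c) :
    CJT G₁ a c := by
  obtain ⟨x, hx, e⟩ := h
  obtain ⟨y, hy, e'⟩ := h'
  exact ⟨y * x, mul_mem hy hx, by rw [← e', ← e]; group⟩

theorem CJT.of_eq {G₁ : Subgroup (GL D.Idx K)} {a b : GL D.Idx K} (h : a = b) : CJT G₁ a b := h ▸ CJT.refl G₁ a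

theorem CJT.toCJ {G₁ : Subgroup (GL D.Idx K)} (hle : G₁ ≤ D.group K) {a b : GL D.Idx K} (h : CJT G₁ a b) :
    CJ D K a b := by
  obtain ⟨c, hc, e⟩ := h
  exact ⟨c, hle hc, e⟩

/-- the word permutes the roots of the class, as an involution -/
def PermV (D : ChevalleyDatum) (v w : List ℕ) : Prop :=
  ∀ i ∈ v, ∃ j ∈ v, reflWord D w (D.simple i) = D.simple j ∧ reflWord D w (D.simple j) = D.simple i

theorem PermV.of_fix {D : ChevalleyDatum} {v w : List ℕ}
    (h : ∀ i ∈ v, reflWord D w (D.simple i) = D.simple i) : PermV D v w :=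
  fun i hi => ⟨i, hi, h i hi, h i hi⟩

/-- maximality passes to conjugates under `G₁` lying in the same cell -/
theorem IsMaxCellT.conj {hF : ChevFacts D K} {G₁ : Subgroup (GL D.Idx K)} {t : GL D.Idx K} {w : List ℕ}
    (hmax : IsMaxCellT hF G₁ t w) (c : GL D.Idx K) (hc : c ∈ G₁) (hcell : InCell hF (c * t * c⁻¹) w) :
    IsMaxCellT hF G₁ (c * t * c⁻¹) w := by
  refine ⟨hcell, ?_⟩
  intro c' hc' w' hw' h'
  apply hmax.2 (c' * c) (mul_mem hc' hc) w' hw'
  have e : c' * c * t * (c' * c)⁻¹ = c' * (c * t * c⁻¹) * c'⁻¹ := by group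
  rw [e]
  exact h'

/-- the roots of `E₆` fixed by the graph automorphism -/
def e6FixedRoots : List ℕ :=
  [0, 1, 2, 6, 8, 11, 18, 20, 24, 25, 27, 32, 39, 44, 46, 47, 51, 53, 60, 63, 65, 69, 70, 71]

/-- the radical of the class `v`: generated by the root subgroups of the positive roots outside the class -/
abbrev UV (D : ChevalleyDatum) (K : Type*) [Field K] (v : List ℕ) : Subgroup (GL D.Idx K) :=
  D.unipotentRadical K (letters v)

/-- the parabolic subgroup of the class `v` -/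
abbrev PV (D : ChevalleyDatum) (K : Type*) [Field K] (v : List ℕ) : Subgroup (GL D.Idx K) :=
  D.parabolicSubgroup K (letters v)

/-- the context: an orthogonal twisting datum with classes of length at most 2, the twist being a field
automorphism `f` of order 2 on the fundamental root subgroups -/
structure Ctx (hF : ChevFacts D K) (T : Twist D K hF.xadd) (π' : ℕ → ℕ) (S l₀ : List (List ℕ))
    (f : K ≃+* K) : Prop where
  orth : OrthData hF T π' S l₀
  mem : D ∈ [chevG2, chevB2, chevD4, chevF4, chevE6, chevE7, chevE8]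
  len2 : ∀ v ∈ S, v.length ≤ 2
  orb : ∀ v ∈ S, ∀ i ∈ v, ∀ j ∈ v, j = i ∨ j = T.π i
  cpos : ∀ i < D.rank, ∀ t, T.c (D.simple i) t = f t
  cneg : ∀ i < D.rank, ∀ t, T.c (D.neg (D.simple i)) t = f t
  ff : ∀ t, f (f t) = t
  fne : ∃ t, f t ≠ t
  /-- the positive roots of the subsystem of a class are the roots of the class -/
  sub : ∀ v ∈ S, ∀ r, D.IsPosRoot r → D.InRootSub (letters v) r → ∃ i ∈ v, r = D.simple i
  /-- `ρ` preserves the subsystem of a class -/
  rsub : ∀ v ∈ S, ∀ r < D.nroots, D.InRootSub (letters v) (T.ρ r) → D.InRootSub (letters v) r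
  /-- the reflections of a class fix the other roots of the class -/
  orthRefl : ∀ v ∈ S, ∀ i ∈ v, ∀ j ∈ v, i ≠ j → D.reflectRoot i (D.simple j) = D.simple j

section

variable {hF : ChevFacts D K} {T : Twist D K hF.xadd} {π' : ℕ → ℕ} {S l₀ : List (List ℕ)} {f : K ≃+* K}
  (hX : Ctx hF T π' S l₀ f)
include hX

theorem Ctx.corS : CorSize D := corSize_of_mem D hX.mem
theorem Ctx.corC : CorComb D := corComb_of_mem D hX.mem
theorem Ctx.corI : CorInj D := corInj_of_mem D hX.mem
theorem Ctx.par : ParFacts D := parFacts_of_mem D hX.mem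
theorem Ctx.cj : CommJ D := commJ_of_mem D hX.mem
theorem Ctx.d2 : ∀ j < D.rank, D.cartan j (D.simple j) = 2 := diag2_of_mem D hX.mem
theorem Ctx.valid : ∀ v ∈ S, ∀ i ∈ v, i < D.rank := hX.orth.gen.valid
theorem Ctx.twg [Fintype K] : TwGroup hF T (orthGroup hF T S) S := hX.orth.twGroup hX.corS hX.corC

end

end Cfsg.Agent.Helper27.Tw6
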