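import Mathlib

set_option autoImplicit false

/-! Piece CYC of S0690: a finite commutative group of units of a ring in which differences of
distinct elements are units is cyclic. -/

namespace Cfsg.Agent.Helper27.Zass

open Finset

variable {R : Type*} [Ring R]

/-- the key counting step, in the commutative group algebra `ℤ[A]` -/
theorem no_many_roots [Nontrivial R] (A : Subgroup Rˣ)
    (hcomm : ∀ a ∈ A, ∀ b ∈ A, a * b = b * a)
    (hfpf : ∀ a ∈ A, ∀ b ∈ A, a ≠ b → IsUnit ((a : R) - (b : R)))
    (n : ℕ) (hn : 0 < n) (v : Fin (n + 1) → A) (hv : Function.Injective v)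
    (hvn : ∀ i, v i ^ n = 1) : False := by
  letI : CommGroup A :=
    { (inferInstance : Group A) with
      mul_comm := fun a b => Subtype.ext (hcomm a a.2 b b.2) }
  let T := MonoidAlgebra ℤ A
  let w : Fin (n + 1) → T := fun i => MonoidAlgebra.of ℤ A (v i)
  have hwn : ∀ i, w i ^ n = 1 := by
    intro i
    show MonoidAlgebra.of ℤ A (v i) ^ n = 1
    rw [← map_pow, hvn i, map_one]
  let V : Matrix (Fin (n + 1)) (Fin (n + 1)) T := Matrix.vandermonde w
  let c : Fin (n + 1) → T := Pi.single (Fin.last n) 1 - Pi.single 0 1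
  have hVc : V.mulVec c = 0 := by
    show V.mulVec (Pi.single (Fin.last n) 1 - Pi.single 0 1) = 0
    rw [Matrix.mulVec_sub, Matrix.mulVec_single_one, Matrix.mulVec_single_one]
    funext i
    show Matrix.vandermonde w i (Fin.last n) - Matrix.vandermonde w i 0 = 0
    rw [Matrix.vandermonde_apply, Matrix.vandermonde_apply, Fin.val_last, Fin.val_zero, pow_zero,
      hwn i, sub_self]
  have hdet : V.det • c = 0 := by
    have h1 : (V.adjugate * V).mulVec c = 0 := by
      rw [← Matrix.mulVec_mulVec, hVc, Matrix.mulVec_zero]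
    rw [Matrix.adjugate_mul, Matrix.smul_mulVec, Matrix.one_mulVec] at h1
    exact h1
  have h0l : (0 : Fin (n + 1)) ≠ Fin.last n := by
    intro h
    have := congrArg Fin.val h
    rw [Fin.val_last, Fin.val_zero] at this
    omega
  have hdet0 : V.det = 0 := by
    have h2 := congrFun hdet (Fin.last n)
    simp only [Pi.smul_apply, Pi.zero_apply, smul_eq_mul] at h2
    have hc : c (Fin.last n) = 1 := by
      show (Pi.single (Fin.last n) 1 - Pi.single 0 1 : Fin (n + 1) → T) (Fin.last n) = 1
      rw [Pi.sub_apply, Pi.single_eq_same, Pi.single_eq_of_ne h0l.symm, sub_zero]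
    rw [hc, mul_one] at h2
    exact h2
  -- map to `R`
  let ψ : A →* R := (Units.coeHom R).comp A.subtype
  let φ : T →ₐ[ℤ] R := MonoidAlgebra.lift ℤ R A ψ
  have hφw : ∀ i, φ (w i) = ((v i : Rˣ) : R) := by
    intro i
    show MonoidAlgebra.lift ℤ R A ψ (MonoidAlgebra.of ℤ A (v i)) = _
    rw [MonoidAlgebra.lift_of]
    rfl
  have hunit : IsUnit (φ V.det) := by
    show IsUnit (φ (Matrix.vandermonde w).det)
    rw [Matrix.det_vandermonde]
    apply Finset.prod_induction _ (fun t : T => IsUnit (φ t))
    · intro a b ha hb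
      rw [map_mul]; exact ha.mul hb
    · rw [map_one]; exact isUnit_one
    · intro i _
      apply Finset.prod_induction _ (fun t : T => IsUnit (φ t))
      · intro a b ha hb
        rw [map_mul]; exact ha.mul hb
      · rw [map_one]; exact isUnit_one
      · intro j hj
        rw [map_sub, hφw, hφw]
        apply hfpf _ (v j).2 _ (v i).2
        intro h
        have hji : v j = v i := Subtype.ext h
        have := hv hji
        rw [Finset.mem_Ioi] at hj
        exact absurd this (ne_of_gt hj)
  rw [hdet0, map_zero] at hunit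
  exact not_isUnit_zero hunit

/-- PIECE CYC -/
theorem isCyclic_of_fpf (A : Subgroup Rˣ) [Finite A] (hcomm : ∀ a ∈ A, ∀ b ∈ A, a * b = b * a)
    (hfpf : ∀ a ∈ A, ∀ b ∈ A, a ≠ b → IsUnit ((a : R) - (b : R))) : IsCyclic A := by
  classical
  rcases subsingleton_or_nontrivial R with hR | hR
  · haveI : Subsingleton Rˣ := ⟨fun a b => Units.ext (Subsingleton.elim _ _)⟩
    haveI : Subsingleton A := ⟨fun a b => Subtype.ext (Subsingleton.elim _ _)⟩
    exact isCyclic_of_subsingleton
  letI : Fintype A := Fintype.ofFinite A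
  apply isCyclic_of_card_pow_eq_one_le
  intro n hn
  by_contra hlt
  push_neg at hlt
  obtain ⟨t, hts, htc⟩ := Finset.exists_subset_card_eq (show n + 1 ≤ _ from hlt)
  let e : Fin (n + 1) ≃ t := (Finset.equivFinOfCardEq htc).symm
  refine no_many_roots A hcomm hfpf n hn (fun i => (e i : A)) ?_ ?_
  · intro i j hij
    exact e.injective (Subtype.ext hij)
  · intro i
    have := hts (e i).2
    rw [Finset.mem_filter] at this
    exact this.2

end Cfsg.Agent.Helper27.Zass
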