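import Mathlib
import Cfsg.Agent.Lib.Helper12.BinIco3

set_option autoImplicit false

/-! Piece ISO of S0690: a group generated by `x, y` satisfying the binary icosahedral relations
with `z ≠ 1` is isomorphic to `SL(2,5)`. -/

namespace Cfsg.Agent.Helper27.Zass

open Cfsg.Agent.Helper12.BinIco
open scoped commutatorElement

theorem sq_five : ∀ r : ZMod 5, r ^ 2 = 1 → r = 1 ∨ r = -1 := by decide

/-- the centre of `SL(2,5)` is `{1, -1}` -/
theorem center_S25 (g : S25) (hg : g ∈ Subgroup.center S25) : g = 1 ∨ g = mz := by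
  rw [Matrix.SpecialLinearGroup.mem_center_iff] at hg
  obtain ⟨r, hr, hrg⟩ := hg
  have hr2 : r = 1 ∨ r = -1 := by
    have : r ^ 2 = 1 := by simpa using hr
    exact sq_five r this
  rcases hr2 with rfl | rfl
  · left
    apply Subtype.ext
    rw [← hrg]
    simp
  · right
    apply Subtype.ext
    rw [← hrg]
    show (Matrix.scalar (Fin 2)) (-1 : ZMod 5) = !![-1, 0; 0, -1]
    ext i j
    fin_cases i <;> fin_cases j <;> simp

/-- a normal subgroup of `SL(2,5)` not containing `-1` is trivial -/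
theorem normal_eq_bot (N : Subgroup S25) [hN : N.Normal] (hz : mz ∉ N) : N = ⊥ := by
  haveI : Fact (Nat.Prime 5) := ⟨by norm_num⟩
  have h4 : 4 ≤ Nat.card (ZMod 5) := by
    rw [Nat.card_eq_fintype_card, ZMod.card]; norm_num
  haveI hsimple : IsSimpleGroup (Matrix.ProjectiveSpecialLinearGroup (Fin 2) (ZMod 5)) :=
    Matrix.ProjectiveSpecialLinearGroup.rank_two_simple h4
  let π : S25 →* Matrix.ProjectiveSpecialLinearGroup (Fin 2) (ZMod 5) :=
    QuotientGroup.mk' (Subgroup.center S25)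
  have hπ : Function.Surjective π := QuotientGroup.mk'_surjective _
  haveI : (N.map π).Normal := Subgroup.Normal.map hN π hπ
  rcases (inferInstance : (N.map π).Normal).eq_bot_or_eq_top with hb | ht
  · -- N is central
    rw [Subgroup.eq_bot_iff_forall]
    intro g hg
    have h1 : π g ∈ N.map π := Subgroup.mem_map_of_mem π hg
    rw [hb, Subgroup.mem_bot] at h1
    have h2 : g ∈ Subgroup.center S25 := (QuotientGroup.eq_one_iff g).1 h1
    rcases center_S25 g h2 with h | h
    · exact h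
    · exact absurd (h ▸ hg) hz
  · -- N covers the quotient, so contains the commutator subgroup
    exfalso
    apply hz
    have hperf : commutator S25 = ⊤ :=
      Cfsg.Agent.Helper2.ExcM4.commutator_SL2_eq_top (K := ZMod 5) (by
        rw [ZMod.card]; norm_num)
    have hdec : ∀ a : S25, ∃ n ∈ N, ∃ c ∈ Subgroup.center S25, a = n * c := by
      intro a
      have ha : π a ∈ N.map π := by rw [ht]; exact Subgroup.mem_top _
      obtain ⟨n, hn, hna⟩ := ha
      refine ⟨n, hn, n⁻¹ * a, ?_, by group⟩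
      apply (QuotientGroup.eq_one_iff _).1
      show π (n⁻¹ * a) = 1
      rw [map_mul, map_inv, hna, inv_mul_cancel]
    have hle : commutator S25 ≤ N := by
      rw [commutator_def, Subgroup.commutator_le]
      intro a _ b _
      obtain ⟨n1, hn1, c1, hc1, rfl⟩ := hdec a
      obtain ⟨n2, hn2, c2, hc2, rfl⟩ := hdec b
      have e1 : ∀ g : S25, g * c1 = c1 * g := fun g => (Subgroup.mem_center_iff.1 hc1 g)
      have e2 : ∀ g : S25, g * c2 = c2 * g := fun g => (Subgroup.mem_center_iff.1 hc2 g)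
      have : ⁅n1 * c1, n2 * c2⁆ = ⁅n1, n2⁆ := by
        rw [commutatorElement_def, commutatorElement_def]
        have i1 : (n1 * c1)⁻¹ = c1⁻¹ * n1⁻¹ := mul_inv_rev _ _
        have i2 : (n2 * c2)⁻¹ = c2⁻¹ * n2⁻¹ := mul_inv_rev _ _
        rw [i1, i2]
        calc n1 * c1 * (n2 * c2) * (c1⁻¹ * n1⁻¹) * (c2⁻¹ * n2⁻¹)
            = n1 * (c1 * (n2 * c2 * c1⁻¹)) * n1⁻¹ * (c2⁻¹ * n2⁻¹) := by group
          _ = n1 * ((n2 * c2 * c1⁻¹) * c1) * n1⁻¹ * (c2⁻¹ * n2⁻¹) := by rw [← e1]
          _ = n1 * n2 * (c2 * n1⁻¹) * (c2⁻¹ * n2⁻¹) := by group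
          _ = n1 * n2 * (n1⁻¹ * c2) * (c2⁻¹ * n2⁻¹) := by rw [← e2]
          _ = n1 * n2 * n1⁻¹ * n2⁻¹ := by group
      rw [this]
      exact N.mul_mem (N.mul_mem (N.mul_mem hn1 hn2) (N.inv_mem hn1)) (N.inv_mem hn2)
    rw [hperf] at hle
    exact hle (Subgroup.mem_top mz)

/-- PIECE ISO -/
theorem sl25_of_gens {G : Type*} [Group G] (x y z : G) (hx : x ^ 3 = 1) (hy : y ^ 5 = 1)
    (hz : z ^ 2 = 1) (hzx : z * x = x * z) (hzy : z * y = y * z) (hxy : (x * y) ^ 2 = z)
    (hz1 : z ≠ 1) :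
    Nonempty (↥(Subgroup.closure ({x, y} : Set G)) ≃* Matrix.SpecialLinearGroup (Fin 2) (ZMod 5)) := by
  have h : BRel x y z := ⟨hx, hy, hz, hzx, hzy, hxy⟩
  let φ : S25 →* G := (lift h).comp gamEquiv.symm.toMonoidHom
  have hgx : gamEquiv gx = mx := lift_gx m_rel
  have hgy : gamEquiv gy = my := lift_gy m_rel
  have hgz : gamEquiv gz = mz := lift_gz m_rel
  have hφz : φ mz = z := by
    show lift h (gamEquiv.symm mz) = z
    rw [← hgz, MulEquiv.symm_apply_apply, lift_gz]
  -- the range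
  have hrange : φ.range = Subgroup.closure ({x, y} : Set G) := by
    have h1 : φ.range = (lift h).range := by
      apply le_antisymm
      · rintro _ ⟨a, rfl⟩
        exact ⟨gamEquiv.symm a, rfl⟩
      · rintro _ ⟨a, rfl⟩
        exact ⟨gamEquiv a, by
          show lift h (gamEquiv.symm (gamEquiv a)) = _
          rw [MulEquiv.symm_apply_apply]⟩
    rw [h1, MonoidHom.range_eq_map, ← gam_gen, MonoidHom.map_closure]
    congr 1
    rw [Set.image_pair, lift_gx, lift_gy]
  -- injectivity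
  have hker : φ.ker = ⊥ := by
    apply normal_eq_bot
    rw [MonoidHom.mem_ker, hφz]
    exact hz1
  have hinj : Function.Injective φ := (MonoidHom.ker_eq_bot_iff φ).1 hker
  have e1 : S25 ≃* φ.range := MonoidHom.ofInjective hinj
  exact ⟨(e1.trans (MulEquiv.subgroupCongr hrange)).symm⟩

end Cfsg.Agent.Helper27.Zass
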