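import Mathlib

set_option autoImplicit false

/-! Piece CNT of S0690: `SL(2,5)` has exactly 20 elements of order three. -/

namespace Cfsg.Agent.Helper27.Zass

set_option maxRecDepth 100000 in
theorem card_cube_aux :
    (Finset.univ.filter (fun g : Matrix.SpecialLinearGroup (Fin 2) (ZMod 5) =>
      g ^ 3 = 1 ∧ g ≠ 1)).card = 20 := by
  decide +kernel

/-- PIECE CNT -/
theorem card_order_three :
    (Finset.univ.filter (fun g : Matrix.SpecialLinearGroup (Fin 2) (ZMod 5) =>
      orderOf g = 3)).card = 20 := by
  haveI : Fact (Nat.Prime 3) := ⟨Nat.prime_three⟩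
  have h : (Finset.univ.filter (fun g : Matrix.SpecialLinearGroup (Fin 2) (ZMod 5) =>
      orderOf g = 3)) = Finset.univ.filter (fun g : Matrix.SpecialLinearGroup (Fin 2) (ZMod 5) =>
      g ^ 3 = 1 ∧ g ≠ 1) :=
    Finset.filter_congr (fun g _ => orderOf_eq_prime_iff)
  rw [h]
  exact card_cube_aux

end Cfsg.Agent.Helper27.Zass

namespace Cfsg.Agent.Helper27.Zass

/-- PIECE CNT, second part (with `[Finite H]`: without finiteness `Nat.card` of an infinite set is
`0` and the statement fails). -/
theorem mem_of_order_three {H : Type*} [Group H] [Finite H] (N : Subgroup H)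
    (e : Nonempty (N ≃* Matrix.SpecialLinearGroup (Fin 2) (ZMod 5)))
    (h20 : Nat.card {g : H // orderOf g = 3} ≤ 20) (g : H) (hg : orderOf g = 3) : g ∈ N := by
  obtain ⟨e⟩ := e
  -- the elements of order three of `N`
  have hcardN : Nat.card {n : N // orderOf n = 3} = 20 := by
    have h1 : Nat.card {n : N // orderOf n = 3} =
        Nat.card {s : Matrix.SpecialLinearGroup (Fin 2) (ZMod 5) // orderOf s = 3} := by
      apply Nat.card_congr
      exact
        { toFun := fun n => ⟨e n.1, by rw [MulEquiv.orderOf_eq]; exact n.2⟩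
          invFun := fun s => ⟨e.symm s.1, by rw [MulEquiv.orderOf_eq]; exact s.2⟩
          left_inv := fun n => by simp
          right_inv := fun s => by simp }
    rw [h1, Nat.card_eq_fintype_card, Fintype.card_subtype]
    exact card_order_three
  let ι : {n : N // orderOf n = 3} → {g : H // orderOf g = 3} :=
    fun n => ⟨(n.1 : H), by rw [Subgroup.orderOf_coe]; exact n.2⟩
  have hinj : Function.Injective ι := by
    intro a b hab
    have : ((a.1 : N) : H) = ((b.1 : N) : H) := congrArg (fun t : {g : H // orderOf g = 3} => t.1) hab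
    exact Subtype.ext (Subtype.ext this)
  have hbij : Function.Bijective ι :=
    hinj.bijective_of_nat_card_le (by rw [hcardN]; exact h20)
  obtain ⟨n, hn⟩ := hbij.2 ⟨g, hg⟩
  have : ((n.1 : N) : H) = g := congrArg (fun t : {g : H // orderOf g = 3} => t.1) hn
  rw [← this]
  exact n.1.2

end Cfsg.Agent.Helper27.Zass
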