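import Mathlib
import Cfsg.Agent.Lib.Helper4.ZassB

set_option autoImplicit false

/-! Piece GENS of S0690: from a golden element of order three one gets an element `y` of order
five with `(w y)^2 = -1`. -/

namespace Cfsg.Agent.Helper27.Zass

open Cfsg.Agent.Lead.IcosAlg Cfsg.Agent.Helper4.Zass

variable {R : Type*} [Ring R]

theorem pow_five_of_golden {y t : R} (hy : y * y = t * y - 1) (ht : t * t = 1 - t) :
    y ^ 5 = 1 := by
  have h3 : y * y * y = -(t * y) - t := by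
    calc y * y * y = (t * y - 1) * y := by rw [hy]
      _ = t * (y * y) - y := by noncomm_ring
      _ = t * (t * y - 1) - y := by rw [hy]
      _ = (t * t) * y - t - y := by noncomm_ring
      _ = (1 - t) * y - t - y := by rw [ht]
      _ = -(t * y) - t := by noncomm_ring
  have h4 : y * y * y * y = -y + t := by
    calc y * y * y * y = (-(t * y) - t) * y := by rw [h3]
      _ = -(t * (y * y)) - t * y := by noncomm_ring
      _ = -(t * (t * y - 1)) - t * y := by rw [hy]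
      _ = -((t * t) * y) + t - t * y := by noncomm_ring
      _ = -((1 - t) * y) + t - t * y := by rw [ht]
      _ = -y + t := by noncomm_ring
  calc y ^ 5 = y * y * y * y * y := by simp only [pow_succ, pow_zero, one_mul]
    _ = (-y + t) * y := by rw [h4]
    _ = -(y * y) + t * y := by noncomm_ring
    _ = -(t * y - 1) + t * y := by rw [hy]
    _ = 1 := by noncomm_ring

theorem c4 (x : R) : x * 4 = 4 * x := (Commute.ofNat_right x 4).eq
theorem c2 (x : R) : x * 2 = 2 * x := (Commute.ofNat_right x 2).eq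

theorem gens_core {M : Submonoid R} (hM : Fpf M) {i j k : R} (hf : Frame i j k) (hj : j ∈ M)
    {w ϑ : R} (hw : IsX M w) (hϑ : Cz i j k ϑ) (hsq : ϑ * ϑ = 5) (s1 s2 : Bool)
    (h : 2 * sv w = G0 i j k ϑ s1 s2) :
    ∃ y ∈ M, y ^ 5 = 1 ∧ (w * y) * (w * y) = -1 := by
  obtain ⟨q, hq4, h4q, hqc⟩ := exists_quarter hM.u2
  have canc : ∀ x y : R, 4 * x = 4 * y → x = y := by
    intro x y hxy
    have := congrArg (fun t => q * t) hxy
    simpa only [← mul_assoc, hq4, one_mul] using this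
  -- signs
  have hσ1 : (sg s1 : R) * sg s1 = 1 := sg_mul_self s1
  have cσ1 : ∀ r : R, (sg s1 : R) * r = r * sg s1 := fun r => (sg_commute s1 r).eq
  have cσ2 : ∀ r : R, (sg s2 : R) * r = r * sg s2 := fun r => (sg_commute s2 r).eq
  obtain ⟨J, hJdef⟩ : ∃ J : R, J = sg s1 * j := ⟨_, rfl⟩
  have hJJ : J * J = -1 := by
    calc J * J = sg s1 * (j * sg s1) * j := by rw [hJdef]; noncomm_ring
      _ = sg s1 * (sg s1 * j) * j := by rw [← cσ1 j]
      _ = (sg s1 * sg s1) * (j * j) := by noncomm_ring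
      _ = -1 := by rw [hσ1, hf.jj, one_mul]
  have hneg1 : (-1 : R) ∈ M := by rw [← hf.jj]; exact M.mul_mem hj hj
  have hJM : J ∈ M := by
    rw [hJdef]
    cases s1
    · have : (sg false : R) * j = (-1) * j := by simp [sg]
      rw [this]; exact M.mul_mem hneg1 hj
    · have : (sg true : R) * j = j := by simp [sg]
      rw [this]; exact hj
  have hϑJ : ϑ * J = J * ϑ := by
    calc ϑ * J = (ϑ * sg s1) * j := by rw [hJdef]; noncomm_ring
      _ = (sg s1 * ϑ) * j := by rw [cσ1 ϑ]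
      _ = sg s1 * (ϑ * j) := by noncomm_ring
      _ = sg s1 * (j * ϑ) := by rw [hϑ.cj.eq]
      _ = J * ϑ := by rw [hJdef]; noncomm_ring
  have hϑk : ϑ * k = k * ϑ := hϑ.ck.eq
  have hJkJ : J * k * J = k := by
    calc J * k * J = sg s1 * (j * k) * (sg s1 * j) := by rw [hJdef]; noncomm_ring
      _ = sg s1 * i * (sg s1 * j) := by rw [hf.jk]
      _ = sg s1 * ((i * sg s1) * j) := by noncomm_ring
      _ = sg s1 * ((sg s1 * i) * j) := by rw [← cσ1 i]
      _ = (sg s1 * sg s1) * (i * j) := by noncomm_ring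
      _ = k := by rw [hσ1, hf.ij, one_mul]
  -- the coordinates of `4 w`
  have h4w : 4 * w = -2 + (1 + ϑ) * J + sg s2 * (1 - ϑ) * k := by
    have h' : 2 * (2 * w + 1) = sg s1 * (1 + ϑ) * j + sg s2 * (1 - ϑ) * k := h
    have e1 : sg s1 * (1 + ϑ) * j = (1 + ϑ) * J := by
      rw [hJdef, cσ1 (1 + ϑ)]; noncomm_ring
    rw [e1] at h'
    have e2 : (4 : R) * w = 2 * (2 * w + 1) - 2 := by
      have : (4 : R) = 2 * 2 := by norm_num
      rw [this, mul_add, mul_one, ← mul_assoc]; abel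
    rw [e2, h']; abel
  -- `ϑ` commutes with `w`
  have hϑw : ϑ * w = w * ϑ := by
    apply canc
    have e1 : 4 * (ϑ * w) = ϑ * (4 * w) := by rw [← mul_assoc, ← c4 ϑ, mul_assoc]
    have e2 : 4 * (w * ϑ) = (4 * w) * ϑ := by rw [mul_assoc]
    rw [e1, e2, h4w]
    have a1 : ϑ * ((1 + ϑ) * J) = ((1 + ϑ) * J) * ϑ := by
      calc ϑ * ((1 + ϑ) * J) = (1 + ϑ) * (ϑ * J) := by noncomm_ring
        _ = (1 + ϑ) * (J * ϑ) := by rw [hϑJ]
        _ = _ := by noncomm_ring
    have a2 : ϑ * (sg s2 * (1 - ϑ) * k) = (sg s2 * (1 - ϑ) * k) * ϑ := by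
      calc ϑ * (sg s2 * (1 - ϑ) * k) = (ϑ * sg s2) * (1 - ϑ) * k := by noncomm_ring
        _ = (sg s2 * ϑ) * (1 - ϑ) * k := by rw [cσ2 ϑ]
        _ = sg s2 * (1 - ϑ) * (ϑ * k) := by noncomm_ring
        _ = sg s2 * (1 - ϑ) * (k * ϑ) := by rw [hϑk]
        _ = _ := by noncomm_ring
    have a0 : ϑ * (-2 : R) = (-2 : R) * ϑ := by
      rw [mul_neg, neg_mul, c2 ϑ]
    rw [mul_add, mul_add, a0, a1, a2, ← add_mul, ← add_mul]
  -- the golden trace
  obtain ⟨t, htdef⟩ : ∃ t : R, t = -(q * (2 * (1 + ϑ))) := ⟨_, rfl⟩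
  have h4t : 4 * t = -(2 * (1 + ϑ)) := by
    rw [htdef, mul_neg, ← mul_assoc, h4q, one_mul]
  have hqϑ : q * ϑ = ϑ * q := (hqc ϑ).eq
  have htJ : t * J = J * t := by
    have hqJ : q * J = J * q := (hqc J).eq
    calc t * J = -(q * (2 * (J + ϑ * J))) := by rw [htdef]; noncomm_ring
      _ = -(q * (2 * (J + J * ϑ))) := by rw [hϑJ]
      _ = -((q * J) * (2 * (1 + ϑ))) := by
          have : (2 : R) * (J + J * ϑ) = J * (2 * (1 + ϑ)) := by
            rw [← mul_assoc J 2, c2 J, mul_assoc, mul_add J, mul_one]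
          rw [this]; noncomm_ring
      _ = -((J * q) * (2 * (1 + ϑ))) := by rw [hqJ]
      _ = J * t := by rw [htdef]; noncomm_ring
  have htw : t * w = w * t := by
    have hqw : q * w = w * q := (hqc w).eq
    calc t * w = -(q * (2 * (w + ϑ * w))) := by rw [htdef]; noncomm_ring
      _ = -(q * (2 * (w + w * ϑ))) := by rw [hϑw]
      _ = -((q * w) * (2 * (1 + ϑ))) := by
          have : (2 : R) * (w + w * ϑ) = w * (2 * (1 + ϑ)) := by
            rw [← mul_assoc w 2, c2 w, mul_assoc, mul_add w, mul_one]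
          rw [this]; noncomm_ring
      _ = -((w * q) * (2 * (1 + ϑ))) := by rw [hqw]
      _ = w * t := by rw [htdef]; noncomm_ring
  have ht : t * t = 1 - t := by
    apply canc
    apply canc
    have e1 : 4 * (4 * (t * t)) = (4 * t) * (4 * t) := by
      rw [mul_assoc (4 : R) t, ← mul_assoc t 4 t, c4 t]; noncomm_ring
    have e2 : 4 * (4 * (1 - t)) = 16 - 4 * (4 * t) := by
      rw [mul_sub, mul_sub, mul_one]; norm_num
    rw [e1, e2, h4t]
    have e3 : -(2 * (1 + ϑ)) * -(2 * (1 + ϑ)) = 24 + 8 * ϑ := by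
      rw [neg_mul_neg]
      have h1 : (2 : R) * (1 + ϑ) * (2 * (1 + ϑ)) = 2 * ((1 + ϑ) * 2) * (1 + ϑ) := by
        simp only [mul_assoc]
      rw [h1, c2 (1 + ϑ)]
      have h2 : (2 : R) * (2 * (1 + ϑ)) * (1 + ϑ) = (2 * 2) * ((1 + ϑ) * (1 + ϑ)) := by
        simp only [mul_assoc]
      rw [h2]
      have h3 : (1 + ϑ) * (1 + ϑ) = 1 + (ϑ + ϑ) + ϑ * ϑ := by noncomm_ring
      rw [h3, hsq, mul_add, mul_add, mul_one, mul_add]
      have h4 : (2 : R) * 2 * ϑ + 2 * 2 * ϑ = 8 * ϑ := by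
        rw [← add_mul]; norm_num
      have h5 : (2 : R) * 2 + (2 * 2 * ϑ + 2 * 2 * ϑ) + 2 * 2 * 5 = 24 + 8 * ϑ := by
        rw [h4]
        have : (2 : R) * 2 + 8 * ϑ + 2 * 2 * 5 = (2 * 2 + 2 * 2 * 5) + 8 * ϑ := by abel
        rw [this]; norm_num
      exact h5
    have e4 : (16 : R) - 4 * -(2 * (1 + ϑ)) = 24 + 8 * ϑ := by
      rw [mul_neg, sub_neg_eq_add, ← mul_assoc, mul_add, mul_one]
      have : (16 : R) + (4 * 2 + 4 * 2 * ϑ) = (16 + 4 * 2) + 4 * 2 * ϑ := by abel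
      rw [this]; norm_num
    rw [e3, e4]
  -- the key conjugation formula
  have hJwJ : J * w * J = w + 1 + t * J := by
    apply canc
    have e1 : 4 * (J * w * J) = J * (4 * w) * J := by
      rw [← mul_assoc J 4 w, c4 J]; noncomm_ring
    have b1 : J * ((1 + ϑ) * J) * J = -((1 + ϑ) * J) := by
      calc J * ((1 + ϑ) * J) * J = (J + J * ϑ) * (J * J) := by noncomm_ring
        _ = (J + ϑ * J) * (J * J) := by rw [hϑJ]
        _ = -((1 + ϑ) * J) := by rw [hJJ]; noncomm_ring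
    have b2 : J * (sg s2 * (1 - ϑ) * k) * J = sg s2 * (1 - ϑ) * k := by
      calc J * (sg s2 * (1 - ϑ) * k) * J = (J * sg s2) * (1 - ϑ) * k * J := by noncomm_ring
        _ = (sg s2 * J) * (1 - ϑ) * k * J := by rw [cσ2 J]
        _ = sg s2 * (J - J * ϑ) * k * J := by noncomm_ring
        _ = sg s2 * (J - ϑ * J) * k * J := by rw [hϑJ]
        _ = sg s2 * (1 - ϑ) * (J * k * J) := by noncomm_ring
        _ = sg s2 * (1 - ϑ) * k := by rw [hJkJ]
    have b0 : J * (-2 : R) * J = 2 := by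
      calc J * (-2 : R) * J = -(J * 2 * J) := by noncomm_ring
        _ = -(2 * (J * J)) := by rw [c2 J]; noncomm_ring
        _ = 2 := by rw [hJJ, mul_neg, mul_one, neg_neg]
    have e2 : J * (4 * w) * J = 2 - (1 + ϑ) * J + sg s2 * (1 - ϑ) * k := by
      rw [h4w, mul_add, mul_add, add_mul, add_mul, b0, b1, b2]; abel
    have e3 : 4 * (w + 1 + t * J) = 4 * w + 4 + (4 * t) * J := by
      rw [mul_add, mul_add, mul_one, mul_assoc]
    rw [e1, e2, e3, h4w, h4t]
    have h42 : (4 : R) = 2 + 2 := by norm_num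
    have e5 : -(2 * (1 + ϑ)) * J = -((1 + ϑ) * J + (1 + ϑ) * J) := by
      rw [neg_mul, mul_assoc, two_mul]
    rw [h42, e5]
    abel
  -- the element
  have hw2 : w * w + w + 1 = 0 := hw.2
  have h1w : 1 + w = (-1) * (w * w) := by
    have : 1 + w = -(w * w) := by
      have := hw2
      rw [eq_neg_iff_add_eq_zero]
      rw [← this]; abel
    rw [this]; noncomm_ring
  refine ⟨(1 + w) * J, ?_, ?_, ?_⟩
  · rw [h1w]
    exact M.mul_mem (M.mul_mem hneg1 (M.mul_mem hw.1 hw.1)) hJM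
  · apply pow_five_of_golden (t := t) _ ht
    calc (1 + w) * J * ((1 + w) * J) = (1 + w) * (J * J + J * w * J) := by noncomm_ring
      _ = (1 + w) * (-1 + (w + 1 + t * J)) := by rw [hJJ, hJwJ]
      _ = (w * w + w + 1) - 1 + (t + w * t) * J := by noncomm_ring
      _ = (w * w + w + 1) - 1 + (t + t * w) * J := by rw [htw]
      _ = t * ((1 + w) * J) - 1 := by rw [hw2]; noncomm_ring
  · have : w * ((1 + w) * J) = -J := by
      calc w * ((1 + w) * J) = ((w * w + w + 1) - 1) * J := by noncomm_ring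
        _ = -J := by rw [hw2]; noncomm_ring
    rw [this, neg_mul_neg, hJJ]

/-- PIECE GENS -/
theorem exists_gens {M : Submonoid R} (hM : Fpf M) {i j k : R} (hf : Frame i j k) (hi : i ∈ M)
    (hj : j ∈ M) {w ϑ : R} (hw : IsX M w) (hϑ : Cz i j k ϑ) (hsq : ϑ * ϑ = 5)
    (hg : IsGold i j k ϑ (sv w)) : ∃ y ∈ M, y ^ 5 = 1 ∧ (w * y) * (w * y) = -1 := by
  have hk : k ∈ M := by rw [← hf.ij]; exact M.mul_mem hi hj
  obtain ⟨s1, s2, h | h | h⟩ := hg
  · exact gens_core hM hf hj hw hϑ hsq s1 s2 h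
  · exact gens_core hM (frame_rot hf) hk hw hϑ.rot hsq s1 s2 h
  · exact gens_core hM (frame_rot (frame_rot hf)) hi hw hϑ.rot.rot hsq s1 s2 h

end Cfsg.Agent.Helper27.Zass
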