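import Mathlib
import Cfsg.Agent.Lib.Helper27.GolayWeights
import Cfsg.Agent.Lib.Helper27.GolayBasic

set_option autoImplicit false
open Cfsg

/-! Coordinate permutations acting on bit masks. -/

namespace Cfsg.Agent.Helper27

open Cfsg.Agent.S0358 (idx)

/-- Permuting the bits of a mask: bit `k` of the result is bit `itab[k]` of the input. -/
def permMask (itab : List ℕ) (m : ℕ) : ℕ :=
  Nat.ofBits (fun k : Fin 24 => m.testBit (itab.getD k.val 0))

theorem idx_lt' (p : GolayPt) : idx p < 24 := (idxEquiv p).2

/-- If `itab` is the table of `σ⁻¹`, then `permMask itab` is the action of `σ` on words. -/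
theorem permWord_ofMask (σ : Equiv.Perm GolayPt) (itab : List ℕ)
    (h : ∀ p : GolayPt, idx (σ.symm p) = itab.getD (idx p) 0) (m : ℕ) :
    permWord σ (ofMask m) = ofMask (permMask itab m) := by
  funext p
  unfold permWord ofMask permMask
  rw [Nat.testBit_ofBits_lt _ _ (idx_lt' p), h p]

/-- The table of the inverse of the shift `x ↦ x + 1`. -/
def itabShift : List ℕ :=
  [22, 0, 1, 2, 3, 4, 5, 6, 7, 8, 9, 10, 11, 12, 13, 14, 15, 16, 17, 18, 19, 20, 21, 23]

theorem itabShift_spec : ∀ p : GolayPt,
    idx ((Equiv.optionCongr (Equiv.addRight (1 : ZMod 23))).symm p) = itabShift.getD (idx p) 0 := by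
  decide

end Cfsg.Agent.Helper27
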