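import Mathlib
import Cfsg.Agent.Lib.Helper27.GolayPerm
import Cfsg.Agent.Lib.Helper27.GolayRigid
import Cfsg.Agent.Lib.Helper29.GolayCount
import Cfsg.Agent.Lib.Helper29.M24Rigid

set_option autoImplicit false
open Cfsg

/-! Cosets of the length-24 code in the bit-mask model: self-orthogonality test,
systematic representatives, and the action of words in the standard generators. -/

namespace Cfsg.Agent.Helper27

open Cfsg.Agent.S0358 (idx)
open Cfsg.Agent.Helper29

theorem bit'_xor_and (a b i : ℕ) :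
    bit' (a ^^^ b) i + 2 * bit' (a &&& b) i = bit' a i + bit' b i := by
  rw [bit'_eq, bit'_eq, bit'_eq, bit'_eq, Nat.testBit_xor, Nat.testBit_and]
  cases a.testBit i <;> cases b.testBit i <;> simp

theorem pop24_xor_and (a b : ℕ) :
    pop24 (a ^^^ b) + 2 * pop24 (a &&& b) = pop24 a + pop24 b := by
  unfold pop24
  have h := bit'_xor_and a b
  have h0 := h 0; have h1 := h 1; have h2 := h 2; have h3 := h 3; have h4 := h 4
  have h5 := h 5; have h6 := h 6; have h7 := h 7; have h8 := h 8; have h9 := h 9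
  have h10 := h 10; have h11 := h 11; have h12 := h 12; have h13 := h 13; have h14 := h 14
  have h15 := h 15; have h16 := h 16; have h17 := h 17; have h18 := h 18; have h19 := h 19
  have h20 := h 20; have h21 := h 21; have h22 := h 22; have h23 := h 23
  omega

theorem four_dvd_pop24_cw (n : ℕ) (hn : n < 4096) : 4 ∣ pop24 (cw n) := by
  have h := wtOK_of_allOK 4096 allOK_4096 n hn
  rw [wtOK_iff] at h
  rcases h with h | h | h | h | h <;> rw [h] <;> decide

/-- Two words of the code meet evenly. -/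
theorem even_pop24_cw_and (n m : ℕ) (hn : n < 4096) (hm : m < 4096) :
    pop24 (cw n &&& cw m) % 2 = 0 := by
  have h1 := four_dvd_pop24_cw n hn
  have h2 := four_dvd_pop24_cw m hm
  have h3 := four_dvd_pop24_cw (n ^^^ m) (Nat.xor_lt_two_pow (n := 12) hn hm)
  rw [cw_xor] at h3
  have h4 := pop24_xor_and (cw n) (cw m)
  omega

/-- A mask meeting some word of the code oddly is not in the code. -/
theorem not_mem_of_odd (v : ℕ) (hv : v < 2 ^ 24) (m : ℕ) (hm : m < 4096)
    (h : pop24 (v &&& cw m) % 2 = 1) : ofMask v ∉ golayCode := by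
  intro hmem
  obtain ⟨n, hn, hvn⟩ := exists_cw_of_mem hmem
  have : v = cw n := ofMask_inj hv (cw_lt n) hvn
  rw [this, even_pop24_cw_and n m hn hm] at h
  exact absurd h (by decide)

/-- Every word is given by a mask. -/
theorem exists_ofMask (w : GolayPt → ZMod 2) : ∃ m < 2 ^ 24, w = ofMask m := by
  refine ⟨Nat.ofBits (fun k : Fin 24 => decide (w (idxEquiv.symm k) = 1)), Nat.ofBits_lt_two_pow _, ?_⟩
  funext p
  unfold ofMask
  rw [Nat.testBit_ofBits_lt _ _ (idx_lt' p)]
  have : idxEquiv.symm ⟨idx p, idx_lt' p⟩ = p := idxEquiv.symm_apply_apply p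
  rw [this]
  have key : ∀ a : ZMod 2, a = if decide (a = 1) = true then 1 else 0 := by decide
  exact key (w p)


/-- Index of the code word whose upper twelve bits are `h`. -/
def enc (h : ℕ) : ℕ :=
  bit' h 0 * 345 ^^^ bit' h 1 * 690 ^^^ bit' h 2 * 1085 ^^^ bit' h 3 * 665 ^^^
  bit' h 4 * 1131 ^^^ bit' h 5 * 876 ^^^ bit' h 6 * 1921 ^^^ bit' h 7 * 1505 ^^^
  bit' h 8 * 289 ^^^ bit' h 9 * 578 ^^^ bit' h 10 * 1501 ^^^ bit' h 11 * 3734

def encOK : ℕ → Bool
  | 0 => true
  | h + 1 => (cw (enc h) >>> 12 == h && decide (enc h < 4096)) && encOK h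

set_option maxRecDepth 1000000 in
theorem encOK_4096 : encOK 4096 = true := by decide +kernel

theorem enc_spec : ∀ N : ℕ, encOK N = true → ∀ h < N, cw (enc h) >>> 12 = h ∧ enc h < 4096 := by
  intro N
  induction N with
  | zero => intro _ n hn; exact absurd hn (Nat.not_lt_zero n)
  | succ N ih =>
    intro h n hn
    rw [encOK, Bool.and_eq_true, Bool.and_eq_true] at h
    rcases Nat.lt_succ_iff_lt_or_eq.mp hn with h1 | rfl
    · exact ih h.2 n h1
    · exact ⟨by simpa using h.1.1, by simpa using h.1.2⟩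

/-- Every word is congruent modulo the code to one supported on the first twelve positions. -/
theorem exists_rep (w : GolayPt → ZMod 2) :
    ∃ r < 4096, ∃ c ∈ golayCode, w = ofMask r + c := by
  obtain ⟨m, hm, rfl⟩ := exists_ofMask w
  have hh : m >>> 12 < 4096 := by
    rw [Nat.shiftRight_eq_div_pow]
    exact Nat.div_lt_of_lt_mul (by norm_num at hm ⊢; omega)
  obtain ⟨h1, h2⟩ := enc_spec 4096 encOK_4096 (m >>> 12) hh
  refine ⟨m ^^^ cw (enc (m >>> 12)), ?_, ofMask (cw (enc (m >>> 12))), cw_mem _, ?_⟩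
  · have : (m ^^^ cw (enc (m >>> 12))) >>> 12 = 0 := by
      rw [Nat.shiftRight_xor_distrib, h1, Nat.xor_self]
    rw [Nat.shiftRight_eq_div_pow] at this
    have := (Nat.div_eq_zero_iff).1 this
    norm_num at this ⊢
    omega
  · rw [← ofMask_xor, Nat.xor_assoc, Nat.xor_self, Nat.xor_zero]

end Cfsg.Agent.Helper27
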