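import Mathlib
import Cfsg.Agent.Lib.Helper27.GolayCoset

set_option autoImplicit false
set_option linter.unusedSectionVars false
open Cfsg

/-! Duality for the length-24 code: Brauer's permutation lemma for linear groups over a finite field (`card_orbits_dual`, `same_orbits_dual`), the code is its own orthogonal complement (`mem_code_of_dot`), a combinatorial lemma recovering a permutation of points from a compatible system of pairs (`star`), and a linear group on the code modulo the all-ones word with the orbits of the group of the code consists of coordinate permutations (`main_perm`). -/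

namespace Cfsg.Agent.Helper27.GolayDual

open Module

section brauer

variable {K V : Type*} [Field K] [Finite K] [AddCommGroup V] [Module K V] [Finite V]

/-- the contragredient action of the linear group on the dual space -/
def dualAct : MulAction (V ≃ₗ[K] V) (Module.Dual K V) where
  smul y l := l ∘ₗ (y.symm : V →ₗ[K] V)
  one_smul l := by
    apply LinearMap.ext
    intro v
    rfl
  mul_smul y z l := by
    apply LinearMap.ext
    intro v
    rfl

attribute [local instance] dualAct

theorem dualAct_apply (y : V ≃ₗ[K] V) (l : Module.Dual K V) (v : V) :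
    (y • l) v = l (y.symm v) := rfl

theorem subgroup_dualAct_apply (H : Subgroup (V ≃ₗ[K] V)) (y : ↥H) (l : Module.Dual K V) (v : V) :
    (y • l) v = l ((y : V ≃ₗ[K] V).symm v) := rfl

/-- Burnside's lemma with `Nat.card` -/
theorem burnside {G X : Type*} [Group G] [MulAction G X] [Finite G] [Finite X] :
    ∑ᶠ g : G, Nat.card (MulAction.fixedBy X g) =
      Nat.card (Quotient (MulAction.orbitRel G X)) * Nat.card G := by
  classical
  haveI := Fintype.ofFinite G
  haveI := Fintype.ofFinite X
  haveI : ∀ g : G, Fintype (MulAction.fixedBy X g) := fun g => Fintype.ofFinite _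
  haveI : Fintype (Quotient (MulAction.orbitRel G X)) := Fintype.ofFinite _
  rw [finsum_eq_sum_of_fintype]
  have := MulAction.sum_card_fixedBy_eq_card_orbits_mul_card_group G X
  simp only [Nat.card_eq_fintype_card]
  exact this

/-- an invertible linear map has as many fixed points on the dual as on the space -/
theorem card_fixed_dual (y : V ≃ₗ[K] V) :
    Nat.card {l : Module.Dual K V // y • l = l} = Nat.card {v : V // y v = v} := by
  haveI : Module.Finite K V := Module.Finite.of_finite
  set f : V →ₗ[K] V := (y : V →ₗ[K] V) - LinearMap.id with hf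
  have h1 : {v : V // y v = v} = ↥(LinearMap.ker f) := by
    congr 1
    ext v
    rw [LinearMap.mem_ker, hf, LinearMap.sub_apply, sub_eq_zero]
    rfl
  have h2 : {l : Module.Dual K V // y • l = l} = ↥((LinearMap.range f).dualAnnihilator) := by
    congr 1
    ext l
    rw [Submodule.mem_dualAnnihilator]
    constructor
    · intro h w hw
      obtain ⟨v, rfl⟩ := hw
      rw [hf, LinearMap.sub_apply, map_sub, sub_eq_zero]
      have := congrArg (fun m : Module.Dual K V => m (y v)) h
      simp only [dualAct_apply, LinearEquiv.symm_apply_apply] at this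
      exact this.symm
    · intro h
      apply LinearMap.ext
      intro v
      rw [dualAct_apply]
      have := h (f (y.symm v)) ⟨_, rfl⟩
      rw [hf, LinearMap.sub_apply, map_sub, sub_eq_zero] at this
      simp only [LinearEquiv.coe_coe, LinearEquiv.apply_symm_apply, LinearMap.id_apply] at this
      exact this.symm
  have c1 : Nat.card ↥(LinearMap.ker f) = Nat.card K ^ finrank K ↥(LinearMap.ker f) :=
    Module.natCard_eq_pow_finrank (K := K) (V := ↥(LinearMap.ker f))
  have i1 : Module.Finite K (Module.Dual K V) := inferInstance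
  have i2 : Module.Finite K ↥((LinearMap.range f).dualAnnihilator) := inferInstance
  have c2 : Nat.card ↥((LinearMap.range f).dualAnnihilator) =
      Nat.card K ^ finrank K ↥((LinearMap.range f).dualAnnihilator) :=
    Module.natCard_eq_pow_finrank (K := K) (V := ↥((LinearMap.range f).dualAnnihilator))
  have e1 := Subspace.finrank_add_finrank_dualAnnihilator_eq (LinearMap.range f)
  have e2 := LinearMap.finrank_range_add_finrank_ker f
  have e3 : finrank K ↥((LinearMap.range f).dualAnnihilator) = finrank K ↥(LinearMap.ker f) := by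
    omega
  rw [h1, h2, c1, c2, e3]

end brauer



open Module

section brauer2

variable {K V : Type*} [Field K] [Finite K] [AddCommGroup V] [Module K V] [Finite V]

attribute [local instance] dualAct

theorem finite_linearEquiv : Finite (V ≃ₗ[K] V) :=
  Finite.of_injective (fun f : V ≃ₗ[K] V => (f : V → V)) DFunLike.coe_injective

theorem finite_dual : Finite (Module.Dual K V) :=
  Finite.of_injective (fun f : Module.Dual K V => (f : V → K)) DFunLike.coe_injective

/-- a finite linear group has as many orbits on the dual space as on the space -/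
theorem card_orbits_dual (H : Subgroup (V ≃ₗ[K] V)) :
    Nat.card (Quotient (MulAction.orbitRel ↥H (Module.Dual K V))) =
      Nat.card (Quotient (MulAction.orbitRel ↥H V)) := by
  haveI := finite_linearEquiv (K := K) (V := V)
  haveI := finite_dual (K := K) (V := V)
  have b1 := burnside (G := ↥H) (X := Module.Dual K V)
  have b2 := burnside (G := ↥H) (X := V)
  have h3 : ∑ᶠ g : ↥H, Nat.card (MulAction.fixedBy (Module.Dual K V) g) =
      ∑ᶠ g : ↥H, Nat.card (MulAction.fixedBy V g) := by
    apply finsum_congr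
    intro g
    exact card_fixed_dual (g : V ≃ₗ[K] V)
  rw [h3, b2] at b1
  have hpos : 0 < Nat.card ↥H := Nat.card_pos
  exact (Nat.eq_of_mul_eq_mul_right hpos b1).symm

/-- **Brauer's permutation lemma** for two linear groups with the same orbits -/
theorem same_orbits_dual (G Y : Subgroup (V ≃ₗ[K] V)) (hGY : G ≤ Y)
    (horb : ∀ y ∈ Y, ∀ v : V, ∃ g ∈ G, y v = g v) :
    ∀ y ∈ Y, ∀ l : Module.Dual K V, ∃ g ∈ G, ∀ v, l (y.symm v) = l (g.symm v) := by
  haveI := finite_linearEquiv (K := K) (V := V)
  haveI := finite_dual (K := K) (V := V)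
  -- the natural maps between orbit spaces
  have hV : Nat.card (Quotient (MulAction.orbitRel ↥G V)) =
      Nat.card (Quotient (MulAction.orbitRel ↥Y V)) := by
    apply Nat.card_congr
    refine Equiv.ofBijective (Quotient.map' id ?_) ⟨?_, ?_⟩
    · intro a b hab
      obtain ⟨g, hg⟩ := hab
      exact ⟨⟨g.1, hGY g.2⟩, hg⟩
    · intro a b
      induction a using Quotient.inductionOn' with | h a => ?_
      induction b using Quotient.inductionOn' with | h b => ?_
      intro hab
      rw [Quotient.map'_mk'', Quotient.map'_mk'', Quotient.eq''] at hab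
      obtain ⟨y, hy⟩ := hab
      obtain ⟨g, hg, hgv⟩ := horb y.1 y.2 b
      rw [Quotient.eq'']
      refine ⟨⟨g, hg⟩, ?_⟩
      show g b = a
      rw [← hgv]
      exact hy
    · intro b
      induction b using Quotient.inductionOn' with | h b => ?_
      exact ⟨Quotient.mk'' b, rfl⟩
  have hD : Nat.card (Quotient (MulAction.orbitRel ↥G (Module.Dual K V))) =
      Nat.card (Quotient (MulAction.orbitRel ↥Y (Module.Dual K V))) := by
    rw [card_orbits_dual, card_orbits_dual, hV]
  obtain ⟨e⟩ := Finite.card_eq.1 hD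
  have hwd : ∀ a b : Module.Dual K V, (MulAction.orbitRel ↥G (Module.Dual K V)).r a b →
      (MulAction.orbitRel ↥Y (Module.Dual K V)).r (id a) (id b) := by
    intro a b hab
    obtain ⟨g, hg⟩ := hab
    exact ⟨⟨g.1, hGY g.2⟩, hg⟩
  have hsurj : Function.Surjective (Quotient.map' (s₁ := MulAction.orbitRel ↥G (Module.Dual K V))
      (s₂ := MulAction.orbitRel ↥Y (Module.Dual K V)) id hwd) := by
    intro b
    induction b using Quotient.inductionOn' with | h b => ?_
    exact ⟨Quotient.mk'' b, rfl⟩
  have hinj := (Finite.injective_iff_surjective_of_equiv e).2 hsurj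
  intro y hy l
  have h1 : (Quotient.mk'' ((⟨y, hy⟩ : ↥Y) • l) :
      Quotient (MulAction.orbitRel ↥Y (Module.Dual K V))) = Quotient.mk'' l := by
    rw [Quotient.eq'']
    exact ⟨⟨y, hy⟩, rfl⟩
  have h2 : (Quotient.mk'' ((⟨y, hy⟩ : ↥Y) • l) :
      Quotient (MulAction.orbitRel ↥G (Module.Dual K V))) = Quotient.mk'' l := by
    apply hinj
    rw [Quotient.map'_mk'', Quotient.map'_mk'']
    exact h1
  rw [Quotient.eq''] at h2
  obtain ⟨g, hg⟩ := h2
  refine ⟨g.1, g.2, fun v => ?_⟩
  have := congrArg (fun m : Module.Dual K V => m v) hg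
  exact this.symm

end brauer2



open Cfsg.Agent.Helper27 Cfsg.Agent.Helper29
open Cfsg.Agent.S0358 (idx)

/-- the standard pairing of two binary words -/
def dot (u v : GolayPt → ZMod 2) : ZMod 2 := ∑ p, u p * v p

theorem dot_add_left (u v w : GolayPt → ZMod 2) : dot (u + v) w = dot u w + dot v w := by
  unfold dot
  rw [← Finset.sum_add_distrib]
  apply Finset.sum_congr rfl
  intro p _
  rw [Pi.add_apply, add_mul]

theorem dot_comm (u v : GolayPt → ZMod 2) : dot u v = dot v u := by
  unfold dot
  apply Finset.sum_congr rfl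
  intro p _
  rw [mul_comm]

theorem ofMask_and (a b : ℕ) (p : GolayPt) : ofMask (a &&& b) p = ofMask a p * ofMask b p := by
  unfold ofMask
  rw [Nat.testBit_and]
  cases a.testBit (idx p) <;> cases b.testBit (idx p) <;> simp

theorem sum_eq_card_support (w : GolayPt → ZMod 2) : ∑ p, w p = ((support₂ w).card : ZMod 2) := by
  have h : ∀ p, w p = if p ∈ support₂ w then 1 else 0 := by
    intro p
    by_cases hp : p ∈ support₂ w
    · rw [if_pos hp]
      unfold support₂ at hp
      rw [Finset.mem_filter] at hp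
      have key : ∀ a : ZMod 2, a ≠ 0 → a = 1 := by decide
      exact key _ hp.2
    · rw [if_neg hp]
      unfold support₂ at hp
      rw [Finset.mem_filter] at hp
      by_contra h0
      exact hp ⟨Finset.mem_univ _, h0⟩
  calc ∑ p, w p = ∑ p, (if p ∈ support₂ w then (1 : ZMod 2) else 0) := by
        apply Finset.sum_congr rfl
        intro p _
        exact h p
    _ = ((support₂ w).card : ZMod 2) := by
        rw [Finset.sum_ite_mem, Finset.univ_inter, Finset.sum_const, nsmul_eq_mul, mul_one]

theorem dot_ofMask (a b : ℕ) : dot (ofMask a) (ofMask b) = (pop24 (a &&& b) : ZMod 2) := by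
  unfold dot
  have : ∀ p, ofMask a p * ofMask b p = ofMask (a &&& b) p := fun p => (ofMask_and a b p).symm
  simp only [this]
  rw [sum_eq_card_support, card_support₂_ofMask]

theorem natCast_zmod2 (n : ℕ) : (n : ZMod 2) = 0 ↔ n % 2 = 0 := by
  rw [ZMod.natCast_eq_zero_iff]
  omega

/-- the code is self-orthogonal -/
theorem dot_code {u v : GolayPt → ZMod 2} (hu : u ∈ golayCode) (hv : v ∈ golayCode) :
    dot u v = 0 := by
  obtain ⟨n, hn, rfl⟩ := exists_cw_of_mem hu
  obtain ⟨m, hm, rfl⟩ := exists_cw_of_mem hv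
  rw [dot_ofMask, natCast_zmod2]
  exact even_pop24_cw_and n m hn hm

/-- the low masks pair non-degenerately with the basis of the code -/
def dualOK : ℕ → Bool
  | 0 => true
  | r + 1 => (r == 0 || (List.range 12).any (fun k => pop24 (r &&& cw (2 ^ k)) % 2 == 1)) && dualOK r

set_option maxRecDepth 1000000 in
theorem dualOK_4096 : dualOK 4096 = true := by decide +kernel

theorem dual_spec : ∀ N : ℕ, dualOK N = true → ∀ r < N, r ≠ 0 →
    ∃ k < 12, pop24 (r &&& cw (2 ^ k)) % 2 = 1 := by
  intro N
  induction N with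
  | zero => intro _ r hr; exact absurd hr (Nat.not_lt_zero r)
  | succ N ih =>
    intro h r hr hr0
    rw [dualOK, Bool.and_eq_true] at h
    rcases Nat.lt_succ_iff_lt_or_eq.mp hr with h1 | rfl
    · exact ih h.2 r h1 hr0
    · have h2 := h.1
      rw [Bool.or_eq_true] at h2
      rcases h2 with h2 | h2
      · exact absurd (by simpa using h2) hr0
      · rw [List.any_eq_true] at h2
        obtain ⟨k, hk, hk2⟩ := h2
        exact ⟨k, List.mem_range.1 hk, by simpa using hk2⟩

/-- the code is its own orthogonal complement -/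
theorem mem_code_of_dot (w : GolayPt → ZMod 2) (h : ∀ c ∈ golayCode, dot w c = 0) :
    w ∈ golayCode := by
  obtain ⟨r, hr, c, hc, rfl⟩ := exists_rep w
  by_cases hr0 : r = 0
  · rw [hr0, ofMask_zero, zero_add]; exact hc
  exfalso
  obtain ⟨k, -, hk⟩ := dual_spec 4096 dualOK_4096 r hr hr0
  have h1 := h (ofMask (cw (2 ^ k))) (cw_mem _)
  rw [dot_add_left, dot_code hc (cw_mem _), add_zero, dot_ofMask, natCast_zmod2] at h1
  omega



open Cfsg.Agent.Helper27 Cfsg.Agent.Helper29

section star

variable {P : Type*} [DecidableEq P]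

theorem card_symmDiff_add (A B : Finset P) :
    (symmDiff A B).card + 2 * (A ∩ B).card = A.card + B.card := by
  have h1 : symmDiff A B = (A \ B) ∪ (B \ A) := rfl
  have h2 : Disjoint (A \ B) (B \ A) := disjoint_sdiff_sdiff
  rw [h1, Finset.card_union_of_disjoint h2]
  have h3 := Finset.card_sdiff_add_card_inter A B
  have h4 := Finset.card_sdiff_add_card_inter B A
  rw [Finset.inter_comm B A] at h4
  omega

/-- the combinatorial core: a system of pairs indexed by pairs, compatible with symmetric
differences, comes from an injective map of points -/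
theorem star (hP : ∀ S : Finset P, S.card ≤ 3 → ∃ x, x ∉ S) (D : P → P → Finset P)
    (h2 : ∀ i j, i ≠ j → (D i j).card = 2)
    (hs : ∀ i j, i ≠ j → D i j = D j i)
    (ht : ∀ i j m, i ≠ j → j ≠ m → i ≠ m → symmDiff (D i j) (D j m) = D i m)
    (hi : ∀ i j i' j', i ≠ j → i' ≠ j' → D i j = D i' j' →
      (i = i' ∧ j = j') ∨ (i = j' ∧ j = i')) :
    ∃ π : P → P, Function.Injective π ∧ ∀ i j, i ≠ j → D i j = {π i, π j} := by
  -- two of the pairs through `i` meet in exactly one point
  have inter1 : ∀ i j j', i ≠ j → i ≠ j' → j ≠ j' → (D i j ∩ D i j').card = 1 := by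
    intro i j j' hij hij' hjj'
    have e1 : symmDiff (D i j) (D i j') = D j j' := by
      rw [hs i j hij]
      exact ht j i j' (Ne.symm hij) hij' hjj'
    have e2 := card_symmDiff_add (D i j) (D i j')
    rw [e1, h2 j j' hjj', h2 i j hij, h2 i j' hij'] at e2
    omega
  have key : ∀ i, ∃ a, ∀ j, j ≠ i → a ∈ D i j := by
    intro i
    obtain ⟨j₀, hj₀⟩ := hP {i} (by simp)
    obtain ⟨j₁, hj₁⟩ := hP {i, j₀} (le_trans (Finset.card_insert_le _ _) (by simp))
    rw [Finset.mem_singleton] at hj₀
    rw [Finset.mem_insert, Finset.mem_singleton, not_or] at hj₁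
    have hij₀ : i ≠ j₀ := Ne.symm hj₀
    have hij₁ : i ≠ j₁ := Ne.symm hj₁.1
    have hj₀₁ : j₀ ≠ j₁ := Ne.symm hj₁.2
    obtain ⟨a, ha⟩ := Finset.card_eq_one.1 (inter1 i j₀ j₁ hij₀ hij₁ hj₀₁)
    have haA : a ∈ D i j₀ := (Finset.mem_inter.1 (ha ▸ Finset.mem_singleton_self a)).1
    have haB : a ∈ D i j₁ := (Finset.mem_inter.1 (ha ▸ Finset.mem_singleton_self a)).2
    refine ⟨a, fun j hji => ?_⟩
    by_cases hj0 : j = j₀
    · rw [hj0]; exact haA
    by_cases hj1 : j = j₁
    · rw [hj1]; exact haB
    by_contra haC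
    have hij : i ≠ j := Ne.symm hji
    -- the pair `D i j` avoids `a`, hence is the symmetric difference of the two others
    have sub : ∀ j', i ≠ j' → j' ≠ j → a ∈ D i j' → D i j' \ {a} ⊆ D i j := by
      intro j' hij' hj'j haj'
      have c1 := inter1 i j' j hij' hij hj'j
      have c2 : (D i j' \ {a}).card = 1 := by
        rw [Finset.card_sdiff_of_subset (Finset.singleton_subset_iff.2 haj'), h2 i j' hij',
          Finset.card_singleton]
      have c3 : D i j' ∩ D i j ⊆ D i j' \ {a} := by
        intro x hx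
        rw [Finset.mem_inter] at hx
        rw [Finset.mem_sdiff, Finset.mem_singleton]
        exact ⟨hx.1, fun hxa => haC (hxa ▸ hx.2)⟩
      have c4 := Finset.eq_of_subset_of_card_le c3 (by rw [c1, c2])
      rw [← c4]
      exact Finset.inter_subset_right
    have s0 := sub j₀ hij₀ (Ne.symm hj0) haA
    have s1 := sub j₁ hij₁ (Ne.symm hj1) haB
    have e1 : symmDiff (D i j₀) (D i j₁) = D j₀ j₁ := by
      rw [hs i j₀ hij₀]
      exact ht j₀ i j₁ (Ne.symm hij₀) hij₁ hj₀₁
    have e2 : D j₀ j₁ ⊆ D i j := by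
      rw [← e1]
      intro x hx
      rw [Finset.mem_symmDiff] at hx
      rcases hx with ⟨hxA, hxB⟩ | ⟨hxB, hxA⟩
      · apply s0
        rw [Finset.mem_sdiff, Finset.mem_singleton]
        exact ⟨hxA, fun hxa => hxB (hxa ▸ haB)⟩
      · apply s1
        rw [Finset.mem_sdiff, Finset.mem_singleton]
        exact ⟨hxB, fun hxa => hxA (hxa ▸ haA)⟩
    have e3 := Finset.eq_of_subset_of_card_le e2 (by rw [h2 j₀ j₁ hj₀₁, h2 i j hij])
    rcases hi j₀ j₁ i j hj₀₁ hij e3 with ⟨h, -⟩ | ⟨-, h⟩
    · exact hj₀ h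
    · exact hj₁.1 h
  choose π hπ using key
  have hinj : Function.Injective π := by
    intro i j hπij
    by_contra hij
    obtain ⟨m, hm⟩ := hP {i, j} (le_trans (Finset.card_insert_le _ _) (by simp))
    rw [Finset.mem_insert, Finset.mem_singleton, not_or] at hm
    have h1 : π i ∈ D i m := hπ i m hm.1
    have h2' : π i ∈ D m j := by
      rw [hπij, ← hs j m (Ne.symm hm.2)]
      exact hπ j m hm.2
    have h3 : π i ∈ D i j := hπ i j (Ne.symm hij)
    rw [← ht i m j (Ne.symm hm.1) hm.2 hij, Finset.mem_symmDiff] at h3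
    rcases h3 with ⟨-, h⟩ | ⟨-, h⟩
    · exact h h2'
    · exact h h1
  refine ⟨π, hinj, fun i j hij => ?_⟩
  have h1 : π i ∈ D i j := hπ i j (Ne.symm hij)
  have h2' : π j ∈ D i j := by
    rw [hs i j hij]
    exact hπ j i hij
  have hne : π i ≠ π j := fun h => hij (hinj h)
  have hsub : ({π i, π j} : Finset P) ⊆ D i j := by
    intro x hx
    rw [Finset.mem_insert, Finset.mem_singleton] at hx
    rcases hx with rfl | rfl
    · exact h1
    · exact h2'
  exact (Finset.eq_of_subset_of_card_le hsub (by rw [h2 i j hij, Finset.card_pair hne])).symm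

end star



open Cfsg.Agent.Helper27 Cfsg.Agent.Helper29

/-- the indicator word of a set of points -/
def ind (S : Finset GolayPt) : GolayPt → ZMod 2 := fun p => if p ∈ S then 1 else 0

theorem ind_symmDiff (S T : Finset GolayPt) : ind (symmDiff S T) = ind S + ind T := by
  funext p
  unfold ind
  rw [Pi.add_apply]
  by_cases hS : p ∈ S <;> by_cases hT : p ∈ T <;> simp [Finset.mem_symmDiff, hS, hT] <;> decide

theorem support_ind (S : Finset GolayPt) : support₂ (ind S) = S := by
  ext p
  unfold support₂ ind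
  rw [Finset.mem_filter]
  by_cases hS : p ∈ S <;> simp [hS]

theorem dot_ind (S : Finset GolayPt) (c : GolayPt → ZMod 2) : dot (ind S) c = ∑ s ∈ S, c s := by
  unfold dot ind
  simp only [ite_mul, one_mul, zero_mul]
  rw [Finset.sum_ite_mem, Finset.univ_inter]

theorem dot_ind_pair {i j : GolayPt} (hij : i ≠ j) (c : GolayPt → ZMod 2) :
    dot (ind {i, j}) c = c i + c j := by
  rw [dot_ind, Finset.sum_pair hij]

/-- a set of at most seven points whose indicator is orthogonal to the code is empty -/
theorem key_small (S : Finset GolayPt) (hS : S.card ≤ 7)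
    (h : ∀ c ∈ golayCode, dot (ind S) c = 0) : S = ∅ := by
  have h1 := mem_code_of_dot (ind S) h
  by_contra hne
  have h2 : ind S ≠ 0 := by
    intro h0
    apply hne
    rw [← support_ind S, h0]
    unfold support₂
    simp
  have h3 := golay_min_weight h1 h2
  rw [support_ind] at h3
  omega

/-- two sets with at most seven points in total inducing the same functional on the code agree -/
theorem eq_of_dot_eq (S T : Finset GolayPt) (hST : S.card + T.card ≤ 7)
    (h : ∀ c ∈ golayCode, dot (ind S) c = dot (ind T) c) : S = T := by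
  have h1 : symmDiff S T = ∅ := by
    apply key_small
    · have := card_symmDiff_add S T
      omega
    · intro c hc
      rw [ind_symmDiff, dot_add_left, h c hc]
      have : ∀ a : ZMod 2, a + a = 0 := by decide
      exact this _
  exact symmDiff_eq_bot.1 h1



open Cfsg.Agent.Helper27 Cfsg.Agent.Helper29

/-- the code as a type -/
abbrev GC : Type := ↥golayCode

/-- the all-ones word -/
def uu : GC := ⟨1, one_mem_golayCode⟩

/-- the line spanned by the all-ones word -/
def PP : Submodule (ZMod 2) GC := Submodule.span (ZMod 2) {uu}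

theorem uu_mem : uu ∈ PP := Submodule.subset_span rfl

/-- the code modulo the all-ones word -/
abbrev VV : Type := GC ⧸ PP

theorem map_PP (x : GC ≃ₗ[ZMod 2] GC) (hx : x uu = uu) :
    PP.map (x : GC →ₗ[ZMod 2] GC) = PP := by
  unfold PP
  rw [Submodule.map_span, Set.image_singleton]
  show Submodule.span (ZMod 2) {x uu} = _
  rw [hx]

/-- the induced map on the quotient -/
noncomputable def bar (x : GC ≃ₗ[ZMod 2] GC) (hx : x uu = uu) : VV ≃ₗ[ZMod 2] VV :=
  Submodule.Quotient.equiv PP PP x (map_PP x hx)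

theorem bar_mk (x : GC ≃ₗ[ZMod 2] GC) (hx : x uu = uu) (c : GC) :
    bar x hx (Submodule.Quotient.mk c) = Submodule.Quotient.mk (x c) := by
  unfold bar
  rw [Submodule.Quotient.equiv_apply, Submodule.mapQ_apply]
  rfl

/-- the image in the linear group of the quotient of a group fixing the all-ones word -/
def quoSub (S : Subgroup (GC ≃ₗ[ZMod 2] GC)) : Subgroup (VV ≃ₗ[ZMod 2] VV) where
  carrier := {y | ∃ x ∈ S, ∀ c : GC, y (Submodule.Quotient.mk c) = Submodule.Quotient.mk (x c)}
  one_mem' := ⟨1, S.one_mem, fun c => rfl⟩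
  mul_mem' := by
    rintro y₁ y₂ ⟨x₁, hx₁, h₁⟩ ⟨x₂, hx₂, h₂⟩
    refine ⟨x₁ * x₂, S.mul_mem hx₁ hx₂, fun c => ?_⟩
    show y₁ (y₂ (Submodule.Quotient.mk c)) = Submodule.Quotient.mk (x₁ (x₂ c))
    rw [h₂, h₁]
  inv_mem' := by
    rintro y ⟨x, hx, h⟩
    refine ⟨x⁻¹, S.inv_mem hx, fun c => ?_⟩
    show y.symm (Submodule.Quotient.mk c) = Submodule.Quotient.mk (x.symm c)
    rw [LinearEquiv.symm_apply_eq, h, LinearEquiv.apply_symm_apply]

theorem mem_quoSub {S : Subgroup (GC ≃ₗ[ZMod 2] GC)} {y : VV ≃ₗ[ZMod 2] VV} :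
    y ∈ quoSub S ↔ ∃ x ∈ S, ∀ c : GC, y (Submodule.Quotient.mk c) = Submodule.Quotient.mk (x c) :=
  Iff.rfl

theorem quoSub_mono {S T : Subgroup (GC ≃ₗ[ZMod 2] GC)} (h : S ≤ T) : quoSub S ≤ quoSub T := by
  rintro y ⟨x, hx, hy⟩
  exact ⟨x, h hx, hy⟩

theorem bar_mem_quoSub {S : Subgroup (GC ≃ₗ[ZMod 2] GC)} {x : GC ≃ₗ[ZMod 2] GC} (hx : x ∈ S)
    (hxu : x uu = uu) : bar x hxu ∈ quoSub S :=
  ⟨x, hx, bar_mk x hxu⟩

theorem symm_mk {y : VV ≃ₗ[ZMod 2] VV} {x : GC ≃ₗ[ZMod 2] GC}
    (h : ∀ c : GC, y (Submodule.Quotient.mk c) = Submodule.Quotient.mk (x c)) (c : GC) :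
    y.symm (Submodule.Quotient.mk c) = Submodule.Quotient.mk (x.symm c) := by
  rw [LinearEquiv.symm_apply_eq, h, LinearEquiv.apply_symm_apply]

/-- the action of the group of the code on the code -/
def pwHom : ↥M24 →* (GC ≃ₗ[ZMod 2] GC) where
  toFun σ :=
    { toFun := fun c => ⟨permWord σ.1 c.1, permWord_mem_of_mem_M24 σ.2 c.2⟩
      invFun := fun c => ⟨permWord σ.1⁻¹ c.1, permWord_mem_of_mem_M24 (M24.inv_mem σ.2) c.2⟩
      map_add' := fun _ _ => rfl
      map_smul' := fun _ _ => rfl
      left_inv := fun c => Subtype.ext (permWord_inv_permWord σ.1 c.1)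
      right_inv := fun c => Subtype.ext (permWord_permWord_inv σ.1 c.1) }
  map_one' := rfl
  map_mul' _ _ := rfl

theorem pwHom_apply (σ : ↥M24) (c : GC) : ((pwHom σ c : GC) : GolayPt → ZMod 2) = permWord σ.1 c.1 :=
  rfl

theorem pwHom_symm_apply (σ : ↥M24) (c : GC) (p : GolayPt) :
    (((pwHom σ).symm c : GC) : GolayPt → ZMod 2) p = c.1 (σ.1 p) := by
  show permWord σ.1⁻¹ c.1 p = _
  unfold permWord
  rfl

theorem pwHom_uu (σ : ↥M24) : pwHom σ uu = uu := Subtype.ext rfl

/-- the coordinate-sum functional of two points on the quotient -/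
def lij (i j : GolayPt) : Module.Dual (ZMod 2) VV :=
  PP.liftQ (((LinearMap.proj i : (GolayPt → ZMod 2) →ₗ[ZMod 2] ZMod 2) +
    (LinearMap.proj j : (GolayPt → ZMod 2) →ₗ[ZMod 2] ZMod 2)) ∘ₗ golayCode.subtype) (by
    unfold PP
    rw [Submodule.span_le]
    intro c hc
    rw [Set.mem_singleton_iff] at hc
    subst hc
    show (1 : ZMod 2) + 1 = 0
    decide)

theorem lij_mk (i j : GolayPt) (c : GC) : lij i j (Submodule.Quotient.mk c) = c.1 i + c.1 j := by
  unfold lij
  rw [Submodule.liftQ_apply]
  rfl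

theorem finite_VV : Finite VV := by
  haveI : Finite GC := Finite.of_injective (fun c : GC => c.1) Subtype.val_injective
  exact Finite.of_surjective _ (Submodule.Quotient.mk_surjective PP)

/-- the key consequence of Brauer's lemma: the pair functionals are permuted -/
theorem pair_functional (X : Subgroup (GC ≃ₗ[ZMod 2] GC))
    (h1 : ∀ x ∈ X, x uu = uu)
    (hM : ∀ σ : ↥M24, pwHom σ ∈ X)
    (horb : ∀ x ∈ X, ∀ c : GC, ∃ σ : ↥M24, x c = pwHom σ c ∨ x c = pwHom σ c + uu)
    (x : GC ≃ₗ[ZMod 2] GC) (hx : x ∈ X) (i j : GolayPt) :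
    ∃ σ : ↥M24, ∀ c : GC, (x.symm c).1 i + (x.symm c).1 j = c.1 (σ.1 i) + c.1 (σ.1 j) := by
  haveI := finite_VV
  have hle : quoSub pwHom.range ≤ quoSub X := by
    apply quoSub_mono
    rintro _ ⟨σ, rfl⟩
    exact hM σ
  have hsame : ∀ y ∈ quoSub X, ∀ v : VV, ∃ g ∈ quoSub pwHom.range, y v = g v := by
    rintro y ⟨x', hx', hy⟩ v
    obtain ⟨c, rfl⟩ := Submodule.Quotient.mk_surjective PP v
    obtain ⟨σ, hσ⟩ := horb x' hx' c
    refine ⟨bar (pwHom σ) (pwHom_uu σ),
      bar_mem_quoSub (S := pwHom.range) (MonoidHom.mem_range.2 ⟨σ, rfl⟩) _, ?_⟩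
    rw [hy, bar_mk]
    rcases hσ with hσ | hσ
    · rw [hσ]
    · rw [hσ, Submodule.Quotient.mk_add]
      have : (Submodule.Quotient.mk uu : VV) = 0 :=
        (Submodule.Quotient.mk_eq_zero PP).2 uu_mem
      rw [this, add_zero]
  have hB := same_orbits_dual (quoSub pwHom.range) (quoSub X) hle hsame
    (bar x (h1 x hx)) (bar_mem_quoSub hx _) (lij i j)
  obtain ⟨g, ⟨x', ⟨σ, rfl⟩, hg⟩, hgl⟩ := hB
  refine ⟨σ, fun c => ?_⟩
  have := hgl (Submodule.Quotient.mk c)
  rw [symm_mk (bar_mk x (h1 x hx)), symm_mk hg, lij_mk, lij_mk, pwHom_symm_apply,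
    pwHom_symm_apply] at this
  exact this



open Cfsg.Agent.Helper27 Cfsg.Agent.Helper29

theorem z2_add_self' (a : ZMod 2) : a + a = 0 := by revert a; decide

theorem exists_notMem_small (S : Finset GolayPt) (hS : S.card ≤ 3) : ∃ x, x ∉ S := by
  by_contra h
  push_neg at h
  have h1 : S = Finset.univ := Finset.eq_univ_iff_forall.2 h
  have h2 : (Finset.univ : Finset GolayPt).card = 24 := by decide
  rw [h1, h2] at hS
  omega

theorem pair_eq_pair {i j i' j' : GolayPt} (hij : i ≠ j) (hij' : i' ≠ j')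
    (h : ({i, j} : Finset GolayPt) = {i', j'}) : (i = i' ∧ j = j') ∨ (i = j' ∧ j = i') := by
  have hi : i ∈ ({i', j'} : Finset GolayPt) := by rw [← h]; simp
  have hj : j ∈ ({i', j'} : Finset GolayPt) := by rw [← h]; simp
  rw [Finset.mem_insert, Finset.mem_singleton] at hi hj
  rcases hi with hi | hi
  · rcases hj with hj | hj
    · exact absurd (hi.trans hj.symm) hij
    · exact Or.inl ⟨hi, hj⟩
  · rcases hj with hj | hj
    · exact Or.inr ⟨hi, hj⟩
    · exact absurd (hi.trans hj.symm) hij

/-- an element of a group with the orbits of the group of the code acts, modulo the all-ones word,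
as a coordinate permutation -/
theorem exists_perm (X : Subgroup (GC ≃ₗ[ZMod 2] GC))
    (h1 : ∀ x ∈ X, x uu = uu)
    (hM : ∀ σ : ↥M24, pwHom σ ∈ X)
    (horb : ∀ x ∈ X, ∀ c : GC, ∃ σ : ↥M24, x c = pwHom σ c ∨ x c = pwHom σ c + uu)
    (x : GC ≃ₗ[ZMod 2] GC) (hx : x ∈ X) :
    ∃ π : GolayPt → GolayPt, Function.Injective π ∧ ∀ i j, i ≠ j → ∀ c : GC,
      (x.symm c).1 i + (x.symm c).1 j = c.1 (π i) + c.1 (π j) := by
  have hpf := pair_functional X h1 hM horb x hx
  have hD : ∀ i j : GolayPt, ∃ d : Finset GolayPt, i ≠ j → d.card = 2 ∧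
      ∀ c : GC, (x.symm c).1 i + (x.symm c).1 j = dot (ind d) c.1 := by
    intro i j
    obtain ⟨σ, hσ⟩ := hpf i j
    refine ⟨{σ.1 i, σ.1 j}, fun hij => ?_⟩
    have hne : σ.1 i ≠ σ.1 j := fun h => hij (σ.1.injective h)
    refine ⟨Finset.card_pair hne, fun c => ?_⟩
    rw [dot_ind_pair hne, hσ c]
  choose D hD using hD
  have hval : ∀ i j, i ≠ j → ∀ c (hc : c ∈ golayCode),
      dot (ind (D i j)) c = (x.symm ⟨c, hc⟩).1 i + (x.symm ⟨c, hc⟩).1 j := by
    intro i j hij c hc
    exact ((hD i j hij).2 ⟨c, hc⟩).symm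
  have h2 : ∀ i j, i ≠ j → (D i j).card = 2 := fun i j hij => (hD i j hij).1
  have hs : ∀ i j, i ≠ j → D i j = D j i := by
    intro i j hij
    apply eq_of_dot_eq
    · rw [h2 i j hij, h2 j i (Ne.symm hij)]; decide
    · intro c hc
      rw [hval i j hij c hc, hval j i (Ne.symm hij) c hc, add_comm]
  have ht : ∀ i j m, i ≠ j → j ≠ m → i ≠ m → symmDiff (D i j) (D j m) = D i m := by
    intro i j m hij hjm him
    apply eq_of_dot_eq
    · have := card_symmDiff_add (D i j) (D j m)
      rw [h2 i j hij, h2 j m hjm] at this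
      rw [h2 i m him]
      omega
    · intro c hc
      rw [ind_symmDiff, dot_add_left, hval i j hij c hc, hval j m hjm c hc, hval i m him c hc]
      generalize (x.symm ⟨c, hc⟩).1 i = a
      generalize (x.symm ⟨c, hc⟩).1 j = b
      generalize (x.symm ⟨c, hc⟩).1 m = d
      revert a b d
      decide
  have hi : ∀ i j i' j', i ≠ j → i' ≠ j' → D i j = D i' j' →
      (i = i' ∧ j = j') ∨ (i = j' ∧ j = i') := by
    intro i j i' j' hij hij' hDD
    apply pair_eq_pair hij hij'
    apply eq_of_dot_eq
    · rw [Finset.card_pair hij, Finset.card_pair hij']; decide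
    · intro a ha
      rw [dot_ind_pair hij, dot_ind_pair hij']
      have e1 := hval i j hij (x ⟨a, ha⟩).1 (x ⟨a, ha⟩).2
      have e2 := hval i' j' hij' (x ⟨a, ha⟩).1 (x ⟨a, ha⟩).2
      rw [hDD] at e1
      rw [e1] at e2
      have e3 : x.symm ⟨(x ⟨a, ha⟩).1, (x ⟨a, ha⟩).2⟩ = ⟨a, ha⟩ := x.symm_apply_apply _
      rw [e3] at e2
      exact e2
  obtain ⟨π, hinj, hπ⟩ := star exists_notMem_small D h2 hs ht hi
  refine ⟨π, hinj, fun i j hij c => ?_⟩
  have hne : π i ≠ π j := fun h => hij (hinj h)
  rw [(hD i j hij).2 c, hπ i j hij, dot_ind_pair hne]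

theorem const_of_pairs (w : GolayPt → ZMod 2) (h : ∀ i j, i ≠ j → w i + w j = 0) :
    w = 0 ∨ w = 1 := by
  have hc : ∀ i j, w i = w j := by
    intro i j
    by_cases hij : i = j
    · rw [hij]
    · have := h i j hij
      have key : ∀ a b : ZMod 2, a + b = 0 → a = b := by decide
      exact key _ _ this
  have key : ∀ a : ZMod 2, a = 0 ∨ a = 1 := by decide
  rcases key (w none) with h0 | h0
  · left
    funext p
    rw [hc p none, h0]; rfl
  · right
    funext p
    rw [hc p none, h0]; rfl

/-- the main theorem in the language of the library -/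
theorem main_perm (X : Subgroup (GC ≃ₗ[ZMod 2] GC))
    (h1 : ∀ x ∈ X, x uu = uu)
    (hM : ∀ σ : ↥M24, pwHom σ ∈ X)
    (horb : ∀ x ∈ X, ∀ c : GC, ∃ σ : ↥M24, x c = pwHom σ c ∨ x c = pwHom σ c + uu)
    (x : GC ≃ₗ[ZMod 2] GC) (hx : x ∈ X) :
    ∃ τ ∈ M24, ∀ c : GC, (x.symm c).1 = permWord τ c.1 ∨ (x.symm c).1 = permWord τ c.1 + 1 := by
  obtain ⟨π, hinj, hπ⟩ := exists_perm X h1 hM horb x hx
  set σ : Equiv.Perm GolayPt := Equiv.ofBijective π (Finite.injective_iff_bijective.1 hinj) with hσ
  have hσp : ∀ p, σ p = π p := fun p => rfl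
  have hmain : ∀ c : GC, (x.symm c).1 = permWord σ⁻¹ c.1 ∨ (x.symm c).1 = permWord σ⁻¹ c.1 + 1 := by
    intro c
    have hw : ∀ i j, i ≠ j → ((x.symm c).1 + permWord σ⁻¹ c.1) i +
        ((x.symm c).1 + permWord σ⁻¹ c.1) j = 0 := by
      intro i j hij
      have e := hπ i j hij c
      have ei : permWord σ⁻¹ c.1 i = c.1 (π i) := rfl
      have ej : permWord σ⁻¹ c.1 j = c.1 (π j) := rfl
      rw [Pi.add_apply, Pi.add_apply, ei, ej]
      have key : ∀ a b u v : ZMod 2, a + b = u + v → a + u + (b + v) = 0 := by decide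
      exact key _ _ _ _ e
    rcases const_of_pairs _ hw with h0 | h0
    · left
      have key : ∀ u v : GolayPt → ZMod 2, u + v = 0 → u = v := by
        intro u v huv
        funext p
        have := congrFun huv p
        have key' : ∀ a b : ZMod 2, a + b = 0 → a = b := by decide
        exact key' _ _ this
      exact key _ _ h0
    · right
      funext p
      have := congrFun h0 p
      rw [Pi.add_apply] at this ⊢
      have key' : ∀ a b : ZMod 2, a + b = 1 → a = b + 1 := by decide
      exact key' _ _ this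
  have hpres : ∀ w ∈ golayCode, permWord σ⁻¹ w ∈ golayCode := by
    intro w hw
    rcases hmain ⟨w, hw⟩ with h | h
    · rw [← h]; exact (x.symm ⟨w, hw⟩).2
    · have e : permWord σ⁻¹ w = (x.symm ⟨w, hw⟩).1 + 1 := by
        change (x.symm ⟨w, hw⟩).1 = permWord σ⁻¹ w + 1 at h
        rw [h, add_assoc]
        have : (1 : GolayPt → ZMod 2) + 1 = 0 := by
          funext p; exact z2_add_self' 1
        rw [this, add_zero]
      rw [e]
      exact golayCode.add_mem (x.symm ⟨w, hw⟩).2 one_mem_golayCode
  have hpres' : ∀ w ∈ golayCode, permWord (σ⁻¹)⁻¹ w ∈ golayCode := by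
    have : Finite GC := Finite.of_injective (fun c : GC => c.1) Subtype.val_injective
    set f : GC → GC := fun c => ⟨permWord σ⁻¹ c.1, hpres c.1 c.2⟩ with hf
    have hfi : Function.Injective f := by
      intro a b hab
      have h := congrArg (fun c : GC => permWord σ c.1) hab
      simp only [hf] at h
      have ea := permWord_permWord_inv σ a.1
      have eb := permWord_permWord_inv σ b.1
      rw [ea, eb] at h
      exact Subtype.ext h
    have hfs := Finite.injective_iff_surjective.1 hfi
    intro w hw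
    obtain ⟨c, hc⟩ := hfs ⟨w, hw⟩
    have h := congrArg (fun c : GC => c.1) hc
    simp only [hf] at h
    rw [inv_inv, ← h, permWord_permWord_inv]
    exact c.2
  refine ⟨σ⁻¹, mem_M24_of_preserves σ⁻¹ hpres hpres', hmain⟩


end Cfsg.Agent.Helper27.GolayDual
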