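import Mathlib
import Cfsg.Agent.Lib.Helper15.S74Defs

/-! S74-ORDUTIL (S2474, design helper15). -/

set_option autoImplicit false

namespace Cfsg.Agent.Helper15.S74

universe u

variable {F : Type u} [Field F]

/-- S74-ORDUTIL -/
theorem dvd_of_geom_sum_eq_zero {U : Type u} [AddCommGroup U] [Module F U] [Nontrivial U]
    (x : Module.End F U) (r : ℕ) (hr : r.Prime) (hrF : (r : F) ≠ 0)
    (hsum : ∑ i ∈ Finset.range r, x ^ i = 0) (m : ℕ) (hm : x ^ m = 1) : r ∣ m := by
  by_contra hnd
  have hxr : x ^ r = 1 := by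
    have := geom_sum_mul x r
    rw [hsum, zero_mul] at this
    exact (sub_eq_zero.mp this.symm)
  have hcop : Nat.Coprime r m := (Nat.Prime.coprime_iff_not_dvd hr).mpr hnd
  have h1 : orderOf x ∣ r := orderOf_dvd_of_pow_eq_one hxr
  have h2 : orderOf x ∣ m := orderOf_dvd_of_pow_eq_one hm
  have h3 : orderOf x ∣ 1 := by
    have := Nat.dvd_gcd h1 h2
    rwa [hcop.gcd_eq_one] at this
  have hx1 : x = 1 := orderOf_eq_one_iff.mp (Nat.dvd_one.mp h3)
  subst hx1
  simp only [one_pow, Finset.sum_const, Finset.card_range] at hsum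
  obtain ⟨u, hu⟩ := exists_ne (0 : U)
  have h4 : (r • (1 : Module.End F U)) u = 0 := by rw [hsum]; rfl
  rw [LinearMap.smul_apply, Module.End.one_apply, ← Nat.cast_smul_eq_nsmul F r u] at h4
  rcases smul_eq_zero.mp h4 with h | h
  · exact hrF h
  · exact hu h

end Cfsg.Agent.Helper15.S74
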