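import Mathlib
import Cfsg.Agent.Lib.Helper15.S74Defs

/-! S74-PERPDIM (S2474, design helper15). -/

set_option autoImplicit false

namespace Cfsg.Agent.Helper15.S74

universe u

variable {F : Type u} [Field F]

/-- S74-PERPDIM -/
theorem finrank_add_finrank_orthogonal' {U : Type u} [AddCommGroup U] [Module F U]
    [FiniteDimensional F U] (β : LinearMap.BilinForm F U) (h : LND β) (M : Submodule F U) :
    Module.finrank F M + Module.finrank F (β.orthogonal M) = Module.finrank F U := by
  have hinj : Function.Injective β := by
    rw [← LinearMap.ker_eq_bot, LinearMap.ker_eq_bot']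
    intro x hx
    exact h x (fun y => by rw [hx]; rfl)
  have heq : β.orthogonal M = (M.map β).dualCoannihilator := by
    ext x
    simp only [LinearMap.BilinForm.mem_orthogonal_iff, Submodule.mem_dualCoannihilator,
      Submodule.mem_map]
    constructor
    · rintro hx φ ⟨a, ha, rfl⟩
      exact hx a ha
    · intro hx a ha
      exact hx (β a) ⟨a, ha, rfl⟩
  rw [heq, ← Subspace.finrank_add_finrank_dualCoannihilator_eq (M.map β)]
  congr 1
  exact LinearEquiv.finrank_eq (Submodule.equivMapOfInjective β hinj M)

end Cfsg.Agent.Helper15.S74
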