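import Mathlib
import Cfsg.Prelude.Def_Solvable
import Cfsg.Prelude.Def_Transfer

set_option autoImplicit false
open Cfsg

namespace Cfsg.Agent.Helper27

variable {G : Type*} [Group G]

theorem pCore_normal (p : ℕ) : (pCore p G).Normal :=
  Subgroup.sSup_normal _ fun _ hH => hH.1

theorem pCore_isPGroup (p : ℕ) : IsPGroup p (pCore p G) :=
  Sylow.sSup_of_normal _ (fun _ hH => hH.2) (fun _ hH => hH.1)

theorem le_pCore {p : ℕ} {N : Subgroup G} (hN : N.Normal) (hp : IsPGroup p N) : N ≤ pCore p G :=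
  le_sSup ⟨hN, hp⟩

/-- An element of 2-power order lying in a subgroup of odd order is trivial. -/
theorem eq_one_of_two_pow_of_mem_odd {c : G} {n : ℕ} (h2 : c ^ 2 ^ n = 1) {K : Subgroup G}
    (hK : Odd (Nat.card K)) (hc : c ∈ K) : c = 1 := by
  have h1 : orderOf c ∣ 2 ^ n := orderOf_dvd_of_pow_eq_one h2
  have h3 : orderOf c ∣ Nat.card K := by
    have := orderOf_dvd_natCard (⟨c, hc⟩ : K)
    rwa [Subgroup.orderOf_mk] at this
  have hcop : Nat.Coprime (2 ^ n) (Nat.card K) :=
    Nat.Coprime.pow_left n (Nat.coprime_two_left.mpr hK)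
  have : orderOf c ∣ 1 := by
    rw [← hcop]; exact Nat.dvd_gcd h1 h3
  exact orderOf_eq_one_iff.mp (Nat.dvd_one.mp this)

/-- An element lying in a 2-subgroup and in a subgroup of odd order is trivial. -/
theorem eq_one_of_mem_two_group_of_mem_odd {c : G} {R K : Subgroup G} (hR : IsPGroup 2 R)
    (hK : Odd (Nat.card K)) (hcR : c ∈ R) (hcK : c ∈ K) : c = 1 := by
  obtain ⟨n, hn⟩ := hR ⟨c, hcR⟩
  have : c ^ 2 ^ n = 1 := by
    have := congrArg Subtype.val hn
    simpa using this
  exact eq_one_of_two_pow_of_mem_odd this hK hcK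

end Cfsg.Agent.Helper27
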