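import Mathlib
import Cfsg.Prelude.Def_JComponents
import Cfsg.Agent.Lib.Helper13.JCFFDefs
import Cfsg.Agent.Lib.Helper4.ThompsonTransport
import Cfsg.Agent.Lib.Helper14.Ambient

/-!
# KS12, PIECE TR (helper27): the `J(T)`-component set-up along an injective homomorphism
-/

set_option autoImplicit false
set_option linter.unusedSectionVars false
set_option linter.unusedVariables false

namespace Cfsg.Agent.Helper13.JCFF

open Cfsg
open scoped commutatorElement

section transport

variable {G : Type*} [Group G]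

/-- the subtype of the image composed with the canonical isomorphism is `f` on the subgroup -/
theorem tr_subtype_comp {X : Type*} [Group X] (f : X →* G) (hf : Function.Injective f)
    (T : Subgroup X) :
    (T.map f).subtype.comp (T.equivMapOfInjective f hf).toMonoidHom = f.comp T.subtype := by
  ext x
  simp

theorem thompsonSubgroupOf_map_inj {X : Type*} [Group X] (f : X →* G) (hf : Function.Injective f)
    (T : Subgroup X) : thompsonSubgroupOf 2 (T.map f) = (thompsonSubgroupOf 2 T).map f := by
  unfold thompsonSubgroupOf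
  rw [← Cfsg.Agent.Helper4.thompsonSubgroup_map (T.equivMapOfInjective f hf), Subgroup.map_map,
    Subgroup.map_map, tr_subtype_comp]

theorem tr_pCoreOf_map {X : Type*} [Group X] (f : X →* G) (hf : Function.Injective f)
    (p : ℕ) (K : Subgroup X) : pCoreOf p (K.map f) = (pCoreOf p K).map f := by
  unfold pCoreOf
  rw [← Cfsg.Agent.Helper14.pCore_map_equiv (K.equivMapOfInjective f hf), Subgroup.map_map,
    Subgroup.map_map, tr_subtype_comp]

theorem tr_omegaOne_map {X : Type*} [Group X] (f : X →* G) (hf : Function.Injective f)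
    (p : ℕ) (H : Subgroup X) : omegaOne p (H.map f) = (omegaOne p H).map f := by
  unfold omegaOne
  rw [MonoidHom.map_closure]
  congr 1
  ext y
  constructor
  · rintro ⟨⟨x, hx, rfl⟩, hy⟩
    refine ⟨x, ⟨hx, ?_⟩, rfl⟩
    apply hf
    have h1 : (f x) ^ p = 1 := hy
    rw [map_pow, h1, map_one]
  · rintro ⟨x, ⟨hx, hxp⟩, rfl⟩
    refine ⟨⟨x, hx, rfl⟩, ?_⟩
    show (f x) ^ p = 1
    rw [← map_pow, hxp, map_one]

theorem tr_center_map {X : Type*} [Group X] (f : X →* G) (hf : Function.Injective f)
    (Y : Subgroup X) :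
    Y.map f ⊓ Subgroup.centralizer ((Y.map f : Subgroup G) : Set G) =
      (Y ⊓ Subgroup.centralizer (Y : Set X)).map f := by
  ext y
  constructor
  · rintro ⟨⟨x, hx, rfl⟩, hy⟩
    refine ⟨x, ⟨hx, ?_⟩, rfl⟩
    have hy' : f x ∈ Subgroup.centralizer ((Y.map f : Subgroup G) : Set G) := hy
    rw [Subgroup.mem_centralizer_iff] at hy'
    show x ∈ Subgroup.centralizer (Y : Set X)
    rw [Subgroup.mem_centralizer_iff]
    intro z hz
    apply hf
    have := hy' (f z) ⟨z, hz, rfl⟩
    rw [map_mul, map_mul]
    exact this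
  · rintro ⟨x, ⟨hx, hxc⟩, rfl⟩
    refine ⟨⟨x, hx, rfl⟩, ?_⟩
    have hxc' : x ∈ Subgroup.centralizer (Y : Set X) := hxc
    rw [Subgroup.mem_centralizer_iff] at hxc'
    show f x ∈ Subgroup.centralizer ((Y.map f : Subgroup G) : Set G)
    rw [Subgroup.mem_centralizer_iff]
    rintro _ ⟨z, hz, rfl⟩
    rw [← map_mul, ← map_mul, hxc' z hz]

theorem tr_omegaCenterOf_map {X : Type*} [Group X] (f : X →* G) (hf : Function.Injective f)
    (Y : Subgroup X) : omegaCenterOf (Y.map f) = (omegaCenterOf Y).map f := by
  unfold omegaCenterOf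
  rw [tr_center_map f hf, tr_omegaOne_map f hf]

theorem wOf_map_inj {X : Type*} [Group X] (f : X →* G) (hf : Function.Injective f) (K : Subgroup X) :
    wOf (K.map f) = (wOf K).map f := by
  unfold wOf
  rw [tr_pCoreOf_map f hf, tr_omegaCenterOf_map f hf, Subgroup.map_commutator]

theorem tr_isPGroup_map_iff {X : Type*} [Group X] (f : X →* G) (hf : Function.Injective f)
    (p : ℕ) {H : Subgroup X} : IsPGroup p ↥(H.map f) ↔ IsPGroup p ↥H := by
  constructor
  · intro h
    exact h.of_equiv (H.equivMapOfInjective f hf).symm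
  · intro h
    exact h.of_equiv (H.equivMapOfInjective f hf)

theorem tr_isSylowTwoIn_map {X : Type*} [Group X] (f : X →* G) (hf : Function.Injective f)
    {S L : Subgroup X} : IsSylowTwoIn (S.map f) (L.map f) ↔ IsSylowTwoIn S L := by
  unfold IsSylowTwoIn
  rw [Subgroup.map_le_map_iff_of_injective hf, tr_isPGroup_map_iff f hf,
    Subgroup.relIndex_map_map_of_injective _ _ hf]

theorem tr_closure_odd_map {X : Type*} [Group X] (f : X →* G) (hf : Function.Injective f)
    (K : Subgroup X) :
    Subgroup.closure {g : G | g ∈ K.map f ∧ Odd (orderOf g)} =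
      (Subgroup.closure {g : X | g ∈ K ∧ Odd (orderOf g)}).map f := by
  rw [MonoidHom.map_closure]
  congr 1
  ext y
  constructor
  · rintro ⟨⟨x, hx, rfl⟩, hy⟩
    refine ⟨x, ⟨hx, ?_⟩, rfl⟩
    have h1 : orderOf (f x) = orderOf x := orderOf_injective f hf x
    have hy' : Odd (orderOf (f x)) := hy
    rwa [h1] at hy'
  · rintro ⟨x, ⟨hx, hxo⟩, rfl⟩
    refine ⟨⟨x, hx, rfl⟩, ?_⟩
    have h1 : orderOf (f x) = orderOf x := orderOf_injective f hf x
    show Odd (orderOf (f x))
    rwa [h1]

theorem isJComponent_map_inj {X : Type*} [Group X] (f : X →* G) (hf : Function.Injective f)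
    (T K : Subgroup X) : IsJComponent (T.map f) (K.map f) ↔ IsJComponent T K := by
  have hinj := Subgroup.map_injective hf
  unfold IsJComponent
  rw [tr_closure_odd_map f hf, thompsonSubgroupOf_map_inj f hf, ← Subgroup.map_commutator,
    tr_pCoreOf_map f hf, Subgroup.relIndex_map_map_of_injective _ _ hf, wOf_map_inj f hf,
    Subgroup.card_map_of_injective hf, hinj.eq_iff, hinj.eq_iff, ← Subgroup.map_sup]
  refine and_congr Iff.rfl (and_congr Iff.rfl (and_congr Iff.rfl (and_congr ?_
    (and_congr Iff.rfl ?_))))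
  · constructor
    · intro h S hS hJS
      have h1 := h (S.map f) ((tr_isSylowTwoIn_map f hf).2 hS)
        ((Subgroup.map_le_map_iff_of_injective hf).2 hJS)
      rw [thompsonSubgroupOf_map_inj f hf] at h1
      exact hinj h1
    · intro h S' hS' hJS'
      have hle : S' ≤ f.range := hS'.1.trans (Subgroup.map_le_range f _)
      have hS'eq : (S'.comap f).map f = S' := Subgroup.map_comap_eq_self hle
      rw [← hS'eq] at hS' hJS' ⊢
      have h1 := h (S'.comap f) ((tr_isSylowTwoIn_map f hf).1 hS')
        ((Subgroup.map_le_map_iff_of_injective hf).1 hJS')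
      rw [thompsonSubgroupOf_map_inj f hf, h1]
  · constructor
    · intro h w hw
      apply hf
      rw [map_mul, map_one]
      exact h (f w) ⟨w, hw, rfl⟩
    · rintro h _ ⟨w, hw, rfl⟩
      rw [← map_mul, h w hw, map_one]

end transport

end Cfsg.Agent.Helper13.JCFF
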