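import Mathlib
import Cfsg.Prelude.Def_JComponents
import Cfsg.Agent.Lib.Helper13.JCFFDefs
import Cfsg.Agent.Lib.Helper27.JCTR
import Cfsg.Agent.Lib.Helper14.Ambient
import Cfsg.Agent.Lib.Helper25.JCSyl

/-!
# KS12, PIECE HC (helper27): a member `L` of the family attached to `T` gives the abstract
setting `KS ↥L (T.subgroupOf L)`
-/

set_option autoImplicit false
set_option linter.unusedSectionVars false
set_option linter.unusedVariables false

namespace Cfsg.Agent.Helper13.JCFF

open Cfsg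

section transport

variable {G : Type*} [Group G]

theorem ks_of_mem_jOvergroups [Finite G]
    (hN : ∀ N : Subgroup G, IsTwoLocal N → IsSolvable ↥N)
    (hZ : ∀ S : Sylow 2 G, Subgroup.centralizer (omegaCenterOf (S : Subgroup G) : Set G) ≤
      Subgroup.normalizer ((S : Subgroup G) : Set G))
    (T : Subgroup G) (hT1 : T ≠ ⊥) (L : Subgroup G) (hLT : L ∈ jOvergroups T) :
    KS ↥L (T.subgroupOf L) := by
  have : Fact (Nat.Prime 2) := ⟨Nat.prime_two⟩
  obtain ⟨hsyl, hJ, hQ⟩ := hLT
  obtain ⟨hTL, hT2, hTodd⟩ := hsyl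
  obtain ⟨P, hP⟩ := Cfsg.Agent.Helper25.JC.exists_sylow_of_isSylowTwoIn ⟨hTL, hT2, hTodd⟩
  have hmapT : (T.subgroupOf L).map L.subtype = T := Subgroup.map_subgroupOf_eq_of_le hTL
  -- `Q = O₂(L) ≤ T`
  have hQT : pCoreOf 2 L ≤ T := by
    have h1 : pCore 2 ↥L ≤ T.subgroupOf L := by
      rw [← hP]; exact Cfsg.Agent.Helper14.pCore_le_sylow P
    have h2 := Subgroup.map_mono (f := L.subtype) h1
    rw [hmapT] at h2
    exact h2
  -- `Q ≠ 1`
  have hQne : pCoreOf 2 L ≠ ⊥ := by
    intro h0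
    apply hT1
    rw [h0] at hQ
    rw [eq_bot_iff]
    intro t ht
    apply hQ
    rw [Subgroup.mem_centralizer_iff]
    intro y hy
    have hy1 : y = 1 := (Subgroup.mem_bot).1 hy
    rw [hy1, one_mul, mul_one]
  refine ⟨?_, ?_, ?_, ?_, ?_⟩
  · -- syl
    refine ⟨le_top, hT2.comap_of_injective L.subtype L.subtype_injective, ?_⟩
    rw [Subgroup.relIndex_top_right]
    exact hTodd
  · -- solv
    have hloc : IsTwoLocal (Subgroup.normalizer ((pCoreOf 2 L : Subgroup G) : Set G)) :=
      ⟨pCoreOf 2 L, Cfsg.Agent.Helper14.pCoreOf_isPGroup 2 L, hQne, rfl⟩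
    have hsol : Group.IsSolvable ↥(Subgroup.normalizer ((pCoreOf 2 L : Subgroup G) : Set G)) := hN _ hloc
    have hle : L ≤ Subgroup.normalizer ((pCoreOf 2 L : Subgroup G) : Set G) :=
      Cfsg.Agent.Helper14.le_normalizer_pCoreOf 2 L
    exact Group.isSolvable_of_isSolvable_injective (Subgroup.inclusion_injective hle)
  · -- hQ
    exact Cfsg.Agent.Helper14.charP_iff_ambient.2 (inf_le_right.trans hQ)
  · -- hJ
    intro hle
    apply hJ
    have h2 := Subgroup.map_mono (f := L.subtype) hle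
    rw [← thompsonSubgroupOf_map_inj L.subtype L.subtype_injective, hmapT] at h2
    exact h2
  · -- hC
    intro c hc
    obtain ⟨S, hTS⟩ := hT2.exists_le_sylow
    -- `Ω₁Z(S) ≤ Ω₁Z(T)`
    have hOm : omegaCenterOf (S : Subgroup G) ≤ omegaCenterOf T := by
      unfold omegaCenterOf omegaOne
      apply Subgroup.closure_mono
      rintro x ⟨hx, hx2⟩
      refine ⟨?_, hx2⟩
      obtain ⟨hxS, hxC⟩ := Subgroup.mem_inf.1 hx
      refine Subgroup.mem_inf.2 ⟨?_, ?_⟩
      · apply hQT
        apply hQ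
        exact Subgroup.centralizer_le (hQT.trans hTS) hxC
      · exact Subgroup.centralizer_le hTS hxC
    -- `Ω₁Z(T') ≤ V`
    have hV : omegaCenterOf (T.subgroupOf L) ≤ VX ↥L := by
      unfold omegaCenterOf VX
      rw [← hP]
      exact le_iSup (fun S : Sylow 2 ↥L =>
        omegaOne 2 ((S : Subgroup ↥L) ⊓ Subgroup.centralizer ((S : Subgroup ↥L) : Set ↥L))) P
    -- `c` centralizes `Ω₁Z(T)`
    have hcT : (c : G) ∈ Subgroup.centralizer (omegaCenterOf T : Set G) := by
      rw [Subgroup.mem_centralizer_iff]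
      intro y hy
      have hy' : y ∈ omegaCenterOf ((T.subgroupOf L).map L.subtype) := by rw [hmapT]; exact hy
      rw [tr_omegaCenterOf_map L.subtype L.subtype_injective] at hy'
      obtain ⟨x, hx, rfl⟩ := hy'
      rw [Subgroup.mem_centralizer_iff] at hc
      have := hc x (hV hx)
      exact congrArg Subtype.val this
    have hcS : (c : G) ∈ Subgroup.normalizer ((S : Subgroup G) : Set G) :=
      hZ S (Subgroup.centralizer_le hOm hcT)
    -- `S ⊓ L = T` inside `L`
    have hSL : ((S : Subgroup G) ⊓ L).subgroupOf L = T.subgroupOf L := by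
      rw [← hP]
      apply P.is_maximal'
      · have h1 : IsPGroup 2 ↥((S : Subgroup G) ⊓ L) := S.2.to_le inf_le_left
        exact h1.comap_of_injective L.subtype L.subtype_injective
      · rw [hP]
        intro x hx
        rw [Subgroup.mem_subgroupOf] at hx ⊢
        exact Subgroup.mem_inf.2 ⟨hTS hx, x.2⟩
    rw [Subgroup.mem_normalizer_iff] at hcS ⊢
    intro h
    rw [← hSL, Subgroup.mem_subgroupOf, Subgroup.mem_subgroupOf]
    constructor
    · intro hh
      refine Subgroup.mem_inf.2 ⟨?_, (c * h * c⁻¹).2⟩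
      exact (hcS (h : G)).1 (Subgroup.mem_inf.1 hh).1
    · intro hh
      refine Subgroup.mem_inf.2 ⟨?_, h.2⟩
      exact (hcS (h : G)).2 (Subgroup.mem_inf.1 hh).1

end transport

end Cfsg.Agent.Helper13.JCFF
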