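import Mathlib
import Cfsg.Prelude
import Cfsg.Agent.Lib.Helper13.SuBN1
import Cfsg.Agent.Lib.Helper11.Unitary2

/-! PIECE TRANSPORT of S2546: a Witt basis of the standard hermitian space and the induced
isomorphism `WSU n φ ≃* SU n F q`. -/

set_option autoImplicit false

namespace Cfsg.Agent.Helper27.SuTp

open Matrix Cfsg.Agent.Helper13.SuBN

variable {n : ℕ} {F : Type*} [Field F]

/-- the explicit Witt basis matrix -/
def wittP (n : ℕ) (ε s : F) : Matrix (Fin n) (Fin n) F :=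
  Matrix.of fun i b =>
    if b.val < (Fin.rev b).val then (if i = b then 1 else if i = Fin.rev b then ε else 0)
    else if (Fin.rev b).val < b.val then
      (if i = Fin.rev b then s + 1 else if i = b then s * ε else 0)
    else (if i = b then 1 else 0)

theorem wittP_lt (ε s : F) (i b : Fin n) (h : b.val < (Fin.rev b).val) :
    wittP n ε s i b = if i = b then 1 else if i = Fin.rev b then ε else 0 := by
  unfold wittP
  rw [Matrix.of_apply, if_pos h]

theorem wittP_gt (ε s : F) (i b : Fin n) (h : (Fin.rev b).val < b.val) :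
    wittP n ε s i b = if i = Fin.rev b then s + 1 else if i = b then s * ε else 0 := by
  unfold wittP
  rw [Matrix.of_apply, if_neg (by omega), if_pos h]

theorem wittP_mid (ε s : F) (i b : Fin n) (h : Fin.rev b = b) :
    wittP n ε s i b = if i = b then 1 else 0 := by
  unfold wittP
  rw [Matrix.of_apply, if_neg (by rw [h]; omega), if_neg (by rw [h]; omega)]

theorem wittP_support (ε s : F) (i b : Fin n) (h1 : i ≠ b) (h2 : i ≠ Fin.rev b) :
    wittP n ε s i b = 0 := by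
  unfold wittP
  rw [Matrix.of_apply]
  simp [h1, h2]

theorem wittP_gram (φ : F →+* F) (ε s : F) (hε : ε * φ ε = -1) (hs : s + φ s = -1) :
    (wittP n ε s)ᵀ * (wittP n ε s).map φ = Kmat n F := by
  ext a b
  rw [Matrix.mul_apply, Kmat_apply]
  simp only [Matrix.transpose_apply, Matrix.map_apply]
  have hsum : ∑ i, wittP n ε s i a * φ (wittP n ε s i b) =
      if a = Fin.rev a then wittP n ε s a a * φ (wittP n ε s a b)
      else wittP n ε s a a * φ (wittP n ε s a b) +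
        wittP n ε s (Fin.rev a) a * φ (wittP n ε s (Fin.rev a) b) := by
    split_ifs with h
    · apply Finset.sum_eq_single a
      · intro c _ hc
        rw [wittP_support ε s c a hc (by rw [← h]; exact hc), zero_mul]
      · intro h'; exact absurd (Finset.mem_univ _) h'
    · apply Finset.sum_eq_add a (Fin.rev a) h
      · intro c _ hc
        rw [wittP_support ε s c a hc.1 hc.2, zero_mul]
      · intro h'; exact absurd (Finset.mem_univ _) h'
      · intro h'; exact absurd (Finset.mem_univ _) h'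
  rw [hsum]
  by_cases hba : b = a
  · subst hba
    rcases lt_trichotomy b.val (Fin.rev b).val with hlt | heq | hgt
    · have hne : b ≠ Fin.rev b := fun e => by rw [← e] at hlt; omega
      rw [if_neg hne, if_neg hne, wittP_lt ε s _ _ hlt, wittP_lt ε s _ _ hlt, if_pos rfl,
        if_neg hne.symm, if_pos rfl, map_one, one_mul, hε]
      ring
    · have he : Fin.rev b = b := Fin.ext heq.symm
      rw [if_pos he.symm, if_pos he.symm, wittP_mid ε s _ _ he, if_pos rfl, map_one, one_mul]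
    · have hne : b ≠ Fin.rev b := fun e => by rw [← e] at hgt; omega
      rw [if_neg hne, if_neg hne, wittP_gt ε s _ _ hgt, wittP_gt ε s _ _ hgt, if_neg hne,
        if_pos rfl, if_pos rfl, map_mul, map_add, map_one]
      linear_combination (s * φ s) * hε + hs
  · by_cases hbr : b = Fin.rev a
    · subst hbr
      have hne : a ≠ Fin.rev a := fun e => hba e.symm
      rw [if_neg hne, if_pos rfl]
      rcases lt_trichotomy a.val (Fin.rev a).val with hlt | heq | hgt
      · have hgt' : (Fin.rev (Fin.rev a)).val < (Fin.rev a).val := by rw [Fin.rev_rev]; exact hlt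
        rw [wittP_lt ε s _ _ hlt, wittP_lt ε s _ _ hlt, wittP_gt ε s _ _ hgt',
          wittP_gt ε s _ _ hgt', Fin.rev_rev, if_pos rfl, if_neg hne.symm, if_pos rfl,
          if_pos rfl, if_neg hne.symm, if_pos rfl, map_mul, map_add, map_one]
        linear_combination (φ s) * hε
      · exact absurd (Fin.ext heq) hne
      · have hlt' : (Fin.rev a).val < (Fin.rev (Fin.rev a)).val := by rw [Fin.rev_rev]; exact hgt
        rw [wittP_gt ε s _ _ hgt, wittP_gt ε s _ _ hgt, wittP_lt ε s _ _ hlt',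
          wittP_lt ε s _ _ hlt', Fin.rev_rev, if_neg hne, if_pos rfl, if_neg hne, if_pos rfl,
          if_pos rfl, if_pos rfl, map_one]
        linear_combination s * hε
    · rw [if_neg hbr]
      have e1 : wittP n ε s a b = 0 :=
        wittP_support ε s a b (fun e => hba e.symm) (fun e => hbr (by rw [e, Fin.rev_rev]))
      have e2 : wittP n ε s (Fin.rev a) b = 0 :=
        wittP_support ε s (Fin.rev a) b (fun e => hbr e.symm)
          (fun e => hba (Fin.rev_inj.1 e).symm)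
      rw [e1, e2, map_zero, mul_zero, mul_zero, add_zero, ite_self]

theorem Kmat_transpose : (Kmat n F)ᵀ = Kmat n F := by
  ext a b
  rw [Matrix.transpose_apply, Kmat_apply, Kmat_apply]
  by_cases h : a = Fin.rev b
  · rw [if_pos h, if_pos (by rw [h, Fin.rev_rev])]
  · rw [if_neg h, if_neg (fun e => h (by rw [e, Fin.rev_rev]))]

theorem isUnit_det_of_gram (φ : F →+* F) (P : Matrix (Fin n) (Fin n) F)
    (hK : Pᵀ * P.map φ = Kmat n F) : IsUnit P.det := by
  have h1 : (Kmat n F).det * (Kmat n F).det = 1 := by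
    rw [← Matrix.det_mul, Kmat_mul_self, Matrix.det_one]
  have h2 : (Kmat n F).det ≠ 0 := by
    intro h
    rw [h, zero_mul] at h1
    exact zero_ne_one h1
  have h3 := congrArg Matrix.det hK
  rw [Matrix.det_mul, Matrix.det_transpose] at h3
  rw [isUnit_iff_ne_zero]
  intro h
  rw [h, zero_mul] at h3
  exact h2 h3.symm

theorem isU_conj (φ : F →+* F) (P g : Matrix (Fin n) (Fin n) F) (hP : IsUnit P.det)
    (hK : Pᵀ * P.map φ = Kmat n F) (hg : gᵀ * Kmat n F * g.map φ = Kmat n F) :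
    Cfsg.Agent.Helper11.Herm.IsU φ (P * g * P⁻¹) := by
  unfold Cfsg.Agent.Helper11.Herm.IsU
  have h1 : P * P⁻¹ = 1 := Matrix.mul_nonsing_inv P hP
  have h2 : P.map φ * P⁻¹.map φ = 1 := by
    rw [← Matrix.map_mul, h1, Matrix.map_one _ (map_zero φ) (map_one φ)]
  have h3 : P⁻¹ᵀ * Pᵀ = 1 := by rw [← Matrix.transpose_mul, h1, Matrix.transpose_one]
  have e1 : (P * g * P⁻¹)ᵀ = P⁻¹ᵀ * gᵀ * Pᵀ := by
    rw [Matrix.transpose_mul, Matrix.transpose_mul, Matrix.mul_assoc]
  have e2 : (P * g * P⁻¹).map φ = P.map φ * g.map φ * P⁻¹.map φ := by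
    rw [Matrix.map_mul, Matrix.map_mul]
  rw [e1, e2]
  calc P⁻¹ᵀ * gᵀ * Pᵀ * (P.map φ * g.map φ * P⁻¹.map φ)
      = P⁻¹ᵀ * (gᵀ * (Pᵀ * P.map φ) * g.map φ) * P⁻¹.map φ := by
        simp only [Matrix.mul_assoc]
    _ = P⁻¹ᵀ * (Pᵀ * P.map φ) * P⁻¹.map φ := by rw [hK, hg]
    _ = (P⁻¹ᵀ * Pᵀ) * (P.map φ * P⁻¹.map φ) := by simp only [Matrix.mul_assoc]
    _ = 1 := by rw [h2, h3, Matrix.one_mul]

theorem dag_conj (φ : F →+* F) (P h : Matrix (Fin n) (Fin n) F) (hP : IsUnit P.det)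
    (hK : Pᵀ * P.map φ = Kmat n F) (hh : hᵀ * h.map φ = 1) :
    dag φ (P⁻¹ * h * P) * (P⁻¹ * h * P) = 1 := by
  have hK' : (P.map φ)ᵀ * P = Kmat n F := by
    have := congrArg Matrix.transpose hK
    rw [Matrix.transpose_mul, Matrix.transpose_transpose, Kmat_transpose] at this
    exact this
  have h1 : P * P⁻¹ = 1 := Matrix.mul_nonsing_inv P hP
  have h2 : (P⁻¹.map φ)ᵀ * (P.map φ)ᵀ = 1 := by
    rw [← Matrix.transpose_mul, ← Matrix.map_mul, h1, Matrix.map_one _ (map_zero φ) (map_one φ),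
      Matrix.transpose_one]
  have h3 : (h.map φ)ᵀ * h = 1 := by
    have := congrArg Matrix.transpose hh
    rwa [Matrix.transpose_mul, Matrix.transpose_transpose, Matrix.transpose_one] at this
  have hmid : (P⁻¹.map φ)ᵀ * Kmat n F * P⁻¹ = 1 := by
    rw [← hK']
    calc (P⁻¹.map φ)ᵀ * ((P.map φ)ᵀ * P) * P⁻¹
        = ((P⁻¹.map φ)ᵀ * (P.map φ)ᵀ) * (P * P⁻¹) := by simp only [Matrix.mul_assoc]
      _ = 1 := by rw [h2, h1, Matrix.one_mul]
  have e1 : ((P⁻¹ * h * P).map φ)ᵀ = (P.map φ)ᵀ * (h.map φ)ᵀ * (P⁻¹.map φ)ᵀ := by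
    rw [Matrix.map_mul, Matrix.map_mul, Matrix.transpose_mul, Matrix.transpose_mul,
      Matrix.mul_assoc]
  rw [dag_eq, e1]
  calc Kmat n F * ((P.map φ)ᵀ * (h.map φ)ᵀ * (P⁻¹.map φ)ᵀ) * Kmat n F * (P⁻¹ * h * P)
      = Kmat n F * (P.map φ)ᵀ * (h.map φ)ᵀ * ((P⁻¹.map φ)ᵀ * Kmat n F * P⁻¹) * h * P := by
        simp only [Matrix.mul_assoc]
    _ = Kmat n F * (P.map φ)ᵀ * ((h.map φ)ᵀ * h) * P := by
        rw [hmid, Matrix.mul_one]
        simp only [Matrix.mul_assoc]
    _ = Kmat n F * ((P.map φ)ᵀ * P) := by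
        rw [h3, Matrix.mul_one, Matrix.mul_assoc]
    _ = 1 := by rw [hK', Kmat_mul_self]

/-- conjugation by a Witt basis matrix -/
noncomputable def conjEquiv {q : ℕ} (φ : F →+* F) (hφ : ∀ x, φ x = x ^ q)
    (P : Matrix (Fin n) (Fin n) F) (hP : IsUnit P.det) (hK : Pᵀ * P.map φ = Kmat n F) :
    WSU n φ ≃* Cfsg.SU n F q where
  toFun g := ⟨⟨P * mt g * P⁻¹, by
      rw [Matrix.det_conj ((Matrix.isUnit_iff_isUnit_det _).2 hP), mt_det]⟩,
    (Cfsg.Agent.Helper11.Herm.mem_SU_iff_isU φ hφ n _).2 (isU_conj φ P (mt g) hP hK g.2.1)⟩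
  invFun h := mkW (P⁻¹ * h.1.1 * P) (by
      rw [Matrix.det_conj' ((Matrix.isUnit_iff_isUnit_det _).2 hP)]
      exact h.1.2)
    (dag_conj φ P h.1.1 hP hK ((Cfsg.Agent.Helper11.Herm.mem_SU_iff_isU φ hφ n _).1 h.2))
  left_inv g := by
    apply mt_injective
    show P⁻¹ * (P * mt g * P⁻¹) * P = mt g
    have h1 : P⁻¹ * P = 1 := Matrix.nonsing_inv_mul P hP
    calc P⁻¹ * (P * mt g * P⁻¹) * P = (P⁻¹ * P) * mt g * (P⁻¹ * P) := by
          simp only [Matrix.mul_assoc]
      _ = mt g := by rw [h1, Matrix.one_mul, Matrix.mul_one]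
  right_inv h := by
    apply Subtype.ext
    apply Subtype.ext
    show P * (P⁻¹ * h.1.1 * P) * P⁻¹ = h.1.1
    have h1 : P * P⁻¹ = 1 := Matrix.mul_nonsing_inv P hP
    calc P * (P⁻¹ * h.1.1 * P) * P⁻¹ = (P * P⁻¹) * h.1.1 * (P * P⁻¹) := by
          simp only [Matrix.mul_assoc]
      _ = h.1.1 := by rw [h1, Matrix.one_mul, Matrix.mul_one]
  map_mul' g h := by
    apply Subtype.ext
    apply Subtype.ext
    show P * (mt g * mt h) * P⁻¹ = (P * mt g * P⁻¹) * (P * mt h * P⁻¹)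
    have h1 : P⁻¹ * P = 1 := Matrix.nonsing_inv_mul P hP
    calc P * (mt g * mt h) * P⁻¹ = P * mt g * 1 * mt h * P⁻¹ := by
          rw [Matrix.mul_one]
          simp only [Matrix.mul_assoc]
      _ = (P * mt g * P⁻¹) * (P * mt h * P⁻¹) := by
          rw [← h1]
          simp only [Matrix.mul_assoc]

end Cfsg.Agent.Helper27.SuTp

namespace Cfsg.Agent.Helper13.SuP

open Matrix Cfsg.Agent.Helper13.SuBN Cfsg.Agent.Helper27.SuTp

/-! PIECE TRANSPORT -/
theorem exists_witt_basis {F : Type*} [Field F] [Fintype F] {q : ℕ} (hF : Fintype.card F = q ^ 2)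
    (φ : F →+* F) (hφ : ∀ x, φ x = x ^ q) (n : ℕ) :
    ∃ P : Matrix (Fin n) (Fin n) F, IsUnit P.det ∧ Pᵀ * P.map φ = Kmat n F := by
  have hφφ := Cfsg.Agent.Helper11.Herm.frob_frob hF φ hφ
  obtain ⟨ε, -, hε⟩ := Cfsg.Agent.Helper11.Herm.frob_norm_surj hF φ hφ (-1)
    (neg_ne_zero.2 one_ne_zero) (by rw [map_neg, map_one])
  obtain ⟨μ, hμ⟩ := Cfsg.Agent.Helper11.Herm.frob_trace_ne_zero hF φ hφ
  have ht : φ (μ + φ μ) = μ + φ μ := by rw [map_add, hφφ, add_comm]
  have hs : (-μ / (μ + φ μ)) + φ (-μ / (μ + φ μ)) = -1 := by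
    rw [map_div₀, map_neg, ht]
    field_simp
    ring
  have hK := wittP_gram (n := n) φ ε (-μ / (μ + φ μ)) hε hs
  exact ⟨_, isUnit_det_of_gram φ _ hK, hK⟩

theorem exists_equiv_SU {F : Type*} [Field F] [Fintype F] {q : ℕ} (hF : Fintype.card F = q ^ 2)
    (φ : F →+* F) (hφ : ∀ x, φ x = x ^ q) (n : ℕ) :
    ∃ (P : Matrix (Fin n) (Fin n) F) (e : WSU n φ ≃* Cfsg.SU n F q), IsUnit P.det ∧
      Pᵀ * P.map φ = Kmat n F ∧
      ∀ g : WSU n φ, ((e g : Matrix.SpecialLinearGroup (Fin n) F) : Matrix (Fin n) (Fin n) F) =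
        P * mt g * P⁻¹ := by
  obtain ⟨P, hP, hK⟩ := exists_witt_basis hF φ hφ n
  exact ⟨P, conjEquiv φ hφ P hP hK, hP, hK, fun g => rfl⟩

end Cfsg.Agent.Helper13.SuP
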