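import Mathlib
import Cfsg.Agent.Lib.Helper14.BhsDefs

/-! BHS-CARD (S2999, design helper14): `card_fix_le`. -/

set_option autoImplicit false
set_option linter.unusedSectionVars false

namespace Cfsg.Agent.Helper14.Bhs

open Pointwise

universe u v

section grp

variable {P : Type u} [Group P] [Finite P] {W : Type v} [AddCommGroup W] [Finite W]
  [DistribMulAction P W] {p : ℕ} [Fact p.Prime] {T : Sylow p P} {M A : Subgroup P}

omit [Finite P] [Finite W] in
theorem bhs_card_smul (g : P) (D : AddSubgroup W) : Nat.card ↥(g • D) = Nat.card ↥D :=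
  Nat.card_congr
    { toFun := fun w => ⟨g⁻¹ • w.1, AddSubgroup.mem_pointwise_smul_iff_inv_smul_mem.mp w.2⟩
      invFun := fun d => ⟨g • d.1, AddSubgroup.smul_mem_pointwise_smul _ _ _ d.2⟩
      left_inv := fun w => Subtype.ext (smul_inv_smul g w.1)
      right_inv := fun d => Subtype.ext (inv_smul_smul g d.1) }

/-! ### BHS-CARD -/

theorem card_fix_le (h : Hyp W p T M A) (hic : InterConj W M A) {x : P} (hx : x ∉ M) :
    Nat.card (fix W A) ≤ Nat.card A * Nat.card (fix W (⊤ : Subgroup P)) := by
  have h1 := card_sup_mul_card_inf (fix W A) (x • fix W A)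
  rw [hic x hx, bhs_card_smul] at h1
  have h2 : Nat.card ↥(fix W A ⊔ x • fix W A) ≤ Nat.card W :=
    Nat.card_le_card_of_injective Subtype.val Subtype.val_injective
  have h3 := h.hi1
  have hpos : 0 < Nat.card (fix W A) := Nat.card_pos
  have h4 : Nat.card (fix W A) * Nat.card (fix W A) ≤
      Nat.card (fix W A) * (Nat.card A * Nat.card (fix W (⊤ : Subgroup P))) := by
    calc Nat.card (fix W A) * Nat.card (fix W A)
        = Nat.card ↥(fix W A ⊔ x • fix W A) * Nat.card (fix W (⊤ : Subgroup P)) := h1.symm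
      _ ≤ Nat.card W * Nat.card (fix W (⊤ : Subgroup P)) := Nat.mul_le_mul_right _ h2
      _ ≤ (Nat.card A * Nat.card (fix W A)) * Nat.card (fix W (⊤ : Subgroup P)) :=
          Nat.mul_le_mul_right _ h3
      _ = Nat.card (fix W A) * (Nat.card A * Nat.card (fix W (⊤ : Subgroup P))) := by ring
  exact Nat.le_of_mul_le_mul_left h4 hpos

end grp

end Cfsg.Agent.Helper14.Bhs
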