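import Mathlib
import Cfsg.Agent.Lib.Helper14.BhsDefs

/-! BHS-QUADB (S2999, design helper14): `quad_of_count`. -/

set_option autoImplicit false
set_option linter.unusedSectionVars false

namespace Cfsg.Agent.Helper14.Bhs

open Pointwise

universe u v

theorem bhs_quadb_fermat (p : ℕ) [Fact p.Prime] : ∃ m : ℕ, 2 ^ p = 2 + p * m := by
  have h1 : ((2 ^ p : ℕ) : ZMod p) = ((2 : ℕ) : ZMod p) := by
    push_cast
    exact ZMod.pow_card 2
  have h2 : 2 ≡ 2 ^ p [MOD p] := ((ZMod.natCast_eq_natCast_iff _ _ _).mp h1).symm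
  have h3 : 2 ≤ 2 ^ p := by
    calc 2 = 2 ^ 1 := rfl
      _ ≤ 2 ^ p := Nat.pow_le_pow_right (by norm_num) (Fact.out : p.Prime).one_le
  obtain ⟨m, hm⟩ := (Nat.modEq_iff_dvd' h3).mp h2
  exact ⟨m, by omega⟩

section grp

variable {P : Type u} [Group P] [Finite P] {W : Type v} [AddCommGroup W] [Finite W]
  [DistribMulAction P W] {p : ℕ} [Fact p.Prime] {T : Sylow p P} {M A : Subgroup P}

omit [Finite P] [Finite W] in
theorem bhs_quadb_pow_smul (a : P) (y : W) (h : a • y = 2 • y) (k : ℕ) :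
    a ^ k • y = 2 ^ k • y := by
  induction k with
  | zero => simp
  | succ k ih =>
    rw [pow_succ, mul_smul, h, smul_comm (a ^ k) 2 y, ih, pow_succ', mul_smul]

/-! ### BHS-QUADB -/

theorem quad_of_count (h : Hyp W p T M A) (hA : A ≠ ⊥) (hc : QuadCount W A) : Quad W A := by
  intro a ha u
  obtain ⟨Au, hAuA, hAu, hcard⟩ := hc u
  by_cases htop : Au = A
  · exact (hAu a ha).mp (htop ▸ ha)
  exfalso
  have hbot : Au = ⊥ := by
    by_contra hne
    exact absurd (h.hi2 Au hAuA hne htop) (not_lt.mpr hcard)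
  have hD : ∀ a' ∈ A, ∀ y : W, a' • y ∈ fix W A → y ∈ fix W A := by
    intro a' ha' y hy
    have h1 : a'⁻¹ • (a' • y) = a' • y := hy a'⁻¹ (A.inv_mem ha')
    rw [inv_smul_smul] at h1
    rw [h1]
    exact hy
  have hinj : ∀ a₁ ∈ A, ∀ a₂ ∈ A, cm u a₁ - cm u a₂ ∈ fix W A → a₁ = a₂ := by
    intro a₁ h₁ a₂ h₂ hd
    have hmem : a₂⁻¹ * a₁ ∈ A := A.mul_mem (A.inv_mem h₂) h₁
    have e : cm u a₁ = cm u a₂ + a₂ • cm u (a₂⁻¹ * a₁) := by
      rw [← cm_mul, mul_inv_cancel_left]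
    have h2 : a₂ • cm u (a₂⁻¹ * a₁) ∈ fix W A := by
      have h3 : a₂ • cm u (a₂⁻¹ * a₁) = cm u a₁ - cm u a₂ := by
        rw [e]
        abel
      rw [h3]
      exact hd
    have h3 := hD a₂ h₂ _ h2
    have h4 : a₂⁻¹ * a₁ ∈ Au := (hAu _ hmem).mpr h3
    rw [hbot, Subgroup.mem_bot] at h4
    exact (inv_mul_eq_one.mp h4).symm
  let φ : ↥A → W ⧸ fix W A := fun a => QuotientAddGroup.mk (cm u a.1)
  have hφinj : Function.Injective φ := by
    intro a₁ a₂ he
    have h1 := QuotientAddGroup.eq.mp he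
    apply Subtype.ext
    apply hinj a₁.1 a₁.2 a₂.1 a₂.2
    have h5 := (fix W A).neg_mem h1
    have h6 : cm u a₁.1 - cm u a₂.1 = -(-cm u a₁.1 + cm u a₂.1) := by abel
    rw [h6]
    exact h5
  have hcardq : Nat.card (W ⧸ fix W A) ≤ Nat.card A := by
    have h6 := AddSubgroup.card_eq_card_quotient_mul_card_addSubgroup (fix W A)
    have h7 := h.hi1
    rw [h6] at h7
    exact Nat.le_of_mul_le_mul_right h7 Nat.card_pos
  have hbij := hφinj.bijective_of_nat_card_le hcardq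
  obtain ⟨a₀, ha₀⟩ := hbij.2 (QuotientAddGroup.mk u)
  have hd : u - cm u a₀.1 ∈ fix W A := by
    have h1 := QuotientAddGroup.eq.mp ha₀
    have h6 : u - cm u a₀.1 = -cm u a₀.1 + u := by abel
    rw [h6]
    exact h1
  have hzero : ∀ b ∈ A, cm u b = 0 := by
    intro b hb
    have e1 : cm u b = cm (cm u a₀.1) b + cm (u - cm u a₀.1) b := by
      rw [← cm_add]
      congr 1
      abel
    have e2 : cm (u - cm u a₀.1) b = 0 := cm_of_mem_fix hd hb
    have e3 : cm (cm u a₀.1) b = cm (cm u b) a₀.1 := by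
      simp only [cm, smul_sub, ← mul_smul, h.hAc b hb a₀.1 a₀.2]
      abel
    rw [e2, add_zero, e3] at e1
    have h8 : a₀.1 • cm u b = 2 • cm u b := by
      have h9 : cm (cm u b) a₀.1 = a₀.1 • cm u b - cm u b := rfl
      rw [h9] at e1
      rw [two_nsmul]
      exact sub_eq_iff_eq_add.mp e1.symm
    obtain ⟨m, hm⟩ := bhs_quadb_fermat p
    have h9 := bhs_quadb_pow_smul a₀.1 (cm u b) h8 p
    rw [h.hAp a₀.1 a₀.2, one_smul, hm, add_nsmul, mul_nsmul, h.hpW, smul_zero, add_zero,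
      two_nsmul] at h9
    exact left_eq_add.mp h9
  apply hA
  rw [eq_bot_iff]
  intro b hb
  have h1 : b ∈ Au := (hAu b hb).mpr (by rw [hzero b hb]; exact (fix W A).zero_mem)
  rwa [hbot] at h1

end grp

end Cfsg.Agent.Helper14.Bhs
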