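import Mathlib
import Cfsg.Prelude.Def_Sporadic_a

/-!
# S2916 part (D) (helper27): the projective plane of order 3 - shared definitions.

The standard plane on `Fin 13`, labelled from the quadrangle `0, 1, 2, 3`:
`4, 5, 6` are the diagonal points `01 ∩ 23`, `02 ∩ 13`, `03 ∩ 12`, and `7, ..., 12` are the fourth
points of the six sides `01, 23, 02, 13, 03, 12`.
-/

set_option autoImplicit false

namespace Cfsg.Agent.Helper27.P13

/-- The six sides of the standard quadrangle `0, 1, 2, 3`. -/
def sideF : Fin 6 → Finset (Fin 13) :=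
  ![{0, 1, 4, 7}, {2, 3, 4, 8}, {0, 2, 5, 9}, {1, 3, 5, 10}, {0, 3, 6, 11}, {1, 2, 6, 12}]

/-- The seven other lines. -/
def restF : Fin 7 → Finset (Fin 13) :=
  ![{0, 8, 10, 12}, {1, 8, 9, 11}, {2, 7, 10, 11}, {3, 7, 9, 12}, {4, 5, 11, 12}, {4, 6, 9, 10},
    {5, 6, 7, 8}]

/-- The standard projective plane of order 3. -/
def std : Finset (Finset (Fin 13)) := Finset.univ.image sideF ∪ Finset.univ.image restF

/-- The collineation group of the standard plane. -/
abbrev Astd : Subgroup (Equiv.Perm (Fin 13)) :=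
  Cfsg.setSystemAut (↑std : Set (Finset (Fin 13)))

/-- A quadrangle: four distinct points, no three of them on a common line. -/
def IsQuad {α : Type*} [DecidableEq α] (L : Set (Finset α)) (q : Fin 4 → α) : Prop :=
  Function.Injective q ∧ ∀ l ∈ L, (Finset.univ.filter (fun i => q i ∈ l)).card ≤ 2

/-- The inclusion `Fin 4 → Fin 13`. -/
def c4 (i : Fin 4) : Fin 13 := Fin.castLE (by norm_num) i

/-- The points of the projective plane over `ZMod 3`. -/
abbrev PP : Type := Projectivization (ZMod 3) (Fin 3 → ZMod 3)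

/-- The 13 normalized vectors of `(ZMod 3)^3` (first non-zero coordinate equal to 1). -/
def nvec : Fin 13 → (Fin 3 → ZMod 3) :=
  ![![1, 0, 0], ![1, 0, 1], ![1, 0, 2], ![1, 1, 0], ![1, 1, 1], ![1, 1, 2], ![1, 2, 0], ![1, 2, 1],
    ![1, 2, 2], ![0, 1, 0], ![0, 1, 1], ![0, 1, 2], ![0, 0, 1]]

theorem nvec_ne_zero : ∀ i : Fin 13, nvec i ≠ 0 := by decide

/-- The points of the plane, enumerated. -/
noncomputable def ppt (i : Fin 13) : PP := Projectivization.mk (ZMod 3) (nvec i) (nvec_ne_zero i)

noncomputable instance : Fintype PP := Fintype.ofFinite _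

/-- The lines of the plane: `w^⊥` for the points `w` (as a dual point). -/
noncomputable def LP : Set (Finset PP) :=
  {l | ∃ w : PP, l = @Finset.filter PP (fun p => Projectivization.orthogonal p w)
    (Classical.decPred _) Finset.univ}

end Cfsg.Agent.Helper27.P13
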