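import Mathlib

set_option autoImplicit false
set_option linter.unusedSectionVars false

/-!
Piece LINES of S4025: number of 2-dimensional subspaces of a finite vector space, via double
counting of linearly independent pairs.
-/

namespace Cfsg.Agent.Helper27.SALn

variable {p : ℕ} [Fact p.Prime] {V : Type*} [AddCommGroup V] [Module (ZMod p) V] [Finite V]

theorem finrank_of_card (n : ℕ) (hV : Nat.card V = p ^ n) :
    Module.finrank (ZMod p) V = n := by
  have h1 := Module.natCard_eq_pow_finrank (K := ZMod p) (V := V)
  rw [Nat.card_zmod, hV] at h1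
  exact (Nat.pow_right_injective (Fact.out : p.Prime).two_le h1).symm

theorem card_li_pairs (n : ℕ) (hn : 2 ≤ n) (hV : Nat.card V = p ^ n) :
    Nat.card { s : Fin 2 → V // LinearIndependent (ZMod p) s } = (p ^ n - 1) * (p ^ n - p) := by
  have hfr := finrank_of_card n hV
  have h := card_linearIndependent (K := ZMod p) (V := V) (k := 2) (by rw [hfr]; exact hn)
  rw [h, hfr, ZMod.card, Fin.prod_univ_two]
  simp

theorem mem_of_span_eq (s : Fin 2 → V) (U : Submodule (ZMod p) V)
    (h : Submodule.span (ZMod p) (Set.range s) = U) (i : Fin 2) : s i ∈ U :=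
  h.le (Submodule.subset_span (Set.mem_range_self i))

theorem span_eq_of_li (U : Submodule (ZMod p) V) (hU : Nat.card U = p ^ 2)
    (t : Fin 2 → U) (ht : LinearIndependent (ZMod p) t) :
    Submodule.span (ZMod p) (Set.range (fun i => ((t i : U) : V))) = U := by
  have h2 : Module.finrank (ZMod p) U = 2 := finrank_of_card 2 hU
  have hli : LinearIndependent (ZMod p) (fun i => ((t i : U) : V)) :=
    ht.map' U.subtype (Submodule.ker_subtype U)
  have hle : Submodule.span (ZMod p) (Set.range (fun i => ((t i : U) : V))) ≤ U := by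
    rw [Submodule.span_le]
    rintro _ ⟨i, rfl⟩
    exact (t i).2
  apply Submodule.eq_of_le_of_finrank_eq hle
  rw [finrank_span_eq_card hli, h2, Fintype.card_fin]

/-- the fibre of `s ↦ span (range s)` over `U` is the set of independent pairs of `U` -/
noncomputable def fibreEquiv (U : Submodule (ZMod p) V) (hU : Nat.card U = p ^ 2) :
    { s : { s : Fin 2 → V // LinearIndependent (ZMod p) s } //
        Submodule.span (ZMod p) (Set.range (s : Fin 2 → V)) = U } ≃
      { t : Fin 2 → U // LinearIndependent (ZMod p) t } where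
  toFun s := ⟨fun i => ⟨(s.1 : Fin 2 → V) i, mem_of_span_eq _ U s.2 i⟩, by
      have h1 : LinearIndependent (ZMod p) (U.subtype ∘ fun i =>
          (⟨(s.1 : Fin 2 → V) i, mem_of_span_eq _ U s.2 i⟩ : U)) := by
        have : (U.subtype ∘ fun i =>
          (⟨(s.1 : Fin 2 → V) i, mem_of_span_eq _ U s.2 i⟩ : U)) =
            (s.1 : Fin 2 → V) := by
          funext i; rfl
        rw [this]; exact s.1.2
      exact LinearIndependent.of_comp _ h1⟩
  invFun t := ⟨⟨fun i => ((t : Fin 2 → U) i : V),
      t.2.map' U.subtype (Submodule.ker_subtype U)⟩, span_eq_of_li U hU t.1 t.2⟩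
  left_inv s := by
    apply Subtype.ext; apply Subtype.ext; funext i; rfl
  right_inv t := by
    apply Subtype.ext; funext i; rfl

theorem card_span_of_li (s : Fin 2 → V) (hs : LinearIndependent (ZMod p) s) :
    Nat.card (Submodule.span (ZMod p) (Set.range s)) = p ^ 2 := by
  have h1 := Module.natCard_eq_pow_finrank (K := ZMod p)
    (V := Submodule.span (ZMod p) (Set.range s))
  rw [Nat.card_zmod, finrank_span_eq_card hs, Fintype.card_fin] at h1
  exact h1

end Cfsg.Agent.Helper27.SALn

namespace Cfsg.Agent.Helper14.SA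

open Cfsg.Agent.Helper27.SALn

variable {p : ℕ} [Fact p.Prime] {V : Type*} [AddCommGroup V] [Module (ZMod p) V] [Finite V]

/-- PIECE LINES -/
theorem card_lines (n : ℕ) (hn : 2 ≤ n) (hV : Nat.card V = p ^ n) :
    Nat.card {U : Submodule (ZMod p) V // Nat.card U = p ^ 2} * ((p ^ 2 - 1) * (p ^ 2 - p)) =
      (p ^ n - 1) * (p ^ n - p) := by
  classical
  have : Fintype {U : Submodule (ZMod p) V // Nat.card U = p ^ 2} := Fintype.ofFinite _
  rw [← card_li_pairs n hn hV]
  let f : { s : Fin 2 → V // LinearIndependent (ZMod p) s } →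
      {U : Submodule (ZMod p) V // Nat.card U = p ^ 2} :=
    fun s => ⟨Submodule.span (ZMod p) (Set.range (s : Fin 2 → V)), card_span_of_li s.1 s.2⟩
  have e1 := Equiv.sigmaFiberEquiv f
  rw [← Nat.card_congr e1, Nat.card_sigma]
  have hfib : ∀ U : {U : Submodule (ZMod p) V // Nat.card U = p ^ 2},
      Nat.card { s // f s = U } = (p ^ 2 - 1) * (p ^ 2 - p) := by
    intro U
    have e2 : { s // f s = U } ≃
        { s : { s : Fin 2 → V // LinearIndependent (ZMod p) s } //
          Submodule.span (ZMod p) (Set.range (s : Fin 2 → V)) = U.1 } :=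
      Equiv.subtypeEquivRight (fun s => by
        constructor
        · intro h; exact congrArg Subtype.val h
        · intro h; exact Subtype.ext h)
    rw [Nat.card_congr e2, Nat.card_congr (fibreEquiv U.1 U.2)]
    exact card_li_pairs 2 le_rfl U.2
  rw [Finset.sum_congr rfl (fun U _ => hfib U), Finset.sum_const, Finset.card_univ,
    smul_eq_mul, Nat.card_eq_fintype_card]

end Cfsg.Agent.Helper14.SA
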