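import Mathlib

set_option autoImplicit false

/-!
Piece ARITH of S4025.
-/

namespace Cfsg.Agent.Helper27.SAAr

theorem pow_ge_aux (q m : ℕ) (hq : 2 ≤ q) : (m + 7) * q ^ 2 ≤ q ^ (m + 5) := by
  induction m with
  | zero =>
    have h3 : 8 ≤ q ^ 3 := by
      calc 8 = 2 ^ 3 := by norm_num
        _ ≤ q ^ 3 := Nat.pow_le_pow_left hq 3
    calc (0 + 7) * q ^ 2 ≤ 8 * q ^ 2 := by nlinarith
      _ ≤ q ^ 3 * q ^ 2 := Nat.mul_le_mul_right _ h3
      _ = q ^ (0 + 5) := by ring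
  | succ m ih =>
    calc (m + 1 + 7) * q ^ 2 ≤ 2 * ((m + 7) * q ^ 2) := by nlinarith
      _ ≤ q * q ^ (m + 5) := Nat.mul_le_mul hq ih
      _ = q ^ (m + 1 + 5) := by ring

end Cfsg.Agent.Helper27.SAAr

namespace Cfsg.Agent.Helper14.SA

/-- PIECE ARITH -/
theorem arith (q n k : ℕ) (hq : q.Prime) (hn : 3 ≤ n) (hk : k ∣ n)
    (hdiv : (q ^ (n - 1) - 1) ∣ k * (q ^ 2 - 1)) : n = 3 ∨ (n = 5 ∧ q = 2 ∧ k = 5) := by
  have hq2 : 2 ≤ q := hq.two_le
  have hkn : k ≤ n := Nat.le_of_dvd (by omega) hk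
  have hk1 : 1 ≤ k := Nat.pos_of_dvd_of_pos hk (by omega)
  have hq4 : 4 ≤ q ^ 2 := by nlinarith
  have hpos : 0 < k * (q ^ 2 - 1) := Nat.mul_pos hk1 (by omega)
  have hle : q ^ (n - 1) - 1 ≤ k * (q ^ 2 - 1) := Nat.le_of_dvd hpos hdiv
  have hle2 : q ^ (n - 1) - 1 ≤ n * (q ^ 2 - 1) :=
    hle.trans (Nat.mul_le_mul_right _ hkn)
  rcases Nat.lt_or_ge n 6 with h6 | h6
  · interval_cases n
    · left; rfl
    · -- n = 4
      exfalso
      have hq3 : q ≤ 3 := by
        by_contra hcon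
        push Not at hcon
        have h1 : 4 * q ^ 2 ≤ q ^ 3 := by
          calc 4 * q ^ 2 ≤ q * q ^ 2 := Nat.mul_le_mul_right _ hcon
            _ = q ^ 3 := by ring
        have h2 : q ^ (4 - 1) = q ^ 3 := by norm_num
        rw [h2] at hle2
        omega
      have h2 : q ^ (4 - 1) = q ^ 3 := by norm_num
      rw [h2] at hdiv
      interval_cases q
      · interval_cases k <;> omega
      · interval_cases k <;> omega
    · -- n = 5
      right
      have hq2' : q ≤ 2 := by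
        by_contra hcon
        push Not at hcon
        have h9 : 9 ≤ q ^ 2 := by nlinarith
        have h1 : 9 * q ^ 2 ≤ q ^ 4 := by
          calc 9 * q ^ 2 ≤ q ^ 2 * q ^ 2 := Nat.mul_le_mul_right _ h9
            _ = q ^ 4 := by ring
        have h2 : q ^ (5 - 1) = q ^ 4 := by norm_num
        rw [h2] at hle2
        omega
      have hq' : q = 2 := le_antisymm hq2' hq2
      subst hq'
      have h2 : (2 : ℕ) ^ (5 - 1) = 16 := by norm_num
      rw [h2] at hdiv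
      refine ⟨rfl, rfl, ?_⟩
      interval_cases k <;> omega
  · exfalso
    obtain ⟨m, rfl⟩ : ∃ m, n = m + 6 := ⟨n - 6, by omega⟩
    have h1 := Cfsg.Agent.Helper27.SAAr.pow_ge_aux q m hq2
    have h2 : m + 6 - 1 = m + 5 := by omega
    rw [h2] at hle2
    have h3 : (m + 6) * (q ^ 2 - 1) + 1 < (m + 7) * q ^ 2 := by
      have h4 : (m + 6) * (q ^ 2 - 1) ≤ (m + 6) * q ^ 2 := Nat.mul_le_mul_left _ (by omega)
      nlinarith
    omega

end Cfsg.Agent.Helper14.SA
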