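import Mathlib

set_option autoImplicit false
set_option linter.unusedSectionVars false

/-!
Piece AUT of S4025: a field with `p ^ n` elements has exactly `n` ring automorphisms.
-/

namespace Cfsg.Agent.Helper27.SAAu

variable {p : ℕ} [Fact p.Prime]

/-- ring automorphisms are `ZMod p`-algebra automorphisms -/
noncomputable def ringEquivAlg (F : Type) [Field F] [Algebra (ZMod p) F] :
    (F ≃+* F) ≃ (F ≃ₐ[ZMod p] F) where
  toFun f := AlgEquiv.ofRingEquiv (f := f) (by
    intro x
    exact RingHom.congr_fun (Subsingleton.elim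
      ((f : F →+* F).comp (algebraMap (ZMod p) F)) (algebraMap (ZMod p) F)) x)
  invFun g := g.toRingEquiv
  left_inv f := by ext x; rfl
  right_inv g := by ext x; rfl

end Cfsg.Agent.Helper27.SAAu

namespace Cfsg.Agent.Helper14.SA

variable {p : ℕ} [Fact p.Prime]

/-- PIECE AUT -/
theorem card_ringAut (F : Type) [Field F] [Fintype F] (n : ℕ) (hn : 1 ≤ n)
    (hF : Fintype.card F = p ^ n) : Nat.card (F ≃+* F) = n := by
  have hp : p.Prime := Fact.out
  -- characteristic p
  obtain ⟨q, hq⟩ := CharP.exists F
  have hqp : q.Prime := by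
    have := hq
    exact (CharP.char_is_prime_or_zero F q).resolve_right (CharP.char_ne_zero_of_finite F q)
  have hqF : q ∣ Fintype.card F := by
    have := hq
    have : Fact q.Prime := ⟨hqp⟩
    obtain ⟨m, hm⟩ := FiniteField.card F q
    rw [hm.2]
    exact dvd_pow_self q (PNat.ne_zero m)
  have hqp' : q = p := by
    rw [hF] at hqF
    exact (Nat.prime_dvd_prime_iff_eq hqp hp).1 (hqp.dvd_of_dvd_pow hqF)
  subst hqp'
  have : CharP F q := hq
  let : Algebra (ZMod q) F := ZMod.algebra F q
  rw [Nat.card_congr (Cfsg.Agent.Helper27.SAAu.ringEquivAlg (p := q) F),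
    IsGalois.card_aut_eq_finrank]
  have h1 := Module.natCard_eq_pow_finrank (K := ZMod q) (V := F)
  rw [Nat.card_zmod, Nat.card_eq_fintype_card, hF] at h1
  exact (Nat.pow_right_injective hp.two_le h1).symm

end Cfsg.Agent.Helper14.SA
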