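import Mathlib

set_option autoImplicit false
set_option linter.unusedSectionVars false

/-!
Piece SIG of S4025: a semilinear group of order prime to the order of the field automorphism
group consists of multiplications.
-/

namespace Cfsg.Agent.Helper14.SA

variable {p : ℕ} [Fact p.Prime] {V : Type*} [AddCommGroup V] [Module (ZMod p) V] [Finite V]

/-- PIECE SIG -/
theorem sigma_trivial (H : Subgroup (V ≃ₗ[ZMod p] V)) (F : Type) [Field F] [Fintype F] (e : V ≃+ F)
    (hsl : ∀ h ∈ H, ∃ (a : F) (σ : F ≃+* F), ∀ v : V, e ((h : V ≃ₗ[ZMod p] V) v) = a * σ (e v))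
    (hcop : (Nat.card H).Coprime (Nat.card (F ≃+* F))) :
    ∀ h ∈ H, ∃ a : F, ∀ v : V, e ((h : V ≃ₗ[ZMod p] V) v) = a * e v := by
  intro h hh
  obtain ⟨a, σ, hσ⟩ := hsl h hh
  have hpow : ∀ m : ℕ, ∃ b : F, ∀ v : V, e ((h ^ m : V ≃ₗ[ZMod p] V) v) = b * (σ ^ m) (e v) := by
    intro m
    induction m with
    | zero =>
      refine ⟨1, fun v => ?_⟩
      simp
    | succ m ih =>
      obtain ⟨b, hb⟩ := ih
      refine ⟨a * σ b, fun v => ?_⟩
      rw [pow_succ' h, pow_succ' σ, LinearEquiv.mul_apply, hσ, hb, map_mul, RingAut.mul_apply,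
        mul_assoc]
  obtain ⟨b, hb⟩ := hpow (Nat.card H)
  have hone : h ^ Nat.card H = 1 := by
    have h1 : (⟨h, hh⟩ : H) ^ Nat.card H = 1 := pow_card_eq_one'
    have h2 : (((⟨h, hh⟩ : H) ^ Nat.card H : H) : V ≃ₗ[ZMod p] V) =
        ((1 : H) : V ≃ₗ[ZMod p] V) := by rw [h1]
    rwa [Subgroup.coe_pow, Subgroup.coe_one] at h2
  rw [hone] at hb
  have hb1 : b = 1 := by
    have h1 := hb (e.symm 1)
    simp only [LinearEquiv.coe_one, id_eq, AddEquiv.apply_symm_apply, map_one, mul_one] at h1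
    exact h1.symm
  have hσm : σ ^ Nat.card H = 1 := by
    apply RingEquiv.ext
    intro x
    have h1 := hb (e.symm x)
    simp only [LinearEquiv.coe_one, id_eq, AddEquiv.apply_symm_apply, hb1, one_mul] at h1
    rw [← h1]
    rfl
  have hd1 : orderOf σ ∣ Nat.card H := orderOf_dvd_of_pow_eq_one hσm
  have hd2 : orderOf σ ∣ Nat.card (F ≃+* F) := orderOf_dvd_natCard σ
  have hd3 : orderOf σ ∣ 1 := by
    have := Nat.dvd_gcd hd1 hd2
    rwa [hcop] at this
  have hσ1 : σ = 1 := orderOf_eq_one_iff.1 (Nat.dvd_one.1 hd3)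
  refine ⟨a, fun v => ?_⟩
  rw [hσ v, hσ1]
  rfl

end Cfsg.Agent.Helper14.SA
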