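import Mathlib
import Cfsg.Agent.Lib.Helper14.SADefs
import Cfsg.Agent.Lib.Helper27.SAAUT

set_option autoImplicit false
set_option linter.unusedSectionVars false

/-!
Piece STAB of S4025: a transitive semilinear group on a field of order `p ^ n` has order
`k * (p ^ n - 1)` with `k ∣ n`.
-/

namespace Cfsg.Agent.Helper14.SA

open Cfsg.Agent.Helper7.Hup

variable {p : ℕ} [Fact p.Prime] {V : Type*} [AddCommGroup V] [Module (ZMod p) V] [Finite V]

/-- PIECE STAB -/
theorem card_of_semilinear (H : Subgroup (V ≃ₗ[ZMod p] V)) (htr : Trans H) (n : ℕ) (hn : 1 ≤ n)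
    (hV : Nat.card V = p ^ n) (F : Type) [Field F] [Fintype F] (e : V ≃+ F)
    (hsl : ∀ h ∈ H, ∃ (a : F) (σ : F ≃+* F), ∀ v : V, e ((h : V ≃ₗ[ZMod p] V) v) = a * σ (e v)) :
    ∃ k : ℕ, k ∣ n ∧ Nat.card H = k * (p ^ n - 1) := by
  classical
  have hF : Fintype.card F = p ^ n := by
    rw [← Nat.card_eq_fintype_card, ← Nat.card_congr e.toEquiv, hV]
  have hAut : Nat.card (F ≃+* F) = n := card_ringAut F n hn hF
  set v₁ : V := e.symm 1 with hv₁
  have hv₁0 : v₁ ≠ 0 := by
    intro h0
    have : e v₁ = 0 := by rw [h0, map_zero]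
    rw [hv₁, AddEquiv.apply_symm_apply] at this
    exact one_ne_zero this
  have hsm : ∀ (h : H) (v : V), h • v = (h : V ≃ₗ[ZMod p] V) v := fun h v => rfl
  -- orbit
  have horb : MulAction.orbit H v₁ = ({0} : Set V)ᶜ := by
    ext w
    simp only [Set.mem_compl_iff, Set.mem_singleton_iff, MulAction.mem_orbit_iff]
    constructor
    · rintro ⟨h, rfl⟩ h0
      rw [hsm] at h0
      exact hv₁0 ((LinearEquiv.map_eq_zero_iff _).1 h0)
    · intro hw
      obtain ⟨h, hh⟩ := htr v₁ w hv₁0 hw
      exact ⟨h, hh⟩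
  have hcard : Nat.card H = (MulAction.orbit H v₁).ncard * Nat.card (MulAction.stabilizer H v₁) := by
    rw [← MulAction.index_stabilizer, Subgroup.index_mul_card]
  have horbc : (MulAction.orbit H v₁).ncard = p ^ n - 1 := by
    rw [horb, Set.ncard_compl, Set.ncard_singleton, hV]
  -- the stabilizer embeds in the automorphism group
  have hst : ∀ h : MulAction.stabilizer H v₁, ∃ σ : F ≃+* F,
      ∀ v : V, e (((h : H) : V ≃ₗ[ZMod p] V) v) = σ (e v) := by
    intro h
    obtain ⟨a, σ, hσ⟩ := hsl (h : H) (h : H).2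
    have hfix : ((h : H) : V ≃ₗ[ZMod p] V) v₁ = v₁ := by
      have := h.2
      rw [MulAction.mem_stabilizer_iff, hsm] at this
      exact this
    have ha : a = 1 := by
      have h1 := hσ v₁
      rw [hfix, hv₁, AddEquiv.apply_symm_apply, map_one, mul_one] at h1
      exact h1.symm
    refine ⟨σ, fun v => ?_⟩
    rw [hσ v, ha, one_mul]
  choose f hf using hst
  have hmul : ∀ h h' : MulAction.stabilizer H v₁, f (h * h') = f h * f h' := by
    intro h h'
    apply RingEquiv.ext
    intro x
    have h1 := hf (h * h') (e.symm x)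
    rw [AddEquiv.apply_symm_apply] at h1
    rw [← h1, RingAut.mul_apply]
    have h2 := hf h' (e.symm x)
    rw [AddEquiv.apply_symm_apply] at h2
    rw [← h2, ← hf h]
    rfl
  let φ : MulAction.stabilizer H v₁ →* (F ≃+* F) := MonoidHom.mk' f hmul
  have hinj : Function.Injective φ := by
    intro h h' hh
    apply Subtype.ext
    apply Subtype.ext
    apply LinearEquiv.ext
    intro v
    apply e.injective
    have h1 : f h = f h' := hh
    rw [hf h v, hf h' v, h1]
  have hdvd : Nat.card (MulAction.stabilizer H v₁) ∣ n := by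
    rw [← hAut]
    exact Subgroup.card_dvd_of_injective φ hinj
  refine ⟨Nat.card (MulAction.stabilizer H v₁), hdvd, ?_⟩
  rw [hcard, horbc, mul_comm]

end Cfsg.Agent.Helper14.SA
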