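import Mathlib
import Cfsg.Agent.Lib.Helper7.HupDefs
import Cfsg.Agent.Lib.Helper24.RealPrimeE

/-! PIECE GRP of S3360 (Huppert): a maximal normal abelian subgroup `A` of a finite solvable group
has a configuration `Cfg A B`. -/

set_option autoImplicit false
set_option linter.style.haveILetI false

namespace Cfsg.Agent.Helper27.HupG

open scoped Pointwise

variable {G : Type*} [Group G]

/-- the family of candidates -/
def Fam (A B : Subgroup G) : Prop :=
  B.Normal ∧ A ≤ B ∧ B ≤ Subgroup.centralizer (A : Set G) ∧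
    (∀ b ∈ B, ∀ c ∈ B, b * c * b⁻¹ * c⁻¹ ∈ A) ∧ (∀ b ∈ B, ∃ n : ℕ, Squarefree n ∧ b ^ n ∈ A)

theorem fam_self (A : Subgroup G) [A.Normal] (hAc : ∀ a ∈ A, ∀ b ∈ A, a * b = b * a) :
    Fam A A := by
  refine ⟨inferInstance, le_rfl, ?_, ?_, ?_⟩
  · intro a ha
    rw [Subgroup.mem_centralizer_iff]
    intro b hb
    exact hAc b hb a ha
  · intro b hb c hc
    exact A.mul_mem (A.mul_mem (A.mul_mem hb hc) (A.inv_mem hb)) (A.inv_mem hc)
  · intro b hb
    exact ⟨1, squarefree_one, by rw [pow_one]; exact hb⟩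

theorem fam_center (A B : Subgroup G) [A.Normal]
    (hAmax : ∀ B : Subgroup G, B.Normal → (∀ a ∈ B, ∀ b ∈ B, a * b = b * a) → A ≤ B → B = A)
    (hB : Fam A B) : ∀ b ∈ B, (∀ c ∈ B, b * c = c * b) → b ∈ A := by
  obtain ⟨hBn, hAB, hBC, -, -⟩ := hB
  haveI := hBn
  intro b hb hbc
  have hZn : (B ⊓ Subgroup.centralizer (B : Set G)).Normal := inferInstance
  have hZc : ∀ x ∈ B ⊓ Subgroup.centralizer (B : Set G),
      ∀ y ∈ B ⊓ Subgroup.centralizer (B : Set G), x * y = y * x := by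
    intro x hx y hy
    exact ((Subgroup.mem_centralizer_iff.1 hx.2) y hy.1).symm
  have hAZ : A ≤ B ⊓ Subgroup.centralizer (B : Set G) := by
    intro a ha
    refine Subgroup.mem_inf.2 ⟨hAB ha, ?_⟩
    rw [Subgroup.mem_centralizer_iff]
    intro c hc
    exact ((Subgroup.mem_centralizer_iff.1 (hBC hc)) a ha).symm
  have hZA := hAmax _ hZn hZc hAZ
  rw [← hZA]
  refine Subgroup.mem_inf.2 ⟨hb, ?_⟩
  rw [Subgroup.mem_centralizer_iff]
  intro c hc
  exact (hbc c hc).symm

/-- the elements of order dividing `r` of an abelian subgroup -/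
def omegaSub {Q : Type*} [Group Q] (V : Subgroup Q) (hVc : ∀ a b : V, a * b = b * a) (r : ℕ) :
    Subgroup Q where
  carrier := {y | y ∈ V ∧ y ^ r = 1}
  one_mem' := ⟨V.one_mem, one_pow r⟩
  mul_mem' := by
    rintro x y ⟨hx, hx1⟩ ⟨hy, hy1⟩
    refine ⟨V.mul_mem hx hy, ?_⟩
    have hc : Commute x y := congrArg Subtype.val (hVc ⟨x, hx⟩ ⟨y, hy⟩)
    rw [hc.mul_pow, hx1, hy1, one_mul]
  inv_mem' := by
    rintro x ⟨hx, hx1⟩
    exact ⟨V.inv_mem hx, by rw [inv_pow, hx1, inv_one]⟩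

theorem mem_omegaSub {Q : Type*} [Group Q] (V : Subgroup Q) (hVc : ∀ a b : V, a * b = b * a)
    (r : ℕ) (y : Q) : y ∈ omegaSub V hVc r ↔ y ∈ V ∧ y ^ r = 1 := Iff.rfl

theorem omegaSub_normal {Q : Type*} [Group Q] (V : Subgroup Q) [hV : V.Normal]
    (hVc : ∀ a b : V, a * b = b * a) (r : ℕ) : (omegaSub V hVc r).Normal := by
  constructor
  intro y hy g
  refine ⟨hV.conj_mem y hy.1 g, ?_⟩
  rw [conj_pow, hy.2, mul_one, mul_inv_cancel]

theorem comm_mem_iff (A : Subgroup G) [A.Normal] (x y : G) :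
    x * y * x⁻¹ * y⁻¹ ∈ A ↔
      (QuotientGroup.mk' A x) * (QuotientGroup.mk' A y) =
        (QuotientGroup.mk' A y) * (QuotientGroup.mk' A x) := by
  rw [← QuotientGroup.eq_one_iff (N := A)]
  constructor
  · intro h
    have h1 : (QuotientGroup.mk' A x) * (QuotientGroup.mk' A y) * (QuotientGroup.mk' A x)⁻¹ *
        (QuotientGroup.mk' A y)⁻¹ = 1 := by
      rw [← map_inv, ← map_inv, ← map_mul, ← map_mul, ← map_mul]
      exact h
    calc (QuotientGroup.mk' A x) * (QuotientGroup.mk' A y)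
        = ((QuotientGroup.mk' A x) * (QuotientGroup.mk' A y) * (QuotientGroup.mk' A x)⁻¹ *
          (QuotientGroup.mk' A y)⁻¹) * ((QuotientGroup.mk' A y) * (QuotientGroup.mk' A x)) := by
          group
      _ = (QuotientGroup.mk' A y) * (QuotientGroup.mk' A x) := by rw [h1, one_mul]
  · intro h
    show QuotientGroup.mk' A (x * y * x⁻¹ * y⁻¹) = 1
    rw [map_mul, map_mul, map_mul, map_inv, map_inv, h]
    group

theorem exists_larger [Finite G] (hsol : Group.IsSolvable G) (A B : Subgroup G) [A.Normal]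
    (hB : Fam A B) (c : G) (hcC : c ∈ Subgroup.centralizer (A : Set G))
    (hcB : ∀ b ∈ B, c * b = b * c) (hcA : c ∉ A) :
    ∃ D1 : Subgroup G, Fam A (B ⊔ D1) ∧ ∃ y ∈ D1, y ∉ A ∧ ∀ b ∈ B, y * b = b * y := by
  obtain ⟨hBn, hAB, hBC, hBcomm, hBsq⟩ := hB
  haveI := hBn
  haveI := hsol
  set π : G →* G ⧸ A := QuotientGroup.mk' A with hπ
  have hπs : Function.Surjective π := QuotientGroup.mk'_surjective A
  have hπ1 : ∀ x : G, π x = 1 ↔ x ∈ A := fun x => QuotientGroup.eq_one_iff x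
  set D : Subgroup G := Subgroup.centralizer (A : Set G) ⊓ Subgroup.centralizer (B : Set G)
    with hD
  have hDn : D.Normal := inferInstance
  have hAD : A ≤ D := by
    intro a ha
    refine Subgroup.mem_inf.2 ⟨?_, ?_⟩
    · exact hBC (hAB ha)
    · rw [Subgroup.mem_centralizer_iff]
      intro b hb
      exact ((Subgroup.mem_centralizer_iff.1 (hBC hb)) a ha).symm
  have hcD : c ∈ D := by
    refine Subgroup.mem_inf.2 ⟨hcC, ?_⟩
    rw [Subgroup.mem_centralizer_iff]
    intro b hb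
    exact (hcB b hb).symm
  haveI hDbn : (D.map π).Normal := hDn.map π hπs
  have hDbne : D.map π ≠ ⊥ := by
    intro h
    have h1 : π c ∈ D.map π := Subgroup.mem_map_of_mem π hcD
    rw [h, Subgroup.mem_bot, hπ1] at h1
    exact hcA h1
  obtain ⟨r, hr, V, hVn, hVD, hVne, hVc, hVp⟩ :=
    Cfsg.Agent.Helper24.RealP.exists_normal_abelian_pgroup (D.map π) inferInstance hDbne
  haveI := hVn
  haveI : Fact r.Prime := ⟨hr⟩
  have hΩn : (omegaSub V hVc r).Normal := omegaSub_normal V hVc r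
  set D1 : Subgroup G := (omegaSub V hVc r).comap π with hD1
  haveI hD1n : D1.Normal := hΩn.comap π
  have hmemD1 : ∀ y : G, y ∈ D1 ↔ π y ∈ V ∧ (π y) ^ r = 1 := fun y => Iff.rfl
  have hD1D : D1 ≤ D := by
    intro y hy
    have h1 : π y ∈ D.map π := hVD ((hmemD1 y).1 hy).1
    obtain ⟨d, hd, hdy⟩ := h1
    have h2 : d⁻¹ * y ∈ A := QuotientGroup.eq.1 hdy
    have h3 : y = d * (d⁻¹ * y) := by group
    rw [h3]
    exact D.mul_mem hd (hAD h2)
  have hD1r : ∀ y ∈ D1, y ^ r ∈ A := by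
    intro y hy
    rw [← hπ1, map_pow]
    exact ((hmemD1 y).1 hy).2
  have hD1B : ∀ d ∈ D1, ∀ b ∈ B, d * b = b * d := by
    intro d hd b hb
    exact ((Subgroup.mem_centralizer_iff.1 (hD1D hd).2) b hb).symm
  -- a nontrivial element
  have hex : ∃ y ∈ D1, y ∉ A := by
    obtain ⟨k, hk⟩ := hVp.exists_card_eq
    have hk0 : k ≠ 0 := by
      intro h0
      rw [h0, pow_zero] at hk
      exact hVne (Subgroup.card_eq_one.1 hk)
    have hdvd : r ∣ Nat.card V := by
      rw [hk]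
      exact dvd_pow_self r hk0
    obtain ⟨x, hx⟩ := exists_prime_orderOf_dvd_card' r hdvd
    obtain ⟨y, hy⟩ := hπs x.1
    refine ⟨y, ?_, ?_⟩
    · rw [hmemD1, hy]
      refine ⟨x.2, ?_⟩
      have h1 : x ^ r = 1 := by
        rw [← hx]
        exact pow_orderOf_eq_one x
      have h2 := congrArg Subtype.val h1
      simpa using h2
    · intro hyA
      rw [← hπ1, hy] at hyA
      have h1 : x = 1 := Subtype.ext hyA
      rw [h1, orderOf_one] at hx
      exact hr.one_lt.ne hx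
  obtain ⟨y, hyD1, hyA⟩ := hex
  refine ⟨D1, ⟨inferInstance, le_sup_of_le_left hAB,
    sup_le hBC (hD1D.trans inf_le_left), ?_, ?_⟩, y, hyD1, hyA, hD1B y hyD1⟩
  · -- commutators
    intro x hx z hz
    have hx' : x ∈ (B : Set G) * (D1 : Set G) := by
      rw [← Subgroup.mul_normal]
      exact hx
    have hz' : z ∈ (B : Set G) * (D1 : Set G) := by
      rw [← Subgroup.mul_normal]
      exact hz
    obtain ⟨b, hb, d, hd, rfl⟩ := Set.mem_mul.1 hx'
    obtain ⟨b', hb', d', hd', rfl⟩ := Set.mem_mul.1 hz'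
    rw [comm_mem_iff]
    have c1 : Commute (π b) (π b') := (comm_mem_iff A b b').1 (hBcomm b hb b' hb')
    have c2 : Commute (π d) (π d') :=
      congrArg Subtype.val (hVc ⟨π d, ((hmemD1 d).1 hd).1⟩ ⟨π d', ((hmemD1 d').1 hd').1⟩)
    have c3 : Commute (π b) (π d') := by
      show π b * π d' = π d' * π b
      rw [← map_mul, ← map_mul, hD1B d' hd' b hb]
    have c4 : Commute (π d) (π b') := by
      show π d * π b' = π b' * π d
      rw [← map_mul, ← map_mul, hD1B d hd b' hb']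
    have c5 : Commute (π b * π d) (π b' * π d') :=
      (c1.mul_right c3).mul_left (c4.mul_right c2)
    show π (b * d) * π (b' * d') = π (b' * d') * π (b * d)
    rw [map_mul, map_mul]
    exact c5
  · -- squarefree exponent
    intro x hx
    have hx' : x ∈ (B : Set G) * (D1 : Set G) := by
      rw [← Subgroup.mul_normal]
      exact hx
    obtain ⟨b, hb, d, hd, rfl⟩ := Set.mem_mul.1 hx'
    obtain ⟨m, hm, hbm⟩ := hBsq b hb
    have hbd : Commute b d := (hD1B d hd b hb).symm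
    have hdr := hD1r d hd
    by_cases hrm : r ∣ m
    · refine ⟨m, hm, ?_⟩
      rw [hbd.mul_pow]
      obtain ⟨t, rfl⟩ := hrm
      exact A.mul_mem hbm (by rw [pow_mul]; exact A.pow_mem hdr t)
    · refine ⟨m * r, ?_, ?_⟩
      · rw [Nat.squarefree_mul ((Nat.Prime.coprime_iff_not_dvd hr).2 hrm).symm]
        exact ⟨hm, hr.prime.squarefree⟩
      · rw [hbd.mul_pow]
        refine A.mul_mem ?_ ?_
        · rw [pow_mul]
          exact A.pow_mem hbm r
        · rw [mul_comm, pow_mul]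
          exact A.pow_mem hdr m

end Cfsg.Agent.Helper27.HupG

namespace Cfsg.Agent.Helper7.Hup

open Cfsg.Agent.Helper27.HupG

variable {G : Type*} [Group G] [Finite G]

/-- PIECE GRP -/
theorem exists_cfg (hsol : Group.IsSolvable G) (A : Subgroup G) [A.Normal]
    (hAc : ∀ a ∈ A, ∀ b ∈ A, a * b = b * a)
    (hAmax : ∀ B : Subgroup G, B.Normal → (∀ a ∈ B, ∀ b ∈ B, a * b = b * a) → A ≤ B → B = A) :
    ∃ B : Subgroup G, Cfg A B := by
  obtain ⟨B, -, hBmax⟩ := Finite.exists_le_maximal (p := Fam A) (fam_self A hAc)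
  have hB : Fam A B := hBmax.prop
  refine ⟨B, ⟨inferInstance, hB.1, hB.2.1, hB.2.2.1, hB.2.2.2.1, fam_center A B hAmax hB, ?_,
    hB.2.2.2.2⟩⟩
  intro c hcC hcB
  by_contra hcA
  obtain ⟨D1, hF, y, hy, hyA, hyB⟩ := exists_larger hsol A B hB c hcC hcB hcA
  have hle : B ⊔ D1 ≤ B := hBmax.le_of_ge hF le_sup_left
  have hyB' : y ∈ B := hle (Subgroup.mem_sup_right hy)
  exact hyA (fam_center A B hAmax hB y hyB' hyB)

end Cfsg.Agent.Helper7.Hup
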