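import Mathlib
import Cfsg.Agent.Lib.Helper7.HupDefs

/-! PIECE PRM of S3360 (Huppert): the primes dividing `|B|` divide `|A|`. -/

set_option autoImplicit false

namespace Cfsg.Agent.Helper7.Hup

variable {G : Type*} [Group G] [Finite G]

/-- PIECE PRM -/
theorem Cfg.prime_dvd {A B : Subgroup G} (h : Cfg A B) {r : ℕ} (hr : r.Prime)
    (hrB : r ∣ Nat.card B) : r ∣ Nat.card A := by
  have : Fact r.Prime := ⟨hr⟩
  by_contra hrA
  obtain ⟨x, hx⟩ := exists_prime_orderOf_dvd_card' r hrB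
  have hbB : (x : G) ∈ B := x.2
  have hbo : orderOf (x : G) = r := by rw [Subgroup.orderOf_coe, hx]
  have hbr : (x : G) ^ r = 1 := by rw [← hbo]; exact pow_orderOf_eq_one _
  have hcop : Nat.Coprime r (Nat.card A) := (Nat.Prime.coprime_iff_not_dvd hr).2 hrA
  have hcomm : ∀ c ∈ B, (x : G) * c = c * (x : G) := by
    intro c hc
    obtain ⟨b, hb⟩ : ∃ b : G, b = (x : G) := ⟨_, rfl⟩
    rw [← hb] at hbB hbo hbr ⊢
    obtain ⟨k, hk⟩ : ∃ k : G, k = b * c * b⁻¹ * c⁻¹ := ⟨_, rfl⟩
    have hkA : k ∈ A := by rw [hk]; exact h.comm b hbB c hc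
    have hkb : b * k = k * b := by
      have := Subgroup.mem_centralizer_iff.1 (h.cent hbB) k hkA
      exact this.symm
    have hconj : b * c * b⁻¹ = k * c := by rw [hk]; group
    have hkbn : ∀ n : ℕ, b * k ^ n * b⁻¹ = k ^ n := by
      intro n
      have hc' : Commute b (k ^ n) := (show Commute b k from hkb).pow_right n
      rw [hc'.eq, mul_assoc, mul_inv_cancel, mul_one]
    have hpow : ∀ n : ℕ, b ^ n * c * (b ^ n)⁻¹ = k ^ n * c := by
      intro n
      induction n with
      | zero => simp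
      | succ n ih =>
        calc b ^ (n + 1) * c * (b ^ (n + 1))⁻¹
            = b * (b ^ n * c * (b ^ n)⁻¹) * b⁻¹ := by rw [pow_succ']; group
          _ = (b * k ^ n * b⁻¹) * (b * c * b⁻¹) := by rw [ih]; group
          _ = k ^ (n + 1) * c := by rw [hkbn, hconj, pow_succ, mul_assoc]
    have hkr : k ^ r = 1 := by
      have h1 := hpow r
      rw [hbr, inv_one, mul_one, one_mul] at h1
      exact (mul_eq_right.1 h1.symm)
    have hkcard : k ^ Nat.card A = 1 := by
      have h1 : (⟨k, hkA⟩ : A) ^ Nat.card A = 1 := pow_card_eq_one'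
      have h2 := congrArg Subtype.val h1
      rwa [Subgroup.coe_pow, Subgroup.coe_one] at h2
    have hk1 : k = 1 := by
      have h1 := pow_gcd_eq_one.2 ⟨hkr, hkcard⟩
      rw [Nat.Coprime.gcd_eq_one hcop, pow_one] at h1
      exact h1
    have h2 : b * c * b⁻¹ * c⁻¹ = 1 := by rw [← hk]; exact hk1
    calc b * c = (b * c * b⁻¹ * c⁻¹) * (c * b) := by group
      _ = c * b := by rw [h2, one_mul]
  have hbA : (x : G) ∈ A := h.center _ hbB hcomm
  have hdvd : orderOf (x : G) ∣ Nat.card A := Subgroup.orderOf_dvd_natCard A hbA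
  rw [hbo] at hdvd
  exact hrA hdvd

end Cfsg.Agent.Helper7.Hup
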