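import Mathlib
import Cfsg.Agent.Lib.Helper27.GolayWeights

set_option autoImplicit false
open Cfsg

/-! Structure of the vectors of the rank-24 lattice of the definitions, and its minimal
squared length. -/

namespace Cfsg.Agent.Helper27

/-- Reduction of an integer vector modulo 2. -/
def red2 (a : GolayPt → ℤ) : GolayPt → ZMod 2 := fun i => (a i : ZMod 2)

theorem red2_add (a b : GolayPt → ℤ) : red2 (a + b) = red2 a + red2 b := by
  funext i; simp [red2]

theorem red2_neg (a : GolayPt → ℤ) : red2 (-a) = -red2 a := by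
  funext i; simp [red2]

theorem red2_zero : red2 0 = 0 := by
  funext i; simp [red2]

theorem red2_ne_zero_iff (a : GolayPt → ℤ) (i : GolayPt) : red2 a i ≠ 0 ↔ ¬ (2 : ℤ) ∣ a i := by
  unfold red2
  rw [Ne, ZMod.intCast_zmod_eq_zero_iff_dvd]
  rfl

theorem zmod2_eq_of_ne_zero_iff {x y : ZMod 2} (h : x ≠ 0 ↔ y ≠ 0) : x = y := by
  revert x y; decide

theorem card_golayPt : Fintype.card GolayPt = 24 := by decide

/-- The shape of a lattice vector: `x = m + 2a` with `a` reducing to a code word and
`∑ a ≡ 2m (mod 4)`. -/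
def LeechForm (x : GolayPt → ℤ) : Prop :=
  ∃ m : ℤ, ∃ a : GolayPt → ℤ, (∀ i, x i = m + 2 * a i) ∧ red2 a ∈ golayCode ∧
    (4 : ℤ) ∣ (∑ i, a i) - 2 * m

theorem leechForm_of_mem_leechSet {x : GolayPt → ℤ} (hx : x ∈ leechSet) : LeechForm x := by
  obtain ⟨m, hpar, hsum, hk⟩ := hx
  have h2 : ∀ i, ∃ k : ℤ, x i = m + 2 * k := by
    intro i
    obtain ⟨k, hk⟩ := Int.modEq_iff_dvd.mp (hpar i)
    exact ⟨-k, by linarith⟩
  choose a ha using h2
  refine ⟨m, a, ha, ?_, ?_⟩
  · obtain ⟨w, hw, hws⟩ := hk (m + 2)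
    have : red2 a = w := by
      funext i
      apply zmod2_eq_of_ne_zero_iff
      rw [red2_ne_zero_iff]
      have hi : i ∈ support₂ w ↔ x i ≡ m + 2 [ZMOD 4] := by
        rw [hws, Finset.mem_filter]
        simp
      unfold support₂ at hi
      rw [Finset.mem_filter] at hi
      simp only [Finset.mem_univ, true_and] at hi
      rw [hi, Int.modEq_iff_dvd, ha i]
      constructor
      · intro h1
        omega
      · intro h1 h3
        omega
    rw [this]; exact hw
  · have hs : ∑ i, x i = 24 * m + 2 * ∑ i, a i := by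
      rw [Finset.sum_congr rfl (fun i _ => ha i), Finset.sum_add_distrib, Finset.sum_const,
        ← Finset.mul_sum, Finset.card_univ, card_golayPt]
      simp
    have := Int.modEq_iff_dvd.mp hsum
    rw [hs] at this
    omega

theorem leechForm_of_mem {x : GolayPt → ℤ} (hx : x ∈ leechLattice) : LeechForm x := by
  unfold leechLattice at hx
  induction hx using AddSubgroup.closure_induction with
  | mem x hx => exact leechForm_of_mem_leechSet hx
  | zero =>
    exact ⟨0, 0, by intro i; simp, by rw [red2_zero]; exact zero_mem _, by simp⟩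
  | add x y _ _ hx hy =>
    obtain ⟨m, a, ha, hc, hs⟩ := hx
    obtain ⟨m', a', ha', hc', hs'⟩ := hy
    refine ⟨m + m', a + a', ?_, ?_, ?_⟩
    · intro i
      rw [Pi.add_apply, Pi.add_apply, ha i, ha' i]; ring
    · rw [red2_add]; exact add_mem hc hc'
    · simp only [Pi.add_apply, Finset.sum_add_distrib]
      omega
  | neg x _ hx =>
    obtain ⟨m, a, ha, hc, hs⟩ := hx
    refine ⟨-m, -a, ?_, ?_, ?_⟩
    · intro i
      rw [Pi.neg_apply, Pi.neg_apply, ha i]; ring
    · rw [red2_neg]; exact neg_mem hc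
    · simp only [Pi.neg_apply, Finset.sum_neg_distrib]
      omega

theorem red2_const_mem (k : ℤ) : red2 (fun _ => k) ∈ golayCode := by
  have : red2 (fun _ => k) = (k : ZMod 2) • (1 : GolayPt → ZMod 2) := by
    funext i; simp [red2]
  rw [this]
  exact Submodule.smul_mem _ _ one_mem_golayCode

/-- Normalizing the parity parameter of `LeechForm`: it can be shifted by any even number. -/
theorem LeechForm.shift {x : GolayPt → ℤ} {m : ℤ} {a : GolayPt → ℤ}
    (ha : ∀ i, x i = m + 2 * a i) (hc : red2 a ∈ golayCode) (hs : (4 : ℤ) ∣ (∑ i, a i) - 2 * m)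
    (k : ℤ) :
    (∀ i, x i = (m - 2 * k) + 2 * (a i + k)) ∧ red2 (fun i => a i + k) ∈ golayCode ∧
      (4 : ℤ) ∣ (∑ i, (a i + k)) - 2 * (m - 2 * k) := by
  refine ⟨fun i => by rw [ha i]; ring, ?_, ?_⟩
  · have : red2 (fun i => a i + k) = red2 a + red2 (fun _ => k) := by
      funext i; simp [red2]
    rw [this]
    exact add_mem hc (red2_const_mem k)
  · rw [Finset.sum_add_distrib, Finset.sum_const, Finset.card_univ, card_golayPt]
    simp only [nsmul_eq_mul, Nat.cast_ofNat]
    omega

/-- The number of odd coordinates, as a sum. -/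
theorem card_support₂_red2 (a : GolayPt → ℤ) :
    ((support₂ (red2 a)).card : ℤ) = ∑ i, (if red2 a i ≠ 0 then (1 : ℤ) else 0) := by
  unfold support₂
  rw [Finset.card_filter]
  push_cast
  rfl

theorem sum_sq_modEq (a : GolayPt → ℤ) :
    (4 : ℤ) ∣ (∑ i, a i ^ 2) - (support₂ (red2 a)).card := by
  rw [card_support₂_red2, ← Finset.sum_sub_distrib]
  apply Finset.dvd_sum
  intro i _
  by_cases h : red2 a i ≠ 0
  · rw [if_pos h]
    rw [red2_ne_zero_iff] at h
    obtain ⟨c, hc⟩ : ∃ c, a i = 2 * c + 1 := ⟨a i / 2, by omega⟩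
    rw [hc]
    exact ⟨c ^ 2 + c, by ring⟩
  · rw [if_neg h]
    rw [red2_ne_zero_iff, not_not] at h
    obtain ⟨c, hc⟩ := h
    rw [hc]
    exact ⟨c ^ 2, by ring⟩

/-- Squared lengths of lattice vectors are divisible by 16. -/
theorem LeechForm.sqNorm_dvd {x : GolayPt → ℤ} (hx : LeechForm x) : (16 : ℤ) ∣ sqNorm x := by
  obtain ⟨m, a, ha, hc, hs⟩ := hx
  have h1 := sum_sq_modEq a
  have h2 : (4 : ℤ) ∣ ((support₂ (red2 a)).card : ℤ) := by
    exact_mod_cast golay_weight_dvd hc
  have h3 : (4 : ℤ) ∣ ∑ i, a i ^ 2 := by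
    have := dvd_add h1 h2
    simpa using this
  obtain ⟨u, hu⟩ := hs
  obtain ⟨v, hv⟩ := h3
  have hsq : sqNorm x = 24 * m ^ 2 + 4 * m * (∑ i, a i) + 4 * ∑ i, a i ^ 2 := by
    unfold sqNorm
    rw [Finset.sum_congr rfl (fun i _ => by rw [ha i])]
    have : ∀ i, (m + 2 * a i) ^ 2 = m ^ 2 + 4 * m * a i + 4 * a i ^ 2 := fun i => by ring
    rw [Finset.sum_congr rfl (fun i _ => this i), Finset.sum_add_distrib, Finset.sum_add_distrib,
      Finset.sum_const, ← Finset.mul_sum, ← Finset.mul_sum, Finset.card_univ, card_golayPt]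
    simp
  rw [hsq, hv]
  have : ∑ i, a i = 2 * m + 4 * u := by linarith
  rw [this]
  exact ⟨2 * m ^ 2 + m * u + v, by ring⟩

theorem sqNorm_dvd_of_mem {x : GolayPt → ℤ} (hx : x ∈ leechLattice) : (16 : ℤ) ∣ sqNorm x :=
  (leechForm_of_mem hx).sqNorm_dvd

theorem sqNorm_nonneg (x : GolayPt → ℤ) : 0 ≤ sqNorm x :=
  Finset.sum_nonneg (fun i _ => sq_nonneg (x i))

theorem sqNorm_eq_zero_iff (x : GolayPt → ℤ) : sqNorm x = 0 ↔ x = 0 := by
  unfold sqNorm
  rw [Finset.sum_eq_zero_iff_of_nonneg (fun i _ => sq_nonneg (x i))]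
  constructor
  · intro h; funext i
    have := h i (Finset.mem_univ i)
    exact pow_eq_zero_iff (two_ne_zero) |>.mp this
  · rintro rfl i _; simp

/-- The minimal squared length of the lattice is (at least) 32. -/
theorem leech_min_norm {x : GolayPt → ℤ} (hx : x ∈ leechLattice) (h0 : x ≠ 0) :
    32 ≤ sqNorm x := by
  obtain ⟨m, a, ha, hc, hs⟩ := leechForm_of_mem hx
  have h16 := sqNorm_dvd_of_mem hx
  by_cases hm : (2 : ℤ) ∣ m
  · obtain ⟨k, hk⟩ := hm
    obtain ⟨hb, hbc, hbs⟩ := LeechForm.shift ha hc hs k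
    rw [hk] at hb hbs
    simp only [sub_self, zero_add, mul_zero, sub_zero] at hb hbs
    set b : GolayPt → ℤ := fun i => a i + k with hbdef
    by_cases hb0 : red2 b = 0
    · -- all coordinates divisible by 4
      have hev : ∀ i, ∃ d : ℤ, b i = 2 * d := by
        intro i
        have := congrFun hb0 i
        by_contra hne
        have h2 : ¬ (2 : ℤ) ∣ b i := fun ⟨d, hd⟩ => hne ⟨d, hd⟩
        rw [← red2_ne_zero_iff] at h2
        exact h2 this
      choose d hd using hev
      have hxd : ∀ i, x i = 4 * d i := by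
        intro i; rw [hb i]
        show 2 * b i = 4 * d i
        rw [hd i]; ring
      have hsum : ∑ i, b i = 2 * ∑ i, d i := by
        rw [Finset.mul_sum]; exact Finset.sum_congr rfl (fun i _ => hd i)
      have hsd : (2 : ℤ) ∣ ∑ i, d i := by
        rw [hsum] at hbs; omega
      have hpar : (2 : ℤ) ∣ (∑ i, d i ^ 2) - ∑ i, d i := by
        rw [← Finset.sum_sub_distrib]
        apply Finset.dvd_sum
        intro i _
        have : d i ^ 2 - d i = d i * (d i - 1) := by ring
        rw [this]
        exact Int.even_mul_pred_self (d i) |>.two_dvd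
      have hnorm : sqNorm x = 16 * ∑ i, d i ^ 2 := by
        unfold sqNorm
        rw [Finset.mul_sum]
        exact Finset.sum_congr rfl (fun i _ => by rw [hxd i]; ring)
      have hpos : 0 < ∑ i, d i ^ 2 := by
        have hne : ∃ j, d j ≠ 0 := by
          by_contra hall
          push Not at hall
          apply h0
          funext i
          rw [hxd i, hall i]; rfl
        obtain ⟨j, hj⟩ := hne
        have h1 : d j ^ 2 ≤ ∑ i, d i ^ 2 :=
          Finset.single_le_sum (f := fun i => d i ^ 2) (fun i _ => sq_nonneg (d i))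
            (Finset.mem_univ j)
        have h2 : 0 < d j ^ 2 := by positivity
        omega
      rw [hnorm]
      omega
    · have hw := golay_min_weight hbc hb0
      have hnorm : sqNorm x = 4 * ∑ i, b i ^ 2 := by
        unfold sqNorm
        rw [Finset.mul_sum]
        exact Finset.sum_congr rfl (fun i _ => by rw [hb i]; ring)
      have hge : ((support₂ (red2 b)).card : ℤ) ≤ ∑ i, b i ^ 2 := by
        rw [card_support₂_red2]
        apply Finset.sum_le_sum
        intro i _
        by_cases h : red2 b i ≠ 0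
        · rw [if_pos h]
          rw [red2_ne_zero_iff] at h
          have : b i ≠ 0 := by
            intro h0; apply h; rw [h0]; exact dvd_zero _
          have : 0 < b i ^ 2 := by positivity
          omega
        · rw [if_neg h]; exact sq_nonneg _
      rw [hnorm]
      have : (8 : ℤ) ≤ ((support₂ (red2 b)).card : ℤ) := by exact_mod_cast hw
      omega
  · -- all coordinates odd
    have hodd : ∀ i, 1 ≤ x i ^ 2 := by
      intro i
      have : x i ≠ 0 := by
        intro h0
        rw [ha i] at h0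
        omega
      have : 0 < x i ^ 2 := by positivity
      omega
    have : (24 : ℤ) ≤ sqNorm x := by
      unfold sqNorm
      calc (24 : ℤ) = ∑ _i : GolayPt, (1 : ℤ) := by
            rw [Finset.sum_const, Finset.card_univ, card_golayPt]; simp
        _ ≤ ∑ i, x i ^ 2 := Finset.sum_le_sum (fun i _ => hodd i)
    omega

end Cfsg.Agent.Helper27
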