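import Mathlib
import Cfsg.Agent.Lib.Helper27.Leech

set_option autoImplicit false
open Cfsg

/-! Characterization of the lattice by `LeechForm`, parity of intersections of code words and
sign changes on code words. -/

namespace Cfsg.Agent.Helper27

theorem sum_eq_of_form {x a : GolayPt → ℤ} {m : ℤ} (ha : ∀ i, x i = m + 2 * a i) :
    ∑ i, x i = 24 * m + 2 * ∑ i, a i := by
  rw [Finset.sum_congr rfl (fun i _ => ha i), Finset.sum_add_distrib, Finset.sum_const,
    ← Finset.mul_sum, Finset.card_univ, card_golayPt]
  simp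

theorem red2_eq_zero_iff (a : GolayPt → ℤ) (i : GolayPt) : red2 a i = 0 ↔ (2 : ℤ) ∣ a i := by
  have := red2_ne_zero_iff a i
  constructor
  · intro h
    by_contra hcon
    exact (this.mpr hcon) h
  · intro h
    by_contra hcon
    exact (this.mp hcon) h

theorem zmod2_add_one_ne_zero_iff (t : ZMod 2) : t + 1 ≠ 0 ↔ t = 0 := by
  revert t; decide

/-- A vector of the standard shape lies in the generating set of the lattice. -/
theorem mem_leechSet_of_leechForm {x : GolayPt → ℤ} (h : LeechForm x) : x ∈ leechSet := by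
  obtain ⟨m, a, ha, hc, hs⟩ := h
  refine ⟨m, ?_, ?_, ?_⟩
  · intro i
    rw [Int.modEq_iff_dvd, ha i]
    exact ⟨-a i, by ring⟩
  · rw [Int.modEq_iff_dvd, sum_eq_of_form ha]
    obtain ⟨u, hu⟩ := hs
    exact ⟨-3 * m - u, by linarith⟩
  · intro k
    by_cases h0 : (4 : ℤ) ∣ k - m
    · refine ⟨red2 a + 1, add_mem hc one_mem_golayCode, ?_⟩
      ext i
      unfold support₂
      simp only [Finset.mem_filter, Finset.mem_univ, true_and, Pi.add_apply, Pi.one_apply]
      rw [zmod2_add_one_ne_zero_iff, red2_eq_zero_iff, Int.modEq_iff_dvd, ha i]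
      constructor
      · intro h1; omega
      · intro h1; omega
    · by_cases h2 : (4 : ℤ) ∣ k - m - 2
      · refine ⟨red2 a, hc, ?_⟩
        ext i
        unfold support₂
        simp only [Finset.mem_filter, Finset.mem_univ, true_and]
        rw [red2_ne_zero_iff, Int.modEq_iff_dvd, ha i]
        constructor
        · intro h1; omega
        · intro h1; omega
      · refine ⟨0, zero_mem _, ?_⟩
        ext i
        unfold support₂
        simp only [Finset.mem_filter, Finset.mem_univ, true_and, Pi.zero_apply, ne_eq,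
          not_true_eq_false, false_iff]
        rw [Int.modEq_iff_dvd, ha i]
        intro h1
        omega

/-- The lattice consists exactly of the vectors of the standard shape. -/
theorem mem_leechLattice_iff {x : GolayPt → ℤ} : x ∈ leechLattice ↔ LeechForm x :=
  ⟨leechForm_of_mem, fun h => AddSubgroup.subset_closure (mem_leechSet_of_leechForm h)⟩

theorem card_support₂_eq_sum (w : GolayPt → ZMod 2) :
    ((support₂ w).card : ℤ) = ∑ i, (if w i ≠ 0 then (1 : ℤ) else 0) := by
  unfold support₂
  rw [Finset.card_filter]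
  push_cast
  rfl

/-- Two code words meet evenly. -/
theorem golay_inter_even {c d : GolayPt → ZMod 2} (hc : c ∈ golayCode) (hd : d ∈ golayCode) :
    (2 : ℤ) ∣ ∑ i, (if c i ≠ 0 ∧ d i ≠ 0 then (1 : ℤ) else 0) := by
  have h1 : (4 : ℤ) ∣ ((support₂ c).card : ℤ) := by exact_mod_cast golay_weight_dvd hc
  have h2 : (4 : ℤ) ∣ ((support₂ d).card : ℤ) := by exact_mod_cast golay_weight_dvd hd
  have h3 : (4 : ℤ) ∣ ((support₂ (c + d)).card : ℤ) := by
    exact_mod_cast golay_weight_dvd (add_mem hc hd)
  rw [card_support₂_eq_sum] at h1 h2 h3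
  have key : ∑ i, (if (c + d) i ≠ 0 then (1 : ℤ) else 0) +
      2 * ∑ i, (if c i ≠ 0 ∧ d i ≠ 0 then (1 : ℤ) else 0) =
      ∑ i, (if c i ≠ 0 then (1 : ℤ) else 0) + ∑ i, (if d i ≠ 0 then (1 : ℤ) else 0) := by
    rw [Finset.mul_sum, ← Finset.sum_add_distrib, ← Finset.sum_add_distrib]
    apply Finset.sum_congr rfl
    intro i _
    rw [Pi.add_apply]
    have : ∀ s t : ZMod 2, (if s + t ≠ 0 then (1 : ℤ) else 0) +
        2 * (if s ≠ 0 ∧ t ≠ 0 then (1 : ℤ) else 0) =
        (if s ≠ 0 then (1 : ℤ) else 0) + (if t ≠ 0 then (1 : ℤ) else 0) := by decide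
    exact this _ _
  omega

/-- The sum of `a` over the support of a code word is even when `a` reduces to a code word. -/
theorem even_sum_on_codeword {a : GolayPt → ℤ} (ha : red2 a ∈ golayCode) {w : GolayPt → ZMod 2}
    (hw : w ∈ golayCode) : (2 : ℤ) ∣ ∑ i, (if w i ≠ 0 then a i else 0) := by
  have h := golay_inter_even hw ha
  have h2 : (2 : ℤ) ∣ ∑ i, ((if w i ≠ 0 then a i else 0) -
      (if w i ≠ 0 ∧ red2 a i ≠ 0 then (1 : ℤ) else 0)) := by
    apply Finset.dvd_sum
    intro i _
    by_cases hwi : w i ≠ 0
    · by_cases hai : red2 a i ≠ 0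
      · rw [if_pos hwi, if_pos ⟨hwi, hai⟩]
        rw [red2_ne_zero_iff] at hai
        omega
      · rw [if_pos hwi, if_neg (fun h => hai h.2)]
        rw [red2_ne_zero_iff, not_not] at hai
        omega
    · rw [if_neg hwi, if_neg (fun h => hwi h.1)]
      simp
  rw [Finset.sum_sub_distrib] at h2
  omega

/-- Changing signs on a set of coordinates. -/
def signChange (c : Finset GolayPt) (x : GolayPt → ℤ) : GolayPt → ℤ :=
  fun i => if i ∈ c then -x i else x i

theorem signChange_signChange (c : Finset GolayPt) (x : GolayPt → ℤ) :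
    signChange c (signChange c x) = x := by
  funext i
  unfold signChange
  by_cases h : i ∈ c <;> simp [h]

theorem signChange_add (c : Finset GolayPt) (x y : GolayPt → ℤ) :
    signChange c (x + y) = signChange c x + signChange c y := by
  funext i
  unfold signChange
  by_cases h : i ∈ c <;> simp [h]
  ring

theorem sqNorm_signChange (c : Finset GolayPt) (x : GolayPt → ℤ) :
    sqNorm (signChange c x) = sqNorm x := by
  unfold sqNorm signChange
  apply Finset.sum_congr rfl
  intro i _
  by_cases h : i ∈ c <;> simp [h]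

theorem mem_support₂ {w : GolayPt → ZMod 2} {i : GolayPt} : i ∈ support₂ w ↔ w i ≠ 0 := by
  unfold support₂
  simp

/-- Sign changes on the support of a code word preserve the standard shape. -/
theorem leechForm_signChange {w : GolayPt → ZMod 2} (hw : w ∈ golayCode) {x : GolayPt → ℤ}
    (hx : LeechForm x) : LeechForm (signChange (support₂ w) x) := by
  obtain ⟨m, a, ha, hc, hs⟩ := hx
  refine ⟨m, fun i => if w i ≠ 0 then -a i - m else a i, ?_, ?_, ?_⟩
  · intro i
    unfold signChange
    beta_reduce
    by_cases h : w i ≠ 0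
    · rw [if_pos (mem_support₂.mpr h), if_pos h, ha i]; ring
    · rw [if_neg (fun h' => h (mem_support₂.mp h')), if_neg h, ha i]
  · have : red2 (fun i => if w i ≠ 0 then -a i - m else a i) = red2 a + (m : ZMod 2) • w := by
      funext i
      simp only [red2, Pi.add_apply, Pi.smul_apply, smul_eq_mul]
      by_cases h : w i ≠ 0
      · rw [if_pos h]
        have hw1 : w i = 1 := by
          have : ∀ t : ZMod 2, t ≠ 0 → t = 1 := by decide
          exact this _ h
        rw [hw1]
        push_cast
        have : ∀ s t : ZMod 2, -s - t = s + t * 1 := by decide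
        exact this _ _
      · rw [if_neg h]
        rw [not_not] at h
        rw [h]; simp
    rw [this]
    exact add_mem hc (Submodule.smul_mem _ _ hw)
  · have h1 := even_sum_on_codeword hc hw
    have h2 : (4 : ℤ) ∣ ((support₂ w).card : ℤ) := by exact_mod_cast golay_weight_dvd hw
    rw [card_support₂_eq_sum] at h2
    have key : ∑ i, (if w i ≠ 0 then -a i - m else a i) =
        ∑ i, a i - 2 * ∑ i, (if w i ≠ 0 then a i else 0) -
          m * ∑ i, (if w i ≠ 0 then (1 : ℤ) else 0) := by
      rw [Finset.mul_sum, Finset.mul_sum, ← Finset.sum_sub_distrib, ← Finset.sum_sub_distrib]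
      apply Finset.sum_congr rfl
      intro i _
      by_cases h : w i ≠ 0
      · rw [if_pos h, if_pos h, if_pos h]; ring
      · rw [if_neg h, if_neg h, if_neg h]; ring
    rw [key]
    obtain ⟨u1, hu1⟩ := h1
    obtain ⟨u2, hu2⟩ := h2
    obtain ⟨u3, hu3⟩ := hs
    rw [hu1, hu2]
    exact ⟨u3 - u1 - m * u2, by linarith⟩

/-- Sign changes on the support of a code word preserve the lattice. -/
theorem signChange_mem {c : Finset GolayPt}
    (hc : c ∈ supports (golayCode : Set (GolayPt → ZMod 2))) {x : GolayPt → ℤ}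
    (hx : x ∈ leechLattice) : signChange c x ∈ leechLattice := by
  obtain ⟨w, hw, rfl⟩ := hc
  rw [mem_leechLattice_iff] at hx ⊢
  exact leechForm_signChange hw hx

end Cfsg.Agent.Helper27
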