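import Mathlib
import Cfsg.Agent.Lib.Helper27.Leech

set_option autoImplicit false
open Cfsg
namespace Cfsg.Agent.Helper27
open Cfsg.Agent.S0358 (MG ML ML_mul_MG golayCode_eq_range one_eq)

/-- All coordinates of a lattice vector have the same parity. -/
theorem leech_parity {v : GolayPt → ℤ} (hv : v ∈ leechLattice) (i j : GolayPt) :
    (2 : ℤ) ∣ v i - v j := by
  obtain ⟨m, a, ha, -, -⟩ := leechForm_of_mem hv
  rw [ha i, ha j]
  exact ⟨a i - a j, by ring⟩

/-- Half the difference with the coordinate at the extra point. -/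
def halfDiff : ↥leechLattice →+ (GolayPt → ℤ) where
  toFun v := fun i => ((v : GolayPt → ℤ) i - (v : GolayPt → ℤ) none) / 2
  map_zero' := by funext i; simp
  map_add' v w := by
    funext i
    have h1 := leech_parity v.2 i none
    have h2 := leech_parity w.2 i none
    simp only [AddSubgroup.coe_add, Pi.add_apply]
    omega

theorem halfDiff_apply (v : ↥leechLattice) (i : GolayPt) :
    2 * halfDiff v i = (v : GolayPt → ℤ) i - (v : GolayPt → ℤ) none := by
  have h1 := leech_parity v.2 i none
  show 2 * (((v : GolayPt → ℤ) i - (v : GolayPt → ℤ) none) / 2) = _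
  omega

/-- The code word attached to a lattice vector. -/
theorem red2_halfDiff_mem (v : ↥leechLattice) : red2 (halfDiff v) ∈ golayCode := by
  obtain ⟨m, a, ha, hc, hs⟩ := leechForm_of_mem v.2
  have : halfDiff v = fun i => a i + (- a none) := by
    funext i
    have := halfDiff_apply v i
    rw [ha i, ha none] at this
    omega
  rw [this]
  exact (LeechForm.shift ha hc hs (- a none)).2.1

/-- The first eleven coordinates of a word with respect to the basis of the code. -/
def proj11 : (GolayPt → ZMod 2) →+ (Fin 11 → ZMod 2) where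
  toFun w := fun j => ML.mulVec w (Fin.castSucc j)
  map_zero' := by funext j; simp
  map_add' w w' := by funext j; simp [Matrix.mulVec_add]

theorem ML_mulVec_MG (x : Fin 12 → ZMod 2) : ML.mulVec (MG.mulVec x) = x := by
  rw [Matrix.mulVec_mulVec, ML_mul_MG, Matrix.one_mulVec]

theorem exists_coords_of_mem {c : GolayPt → ZMod 2} (hc : c ∈ golayCode) :
    ∃ x : Fin 12 → ZMod 2, c = MG.mulVec x := by
  rw [golayCode_eq_range] at hc
  obtain ⟨x, rfl⟩ := hc
  exact ⟨x, rfl⟩

theorem mulVec_mem_golayCode (x : Fin 12 → ZMod 2) : MG.mulVec x ∈ golayCode := by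
  rw [golayCode_eq_range]
  exact ⟨x, rfl⟩

/-- A code word whose first eleven coordinates vanish is `0` or the all-ones word. -/
theorem eq_zero_or_one_of_proj11 {c : GolayPt → ZMod 2} (hc : c ∈ golayCode)
    (h : proj11 c = 0) : c = 0 ∨ c = 1 := by
  obtain ⟨x, rfl⟩ := exists_coords_of_mem hc
  have hx : ∀ j : Fin 11, x (Fin.castSucc j) = 0 := by
    intro j
    have := congrFun h j
    change ML.mulVec (MG.mulVec x) (Fin.castSucc j) = 0 at this
    rwa [ML_mulVec_MG] at this
  have hx' : x = x 11 • Pi.single 11 1 := by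
    funext j
    refine Fin.lastCases ?_ (fun j => ?_) j
    · simp [show (Fin.last 11) = (11 : Fin 12) from rfl]
    · rw [hx j]
      have : (Fin.castSucc j : Fin 12) ≠ 11 := by
        intro h
        have := congrArg Fin.val h
        simp at this
        omega
      simp [this]
  rw [hx', Matrix.mulVec_smul, ← one_eq]
  have : x 11 = 0 ∨ x 11 = 1 := by
    generalize x 11 = t
    revert t; decide
  rcases this with h0 | h1
  · left; rw [h0, zero_smul]
  · right; rw [h1, one_smul]

theorem proj11_one : proj11 1 = 0 := by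
  funext j
  show ML.mulVec 1 (Fin.castSucc j) = 0
  rw [one_eq, ML_mulVec_MG]
  have : (Fin.castSucc j : Fin 12) ≠ 11 := by
    intro h
    have := congrArg Fin.val h
    simp at this
    omega
  simp [this]

/-- Parity of the coordinate at the extra point. -/
def parHom : ↥leechLattice →+ ZMod 2 where
  toFun v := (((v : GolayPt → ℤ) none : ℤ) : ZMod 2)
  map_zero' := by simp
  map_add' v w := by simp

def red2Hom : (GolayPt → ℤ) →+ (GolayPt → ZMod 2) where
  toFun := red2
  map_zero' := red2_zero
  map_add' := red2_add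

/-- The homomorphism of the lattice onto a group of order `2 ^ 12` whose kernel is totally
singular. -/
def singHom : ↥leechLattice →+ ZMod 2 × (Fin 11 → ZMod 2) :=
  AddMonoidHom.prod parHom (proj11.comp (red2Hom.comp halfDiff))

theorem singHom_apply (v : ↥leechLattice) :
    singHom v = (parHom v, proj11 (red2 (halfDiff v))) := rfl

theorem mem_ker_singHom {v : ↥leechLattice} (hv : singHom v = 0) :
    (2 : ℤ) ∣ (v : GolayPt → ℤ) none ∧ ∀ i, (4 : ℤ) ∣ (v : GolayPt → ℤ) i - (v : GolayPt → ℤ) none := by
  rw [singHom_apply, Prod.mk_eq_zero] at hv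
  obtain ⟨h1, h2⟩ := hv
  constructor
  · exact (ZMod.intCast_zmod_eq_zero_iff_dvd _ 2).mp h1
  · have hc := red2_halfDiff_mem v
    have h0 : red2 (halfDiff v) = 0 := by
      rcases eq_zero_or_one_of_proj11 hc h2 with h | h
      · exact h
      · exfalso
        have := congrFun h none
        have h3 : halfDiff v none = 0 := by
          have := halfDiff_apply v none
          omega
        simp [red2, h3] at this
    intro i
    have hi : ¬ red2 (halfDiff v) i ≠ 0 := by rw [h0]; simp
    rw [red2_ne_zero_iff, not_not] at hi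
    rw [← halfDiff_apply v i]
    obtain ⟨k, hk⟩ := hi
    exact ⟨k, by rw [hk]; ring⟩

theorem sum_dvd_of_even {v : GolayPt → ℤ} (hv : v ∈ leechLattice) (h2 : (2 : ℤ) ∣ v none) :
    (8 : ℤ) ∣ ∑ i, v i := by
  obtain ⟨m, a, ha, -, hs⟩ := leechForm_of_mem hv
  have hm : (2 : ℤ) ∣ m := by
    have := ha none
    omega
  have hsum : ∑ i, v i = 24 * m + 2 * ∑ i, a i := by
    rw [Finset.sum_congr rfl (fun i _ => ha i), Finset.sum_add_distrib, Finset.sum_const,
      ← Finset.mul_sum, Finset.card_univ, card_golayPt]
    simp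
  rw [hsum]
  omega

theorem sqNorm_dvd_of_ker {v : ↥leechLattice} (hv : singHom v = 0) :
    (32 : ℤ) ∣ sqNorm (v : GolayPt → ℤ) := by
  obtain ⟨h2, h4⟩ := mem_ker_singHom hv
  have h8 := sum_dvd_of_even v.2 h2
  obtain ⟨k, hk⟩ := h2
  choose d hd using h4
  have hv' : ∀ i, (v : GolayPt → ℤ) i = 2 * k + 4 * d i := by
    intro i
    have := hd i
    omega
  have hsum : ∑ i, (v : GolayPt → ℤ) i = 48 * k + 4 * ∑ i, d i := by
    rw [Finset.sum_congr rfl (fun i _ => hv' i), Finset.sum_add_distrib, Finset.sum_const,
      ← Finset.mul_sum, Finset.card_univ, card_golayPt]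
    simp
    ring
  have hd2 : (2 : ℤ) ∣ ∑ i, d i := by
    rw [hsum] at h8
    omega
  have hpar : (2 : ℤ) ∣ (∑ i, d i ^ 2) - ∑ i, d i := by
    rw [← Finset.sum_sub_distrib]
    apply Finset.dvd_sum
    intro i _
    have : d i ^ 2 - d i = d i * (d i - 1) := by ring
    rw [this]
    exact Int.even_mul_pred_self (d i) |>.two_dvd
  have hnorm : sqNorm (v : GolayPt → ℤ) = 96 * k ^ 2 + 16 * k * (∑ i, d i) + 16 * ∑ i, d i ^ 2 := by
    unfold sqNorm
    rw [Finset.sum_congr rfl (fun i _ => by rw [hv' i])]
    have : ∀ i, (2 * k + 4 * d i) ^ 2 = 4 * k ^ 2 + 16 * k * d i + 16 * d i ^ 2 := fun i => by ring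
    rw [Finset.sum_congr rfl (fun i _ => this i), Finset.sum_add_distrib, Finset.sum_add_distrib,
      Finset.sum_const, ← Finset.mul_sum, ← Finset.mul_sum, Finset.card_univ, card_golayPt]
    simp
    ring
  obtain ⟨a, ha⟩ := hd2
  obtain ⟨b, hb⟩ := hpar
  rw [hnorm, ha]
  have : ∑ i, d i ^ 2 = 2 * b + 2 * a := by linarith
  rw [this]
  exact ⟨3 * k ^ 2 + k * a + b + a, by ring⟩

theorem zmod2_cases (t : ZMod 2) : t = 0 ∨ t = 1 := by
  revert t; decide

/-- The `0/1` integer lift of a binary word. -/
def lift01 (c : GolayPt → ZMod 2) : GolayPt → ℤ := fun i => ((c i).val : ℤ)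

theorem lift01_of_zero {c : GolayPt → ZMod 2} {i : GolayPt} (h : c i = 0) : lift01 c i = 0 := by
  simp [lift01, h]

theorem lift01_of_one {c : GolayPt → ZMod 2} {i : GolayPt} (h : c i = 1) : lift01 c i = 1 := by
  simp [lift01, h, ZMod.val_one]

theorem red2_lift01 (c : GolayPt → ZMod 2) : red2 (lift01 c) = c := by
  funext i
  rcases zmod2_cases (c i) with h | h
  · simp [red2, lift01_of_zero h, h]
  · simp [red2, lift01_of_one h, h]

theorem sum_lift01 (c : GolayPt → ZMod 2) : ∑ i, lift01 c i = ((support₂ c).card : ℤ) := by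
  unfold support₂
  rw [Finset.card_filter]
  push_cast
  refine Finset.sum_congr rfl (fun i _ => ?_)
  rcases zmod2_cases (c i) with h | h
  · simp [lift01_of_zero h, h]
  · simp [lift01_of_one h, h]

/-- The witness vector: `e + 2 ĉ + 4 e` at the extra point. -/
def witVec (e : ℤ) (c : GolayPt → ZMod 2) : GolayPt → ℤ :=
  fun i => e + 2 * lift01 c i + (if i = none then 4 * e else 0)

theorem witVec_mem_leechSet (e : ℤ) {c : GolayPt → ZMod 2} (hc : c ∈ golayCode) :
    witVec e c ∈ leechSet := by
  refine ⟨e, ?_, ?_, ?_⟩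
  · intro i
    rw [Int.modEq_iff_dvd]
    unfold witVec
    split_ifs <;> omega
  · rw [Int.modEq_iff_dvd]
    have hsum : ∑ i, witVec e c i = 24 * e + 2 * ((support₂ c).card : ℤ) + 4 * e := by
      unfold witVec
      rw [Finset.sum_add_distrib, Finset.sum_add_distrib, Finset.sum_const, ← Finset.mul_sum,
        sum_lift01, Finset.card_univ, card_golayPt, Finset.sum_ite_eq' Finset.univ none]
      simp
    have h4 : (4 : ℤ) ∣ ((support₂ c).card : ℤ) := by exact_mod_cast golay_weight_dvd hc
    rw [hsum]
    omega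
  · intro k
    have hmod : ∀ i, (witVec e c i ≡ k [ZMOD 4]) ↔ (4 : ℤ) ∣ k - e - 2 * lift01 c i := by
      intro i
      rw [Int.modEq_iff_dvd]
      unfold witVec
      split_ifs <;> constructor <;> intro h <;> omega
    have hone : (1 : GolayPt → ZMod 2) ∈ golayCode := one_mem_golayCode
    by_cases h0 : (4 : ℤ) ∣ k - e
    · refine ⟨c + 1, add_mem hc hone, ?_⟩
      ext i
      unfold support₂
      rw [Finset.mem_filter, Finset.mem_filter, hmod]
      simp only [Finset.mem_univ, true_and, Pi.add_apply, Pi.one_apply]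
      rcases zmod2_cases (c i) with h | h
      · rw [lift01_of_zero h, h]
        constructor
        · intro _; omega
        · intro _; decide
      · rw [lift01_of_one h, h]
        constructor
        · intro h'; exact absurd (by decide : (1 : ZMod 2) + 1 = 0) h'
        · intro h'; omega
    by_cases h2 : (4 : ℤ) ∣ k - e - 2
    · refine ⟨c, hc, ?_⟩
      ext i
      unfold support₂
      rw [Finset.mem_filter, Finset.mem_filter, hmod]
      simp only [Finset.mem_univ, true_and]
      rcases zmod2_cases (c i) with h | h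
      · rw [lift01_of_zero h, h]
        constructor
        · intro h'; exact absurd rfl h'
        · intro h'; omega
      · rw [lift01_of_one h, h]
        constructor
        · intro _; omega
        · intro _; decide
    · refine ⟨0, zero_mem _, ?_⟩
      ext i
      unfold support₂
      rw [Finset.mem_filter, Finset.mem_filter, hmod]
      simp only [Finset.mem_univ, true_and, Pi.zero_apply]
      rcases zmod2_cases (c i) with h | h
      · rw [lift01_of_zero h]
        constructor
        · intro h'; exact absurd rfl h'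
        · intro h'; omega
      · rw [lift01_of_one h]
        constructor
        · intro h'; exact absurd rfl h'
        · intro h'; omega

theorem proj11_add_smul_one (c : GolayPt → ZMod 2) (t : ZMod 2) :
    proj11 (c + t • (1 : GolayPt → ZMod 2)) = proj11 c := by
  rw [map_add]
  rcases zmod2_cases t with h | h
  · rw [h, zero_smul, map_zero, add_zero]
  · rw [h, one_smul, proj11_one, add_zero]

theorem singHom_witVec (e : ℤ) (c : GolayPt → ZMod 2) (v : ↥leechLattice)
    (hv : (v : GolayPt → ℤ) = witVec e c) :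
    singHom v = ((e : ZMod 2), proj11 c) := by
  rw [singHom_apply]
  have hpar : parHom v = (e : ZMod 2) := by
    show ((((v : GolayPt → ℤ) none : ℤ)) : ZMod 2) = (e : ZMod 2)
    rw [hv]
    unfold witVec
    simp only [if_true]
    push_cast
    have h2 : (2 : ZMod 2) = 0 := by decide
    have h4 : (4 : ZMod 2) = 0 := by decide
    rw [h2, h4]; simp
  have hh : ∀ i, halfDiff v i
      = lift01 c i - lift01 c none - (if i = none then 0 else 2 * e) := by
    intro i
    have := halfDiff_apply v i
    rw [hv] at this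
    simp only [witVec, if_true] at this
    split_ifs at this ⊢ <;> omega
  have hred : red2 (halfDiff v) = c + (c none) • (1 : GolayPt → ZMod 2) := by
    funext i
    have h1 := congrFun (red2_lift01 c) i
    have h2 := congrFun (red2_lift01 c) none
    unfold red2 at h1 h2 ⊢
    rw [hh i]
    have h2' : (2 : ZMod 2) = 0 := by decide
    split_ifs <;> push_cast <;> rw [h1, h2] <;> simp [h2'] <;> exact CharTwo.sub_eq_add _ _
  rw [hpar, hred, proj11_add_smul_one]

theorem singHom_surjective : Function.Surjective singHom := by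
  rintro ⟨ε, y⟩
  set x : Fin 12 → ZMod 2 := Fin.snoc (α := fun _ => ZMod 2) y 0 with hx
  have hc := mulVec_mem_golayCode x
  refine ⟨⟨witVec (ε.val : ℤ) (MG.mulVec x),
    AddSubgroup.subset_closure (witVec_mem_leechSet _ hc)⟩, ?_⟩
  rw [singHom_witVec (ε.val : ℤ) (MG.mulVec x) _ rfl]
  have h1 : (((ε.val : ℕ) : ℤ) : ZMod 2) = ε := by simp
  have h2 : proj11 (MG.mulVec x) = y := by
    funext j
    show ML.mulVec (MG.mulVec x) (Fin.castSucc j) = y j
    rw [ML_mulVec_MG, hx, Fin.snoc_castSucc]
  rw [h1, h2]

end Cfsg.Agent.Helper27
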