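import Mathlib
import Cfsg.Agent.Lib.Helper27.LeechChar
import Cfsg.Agent.Lib.Helper27.LeechSing

set_option autoImplicit false
open Cfsg

/-! Even and odd vectors of the lattice in normal form, and tools for counting vectors of a
given shape. -/

namespace Cfsg.Agent.Helper27

/-- Even lattice vectors are `2a` with `a` reducing to a code word and `4 ∣ ∑ a`. -/
theorem even_form {x : GolayPt → ℤ} (hx : x ∈ leechLattice) (h2 : (2 : ℤ) ∣ x none) :
    ∃ a : GolayPt → ℤ, (∀ i, x i = 2 * a i) ∧ red2 a ∈ golayCode ∧ (4 : ℤ) ∣ ∑ i, a i := by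
  obtain ⟨m, a, ha, hc, hs⟩ := leechForm_of_mem hx
  have hm : (2 : ℤ) ∣ m := by
    have := ha none
    omega
  obtain ⟨k, hk⟩ := hm
  obtain ⟨hb, hbc, hbs⟩ := LeechForm.shift ha hc hs k
  refine ⟨fun i => a i + k, fun i => ?_, hbc, ?_⟩
  · have := hb i
    rw [hk] at this
    linarith
  · rw [hk] at hbs
    simpa using hbs

theorem mem_of_even_form {a : GolayPt → ℤ} (hc : red2 a ∈ golayCode)
    (hs : (4 : ℤ) ∣ ∑ i, a i) : (fun i => 2 * a i) ∈ leechLattice := by
  rw [mem_leechLattice_iff]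
  exact ⟨0, a, fun i => by ring, hc, by simpa using hs⟩

/-- Odd lattice vectors are `1 + 2a` with `a` reducing to a code word and `4 ∣ ∑ a - 2`. -/
theorem odd_form {x : GolayPt → ℤ} (hx : x ∈ leechLattice) (h2 : ¬ (2 : ℤ) ∣ x none) :
    ∃ a : GolayPt → ℤ, (∀ i, x i = 1 + 2 * a i) ∧ red2 a ∈ golayCode ∧
      (4 : ℤ) ∣ ∑ i, a i - 2 := by
  obtain ⟨m, a, ha, hc, hs⟩ := leechForm_of_mem hx
  have hm : ¬ (2 : ℤ) ∣ m := by
    have := ha none
    omega
  obtain ⟨k, hk⟩ : ∃ k, m = 2 * k + 1 := ⟨m / 2, by omega⟩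
  obtain ⟨hb, hbc, hbs⟩ := LeechForm.shift ha hc hs k
  refine ⟨fun i => a i + k, fun i => ?_, hbc, ?_⟩
  · have := hb i
    rw [hk] at this
    linarith
  · rw [hk] at hbs
    have e : 2 * (2 * k + 1 - 2 * k) = (2 : ℤ) := by ring
    rw [e] at hbs
    exact hbs

theorem mem_of_odd_form {a : GolayPt → ℤ} (hc : red2 a ∈ golayCode)
    (hs : (4 : ℤ) ∣ ∑ i, a i - 2) : (fun i => 1 + 2 * a i) ∈ leechLattice := by
  rw [mem_leechLattice_iff]
  exact ⟨1, a, fun i => rfl, hc, by simpa using hs⟩

theorem sqNorm_two_mul (a : GolayPt → ℤ) : sqNorm (fun i => 2 * a i) = 4 * ∑ i, a i ^ 2 := by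
  unfold sqNorm
  rw [Finset.mul_sum]
  exact Finset.sum_congr rfl (fun i _ => by ring)

theorem sqNorm_one_add_two_mul (a : GolayPt → ℤ) :
    sqNorm (fun i => 1 + 2 * a i) = 24 + 4 * ∑ i, (a i ^ 2 + a i) := by
  unfold sqNorm
  have : ∀ i, (1 + 2 * a i) ^ 2 = 1 + 4 * (a i ^ 2 + a i) := fun i => by ring
  rw [Finset.sum_congr rfl (fun i _ => this i), Finset.sum_add_distrib, ← Finset.mul_sum,
    Finset.sum_const, Finset.card_univ, card_golayPt]
  simp

/-- The number of subsets of even size of a nonempty finite set. -/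
theorem card_even_subsets {α : Type*} [DecidableEq α] (s : Finset α) (hs : s.Nonempty) :
    2 * (s.powerset.filter (fun t => Even t.card)).card = 2 ^ s.card := by
  have h1 := Finset.sum_powerset_neg_one_pow_card (x := s)
  rw [if_neg (Finset.nonempty_iff_ne_empty.mp hs)] at h1
  have hE : ∑ t ∈ s.powerset.filter (fun t => Even t.card), ((-1 : ℤ)) ^ t.card =
      ((s.powerset.filter (fun t => Even t.card)).card : ℤ) := by
    rw [Finset.sum_congr rfl (g := fun _ => (1 : ℤ))]
    · simp
    · intro t ht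
      rw [Finset.mem_filter] at ht
      exact Even.neg_one_pow ht.2
  have hO : ∑ t ∈ s.powerset.filter (fun t => ¬ Even t.card), ((-1 : ℤ)) ^ t.card =
      -((s.powerset.filter (fun t => ¬ Even t.card)).card : ℤ) := by
    rw [Finset.sum_congr rfl (g := fun _ => (-1 : ℤ))]
    · simp
    · intro t ht
      rw [Finset.mem_filter] at ht
      exact Odd.neg_one_pow (Nat.not_even_iff_odd.mp ht.2)
  have h2 : ∑ t ∈ s.powerset, ((-1 : ℤ)) ^ t.card =
      ((s.powerset.filter (fun t => Even t.card)).card : ℤ) -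
        ((s.powerset.filter (fun t => ¬ Even t.card)).card : ℤ) := by
    rw [← Finset.sum_filter_add_sum_filter_not s.powerset (fun t => Even t.card), hE, hO]
    ring
  have h3 : (s.powerset.filter (fun t => Even t.card)).card +
      (s.powerset.filter (fun t => ¬ Even t.card)).card = 2 ^ s.card := by
    rw [Finset.card_filter_add_card_filter_not, Finset.card_powerset]
  rw [h2] at h1
  have h4 : ((s.powerset.filter (fun t => Even t.card)).card : ℤ) =
      ((s.powerset.filter (fun t => ¬ Even t.card)).card : ℤ) := by linarith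
  have h5 : (s.powerset.filter (fun t => Even t.card)).card =
      (s.powerset.filter (fun t => ¬ Even t.card)).card := by exact_mod_cast h4
  omega

end Cfsg.Agent.Helper27
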