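import Mathlib
import Cfsg.Agent.Lib.Helper27.LeechShapes

set_option autoImplicit false
open Cfsg

/-! Vectors with constant absolute value on a support set. -/

namespace Cfsg.Agent.Helper27

/-- The vector with entries `±k` on `p` (negative exactly on `N`) and `0` elsewhere. -/
def shapeVec (k : ℤ) (p N : Finset GolayPt) : GolayPt → ℤ :=
  fun i => if i ∈ p then (if i ∈ N then -k else k) else 0

theorem shapeVec_two_mul (k : ℤ) (p N : Finset GolayPt) :
    shapeVec (2 * k) p N = fun i => 2 * shapeVec k p N i := by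
  funext i
  unfold shapeVec
  split_ifs <;> ring

theorem shapeVec_ne_zero_iff {k : ℤ} (hk : k ≠ 0) (p N : Finset GolayPt) (i : GolayPt) :
    shapeVec k p N i ≠ 0 ↔ i ∈ p := by
  unfold shapeVec
  by_cases h : i ∈ p
  · by_cases h' : i ∈ N
    · simp [h, h', hk]
    · simp [h, h', hk]
  · simp [h]

theorem shapeVec_neg_iff {k : ℤ} (hk : 0 < k) {p N : Finset GolayPt} (hN : N ⊆ p) (i : GolayPt) :
    shapeVec k p N i < 0 ↔ i ∈ N := by
  unfold shapeVec
  by_cases h' : i ∈ N
  · have h : i ∈ p := hN h'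
    simp [h, h', hk]
  · by_cases h : i ∈ p
    · simp [h, h']; omega
    · simp [h, h']

theorem shapeVec_injective {k : ℤ} (hk : 0 < k) {p N p' N' : Finset GolayPt} (hN : N ⊆ p)
    (hN' : N' ⊆ p') (h : shapeVec k p N = shapeVec k p' N') : p = p' ∧ N = N' := by
  constructor
  · ext i
    rw [← shapeVec_ne_zero_iff (ne_of_gt hk) p N i, ← shapeVec_ne_zero_iff (ne_of_gt hk) p' N' i, h]
  · ext i
    rw [← shapeVec_neg_iff hk hN i, ← shapeVec_neg_iff hk hN' i, h]

theorem sqNorm_shapeVec (k : ℤ) (p N : Finset GolayPt) :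
    sqNorm (shapeVec k p N) = k ^ 2 * (p.card : ℤ) := by
  unfold sqNorm shapeVec
  have : ∀ i, (if i ∈ p then (if i ∈ N then -k else k) else 0) ^ 2 = if i ∈ p then k ^ 2 else 0 := by
    intro i
    split_ifs <;> ring
  rw [Finset.sum_congr rfl (fun i _ => this i), Finset.sum_ite_mem, Finset.univ_inter,
    Finset.sum_const]
  simp [mul_comm]

theorem sum_shapeVec (k : ℤ) {p N : Finset GolayPt} (hN : N ⊆ p) :
    ∑ i, shapeVec k p N i = k * ((p.card : ℤ) - 2 * (N.card : ℤ)) := by
  unfold shapeVec
  have : ∀ i, (if i ∈ p then (if i ∈ N then -k else k) else 0) =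
      (if i ∈ p then k else 0) - (if i ∈ N then 2 * k else 0) := by
    intro i
    by_cases h' : i ∈ N
    · have h : i ∈ p := hN h'
      simp [h, h']; ring
    · by_cases h : i ∈ p <;> simp [h, h']
  rw [Finset.sum_congr rfl (fun i _ => this i), Finset.sum_sub_distrib, Finset.sum_ite_mem,
    Finset.sum_ite_mem, Finset.univ_inter, Finset.univ_inter, Finset.sum_const, Finset.sum_const]
  simp
  ring

theorem red2_shapeVec_one (w : GolayPt → ZMod 2) (N : Finset GolayPt) :
    red2 (shapeVec 1 (support₂ w) N) = w := by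
  funext i
  unfold red2 shapeVec
  by_cases h : i ∈ support₂ w
  · have h1 : w i = 1 := (zmod2_cases _).resolve_left (mem_support₂.mp h)
    by_cases h' : i ∈ N
    · simp [h, h', h1]
    · simp [h, h', h1]
  · have h1 : w i = 0 := by
      by_contra hne
      exact h (mem_support₂.mpr hne)
    simp [h, h1]

end Cfsg.Agent.Helper27
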