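import Mathlib
import Cfsg.Agent.Lib.Helper27.LeechShapes2

set_option autoImplicit false
open Cfsg

/-! Uniform description of even lattice vectors with half-coordinates of absolute value at
most three, and the tools for counting them. -/

namespace Cfsg.Agent.Helper27

/-- Half-coordinates of an even vector: absolute value `1` on `p \ q`, `2` on `q \ p`, `3` on
`p ∩ q`, negative exactly on `N`. -/
def evVec (p q N : Finset GolayPt) : GolayPt → ℤ :=
  fun i => (if i ∈ N then -1 else 1) * ((if i ∈ p then 1 else 0) + (if i ∈ q then 2 else 0))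

theorem evVec_sq (p q N : Finset GolayPt) (i : GolayPt) :
    evVec p q N i ^ 2 =
      (if i ∈ p then 1 else 0) + (if i ∈ q then 4 else 0) + (if i ∈ p ∩ q then 4 else 0) := by
  unfold evVec
  by_cases hN : i ∈ N <;> by_cases hp : i ∈ p <;> by_cases hq : i ∈ q <;>
    simp [Finset.mem_inter, hN, hp, hq]

theorem sum_sq_evVec (p q N : Finset GolayPt) :
    ∑ i, evVec p q N i ^ 2 = (p.card : ℤ) + 4 * (q.card : ℤ) + 4 * ((p ∩ q).card : ℤ) := by
  rw [Finset.sum_congr rfl (fun i _ => evVec_sq p q N i), Finset.sum_add_distrib,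
    Finset.sum_add_distrib, Finset.sum_ite_mem, Finset.sum_ite_mem, Finset.sum_ite_mem,
    Finset.univ_inter, Finset.univ_inter, Finset.univ_inter, Finset.sum_const, Finset.sum_const,
    Finset.sum_const]
  simp
  ring

theorem evVec_eq (p q N : Finset GolayPt) (i : GolayPt) :
    evVec p q N i = (if i ∈ p then 1 else 0) + (if i ∈ q then 2 else 0)
      - (if i ∈ N ∩ p then 2 else 0) - (if i ∈ N ∩ q then 4 else 0) := by
  unfold evVec
  by_cases hN : i ∈ N <;> by_cases hp : i ∈ p <;> by_cases hq : i ∈ q <;>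
    simp [Finset.mem_inter, hN, hp, hq]

theorem sum_evVec (p q N : Finset GolayPt) :
    ∑ i, evVec p q N i = (p.card : ℤ) + 2 * (q.card : ℤ) - 2 * ((N ∩ p).card : ℤ)
      - 4 * ((N ∩ q).card : ℤ) := by
  rw [Finset.sum_congr rfl (fun i _ => evVec_eq p q N i), Finset.sum_sub_distrib,
    Finset.sum_sub_distrib, Finset.sum_add_distrib, Finset.sum_ite_mem, Finset.sum_ite_mem,
    Finset.sum_ite_mem, Finset.sum_ite_mem,
    Finset.univ_inter, Finset.univ_inter, Finset.univ_inter, Finset.univ_inter, Finset.sum_const,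
    Finset.sum_const, Finset.sum_const, Finset.sum_const]
  simp
  ring

theorem red2_evVec (w : GolayPt → ZMod 2) (q N : Finset GolayPt) :
    red2 (evVec (support₂ w) q N) = w := by
  funext i
  unfold red2 evVec
  have h2 : ((2 : ℤ) : ZMod 2) = 0 := by decide
  have h3 : ((-1 : ℤ) : ZMod 2) = 1 := by decide
  by_cases h : i ∈ support₂ w
  · have h1 : w i = 1 := (zmod2_cases _).resolve_left (mem_support₂.mp h)
    by_cases hN : i ∈ N <;> by_cases hq : i ∈ q
    · rw [if_pos hN, if_pos h, if_pos hq, h1]; decide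
    · rw [if_pos hN, if_pos h, if_neg hq, h1]; decide
    · rw [if_neg hN, if_pos h, if_pos hq, h1]; decide
    · rw [if_neg hN, if_pos h, if_neg hq, h1]; decide
  · have h1 : w i = 0 := by
      by_contra hne
      exact h (mem_support₂.mpr hne)
    by_cases hN : i ∈ N <;> by_cases hq : i ∈ q
    · rw [if_pos hN, if_neg h, if_pos hq, h1]; decide
    · rw [if_pos hN, if_neg h, if_neg hq, h1]; decide
    · rw [if_neg hN, if_neg h, if_pos hq, h1]; decide
    · rw [if_neg hN, if_neg h, if_neg hq, h1]; decide

theorem evVec_odd_iff (p q N : Finset GolayPt) (i : GolayPt) :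
    ¬ (2 : ℤ) ∣ evVec p q N i ↔ i ∈ p := by
  unfold evVec
  by_cases hN : i ∈ N <;> by_cases hp : i ∈ p <;> by_cases hq : i ∈ q <;> simp [hN, hp, hq]

theorem evVec_big_iff (p q N : Finset GolayPt) (i : GolayPt) :
    2 ≤ |evVec p q N i| ↔ i ∈ q := by
  unfold evVec
  by_cases hN : i ∈ N <;> by_cases hp : i ∈ p <;> by_cases hq : i ∈ q <;> simp [hN, hp, hq]

theorem evVec_neg_iff {p q N : Finset GolayPt} (hN : N ⊆ p ∪ q) (i : GolayPt) :
    evVec p q N i < 0 ↔ i ∈ N := by
  unfold evVec
  by_cases h : i ∈ N
  · have := Finset.mem_union.mp (hN h)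
    by_cases hp : i ∈ p <;> by_cases hq : i ∈ q <;> simp [h, hp, hq]
    tauto
  · by_cases hp : i ∈ p <;> by_cases hq : i ∈ q <;> simp [h, hp, hq]

theorem evVec_inj {p q N p' q' N' : Finset GolayPt} (hN : N ⊆ p ∪ q) (hN' : N' ⊆ p' ∪ q')
    (h : evVec p q N = evVec p' q' N') : p = p' ∧ q = q' ∧ N = N' := by
  refine ⟨?_, ?_, ?_⟩
  · ext i; rw [← evVec_odd_iff p q N i, ← evVec_odd_iff p' q' N' i, h]
  · ext i; rw [← evVec_big_iff p q N i, ← evVec_big_iff p' q' N' i, h]
  · ext i; rw [← evVec_neg_iff hN i, ← evVec_neg_iff hN' i, h]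

theorem eq_evVec (a : GolayPt → ℤ) (h : ∀ i, |a i| ≤ 3) :
    a = evVec (Finset.univ.filter (fun i => ¬ (2 : ℤ) ∣ a i))
      (Finset.univ.filter (fun i => 2 ≤ |a i|)) (Finset.univ.filter (fun i => a i < 0)) := by
  funext i
  unfold evVec
  simp only [Finset.mem_filter, Finset.mem_univ, true_and]
  have h1 := abs_le.mp (h i)
  obtain ⟨h2, h3⟩ := h1
  interval_cases (a i) <;> simp

theorem evVec_abs (p q N : Finset GolayPt) (i : GolayPt) :
    |evVec p q N i| = (if i ∈ p then 1 else 0) + (if i ∈ q then 2 else 0) := by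
  unfold evVec
  by_cases hN : i ∈ N <;> by_cases hp : i ∈ p <;> by_cases hq : i ∈ q <;> simp [hN, hp, hq]

/-- Toggling one element. -/
def tog {α : Type*} [DecidableEq α] (i0 : α) (N : Finset α) : Finset α :=
  if i0 ∈ N then N.erase i0 else insert i0 N

theorem tog_tog {α : Type*} [DecidableEq α] (i0 : α) (N : Finset α) : tog i0 (tog i0 N) = N := by
  unfold tog
  by_cases h : i0 ∈ N
  · rw [if_pos h, if_neg (Finset.notMem_erase i0 N), Finset.insert_erase h]
  · rw [if_neg h, if_pos (Finset.mem_insert_self i0 N), Finset.erase_insert h]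

theorem tog_subset {α : Type*} [DecidableEq α] {i0 : α} {N S : Finset α} (h0 : i0 ∈ S)
    (hN : N ⊆ S) : tog i0 N ⊆ S := by
  unfold tog
  split_ifs
  · exact (Finset.erase_subset _ _).trans hN
  · exact Finset.insert_subset h0 hN

theorem card_tog_inter {α : Type*} [DecidableEq α] {i0 : α} (N p : Finset α) (h0 : i0 ∈ p) :
    ¬ (Even ((tog i0 N ∩ p).card) ↔ Even ((N ∩ p).card)) := by
  unfold tog
  by_cases h : i0 ∈ N
  · rw [if_pos h]
    have h1 : i0 ∈ N ∩ p := Finset.mem_inter.mpr ⟨h, h0⟩
    have h2 : N.erase i0 ∩ p = (N ∩ p).erase i0 := by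
      ext j; simp only [Finset.mem_inter, Finset.mem_erase]; tauto
    rw [h2, Finset.card_erase_of_mem h1]
    have h3 : 0 < (N ∩ p).card := Finset.card_pos.mpr ⟨i0, h1⟩
    rw [Nat.even_sub (by omega)]
    simp only [Nat.not_even_one, iff_false, Nat.not_even_iff_odd]
    intro h4
    have := h4.mp
    rcases Nat.even_or_odd (N ∩ p).card with h5 | h5
    · exact Nat.not_even_iff_odd.mpr (h4.mpr h5) h5
    · exact Nat.not_even_iff_odd.mpr h5 (h4.mp h5)
  · rw [if_neg h]
    have h1 : i0 ∉ N ∩ p := fun h' => h (Finset.mem_inter.mp h').1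
    have h2 : insert i0 N ∩ p = insert i0 (N ∩ p) := by
      ext j; simp only [Finset.mem_inter, Finset.mem_insert]
      constructor
      · rintro ⟨h3 | h3, h4⟩
        · left; exact h3
        · right; exact ⟨h3, h4⟩
      · rintro (h3 | ⟨h3, h4⟩)
        · exact ⟨Or.inl h3, h3 ▸ h0⟩
        · exact ⟨Or.inr h3, h4⟩
    rw [h2, Finset.card_insert_of_notMem h1, Nat.even_add_one]
    tauto

/-- Half of the subsets of `S` meet a nonempty `p ⊆ S` in a set of prescribed parity. -/
theorem card_parity_subsets {α : Type*} [DecidableEq α] (S p : Finset α) (hp : p ⊆ S)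
    (hne : p.Nonempty) (c : ℕ) :
    2 * (S.powerset.filter (fun N => Even ((N ∩ p).card + c))).card = 2 ^ S.card := by
  obtain ⟨i0, h0⟩ := hne
  have h1 : (S.powerset.filter (fun N => Even ((N ∩ p).card + c))).card =
      (S.powerset.filter (fun N => ¬ Even ((N ∩ p).card + c))).card := by
    apply Finset.card_nbij' (tog i0) (tog i0)
    · intro N hN
      rw [Finset.mem_coe, Finset.mem_filter, Finset.mem_powerset] at hN ⊢
      refine ⟨tog_subset (hp h0) hN.1, ?_⟩
      have := card_tog_inter N p h0
      rw [Nat.even_add] at hN ⊢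
      tauto
    · intro N hN
      rw [Finset.mem_coe, Finset.mem_filter, Finset.mem_powerset] at hN ⊢
      refine ⟨tog_subset (hp h0) hN.1, ?_⟩
      have := card_tog_inter N p h0
      rw [Nat.even_add] at hN ⊢
      tauto
    · intro N _; exact tog_tog i0 N
    · intro N _; exact tog_tog i0 N
  have h3 : (S.powerset.filter (fun N => Even ((N ∩ p).card + c))).card +
      (S.powerset.filter (fun N => ¬ Even ((N ∩ p).card + c))).card = 2 ^ S.card := by
    rw [Finset.card_filter_add_card_filter_not, Finset.card_powerset]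
  omega

/-- Sets with prescribed numbers of elements outside and inside `p`. -/
def Qsets (p : Finset GolayPt) (u v : ℕ) : Finset (Finset GolayPt) :=
  (Finset.univ : Finset (Finset GolayPt)).filter (fun q => (q \ p).card = u ∧ (q ∩ p).card = v)

theorem mem_Qsets {p q : Finset GolayPt} {u v : ℕ} :
    q ∈ Qsets p u v ↔ (q \ p).card = u ∧ (q ∩ p).card = v := by
  unfold Qsets
  simp

theorem card_Qsets (p : Finset GolayPt) (u v : ℕ) :
    (Qsets p u v).card = (24 - p.card).choose u * p.card.choose v := by
  have h1 : (Qsets p u v).card = ((Finset.powersetCard u pᶜ) ×ˢ (Finset.powersetCard v p)).card := by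
    apply Finset.card_nbij' (fun q => (q \ p, q ∩ p)) (fun ab => ab.1 ∪ ab.2)
    · intro q hq
      rw [Finset.mem_coe, mem_Qsets] at hq
      rw [Finset.mem_coe, Finset.mem_product, Finset.mem_powersetCard, Finset.mem_powersetCard]
      refine ⟨⟨?_, hq.1⟩, Finset.inter_subset_right, hq.2⟩
      intro i hi
      rw [Finset.mem_sdiff] at hi
      exact Finset.mem_compl.mpr hi.2
    · rintro ⟨a, b⟩ hab
      rw [Finset.mem_coe, Finset.mem_product, Finset.mem_powersetCard, Finset.mem_powersetCard] at hab
      obtain ⟨⟨ha, hau⟩, hb, hbv⟩ := hab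
      rw [Finset.mem_coe, mem_Qsets]
      have e1 : (a ∪ b) \ p = a := by
        ext i
        simp only [Finset.mem_sdiff, Finset.mem_union]
        constructor
        · rintro ⟨h | h, h'⟩
          · exact h
          · exact absurd (hb h) h'
        · intro h
          exact ⟨Or.inl h, Finset.mem_compl.mp (ha h)⟩
      have e2 : (a ∪ b) ∩ p = b := by
        ext i
        simp only [Finset.mem_inter, Finset.mem_union]
        constructor
        · rintro ⟨h | h, h'⟩
          · exact absurd h' (Finset.mem_compl.mp (ha h))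
          · exact h
        · intro h
          exact ⟨Or.inr h, hb h⟩
      simp only
      rw [e1, e2]
      exact ⟨hau, hbv⟩
    · intro q _
      simp only
      exact Finset.sdiff_union_inter q p
    · rintro ⟨a, b⟩ hab
      rw [Finset.mem_coe, Finset.mem_product, Finset.mem_powersetCard, Finset.mem_powersetCard] at hab
      obtain ⟨⟨ha, hau⟩, hb, hbv⟩ := hab
      have e1 : (a ∪ b) \ p = a := by
        ext i
        simp only [Finset.mem_sdiff, Finset.mem_union]
        constructor
        · rintro ⟨h | h, h'⟩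
          · exact h
          · exact absurd (hb h) h'
        · intro h
          exact ⟨Or.inl h, Finset.mem_compl.mp (ha h)⟩
      have e2 : (a ∪ b) ∩ p = b := by
        ext i
        simp only [Finset.mem_inter, Finset.mem_union]
        constructor
        · rintro ⟨h | h, h'⟩
          · exact absurd h' (Finset.mem_compl.mp (ha h))
          · exact h
        · intro h
          exact ⟨Or.inr h, hb h⟩
      simp only
      rw [e1, e2]
  rw [h1, Finset.card_product, Finset.card_powersetCard, Finset.card_powersetCard,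
    Finset.card_compl, Fintype.card, Finset.card_univ, card_golayPt]

end Cfsg.Agent.Helper27
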