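import Mathlib
import Cfsg.Agent.Lib.Helper27.LeechShapes2

set_option autoImplicit false
open Cfsg

/-! Odd lattice vectors with coordinates `±1`, `±3`, `±5`, parametrised by the positions of the
large coordinates and a code word. -/

namespace Cfsg.Agent.Helper27

/-- Half-coordinates of an odd vector: `x = 1 + 2a`, where `x = ±5` on `J5`, `±3` on `J3`, and
`±1` elsewhere, with `a ≡ w (mod 2)`. -/
def aOdd (J3 J5 : Finset GolayPt) (w : GolayPt → ZMod 2) : GolayPt → ℤ :=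
  fun i => if i ∈ J5 then (if w i = 0 then 2 else -3)
    else if i ∈ J3 then (if w i = 0 then -2 else 1) else (if w i = 0 then 0 else -1)

theorem red2_aOdd (J3 J5 : Finset GolayPt) (w : GolayPt → ZMod 2) : red2 (aOdd J3 J5 w) = w := by
  funext i
  unfold red2 aOdd
  have h2 : ((2 : ℤ) : ZMod 2) = 0 := by decide
  have h3 : ((-3 : ℤ) : ZMod 2) = 1 := by decide
  have h4 : ((-2 : ℤ) : ZMod 2) = 0 := by decide
  have h5 : ((-1 : ℤ) : ZMod 2) = 1 := by decide
  rcases zmod2_cases (w i) with h | h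
  · have h0 : w i = 0 := h
    by_cases h5' : i ∈ J5
    · rw [if_pos h5', if_pos h0, h0]; exact h2
    · by_cases h3' : i ∈ J3
      · rw [if_neg h5', if_pos h3', if_pos h0, h0]; exact h4
      · rw [if_neg h5', if_neg h3', if_pos h0, h0]; simp
  · have h0 : ¬ w i = 0 := by rw [h]; decide
    by_cases h5' : i ∈ J5
    · rw [if_pos h5', if_neg h0, h]; exact h3
    · by_cases h3' : i ∈ J3
      · rw [if_neg h5', if_pos h3', if_neg h0, h]; simp
      · rw [if_neg h5', if_neg h3', if_neg h0, h]; exact h5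

theorem aOdd_sq_add (J3 J5 : Finset GolayPt) (w : GolayPt → ZMod 2) (i : GolayPt) :
    aOdd J3 J5 w i ^ 2 + aOdd J3 J5 w i =
      if i ∈ J5 then 6 else if i ∈ J3 then 2 else 0 := by
  unfold aOdd
  by_cases h5 : i ∈ J5 <;> by_cases h3 : i ∈ J3 <;> by_cases h : w i = 0 <;> simp [h5, h3, h]

theorem sum_sq_aOdd {J3 J5 : Finset GolayPt} (hd : Disjoint J3 J5) (w : GolayPt → ZMod 2) :
    ∑ i, (aOdd J3 J5 w i ^ 2 + aOdd J3 J5 w i) = 6 * (J5.card : ℤ) + 2 * (J3.card : ℤ) := by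
  have h1 : ∀ i, aOdd J3 J5 w i ^ 2 + aOdd J3 J5 w i =
      (if i ∈ J5 then (6 : ℤ) else 0) + (if i ∈ J3 then (2 : ℤ) else 0) := by
    intro i
    rw [aOdd_sq_add]
    by_cases h5 : i ∈ J5
    · have h3 : i ∉ J3 := fun h => (Finset.disjoint_left.mp hd) h h5
      simp [h5, h3]
    · by_cases h3 : i ∈ J3 <;> simp [h5, h3]
  rw [Finset.sum_congr rfl (fun i _ => h1 i), Finset.sum_add_distrib, Finset.sum_ite_mem,
    Finset.sum_ite_mem, Finset.univ_inter, Finset.univ_inter, Finset.sum_const, Finset.sum_const]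
  simp
  ring

/-- The coordinate sum of `aOdd` modulo 4. -/
theorem sum_aOdd_mod {J3 J5 : Finset GolayPt} (hd : Disjoint J3 J5) (w : GolayPt → ZMod 2) :
    (4 : ℤ) ∣ ∑ i, aOdd J3 J5 w i + ((support₂ w).card : ℤ) - 2 * ((J3.card : ℤ) + (J5.card : ℤ)) := by
  have h1 : ∀ i, (4 : ℤ) ∣ aOdd J3 J5 w i + (if w i ≠ 0 then (1 : ℤ) else 0) -
      ((if i ∈ J3 then (2 : ℤ) else 0) + (if i ∈ J5 then (2 : ℤ) else 0)) := by
    intro i
    unfold aOdd
    by_cases h5 : i ∈ J5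
    · have h3 : i ∉ J3 := fun h => (Finset.disjoint_left.mp hd) h h5
      by_cases h : w i = 0 <;> simp [h5, h3, h]
    · by_cases h3 : i ∈ J3 <;> by_cases h : w i = 0 <;> simp [h5, h3, h]
  have h2 := Finset.dvd_sum (s := Finset.univ) (fun i _ => h1 i)
  rw [Finset.sum_sub_distrib, Finset.sum_add_distrib, Finset.sum_add_distrib,
    ← card_support₂_eq_sum, Finset.sum_ite_mem, Finset.sum_ite_mem, Finset.univ_inter,
    Finset.univ_inter, Finset.sum_const, Finset.sum_const] at h2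
  simp only [nsmul_eq_mul] at h2
  have e : ∑ i, aOdd J3 J5 w i + ((support₂ w).card : ℤ) - 2 * ((J3.card : ℤ) + (J5.card : ℤ)) =
      ∑ i, aOdd J3 J5 w i + ((support₂ w).card : ℤ) - ((J3.card : ℤ) * 2 + (J5.card : ℤ) * 2) := by
    ring
  rw [e]
  exact h2

/-- The odd vector with the given positions of `±3`, `±5` and sign code word. -/
def oddVec (J3 J5 : Finset GolayPt) (w : GolayPt → ZMod 2) : GolayPt → ℤ :=
  fun i => 1 + 2 * aOdd J3 J5 w i

theorem oddVec_mem {J3 J5 : Finset GolayPt} (hd : Disjoint J3 J5) {w : GolayPt → ZMod 2}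
    (hw : w ∈ golayCode) (hodd : Odd (J3.card + J5.card)) : oddVec J3 J5 w ∈ leechLattice := by
  apply mem_of_odd_form
  · rw [red2_aOdd]; exact hw
  · have h1 := sum_aOdd_mod hd w
    have h4 : (4 : ℤ) ∣ ((support₂ w).card : ℤ) := by exact_mod_cast golay_weight_dvd hw
    obtain ⟨r, hr⟩ := hodd
    have : (J3.card : ℤ) + (J5.card : ℤ) = 2 * r + 1 := by exact_mod_cast hr
    rw [this] at h1
    omega

theorem sqNorm_oddVec {J3 J5 : Finset GolayPt} (hd : Disjoint J3 J5) (w : GolayPt → ZMod 2) :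
    sqNorm (oddVec J3 J5 w) = 24 + 24 * (J5.card : ℤ) + 8 * (J3.card : ℤ) := by
  unfold oddVec
  rw [sqNorm_one_add_two_mul, sum_sq_aOdd hd]
  ring

theorem aOdd_mem_J5 (J3 J5 : Finset GolayPt) (w : GolayPt → ZMod 2) (i : GolayPt) :
    (aOdd J3 J5 w i = 2 ∨ aOdd J3 J5 w i = -3) ↔ i ∈ J5 := by
  unfold aOdd
  by_cases h5 : i ∈ J5 <;> by_cases h3 : i ∈ J3 <;> by_cases h : w i = 0 <;> simp [h5, h3, h]

theorem aOdd_mem_J3 {J3 J5 : Finset GolayPt} (hd : Disjoint J3 J5) (w : GolayPt → ZMod 2)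
    (i : GolayPt) : (aOdd J3 J5 w i = -2 ∨ aOdd J3 J5 w i = 1) ↔ i ∈ J3 := by
  unfold aOdd
  by_cases h5 : i ∈ J5
  · have h3 : i ∉ J3 := fun h => (Finset.disjoint_left.mp hd) h h5
    by_cases h : w i = 0 <;> simp [h5, h3, h]
  · by_cases h3 : i ∈ J3 <;> by_cases h : w i = 0 <;> simp [h5, h3, h]

theorem oddVec_injective {J3 J5 J3' J5' : Finset GolayPt} (hd : Disjoint J3 J5)
    (hd' : Disjoint J3' J5') {w w' : GolayPt → ZMod 2}
    (h : oddVec J3 J5 w = oddVec J3' J5' w') : J3 = J3' ∧ J5 = J5' ∧ w = w' := by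
  have ha : aOdd J3 J5 w = aOdd J3' J5' w' := by
    funext i
    have := congrFun h i
    unfold oddVec at this
    omega
  refine ⟨?_, ?_, ?_⟩
  · ext i
    rw [← aOdd_mem_J3 hd w i, ← aOdd_mem_J3 hd' w' i, ha]
  · ext i
    rw [← aOdd_mem_J5 J3 J5 w i, ← aOdd_mem_J5 J3' J5' w' i, ha]
  · rw [← red2_aOdd J3 J5 w, ← red2_aOdd J3' J5' w', ha]

end Cfsg.Agent.Helper27

namespace Cfsg.Agent.Helper27

theorem oddVec_abs {J3 J5 : Finset GolayPt} (hd : Disjoint J3 J5) (w : GolayPt → ZMod 2)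
    (i : GolayPt) :
    |oddVec J3 J5 w i| = if i ∈ J5 then 5 else if i ∈ J3 then 3 else 1 := by
  unfold oddVec aOdd
  by_cases h5 : i ∈ J5
  · have h3 : i ∉ J3 := fun h => (Finset.disjoint_left.mp hd) h h5
    by_cases h : w i = 0 <;> simp [h5, h]
  · by_cases h3 : i ∈ J3 <;> by_cases h : w i = 0 <;> simp [h5, h3, h]

end Cfsg.Agent.Helper27
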