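import Mathlib
import Cfsg.Agent.Lib.Helper27.LeechCount
import Cfsg.Agent.Lib.Helper27.LeechOdd
import Cfsg.Agent.Lib.Helper29.GolayCount
import Cfsg.Agent.S0394

set_option autoImplicit false
set_option maxRecDepth 8000
open Cfsg

/-! Families of even and odd lattice vectors of a given shape type, with their cardinalities. -/

namespace Cfsg.Agent.Helper27

open Cfsg.Agent.S0394 (instFintypeGolayCode card_golayCode)

/-- Supports of the code words of weight `s`. -/
noncomputable def Csets (s : ℕ) : Finset (Finset GolayPt) :=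
  (Set.toFinite (wordsOfWeight (golayCode : Set (GolayPt → ZMod 2)) s)).toFinset

theorem mem_Csets {s : ℕ} {p : Finset GolayPt} :
    p ∈ Csets s ↔ ∃ w ∈ golayCode, support₂ w = p ∧ p.card = s := by
  unfold Csets
  rw [Set.Finite.mem_toFinset]
  unfold wordsOfWeight supports
  constructor
  · rintro ⟨⟨w, hw, rfl⟩, h⟩
    exact ⟨w, hw, rfl, h⟩
  · rintro ⟨w, hw, rfl, h⟩
    exact ⟨⟨w, hw, rfl⟩, h⟩

theorem card_Csets (s : ℕ) : (Csets s).card = Cfsg.Agent.Helper29.countW s 4096 := by
  rw [← Cfsg.Agent.Helper29.ncard_wordsOfWeight,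
    Set.ncard_eq_toFinset_card _ (Set.toFinite _)]
  rfl

set_option maxRecDepth 1000000 in
theorem countW_zero : Cfsg.Agent.Helper29.countW 0 4096 = 1 := by decide +kernel

set_option maxRecDepth 1000000 in
theorem countW_eight : Cfsg.Agent.Helper29.countW 8 4096 = 759 := by decide +kernel

set_option maxRecDepth 1000000 in
theorem countW_twelve : Cfsg.Agent.Helper29.countW 12 4096 = 2576 := by decide +kernel

set_option maxRecDepth 1000000 in
theorem countW_sixteen : Cfsg.Agent.Helper29.countW 16 4096 = 759 := by decide +kernel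

/-- Sign sets with prescribed parity on `p`. -/
def Nsets (S p : Finset GolayPt) (c : ℕ) : Finset (Finset GolayPt) :=
  S.powerset.filter (fun N => Even ((N ∩ p).card + c))

/-- Index set of the even family of type `(s, u, v)`. -/
noncomputable def idxE (s u v : ℕ) :
    Finset (Σ _ : Finset GolayPt, Σ _ : Finset GolayPt, Finset GolayPt) :=
  (Csets s).sigma (fun p => (Qsets p u v).sigma (fun q => Nsets (p ∪ q) p (s / 2 + u + v)))

theorem mem_idxE {s u v : ℕ} {t : Σ _ : Finset GolayPt, Σ _ : Finset GolayPt, Finset GolayPt} :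
    t ∈ idxE s u v ↔ t.1 ∈ Csets s ∧ ((t.2.1 \ t.1).card = u ∧ (t.2.1 ∩ t.1).card = v) ∧
      t.2.2 ⊆ t.1 ∪ t.2.1 ∧ Even ((t.2.2 ∩ t.1).card + (s / 2 + u + v)) := by
  unfold idxE Nsets
  rw [Finset.mem_sigma, Finset.mem_sigma, Finset.mem_filter, Finset.mem_powerset, mem_Qsets]

/-- The vector attached to an index. -/
def evX (t : Σ _ : Finset GolayPt, Σ _ : Finset GolayPt, Finset GolayPt) : GolayPt → ℤ :=
  fun i => 2 * evVec t.1 t.2.1 t.2.2 i

/-- The even family of type `(s, u, v)`. -/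
noncomputable def famE (s u v : ℕ) : Finset (GolayPt → ℤ) := (idxE s u v).image evX

theorem card_union_sdiff (p q : Finset GolayPt) : (p ∪ q).card = p.card + (q \ p).card := by
  have h1 := Finset.card_union_add_card_inter p q
  have h2 := Finset.card_sdiff_add_card_inter q p
  rw [Finset.inter_comm] at h1
  omega

theorem evX_injOn (s u v : ℕ) : Set.InjOn evX (idxE s u v : Set _) := by
  intro t ht t' ht' h
  rw [Finset.mem_coe, mem_idxE] at ht ht'
  have h' : evVec t.1 t.2.1 t.2.2 = evVec t'.1 t'.2.1 t'.2.2 := by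
    funext i
    have := congrFun h i
    unfold evX at this
    omega
  obtain ⟨h1, h2, h3⟩ := evVec_inj ht.2.2.1 ht'.2.2.1 h'
  obtain ⟨p, q, N⟩ := t
  obtain ⟨p', q', N'⟩ := t'
  subst h1
  subst h2
  subst h3
  rfl

theorem card_famE {s : ℕ} (hs : 0 < s) (u v : ℕ) :
    (famE s u v).card =
      (Csets s).card * ((24 - s).choose u * s.choose v * 2 ^ (s + u - 1)) := by
  unfold famE
  rw [Finset.card_image_of_injOn (evX_injOn s u v)]
  unfold idxE
  rw [Finset.card_sigma, Finset.sum_congr rfl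
    (g := fun _ => (24 - s).choose u * s.choose v * 2 ^ (s + u - 1))]
  · rw [Finset.sum_const, smul_eq_mul]
  · intro p hp
    obtain ⟨w, -, -, hps⟩ := mem_Csets.mp hp
    rw [Finset.card_sigma, Finset.sum_congr rfl (g := fun _ => 2 ^ (s + u - 1))]
    · rw [Finset.sum_const, smul_eq_mul, card_Qsets, hps]
    · intro q hq
      rw [mem_Qsets] at hq
      have hne : p.Nonempty := by
        rw [← Finset.card_pos, hps]; exact hs
      have h1 := card_parity_subsets (p ∪ q) p Finset.subset_union_left hne (s / 2 + u + v)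
      rw [card_union_sdiff, hps, hq.1] at h1
      unfold Nsets
      have h2 : 2 ^ (s + u) = 2 * 2 ^ (s + u - 1) := by
        rw [← pow_succ']
        congr 1
        omega
      rw [h2] at h1
      omega

/-- For `s = 0` the sign condition is all or nothing. -/
theorem card_famE_zero {u : ℕ} (hu : Even u) :
    (famE 0 u 0).card = (Csets 0).card * ((24).choose u * 2 ^ u) := by
  unfold famE
  rw [Finset.card_image_of_injOn (evX_injOn 0 u 0)]
  unfold idxE
  rw [Finset.card_sigma, Finset.sum_congr rfl (g := fun _ => (24).choose u * 2 ^ u)]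
  · rw [Finset.sum_const, smul_eq_mul]
  · intro p hp
    obtain ⟨w, -, -, hps⟩ := mem_Csets.mp hp
    have hp0 : p = ∅ := Finset.card_eq_zero.mp hps
    rw [Finset.card_sigma, Finset.sum_congr rfl (g := fun _ => 2 ^ u)]
    · rw [Finset.sum_const, smul_eq_mul, card_Qsets, hps]
      simp
    · intro q hq
      rw [mem_Qsets] at hq
      unfold Nsets
      rw [Finset.filter_true_of_mem]
      · rw [Finset.card_powerset, card_union_sdiff, hps, hq.1, zero_add]
      · intro N _
        rw [hp0, Finset.inter_empty, Finset.card_empty]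
        simpa using hu

theorem famE_elim {s u v : ℕ} {x : GolayPt → ℤ} (hx : x ∈ famE s u v) :
    ∃ p q N : Finset GolayPt, (∃ w ∈ golayCode, support₂ w = p) ∧ p.card = s ∧
      (q \ p).card = u ∧ (q ∩ p).card = v ∧ N ⊆ p ∪ q ∧
      Even ((N ∩ p).card + (s / 2 + u + v)) ∧ x = fun i => 2 * evVec p q N i := by
  unfold famE at hx
  rw [Finset.mem_image] at hx
  obtain ⟨⟨p, q, N⟩, ht, rfl⟩ := hx
  rw [mem_idxE] at ht
  obtain ⟨h1, ⟨h2, h3⟩, h4, h5⟩ := ht
  obtain ⟨w, hw, hwp, hps⟩ := mem_Csets.mp h1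
  exact ⟨p, q, N, ⟨w, hw, hwp⟩, hps, h2, h3, h4, h5, rfl⟩

theorem famE_intro {s u v : ℕ} {p q N : Finset GolayPt} {w : GolayPt → ZMod 2}
    (hw : w ∈ golayCode) (hwp : support₂ w = p) (hps : p.card = s) (hu : (q \ p).card = u)
    (hv : (q ∩ p).card = v) (hN : N ⊆ p ∪ q) (hev : Even ((N ∩ p).card + (s / 2 + u + v))) :
    (fun i => 2 * evVec p q N i) ∈ famE s u v := by
  unfold famE
  rw [Finset.mem_image]
  exact ⟨⟨p, q, N⟩, mem_idxE.mpr ⟨mem_Csets.mpr ⟨w, hw, hwp, hps⟩, ⟨hu, hv⟩, hN, hev⟩, rfl⟩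

theorem famE_sound {s u v : ℕ} {x : GolayPt → ℤ} (hx : x ∈ famE s u v) :
    x ∈ leechLattice ∧ sqNorm x = 4 * ((s : ℤ) + 4 * u + 8 * v) ∧ ∀ i, (2 : ℤ) ∣ x i := by
  obtain ⟨p, q, N, ⟨w, hw, hwp⟩, hps, hu, hv, hN, hev, rfl⟩ := famE_elim hx
  have h4 : 4 ∣ s := by
    rw [← hps, ← hwp]; exact golay_weight_dvd hw
  have hq : q.card = u + v := by
    have := Finset.card_sdiff_add_card_inter q p
    omega
  refine ⟨?_, ?_, fun i => ⟨_, rfl⟩⟩
  · apply mem_of_even_form
    · rw [← hwp, red2_evVec]; exact hw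
    · rw [sum_evVec, hps, hq]
      obtain ⟨s', hs'⟩ := h4
      obtain ⟨r, hr⟩ := hev
      have e : s / 2 = 2 * s' := by omega
      rw [e] at hr
      refine ⟨(r : ℤ) - ((N ∩ p).card : ℤ) - ((N ∩ q).card : ℤ), ?_⟩
      have hr' : (((N ∩ p).card : ℤ)) + (2 * s' + u + v) = r + r := by exact_mod_cast hr
      push_cast
      rw [hs']
      push_cast
      linarith
  · rw [sqNorm_two_mul, sum_sq_evVec, hps, hq, Finset.inter_comm, hv]
    push_cast
    ring

theorem famE_complete {x : GolayPt → ℤ} (hx : x ∈ leechLattice) (h2 : (2 : ℤ) ∣ x none) {T : ℕ}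
    (hn : sqNorm x = 4 * (T : ℤ)) (hb : ∀ i, |x i| ≤ 6) :
    ∃ s u v : ℕ, s + 4 * u + 8 * v = T ∧ v ≤ s ∧
      (s = 0 ∨ s = 8 ∨ s = 12 ∨ s = 16 ∨ s = 24) ∧ x ∈ famE s u v := by
  obtain ⟨a, ha, hc, hs⟩ := even_form hx h2
  have hx' : x = fun i => 2 * a i := funext ha
  have hn' : ∑ i, a i ^ 2 = T := by
    rw [hx', sqNorm_two_mul] at hn
    omega
  have hb' : ∀ i, |a i| ≤ 3 := by
    intro i
    have := hb i
    rw [ha i, abs_mul] at this
    norm_num at this
    linarith
  have hP : Finset.univ.filter (fun i => ¬ (2 : ℤ) ∣ a i) = support₂ (red2 a) := by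
    ext i
    rw [mem_support₂, red2_ne_zero_iff]
    simp
  have hrep := eq_evVec a hb'
  rw [hP] at hrep
  set Q := Finset.univ.filter (fun i => 2 ≤ |a i|) with hQ
  set N := Finset.univ.filter (fun i => a i < 0) with hNdef
  set P := support₂ (red2 a) with hPdef
  have hNsub : N ⊆ P ∪ Q := by
    intro i hi
    rw [hNdef, Finset.mem_filter] at hi
    rw [Finset.mem_union, hPdef, mem_support₂, red2_ne_zero_iff, hQ, Finset.mem_filter]
    by_cases h : 2 ≤ |a i|
    · right; exact ⟨Finset.mem_univ _, h⟩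
    · left
      have h1 := abs_lt.mp (not_le.mp h)
      have : a i = -1 := by omega
      rw [this]; norm_num
  have hqc : Q.card = (Q \ P).card + (Q ∩ P).card := (Finset.card_sdiff_add_card_inter Q P).symm
  have hsq := sum_sq_evVec P Q N
  rw [← hrep, hn', Finset.inter_comm] at hsq
  have h4 : 4 ∣ P.card := golay_weight_dvd hc
  refine ⟨P.card, (Q \ P).card, (Q ∩ P).card, ?_, ?_, golay_weight hc, ?_⟩
  · have : (T : ℤ) = (P.card : ℤ) + 4 * ((Q \ P).card + (Q ∩ P).card : ℕ) + 4 * ((Q ∩ P).card : ℤ) := by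
      rw [← hqc]; exact hsq
    push_cast at this
    omega
  · exact Finset.card_le_card Finset.inter_subset_right
  · rw [hx', hrep]
    refine famE_intro hc rfl rfl rfl rfl hNsub ?_
    have hsum := sum_evVec P Q N
    rw [← hrep] at hsum
    rw [hsum] at hs
    obtain ⟨s', hs'⟩ := h4
    obtain ⟨r, hr⟩ := hs
    have e : P.card / 2 = 2 * s' := by omega
    rw [e]
    rw [hqc, hs'] at hr
    push_cast at hr
    rw [← Int.even_coe_nat]
    push_cast
    refine ⟨(N ∩ P).card + (N ∩ Q).card + r, ?_⟩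
    linarith

theorem famE_disjoint {s u v s' u' v' : ℕ} (h : ¬ (s = s' ∧ u = u' ∧ v = v')) :
    Disjoint (famE s u v) (famE s' u' v') := by
  rw [Finset.disjoint_left]
  intro x hx hx'
  obtain ⟨p, q, N, -, hps, hu, hv, hN, -, rfl⟩ := famE_elim hx
  obtain ⟨p', q', N', -, hps', hu', hv', hN', -, h1⟩ := famE_elim hx'
  have h' : evVec p q N = evVec p' q' N' := by
    funext i
    have := congrFun h1 i
    omega
  obtain ⟨e1, e2, -⟩ := evVec_inj hN hN' h'
  subst e1
  subst e2
  exact h ⟨hps.symm.trans hps', hu.symm.trans hu', hv.symm.trans hv'⟩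

end Cfsg.Agent.Helper27
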