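import Mathlib
import Cfsg.Agent.Lib.Helper27.LeechOdd
import Cfsg.Agent.S0394

set_option autoImplicit false
set_option maxRecDepth 8000
open Cfsg

/-! Families of odd lattice vectors of a given shape type, with their cardinalities. -/

namespace Cfsg.Agent.Helper27

open Cfsg.Agent.S0394 (instFintypeGolayCode card_golayCode prod_succ_nonneg)

/-- Index set of the odd family with `n3` coordinates `±3` and `n5` coordinates `±5`. -/
noncomputable def idxO (n3 n5 : ℕ) :
    Finset ((Σ _ : Finset GolayPt, Finset GolayPt) × golayCode) :=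
  (((Finset.univ : Finset GolayPt).powersetCard n5).sigma (fun J5 => (J5ᶜ).powersetCard n3)) ×ˢ
    (Finset.univ : Finset golayCode)

theorem mem_idxO {n3 n5 : ℕ} {t : (Σ _ : Finset GolayPt, Finset GolayPt) × golayCode} :
    t ∈ idxO n3 n5 ↔ t.1.1.card = n5 ∧ Disjoint t.1.2 t.1.1 ∧ t.1.2.card = n3 := by
  unfold idxO
  rw [Finset.mem_product, Finset.mem_sigma, Finset.mem_powersetCard, Finset.mem_powersetCard]
  constructor
  · rintro ⟨⟨⟨-, h1⟩, h2, h3⟩, -⟩
    refine ⟨h1, ?_, h3⟩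
    rw [Finset.disjoint_left]
    intro i hi hi'
    exact Finset.mem_compl.mp (h2 hi) hi'
  · rintro ⟨h1, h2, h3⟩
    refine ⟨⟨⟨Finset.subset_univ _, h1⟩, ?_, h3⟩, Finset.mem_univ _⟩
    intro i hi
    rw [Finset.mem_compl]
    exact fun hi' => (Finset.disjoint_left.mp h2) hi hi'

/-- The vector attached to an index. -/
def oddX (t : (Σ _ : Finset GolayPt, Finset GolayPt) × golayCode) : GolayPt → ℤ :=
  oddVec t.1.2 t.1.1 t.2.1

/-- The odd family of type `(n3, n5)`. -/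
noncomputable def famO (n3 n5 : ℕ) : Finset (GolayPt → ℤ) := (idxO n3 n5).image oddX

theorem oddX_injOn (n3 n5 : ℕ) : Set.InjOn oddX (idxO n3 n5 : Set _) := by
  intro t ht t' ht' h
  rw [Finset.mem_coe, mem_idxO] at ht ht'
  obtain ⟨h1, h2, h3⟩ := oddVec_injective ht.2.1 ht'.2.1 h
  obtain ⟨⟨J5, J3⟩, w⟩ := t
  obtain ⟨⟨J5', J3'⟩, w'⟩ := t'
  simp only at h1 h2 h3
  subst h1
  subst h2
  have : w = w' := Subtype.ext h3
  subst this
  rfl

theorem card_famO (n3 n5 : ℕ) :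
    (famO n3 n5).card = (24).choose n5 * (24 - n5).choose n3 * 4096 := by
  unfold famO
  rw [Finset.card_image_of_injOn (oddX_injOn n3 n5)]
  unfold idxO
  rw [Finset.card_product, Finset.card_univ, card_golayCode, Finset.card_sigma,
    Finset.sum_congr rfl (g := fun _ => (24 - n5).choose n3)]
  · rw [Finset.sum_const, smul_eq_mul, Finset.card_powersetCard, Finset.card_univ, card_golayPt]
  · intro J5 hJ5
    rw [Finset.mem_powersetCard] at hJ5
    rw [Finset.card_powersetCard, Finset.card_compl, Fintype.card, Finset.card_univ,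
      card_golayPt, hJ5.2]

theorem famO_elim {n3 n5 : ℕ} {x : GolayPt → ℤ} (hx : x ∈ famO n3 n5) :
    ∃ (J3 J5 : Finset GolayPt) (w : GolayPt → ZMod 2), w ∈ golayCode ∧ Disjoint J3 J5 ∧
      J3.card = n3 ∧ J5.card = n5 ∧ x = oddVec J3 J5 w := by
  unfold famO at hx
  rw [Finset.mem_image] at hx
  obtain ⟨⟨⟨J5, J3⟩, w⟩, ht, rfl⟩ := hx
  rw [mem_idxO] at ht
  exact ⟨J3, J5, w.1, w.2, ht.2.1, ht.2.2, ht.1, rfl⟩

theorem famO_intro {n3 n5 : ℕ} {J3 J5 : Finset GolayPt} {w : GolayPt → ZMod 2}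
    (hw : w ∈ golayCode) (hd : Disjoint J3 J5) (h3 : J3.card = n3) (h5 : J5.card = n5) :
    oddVec J3 J5 w ∈ famO n3 n5 := by
  unfold famO
  rw [Finset.mem_image]
  exact ⟨⟨⟨J5, J3⟩, ⟨w, hw⟩⟩, mem_idxO.mpr ⟨h5, hd, h3⟩, rfl⟩

theorem famO_sound {n3 n5 : ℕ} (hodd : Odd (n3 + n5)) {x : GolayPt → ℤ} (hx : x ∈ famO n3 n5) :
    x ∈ leechLattice ∧ sqNorm x = 24 + 24 * (n5 : ℤ) + 8 * (n3 : ℤ) ∧ ∀ i, ¬ (2 : ℤ) ∣ x i := by
  obtain ⟨J3, J5, w, hw, hd, h3, h5, rfl⟩ := famO_elim hx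
  refine ⟨oddVec_mem hd hw (by rw [h3, h5]; exact hodd), ?_, ?_⟩
  · rw [sqNorm_oddVec hd, h3, h5]
  · intro i
    unfold oddVec
    omega

theorem famO_complete {x : GolayPt → ℤ} (hx : x ∈ leechLattice) (h2 : ¬ (2 : ℤ) ∣ x none) {T : ℕ}
    (hn : sqNorm x = 24 + 4 * (T : ℤ)) (hT : T ≤ 11) :
    ∃ n3 n5 : ℕ, 6 * n5 + 2 * n3 = T ∧ x ∈ famO n3 n5 := by
  obtain ⟨a, ha, hc, hs⟩ := odd_form hx h2
  have hx' : x = fun i => 1 + 2 * a i := funext ha
  have hn' : ∑ i, (a i ^ 2 + a i) = T := by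
    rw [hx', sqNorm_one_add_two_mul] at hn
    omega
  have hrange : ∀ i, -3 ≤ a i ∧ a i ≤ 2 := by
    intro i
    have h1 : a i ^ 2 + a i ≤ T := by
      rw [← hn']
      exact Finset.single_le_sum (f := fun i => a i ^ 2 + a i) (fun j _ => prod_succ_nonneg (a j))
        (Finset.mem_univ i)
    have hT' : (T : ℤ) ≤ 11 := by exact_mod_cast hT
    constructor <;> nlinarith
  set J5 := Finset.univ.filter (fun i => a i = 2 ∨ a i = -3) with hJ5
  set J3 := Finset.univ.filter (fun i => a i = 1 ∨ a i = -2) with hJ3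
  have hd : Disjoint J3 J5 := by
    rw [Finset.disjoint_left]
    intro i hi hi'
    rw [hJ3, Finset.mem_filter] at hi
    rw [hJ5, Finset.mem_filter] at hi'
    omega
  have hrep : a = aOdd J3 J5 (red2 a) := by
    funext i
    unfold aOdd
    simp only [hJ5, hJ3, Finset.mem_filter, Finset.mem_univ, true_and]
    have hred : red2 a i = 0 ↔ (2 : ℤ) ∣ a i := red2_eq_zero_iff a i
    obtain ⟨h1, h2⟩ := hrange i
    have hcases : a i = -3 ∨ a i = -2 ∨ a i = -1 ∨ a i = 0 ∨ a i = 1 ∨ a i = 2 := by omega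
    rcases hcases with h | h | h | h | h | h
    · have : ¬ red2 a i = 0 := fun e => by have := hred.mp e; omega
      rw [if_pos (Or.inr h), if_neg this, h]
    · have : red2 a i = 0 := hred.mpr ⟨-1, by omega⟩
      rw [if_neg (by omega), if_pos (Or.inr h), if_pos this, h]
    · have : ¬ red2 a i = 0 := fun e => by have := hred.mp e; omega
      rw [if_neg (by omega), if_neg (by omega), if_neg this, h]
    · have : red2 a i = 0 := hred.mpr ⟨0, by omega⟩
      rw [if_neg (by omega), if_neg (by omega), if_pos this, h]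
    · have : ¬ red2 a i = 0 := fun e => by have := hred.mp e; omega
      rw [if_neg (by omega), if_pos (Or.inl h), if_neg this, h]
    · have : red2 a i = 0 := hred.mpr ⟨1, by omega⟩
      rw [if_pos (Or.inl h), if_pos this, h]
  have hsum := sum_sq_aOdd hd (red2 a)
  rw [← hrep, hn'] at hsum
  refine ⟨J3.card, J5.card, by exact_mod_cast hsum.symm, ?_⟩
  have : x = oddVec J3 J5 (red2 a) := by
    rw [hx']
    unfold oddVec
    funext i
    rw [← hrep]
  rw [this]
  exact famO_intro hc hd rfl rfl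

theorem famO_disjoint {n3 n5 n3' n5' : ℕ} (h : ¬ (n3 = n3' ∧ n5 = n5')) :
    Disjoint (famO n3 n5) (famO n3' n5') := by
  rw [Finset.disjoint_left]
  intro x hx hx'
  obtain ⟨J3, J5, w, -, hd, h3, h5, rfl⟩ := famO_elim hx
  obtain ⟨J3', J5', w', -, hd', h3', h5', h1⟩ := famO_elim hx'
  obtain ⟨e1, e2, -⟩ := oddVec_injective hd hd' h1
  subst e1
  subst e2
  exact h ⟨h3.symm.trans h3', h5.symm.trans h5'⟩

end Cfsg.Agent.Helper27
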