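import Mathlib
import Cfsg.Agent.Lib.Helper27.LeechFam
import Cfsg.Agent.Lib.Helper27.LeechFamOdd

set_option autoImplicit false
set_option maxRecDepth 8000
open Cfsg

/-! The lattice vectors of sum of squares 48, by shape. -/

namespace Cfsg.Agent.Helper27

theorem famE_famO_disjoint (s u v n3 n5 : ℕ) : Disjoint (famE s u v) (famO n3 n5) := by
  rw [Finset.disjoint_left]
  intro x hx hx'
  obtain ⟨p, q, N, -, -, -, -, -, -, rfl⟩ := famE_elim hx
  obtain ⟨J3, J5, w, -, -, -, -, h1⟩ := famO_elim hx'
  have := congrFun h1 none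
  unfold oddVec at this
  omega

theorem abs_le_of_sqNorm {x : GolayPt → ℤ} {B M : ℤ} (h : sqNorm x = M) (hB : 0 ≤ B)
    (hM : M < (B + 1) ^ 2) (i : GolayPt) : |x i| ≤ B := by
  have h1 : x i ^ 2 ≤ M := by
    rw [← h]
    unfold sqNorm
    exact Finset.single_le_sum (f := fun i => x i ^ 2) (fun j _ => sq_nonneg (x j))
      (Finset.mem_univ i)
  rw [abs_le]
  constructor <;> nlinarith

/-- The four families of vectors of sum of squares 48. -/
noncomputable def F48 : Finset (GolayPt → ℤ) :=
  famE 12 0 0 ∪ famE 8 1 0 ∪ famO 3 0 ∪ famO 0 1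

theorem famE_zero_odd_empty {u : ℕ} (hu : Odd u) : famE 0 u 0 = ∅ := by
  rw [Finset.eq_empty_iff_forall_notMem]
  intro x hx
  obtain ⟨p, q, N, -, hps, -, -, -, hev, -⟩ := famE_elim hx
  have hp0 : p = ∅ := Finset.card_eq_zero.mp hps
  rw [hp0, Finset.inter_empty, Finset.card_empty] at hev
  have : Even u := by simpa using hev
  exact Nat.not_even_iff_odd.mpr hu this

theorem norm48_eq : {x : GolayPt → ℤ | x ∈ leechLattice ∧ sqNorm x = 48} = ↑F48 := by
  ext x
  unfold F48
  rw [Finset.mem_coe, Finset.mem_union, Finset.mem_union, Finset.mem_union, Set.mem_setOf_eq]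
  constructor
  · rintro ⟨hx, hn⟩
    by_cases h2 : (2 : ℤ) ∣ x none
    · obtain ⟨s, u, v, h1, h3, h4, h5⟩ := famE_complete hx h2 (T := 12) (by rw [hn]; norm_num)
        (abs_le_of_sqNorm hn (by norm_num) (by norm_num))
      rcases h4 with h4 | h4 | h4 | h4 | h4
      · have hv : v = 0 := by omega
        have hu : u = 3 := by omega
        subst h4; subst hv; subst hu
        rw [famE_zero_odd_empty (by decide)] at h5
        exact absurd h5 (Finset.notMem_empty _)
      · have hv : v = 0 := by omega
        have hu : u = 1 := by omega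
        subst h4; subst hv; subst hu
        left; left; right; exact h5
      · have hv : v = 0 := by omega
        have hu : u = 0 := by omega
        subst h4; subst hv; subst hu
        left; left; left; exact h5
      · omega
      · omega
    · obtain ⟨n3, n5, h1, h3⟩ := famO_complete hx h2 (T := 6) (by rw [hn]; norm_num) (by norm_num)
      have : (n5 = 1 ∧ n3 = 0) ∨ (n5 = 0 ∧ n3 = 3) := by omega
      rcases this with ⟨h4, h5⟩ | ⟨h4, h5⟩
      · subst h4; subst h5
        right; exact h3
      · subst h4; subst h5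
        left; right; exact h3
  · rintro (((h | h) | h) | h)
    · obtain ⟨h1, h2, -⟩ := famE_sound h
      exact ⟨h1, by rw [h2]; norm_num⟩
    · obtain ⟨h1, h2, -⟩ := famE_sound h
      exact ⟨h1, by rw [h2]; norm_num⟩
    · obtain ⟨h1, h2, -⟩ := famO_sound (by decide) h
      exact ⟨h1, by rw [h2]; norm_num⟩
    · obtain ⟨h1, h2, -⟩ := famO_sound (by decide) h
      exact ⟨h1, by rw [h2]; norm_num⟩

theorem card_famE_12_0_0 : (famE 12 0 0).card = 5275648 := by
  rw [card_famE (by norm_num), card_Csets, countW_twelve]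
  decide

theorem card_famE_8_1_0 : (famE 8 1 0).card = 3108864 := by
  rw [card_famE (by norm_num), card_Csets, countW_eight]
  decide

theorem card_famO_3_0 : (famO 3 0).card = 8290304 := by
  rw [card_famO]
  decide

theorem card_famO_0_1 : (famO 0 1).card = 98304 := by
  rw [card_famO]
  decide

theorem card_F48 : F48.card = 16773120 := by
  unfold F48
  rw [Finset.card_union_of_disjoint, Finset.card_union_of_disjoint,
    Finset.card_union_of_disjoint, card_famE_12_0_0, card_famE_8_1_0, card_famO_3_0,
    card_famO_0_1]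
  · exact famE_disjoint (by omega)
  · rw [Finset.disjoint_union_left]
    exact ⟨famE_famO_disjoint _ _ _ _ _, famE_famO_disjoint _ _ _ _ _⟩
  · rw [Finset.disjoint_union_left, Finset.disjoint_union_left]
    exact ⟨⟨famE_famO_disjoint _ _ _ _ _, famE_famO_disjoint _ _ _ _ _⟩,
      famO_disjoint (by omega)⟩

end Cfsg.Agent.Helper27
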