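import Mathlib
import Cfsg.Agent.Lib.Helper27.Leech48

set_option autoImplicit false
set_option maxRecDepth 8000
open Cfsg

/-! The lattice vectors of sum of squares 64, by shape. -/

namespace Cfsg.Agent.Helper27

/-- The vectors `±8 e_i`. -/
def x8 (t : GolayPt × Bool) : GolayPt → ℤ := Pi.single t.1 (if t.2 then 8 else -8)

theorem x8_injective : Function.Injective x8 := by
  rintro ⟨i, b⟩ ⟨j, c⟩ h
  unfold x8 at h
  simp only at h
  have hij : i = j := by
    by_contra hne
    have := congrFun h i
    rw [Pi.single_eq_same, Pi.single_eq_of_ne hne] at this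
    split_ifs at this <;> omega
  subst hij
  have := congrFun h i
  rw [Pi.single_eq_same, Pi.single_eq_same] at this
  cases b <;> cases c <;> simp_all

/-- The family of the 48 vectors `±8 e_i`. -/
def fam8 : Finset (GolayPt → ℤ) := (Finset.univ : Finset (GolayPt × Bool)).image x8

theorem card_fam8 : fam8.card = 48 := by
  unfold fam8
  rw [Finset.card_image_of_injective _ x8_injective, Finset.card_univ, Fintype.card_prod,
    card_golayPt, Fintype.card_bool]

theorem sqNorm_single (i : GolayPt) (c : ℤ) : sqNorm (Pi.single i c) = c ^ 2 := by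
  unfold sqNorm
  rw [Finset.sum_eq_single i]
  · rw [Pi.single_eq_same]
  · intro j _ hj
    rw [Pi.single_eq_of_ne hj]; ring
  · intro h; exact absurd (Finset.mem_univ i) h

theorem fam8_sound {x : GolayPt → ℤ} (hx : x ∈ fam8) :
    x ∈ leechLattice ∧ sqNorm x = 64 ∧ ∃ i, |x i| = 8 := by
  unfold fam8 at hx
  rw [Finset.mem_image] at hx
  obtain ⟨⟨i, b⟩, -, rfl⟩ := hx
  unfold x8
  simp only
  refine ⟨?_, ?_, i, ?_⟩
  · have e : (Pi.single i (if b then (8 : ℤ) else -8) : GolayPt → ℤ) =
        fun j => 2 * (Pi.single i (if b then (4 : ℤ) else -4) : GolayPt → ℤ) j := by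
      funext j
      by_cases hj : j = i
      · subst hj
        rw [Pi.single_eq_same, Pi.single_eq_same]
        split_ifs <;> norm_num
      · rw [Pi.single_eq_of_ne hj, Pi.single_eq_of_ne hj]; ring
    rw [e]
    apply mem_of_even_form
    · have : red2 (Pi.single i (if b then (4 : ℤ) else -4) : GolayPt → ℤ) = 0 := by
        funext j
        rw [Pi.zero_apply, red2_eq_zero_iff]
        by_cases hj : j = i
        · subst hj
          rw [Pi.single_eq_same]
          split_ifs <;> norm_num
        · rw [Pi.single_eq_of_ne hj]; exact dvd_zero _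
      rw [this]; exact zero_mem _
    · rw [Finset.sum_pi_single']
      simp only [Finset.mem_univ, if_true]
      split_ifs <;> norm_num
  · rw [sqNorm_single]
    split_ifs <;> norm_num
  · rw [Pi.single_eq_same]
    split_ifs <;> norm_num

theorem mem_fam8_of {x : GolayPt → ℤ} (hn : sqNorm x = 64) {i : GolayPt} (hi : |x i| = 8) :
    x ∈ fam8 := by
  have hsq : x i ^ 2 = 64 := by
    rw [← sq_abs, hi]; norm_num
  have hrest : ∀ j, j ≠ i → x j = 0 := by
    intro j hj
    have h1 : x i ^ 2 + x j ^ 2 ≤ sqNorm x := by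
      unfold sqNorm
      have := Finset.sum_le_sum_of_subset_of_nonneg (s := {i, j}) (t := Finset.univ)
        (f := fun k => x k ^ 2) (Finset.subset_univ _) (fun k _ _ => sq_nonneg (x k))
      rw [Finset.sum_pair (Ne.symm hj)] at this
      exact this
    rw [hn, hsq] at h1
    have : x j ^ 2 ≤ 0 := by linarith
    have h2 : x j ^ 2 = 0 := le_antisymm this (sq_nonneg _)
    exact pow_eq_zero_iff (two_ne_zero) |>.mp h2
  unfold fam8
  rw [Finset.mem_image]
  rcases abs_choice (x i) with h | h
  · refine ⟨(i, true), Finset.mem_univ _, ?_⟩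
    unfold x8
    funext j
    by_cases hj : j = i
    · subst hj
      rw [Pi.single_eq_same]
      simp only [if_true]
      rw [← hi, h]
    · rw [Pi.single_eq_of_ne hj, hrest j hj]
  · refine ⟨(i, false), Finset.mem_univ _, ?_⟩
    unfold x8
    funext j
    by_cases hj : j = i
    · subst hj
      rw [Pi.single_eq_same]
      simp only [Bool.false_eq_true, if_false]
      rw [h] at hi
      omega
    · rw [Pi.single_eq_of_ne hj, hrest j hj]

theorem famE_abs_le {s u v : ℕ} {x : GolayPt → ℤ} (hx : x ∈ famE s u v) (i : GolayPt) :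
    |x i| ≤ 6 := by
  obtain ⟨p, q, N, -, -, -, -, -, -, rfl⟩ := famE_elim hx
  simp only
  rw [abs_mul, evVec_abs]
  split_ifs <;> norm_num

theorem famE_even' {s u v : ℕ} {x : GolayPt → ℤ} (hx : x ∈ famE s u v) (i : GolayPt) :
    (2 : ℤ) ∣ x i := by
  obtain ⟨p, q, N, -, -, -, -, -, -, rfl⟩ := famE_elim hx
  exact ⟨_, rfl⟩

theorem famO_odd' {n3 n5 : ℕ} {x : GolayPt → ℤ} (hx : x ∈ famO n3 n5) (i : GolayPt) :
    ¬ (2 : ℤ) ∣ x i := by
  obtain ⟨J3, J5, w, -, -, -, -, rfl⟩ := famO_elim hx
  unfold oddVec
  omega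

theorem fam8_famE_disjoint (s u v : ℕ) : Disjoint fam8 (famE s u v) := by
  rw [Finset.disjoint_left]
  intro x hx hx'
  obtain ⟨-, -, i, hi⟩ := fam8_sound hx
  have := famE_abs_le hx' i
  rw [hi] at this
  norm_num at this

theorem fam8_famO_disjoint (n3 n5 : ℕ) : Disjoint fam8 (famO n3 n5) := by
  rw [Finset.disjoint_left]
  intro x hx hx'
  obtain ⟨-, -, i, hi⟩ := fam8_sound hx
  have h1 := famO_odd' hx' i
  rcases abs_choice (x i) with h | h <;> rw [h] at hi <;> omega

/-- The eight families of vectors of sum of squares 64. -/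
noncomputable def F64 : Finset (GolayPt → ℤ) :=
  famE 16 0 0 ∪ famE 12 1 0 ∪ famE 8 2 0 ∪ famE 8 0 1 ∪ famE 0 4 0 ∪ fam8 ∪ famO 2 1 ∪ famO 5 0

theorem mem_F64 {x : GolayPt → ℤ} :
    x ∈ F64 ↔ x ∈ famE 16 0 0 ∨ x ∈ famE 12 1 0 ∨ x ∈ famE 8 2 0 ∨ x ∈ famE 8 0 1 ∨
      x ∈ famE 0 4 0 ∨ x ∈ fam8 ∨ x ∈ famO 2 1 ∨ x ∈ famO 5 0 := by
  unfold F64
  simp only [Finset.mem_union, or_assoc]

theorem norm64_eq : {x : GolayPt → ℤ | x ∈ leechLattice ∧ sqNorm x = 64} = ↑F64 := by
  ext x
  rw [Finset.mem_coe, mem_F64, Set.mem_setOf_eq]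
  constructor
  · rintro ⟨hx, hn⟩
    by_cases h2 : (2 : ℤ) ∣ x none
    · by_cases h8 : ∃ i, |x i| = 8
      · obtain ⟨i, hi⟩ := h8
        right; right; right; right; right; left
        exact mem_fam8_of hn hi
      · have hb : ∀ i, |x i| ≤ 6 := by
          intro i
          have h1 := abs_le_of_sqNorm hn (B := 8) (by norm_num) (by norm_num) i
          have h3 : |x i| ≠ 8 := fun h => h8 ⟨i, h⟩
          have h4 : (2 : ℤ) ∣ x i := by
            obtain ⟨a, ha, -, -⟩ := even_form hx h2
            exact ⟨a i, ha i⟩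
          have h5 : |x i| ≠ 7 := by
            intro h
            rcases abs_choice (x i) with h6 | h6 <;> rw [h6] at h <;> omega
          have h6 : 0 ≤ |x i| := abs_nonneg _
          omega
        obtain ⟨s, u, v, h1, h3, h4, h5⟩ := famE_complete hx h2 (T := 16) (by rw [hn]; norm_num) hb
        rcases h4 with h4 | h4 | h4 | h4 | h4
        · have hv : v = 0 := by omega
          have hu : u = 4 := by omega
          subst h4; subst hv; subst hu
          right; right; right; right; left; exact h5
        · have : (u = 2 ∧ v = 0) ∨ (u = 0 ∧ v = 1) := by omega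
          rcases this with ⟨hu, hv⟩ | ⟨hu, hv⟩
          · subst h4; subst hv; subst hu
            right; right; left; exact h5
          · subst h4; subst hv; subst hu
            right; right; right; left; exact h5
        · have hv : v = 0 := by omega
          have hu : u = 1 := by omega
          subst h4; subst hv; subst hu
          right; left; exact h5
        · have hv : v = 0 := by omega
          have hu : u = 0 := by omega
          subst h4; subst hv; subst hu
          left; exact h5
        · omega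
    · obtain ⟨n3, n5, h1, h3⟩ := famO_complete hx h2 (T := 10) (by rw [hn]; norm_num) (by norm_num)
      have : (n5 = 1 ∧ n3 = 2) ∨ (n5 = 0 ∧ n3 = 5) := by omega
      rcases this with ⟨h4, h5⟩ | ⟨h4, h5⟩
      · subst h4; subst h5
        right; right; right; right; right; right; left; exact h3
      · subst h4; subst h5
        right; right; right; right; right; right; right; exact h3
  · rintro (h | h | h | h | h | h | h | h)
    · obtain ⟨h1, h2, -⟩ := famE_sound h
      exact ⟨h1, by rw [h2]; norm_num⟩
    · obtain ⟨h1, h2, -⟩ := famE_sound h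
      exact ⟨h1, by rw [h2]; norm_num⟩
    · obtain ⟨h1, h2, -⟩ := famE_sound h
      exact ⟨h1, by rw [h2]; norm_num⟩
    · obtain ⟨h1, h2, -⟩ := famE_sound h
      exact ⟨h1, by rw [h2]; norm_num⟩
    · obtain ⟨h1, h2, -⟩ := famE_sound h
      exact ⟨h1, by rw [h2]; norm_num⟩
    · obtain ⟨h1, h2, -⟩ := fam8_sound h
      exact ⟨h1, h2⟩
    · obtain ⟨h1, h2, -⟩ := famO_sound (by decide) h
      exact ⟨h1, by rw [h2]; norm_num⟩
    · obtain ⟨h1, h2, -⟩ := famO_sound (by decide) h
      exact ⟨h1, by rw [h2]; norm_num⟩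

theorem card_famE_16_0_0 : (famE 16 0 0).card = 24870912 := by
  rw [card_famE (by norm_num), card_Csets, countW_sixteen]
  decide

theorem card_famE_12_1_0 : (famE 12 1 0).card = 126615552 := by
  rw [card_famE (by norm_num), card_Csets, countW_twelve]
  decide

theorem card_famE_8_2_0 : (famE 8 2 0).card = 46632960 := by
  rw [card_famE (by norm_num), card_Csets, countW_eight]
  decide

theorem card_famE_8_0_1 : (famE 8 0 1).card = 777216 := by
  rw [card_famE (by norm_num), card_Csets, countW_eight]
  decide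

theorem card_famE_0_4_0 : (famE 0 4 0).card = 170016 := by
  rw [card_famE_zero (by decide), card_Csets, countW_zero]
  decide

theorem card_famO_2_1 : (famO 2 1).card = 24870912 := by
  rw [card_famO]
  decide

theorem card_famO_5_0 : (famO 5 0).card = 174096384 := by
  rw [card_famO]
  decide

theorem card_F64 : F64.card = 398034000 := by
  unfold F64
  rw [Finset.card_union_of_disjoint, Finset.card_union_of_disjoint,
    Finset.card_union_of_disjoint, Finset.card_union_of_disjoint, Finset.card_union_of_disjoint,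
    Finset.card_union_of_disjoint, Finset.card_union_of_disjoint,
    card_famE_16_0_0, card_famE_12_1_0, card_famE_8_2_0, card_famE_8_0_1, card_famE_0_4_0,
    card_fam8, card_famO_2_1, card_famO_5_0]
  · exact famE_disjoint (by omega)
  · simp only [Finset.disjoint_union_left]
    exact ⟨famE_disjoint (by omega), famE_disjoint (by omega)⟩
  · simp only [Finset.disjoint_union_left]
    exact ⟨⟨famE_disjoint (by omega), famE_disjoint (by omega)⟩, famE_disjoint (by omega)⟩
  · simp only [Finset.disjoint_union_left]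
    exact ⟨⟨⟨famE_disjoint (by omega), famE_disjoint (by omega)⟩, famE_disjoint (by omega)⟩,
      famE_disjoint (by omega)⟩
  · simp only [Finset.disjoint_union_left]
    exact ⟨⟨⟨⟨(fam8_famE_disjoint _ _ _).symm, (fam8_famE_disjoint _ _ _).symm⟩,
      (fam8_famE_disjoint _ _ _).symm⟩, (fam8_famE_disjoint _ _ _).symm⟩,
      (fam8_famE_disjoint _ _ _).symm⟩
  · simp only [Finset.disjoint_union_left]
    exact ⟨⟨⟨⟨⟨famE_famO_disjoint _ _ _ _ _, famE_famO_disjoint _ _ _ _ _⟩,
      famE_famO_disjoint _ _ _ _ _⟩, famE_famO_disjoint _ _ _ _ _⟩,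
      famE_famO_disjoint _ _ _ _ _⟩, fam8_famO_disjoint _ _⟩
  · simp only [Finset.disjoint_union_left]
    exact ⟨⟨⟨⟨⟨⟨famE_famO_disjoint _ _ _ _ _, famE_famO_disjoint _ _ _ _ _⟩,
      famE_famO_disjoint _ _ _ _ _⟩, famE_famO_disjoint _ _ _ _ _⟩,
      famE_famO_disjoint _ _ _ _ _⟩, fam8_famO_disjoint _ _⟩, famO_disjoint (by omega)⟩

end Cfsg.Agent.Helper27
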