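import Mathlib
import Cfsg.Agent.Lib.Helper27.Leech64
import Cfsg.Agent.S0393

set_option autoImplicit false
open Cfsg

/-! The lattice modulo twice the lattice: `2^24` classes, each represented by a short vector. -/

namespace Cfsg.Agent.Helper27

/-- Doubling on `ℤ^24`. -/
def dblHom : (GolayPt → ℤ) →+ (GolayPt → ℤ) := zsmulAddGroupHom 2

theorem dblHom_apply (x : GolayPt → ℤ) : dblHom x = 2 • x := rfl

theorem dblHom_injective : Function.Injective dblHom := by
  intro x y h
  funext i
  have := congrFun h i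
  rw [dblHom_apply, dblHom_apply, Pi.smul_apply, Pi.smul_apply, nsmul_eq_mul, nsmul_eq_mul] at this
  push_cast at this
  omega

/-- Twice the lattice. -/
def twoL : AddSubgroup (GolayPt → ℤ) := leechLattice.map dblHom

theorem mem_twoL {y : GolayPt → ℤ} : y ∈ twoL ↔ ∃ z ∈ leechLattice, y = 2 • z := by
  unfold twoL
  rw [AddSubgroup.mem_map]
  constructor
  · rintro ⟨z, hz, rfl⟩; exact ⟨z, hz, rfl⟩
  · rintro ⟨z, hz, rfl⟩; exact ⟨z, hz, rfl⟩

theorem twoL_le : twoL ≤ leechLattice := by
  intro y hy
  obtain ⟨z, hz, rfl⟩ := mem_twoL.mp hy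
  rw [two_smul]
  exact add_mem hz hz

/-- Reduction modulo 2 as a homomorphism. -/
def redHom : (GolayPt → ℤ) →+ (GolayPt → ZMod 2) :=
  (Int.castAddHom (ZMod 2)).compLeft GolayPt

theorem redHom_apply (x : GolayPt → ℤ) (i : GolayPt) : redHom x i = ((x i : ℤ) : ZMod 2) := rfl

theorem redHom_surjective : Function.Surjective redHom := by
  intro w
  refine ⟨fun i => ((w i).val : ℤ), ?_⟩
  funext i
  rw [redHom_apply]
  simp

theorem range_dblHom : dblHom.range = redHom.ker := by
  ext x
  rw [AddMonoidHom.mem_range, AddMonoidHom.mem_ker]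
  constructor
  · rintro ⟨z, rfl⟩
    funext i
    rw [redHom_apply, dblHom_apply, Pi.smul_apply, nsmul_eq_mul, Pi.zero_apply]
    push_cast
    have : (2 : ZMod 2) = 0 := by decide
    rw [this, zero_mul]
  · intro h
    have h1 : ∀ i, (2 : ℤ) ∣ x i := by
      intro i
      have := congrFun h i
      rw [redHom_apply, Pi.zero_apply, ZMod.intCast_zmod_eq_zero_iff_dvd] at this
      exact_mod_cast this
    choose z hz using h1
    refine ⟨z, ?_⟩
    funext i
    rw [dblHom_apply, Pi.smul_apply, nsmul_eq_mul, hz i]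
    push_cast
    ring

theorem index_range_dblHom : dblHom.range.index = 2 ^ 24 := by
  rw [range_dblHom, AddSubgroup.index_ker, AddMonoidHom.range_eq_top.mpr redHom_surjective]
  rw [Nat.card_congr (AddSubgroup.topEquiv (G := GolayPt → ZMod 2)).toEquiv, Nat.card_eq_fintype_card,
    Fintype.card_fun, ZMod.card, card_golayPt]

theorem relIndex_twoL : twoL.relIndex leechLattice = 2 ^ 24 := by
  have h1 := AddSubgroup.relIndex_mul_index twoL_le
  have h2 : twoL.index = 2 ^ 36 * 2 ^ 24 := by
    unfold twoL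
    rw [AddSubgroup.index_map_of_injective _ dblHom_injective, Cfsg.Agent.S0393.result,
      index_range_dblHom]
  rw [h2, Cfsg.Agent.S0393.result] at h1
  have : (2 : ℕ) ^ 36 ≠ 0 := by positivity
  have h3 : twoL.relIndex leechLattice * 2 ^ 36 = 2 ^ 24 * 2 ^ 36 := by rw [h1]; ring
  exact Nat.eq_of_mul_eq_mul_right (by positivity) h3

end Cfsg.Agent.Helper27
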