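import Mathlib
import Cfsg.Agent.Lib.Helper27.LeechMod2

set_option autoImplicit false
set_option maxRecDepth 8000
open Cfsg

namespace Cfsg.Agent.Helper27

/-- Congruence modulo twice the lattice. -/
def Cong (x y : GolayPt → ℤ) : Prop := ∃ z ∈ leechLattice, x - y = 2 • z

theorem sqNorm_sub_add' (x y : GolayPt → ℤ) :
    sqNorm (x - y) + sqNorm (x + y) = 2 * sqNorm x + 2 * sqNorm y := by
  unfold sqNorm
  rw [← Finset.sum_add_distrib, Finset.mul_sum, Finset.mul_sum, ← Finset.sum_add_distrib]
  apply Finset.sum_congr rfl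
  intro i _
  rw [Pi.sub_apply, Pi.add_apply]
  ring

theorem sqNorm_sub_m2b (x y : GolayPt → ℤ) :
    sqNorm (x - y) = sqNorm x + sqNorm y - 2 * dotInt x y := by
  unfold sqNorm dotInt
  rw [Finset.mul_sum, ← Finset.sum_add_distrib, ← Finset.sum_sub_distrib]
  apply Finset.sum_congr rfl
  intro i _
  rw [Pi.sub_apply]
  ring

theorem sqNorm_two_nsmul (z : GolayPt → ℤ) : sqNorm (2 • z) = 4 * sqNorm z := by
  unfold sqNorm
  rw [Finset.mul_sum]
  apply Finset.sum_congr rfl
  intro i _
  rw [Pi.smul_apply, nsmul_eq_mul]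
  push_cast
  ring

theorem sqNorm_neg' (x : GolayPt → ℤ) : sqNorm (-x) = sqNorm x := by
  unfold sqNorm
  apply Finset.sum_congr rfl
  intro i _
  rw [Pi.neg_apply]
  ring

theorem sqNorm_eq_zero_iff' (x : GolayPt → ℤ) : sqNorm x = 0 ↔ x = 0 := by
  unfold sqNorm
  rw [Finset.sum_eq_zero_iff_of_nonneg (fun i _ => sq_nonneg (x i))]
  constructor
  · intro h
    funext i
    exact pow_eq_zero_iff (two_ne_zero) |>.mp (h i (Finset.mem_univ i))
  · intro h i _
    rw [h]; simp

theorem short_cong {x y : GolayPt → ℤ} (hx : x ∈ leechLattice) (hy : y ∈ leechLattice)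
    (hxn : sqNorm x ≤ 64) (hyn : sqNorm y ≤ 64) (h : Cong x y) :
    x = y ∨ x = -y ∨ (sqNorm x = 64 ∧ sqNorm y = 64 ∧ dotInt x y = 0) := by
  obtain ⟨z, hz, hxy⟩ := h
  by_cases hz0 : z = 0
  · left
    rw [hz0, smul_zero, sub_eq_zero] at hxy
    exact hxy
  have hz' : z + y ∈ leechLattice := add_mem hz hy
  have hxy' : x + y = 2 • (z + y) := by
    have : x = y + 2 • z := by rw [← hxy]; abel
    rw [this, smul_add, two_smul ℕ y]
    abel
  by_cases hz0' : z + y = 0
  · right; left
    rw [hz0', smul_zero] at hxy'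
    exact eq_neg_of_add_eq_zero_left hxy'
  right; right
  have h1 := leech_min_norm hz hz0
  have h2 := leech_min_norm hz' hz0'
  have h3 := sqNorm_sub_add' x y
  rw [hxy, hxy', sqNorm_two_nsmul, sqNorm_two_nsmul] at h3
  have h4 := sqNorm_sub_m2b x y
  rw [hxy, sqNorm_two_nsmul] at h4
  refine ⟨by omega, by omega, by omega⟩

theorem Cong.symm {x y : GolayPt → ℤ} (h : Cong x y) : Cong y x := by
  obtain ⟨z, hz, hxy⟩ := h
  refine ⟨-z, neg_mem hz, ?_⟩
  rw [smul_neg, ← hxy]
  abel

theorem Cong.trans {x y w : GolayPt → ℤ} (h : Cong x y) (h' : Cong y w) : Cong x w := by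
  obtain ⟨z, hz, hxy⟩ := h
  obtain ⟨z', hz', hyw⟩ := h'
  refine ⟨z + z', add_mem hz hz', ?_⟩
  rw [smul_add, ← hxy, ← hyw]
  abel

/-- Pairwise orthogonal nonzero vectors: at most 24. -/
theorem card_le_of_pairwise_orth {ι : Type*} [Fintype ι] (v : ι → GolayPt → ℤ)
    (h0 : ∀ i, v i ≠ 0) (ho : ∀ i j, i ≠ j → dotInt (v i) (v j) = 0) : Fintype.card ι ≤ 24 := by
  classical
  let V : ι → GolayPt → ℚ := fun i k => (v i k : ℚ)
  have hli : LinearIndependent ℚ V := by
    rw [Fintype.linearIndependent_iff]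
    intro g hg i0
    have h1 : ∑ k, (∑ i, g i • V i) k * V i0 k = 0 := by
      rw [hg]; simp
    have h2 : ∑ k, (∑ i, g i • V i) k * V i0 k = ∑ i, g i * ((dotInt (v i) (v i0) : ℤ) : ℚ) := by
      have : ∀ k, (∑ i, g i • V i) k * V i0 k = ∑ i, g i * (V i k * V i0 k) := by
        intro k
        rw [Finset.sum_apply, Finset.sum_mul]
        apply Finset.sum_congr rfl
        intro i _
        rw [Pi.smul_apply, smul_eq_mul]
        ring
      rw [Finset.sum_congr rfl (fun k _ => this k), Finset.sum_comm]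
      apply Finset.sum_congr rfl
      intro i _
      rw [← Finset.mul_sum]
      congr 1
      unfold dotInt
      push_cast
      rfl
    rw [h2, Finset.sum_eq_single i0] at h1
    · have h3 : ((dotInt (v i0) (v i0) : ℤ) : ℚ) ≠ 0 := by
        have : dotInt (v i0) (v i0) = sqNorm (v i0) := by
          unfold dotInt sqNorm
          exact Finset.sum_congr rfl (fun k _ => by ring)
        rw [this]
        have h4 : sqNorm (v i0) ≠ 0 := fun h => h0 i0 ((sqNorm_eq_zero_iff' _).mp h)
        exact_mod_cast h4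
      exact (mul_eq_zero.mp h1).resolve_right h3
    · intro i _ hi
      rw [ho i i0 hi]; simp
    · intro h; exact absurd (Finset.mem_univ i0) h
  have := hli.fintype_card_le_finrank
  rw [Module.finrank_fintype_fun_eq_card ℚ, card_golayPt] at this
  exact this

/-- The unordered pair `{x, -x}`. -/
def pmPair (x : GolayPt → ℤ) : Finset (GolayPt → ℤ) := {x, -x}

theorem pmPair_eq_iff {x y : GolayPt → ℤ} : pmPair x = pmPair y ↔ x = y ∨ x = -y := by
  unfold pmPair
  constructor
  · intro h
    have : x ∈ ({y, -y} : Finset (GolayPt → ℤ)) := by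
      rw [← h]; exact Finset.mem_insert_self _ _
    rw [Finset.mem_insert, Finset.mem_singleton] at this
    exact this
  · rintro (h | h)
    · rw [h]
    · rw [h, neg_neg, Finset.pair_comm]

theorem card_le_of_orth (F : Finset (GolayPt → ℤ)) (h0 : ∀ x ∈ F, x ≠ 0)
    (h : ∀ x ∈ F, ∀ y ∈ F, x = y ∨ x = -y ∨ dotInt x y = 0) : F.card ≤ 48 := by
  classical
  have h1 : F.card ≤ 2 * (F.image pmPair).card := by
    apply Finset.card_le_mul_card_image
    intro b hb
    rw [Finset.mem_image] at hb
    obtain ⟨x0, hx0, rfl⟩ := hb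
    have : F.filter (fun a => pmPair a = pmPair x0) ⊆ ({x0, -x0} : Finset (GolayPt → ℤ)) := by
      intro a ha
      rw [Finset.mem_filter, pmPair_eq_iff] at ha
      rw [Finset.mem_insert, Finset.mem_singleton]
      exact ha.2
    exact (Finset.card_le_card this).trans Finset.card_le_two
  have h2 : (F.image pmPair).card ≤ 24 := by
    have hex : ∀ P : (F.image pmPair), ∃ x ∈ F, pmPair x = P.1 := by
      intro P
      exact Finset.mem_image.mp P.2
    choose r hr hrP using hex
    have := card_le_of_pairwise_orth r (fun P => h0 _ (hr P)) (by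
      intro P P' hPP'
      rcases h (r P) (hr P) (r P') (hr P') with h3 | h3 | h3
      · exfalso; apply hPP'
        apply Subtype.ext
        rw [← hrP P, ← hrP P', h3]
      · exfalso; apply hPP'
        apply Subtype.ext
        rw [← hrP P, ← hrP P']
        exact pmPair_eq_iff.mpr (Or.inr h3)
      · exact h3)
    rw [Fintype.card_coe] at this
    exact this
  omega

end Cfsg.Agent.Helper27
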