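import Mathlib
import Cfsg.Agent.Lib.Helper27.LeechMod2b
import Cfsg.Prelude.Def_SporadicCombinatorics

set_option autoImplicit false
set_option maxRecDepth 8000
open Cfsg

namespace Cfsg.Agent.Helper27

open Cfsg.Agent.S0394 (FA FB FC S_eq card_FA card_FB card_FC disj_AB disj_ABC)

/-- The minimal vectors. -/
noncomputable def F32 : Finset (GolayPt → ℤ) := FA ∪ FB ∪ FC

theorem card_F32 : F32.card = 196560 := by
  unfold F32
  rw [Finset.card_union_of_disjoint disj_ABC, Finset.card_union_of_disjoint disj_AB, card_FA,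
    card_FB, card_FC]

theorem mem_F32 {x : GolayPt → ℤ} : x ∈ F32 ↔ x ∈ leechLattice ∧ sqNorm x = 32 := by
  have := S_eq
  rw [Set.ext_iff] at this
  have h := this x
  rw [Finset.mem_coe] at h
  exact h.symm

theorem mem_F48' {x : GolayPt → ℤ} : x ∈ F48 ↔ x ∈ leechLattice ∧ sqNorm x = 48 := by
  have := norm48_eq
  rw [Set.ext_iff] at this
  have h := this x
  rw [Finset.mem_coe] at h
  exact h.symm

theorem mem_F64' {x : GolayPt → ℤ} : x ∈ F64 ↔ x ∈ leechLattice ∧ sqNorm x = 64 := by
  have := norm64_eq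
  rw [Set.ext_iff] at this
  have h := this x
  rw [Finset.mem_coe] at h
  exact h.symm

/-- The short vectors. -/
noncomputable def Sh : Finset (GolayPt → ℤ) := {0} ∪ F32 ∪ F48 ∪ F64

theorem sqNorm_zero' : sqNorm (0 : GolayPt → ℤ) = 0 := (sqNorm_eq_zero_iff' 0).mpr rfl

theorem mem_Sh {x : GolayPt → ℤ} : x ∈ Sh ↔ x ∈ leechLattice ∧
    (sqNorm x = 0 ∨ sqNorm x = 32 ∨ sqNorm x = 48 ∨ sqNorm x = 64) := by
  unfold Sh
  rw [Finset.mem_union, Finset.mem_union, Finset.mem_union, Finset.mem_singleton, mem_F32,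
    mem_F48', mem_F64']
  constructor
  · rintro (((h | h) | h) | h)
    · rw [h]; exact ⟨zero_mem _, Or.inl sqNorm_zero'⟩
    · exact ⟨h.1, Or.inr (Or.inl h.2)⟩
    · exact ⟨h.1, Or.inr (Or.inr (Or.inl h.2))⟩
    · exact ⟨h.1, Or.inr (Or.inr (Or.inr h.2))⟩
  · rintro ⟨h1, h | h | h | h⟩
    · left; left; left; exact (sqNorm_eq_zero_iff' x).mp h
    · left; left; right; exact ⟨h1, h⟩
    · left; right; exact ⟨h1, h⟩
    · right; exact ⟨h1, h⟩

/-- The weights `48, 24, 24, 1`. -/
def wt (x : GolayPt → ℤ) : ℕ := if sqNorm x = 0 then 48 else if sqNorm x = 64 then 1 else 24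

theorem sum_wt : ∑ x ∈ Sh, wt x = 48 * 2 ^ 24 := by
  unfold Sh
  rw [Finset.sum_union, Finset.sum_union, Finset.sum_union, Finset.sum_singleton]
  · have h0 : wt 0 = 48 := by unfold wt; rw [if_pos sqNorm_zero']
    have h1 : ∑ x ∈ F32, wt x = 24 * 196560 := by
      rw [Finset.sum_congr rfl (g := fun _ => 24)]
      · rw [Finset.sum_const, card_F32, smul_eq_mul, mul_comm]
      · intro x hx
        have := (mem_F32.mp hx).2
        unfold wt
        rw [this]; norm_num
    have h2 : ∑ x ∈ F48, wt x = 24 * 16773120 := by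
      rw [Finset.sum_congr rfl (g := fun _ => 24)]
      · rw [Finset.sum_const, card_F48, smul_eq_mul, mul_comm]
      · intro x hx
        have := (mem_F48'.mp hx).2
        unfold wt
        rw [this]; norm_num
    have h3 : ∑ x ∈ F64, wt x = 398034000 := by
      rw [Finset.sum_congr rfl (g := fun _ => 1)]
      · rw [Finset.sum_const, card_F64, smul_eq_mul, mul_one]
      · intro x hx
        have := (mem_F64'.mp hx).2
        unfold wt
        rw [this]; norm_num
    rw [h0, h1, h2, h3]
    norm_num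
  · rw [Finset.disjoint_left]
    intro x hx hx'
    rw [Finset.mem_singleton] at hx
    have := (mem_F32.mp hx').2
    rw [hx, sqNorm_zero'] at this
    norm_num at this
  · rw [Finset.disjoint_left]
    intro x hx hx'
    have h48 := (mem_F48'.mp hx').2
    rw [Finset.mem_union, Finset.mem_singleton] at hx
    rcases hx with hx | hx
    · rw [hx, sqNorm_zero'] at h48
      norm_num at h48
    · have := (mem_F32.mp hx).2
      omega
  · rw [Finset.disjoint_left]
    intro x hx hx'
    have h64 := (mem_F64'.mp hx').2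
    rw [Finset.mem_union, Finset.mem_union, Finset.mem_singleton] at hx
    rcases hx with (hx | hx) | hx
    · rw [hx, sqNorm_zero'] at h64
      norm_num at h64
    · have := (mem_F32.mp hx).2
      omega
    · have := (mem_F48'.mp hx).2
      omega

/-- The lattice modulo twice the lattice. -/
abbrev Q2 : Type := leechLattice ⧸ (twoL.addSubgroupOf leechLattice)

theorem card_Q2 : Nat.card Q2 = 2 ^ 24 := relIndex_twoL

theorem finite_Q2 : Finite Q2 := by
  apply Nat.finite_of_card_ne_zero
  rw [card_Q2]; positivity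

noncomputable instance instFintypeQ2 : Fintype Q2 := @Fintype.ofFinite _ finite_Q2

theorem fintype_card_Q2 : Fintype.card Q2 = 2 ^ 24 := by
  rw [← Nat.card_eq_fintype_card, card_Q2]

open Classical in
/-- The class of a lattice vector. -/
noncomputable def cls (x : GolayPt → ℤ) : Q2 :=
  if hx : x ∈ leechLattice then (QuotientAddGroup.mk ⟨x, hx⟩ : Q2) else 0

theorem cls_eq_iff {x y : GolayPt → ℤ} (hx : x ∈ leechLattice) (hy : y ∈ leechLattice) :
    cls x = cls y ↔ Cong x y := by
  unfold cls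
  rw [dif_pos hx, dif_pos hy, QuotientAddGroup.eq, AddSubgroup.mem_addSubgroupOf]
  simp only [AddSubgroup.coe_add, NegMemClass.coe_neg]
  rw [mem_twoL]
  constructor
  · rintro ⟨z, hz, h⟩
    refine ⟨-z, neg_mem hz, ?_⟩
    rw [smul_neg, ← h]
    abel
  · rintro ⟨z, hz, h⟩
    refine ⟨-z, neg_mem hz, ?_⟩
    rw [smul_neg, ← h]
    abel

open Classical in
theorem fiber_wt_le (c : Q2) : ∑ x ∈ Sh.filter (fun x => cls x = c), wt x ≤ 48 := by
  classical
  set Fc := Sh.filter (fun x => cls x = c) with hFc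
  rcases Fc.eq_empty_or_nonempty with h | ⟨x0, hx0⟩
  · rw [h]; simp
  have hmem : ∀ y ∈ Fc, y ∈ leechLattice ∧ sqNorm y ≤ 64 ∧ cls y = c := by
    intro y hy
    rw [hFc, Finset.mem_filter, mem_Sh] at hy
    refine ⟨hy.1.1, ?_, hy.2⟩
    rcases hy.1.2 with h | h | h | h <;> rw [h] <;> norm_num
  have hpair : ∀ y ∈ Fc, ∀ y' ∈ Fc, y = y' ∨ y = -y' ∨
      (sqNorm y = 64 ∧ sqNorm y' = 64 ∧ dotInt y y' = 0) := by
    intro y hy y' hy'
    obtain ⟨h1, h2, h3⟩ := hmem y hy
    obtain ⟨h1', h2', h3'⟩ := hmem y' hy'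
    exact short_cong h1 h1' h2 h2' ((cls_eq_iff h1 h1').mp (h3.trans h3'.symm))
  by_cases h64 : sqNorm x0 = 64
  · have hall : ∀ y ∈ Fc, sqNorm y = 64 := by
      intro y hy
      rcases hpair y hy x0 hx0 with h | h | h
      · rw [h]; exact h64
      · rw [h, sqNorm_neg']; exact h64
      · exact h.1
    have hsum : ∑ x ∈ Fc, wt x = Fc.card := by
      rw [Finset.sum_congr rfl (g := fun _ => 1)]
      · simp
      · intro y hy
        unfold wt
        rw [hall y hy]; norm_num
    rw [hsum]
    apply card_le_of_orth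
    · intro y hy h0
      have := hall y hy
      rw [h0, sqNorm_zero'] at this
      norm_num at this
    · intro y hy y' hy'
      rcases hpair y hy y' hy' with h | h | h
      · exact Or.inl h
      · exact Or.inr (Or.inl h)
      · exact Or.inr (Or.inr h.2.2)
  · have hsub : Fc ⊆ ({x0, -x0} : Finset (GolayPt → ℤ)) := by
      intro y hy
      rw [Finset.mem_insert, Finset.mem_singleton]
      rcases hpair y hy x0 hx0 with h | h | h
      · exact Or.inl h
      · exact Or.inr h
      · exact absurd h.2.1 h64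
    refine (Finset.sum_le_sum_of_subset hsub).trans ?_
    by_cases h0 : x0 = 0
    · rw [h0, neg_zero, Finset.pair_eq_singleton, Finset.sum_singleton]
      unfold wt
      rw [if_pos sqNorm_zero']
    · have hw : ∀ y ∈ ({x0, -x0} : Finset (GolayPt → ℤ)), wt y ≤ 24 := by
        intro y hy
        rw [Finset.mem_insert, Finset.mem_singleton] at hy
        have hn : sqNorm y = sqNorm x0 := by
          rcases hy with h | h
          · rw [h]
          · rw [h, sqNorm_neg']
        have hn0 : sqNorm x0 ≠ 0 := fun h => h0 ((sqNorm_eq_zero_iff' x0).mp h)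
        unfold wt
        rw [hn, if_neg hn0, if_neg h64]
      have h2 : ({x0, -x0} : Finset (GolayPt → ℤ)).card ≤ 2 := Finset.card_le_two
      refine (Finset.sum_le_card_nsmul _ _ 24 hw).trans ?_
      rw [smul_eq_mul]
      omega

open Classical in
theorem fiber_wt_eq (c : Q2) : ∑ x ∈ Sh.filter (fun x => cls x = c), wt x = 48 := by
  classical
  have h1 := Finset.sum_fiberwise Sh cls wt
  rw [sum_wt] at h1
  have h2 : ∑ _c : Q2, 48 = 48 * 2 ^ 24 := by
    rw [Finset.sum_const, Finset.card_univ, fintype_card_Q2, smul_eq_mul, mul_comm]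
  have h3 := (Finset.sum_eq_sum_iff_of_le (s := (Finset.univ : Finset Q2))
    (f := fun c => ∑ x ∈ Sh.filter (fun x => cls x = c), wt x) (g := fun _ => 48)
    (fun c _ => fiber_wt_le c)).mp (by rw [h2]; exact h1)
  exact h3 c (Finset.mem_univ c)

open Classical in
theorem exists_short_rep {x : GolayPt → ℤ} (hx : x ∈ leechLattice) :
    ∃ y ∈ leechLattice, sqNorm y ≤ 64 ∧ Cong x y := by
  have h1 := fiber_wt_eq (cls x)
  have hne : (Sh.filter (fun y => cls y = cls x)).Nonempty := by
    rw [Finset.nonempty_iff_ne_empty]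
    intro h
    rw [h, Finset.sum_empty] at h1
    norm_num at h1
  obtain ⟨y, hy⟩ := hne
  rw [Finset.mem_filter, mem_Sh] at hy
  refine ⟨y, hy.1.1, ?_, ((cls_eq_iff hy.1.1 hx).mp hy.2).symm⟩
  rcases hy.1.2 with h | h | h | h <;> rw [h] <;> norm_num

open Classical in
theorem fiber64_norm {x : GolayPt → ℤ} (hx : x ∈ leechLattice) (hn : sqNorm x = 64)
    {y : GolayPt → ℤ} (hy : y ∈ Sh.filter (fun y => cls y = cls x)) : sqNorm y = 64 := by
  rw [Finset.mem_filter, mem_Sh] at hy
  have hyn : sqNorm y ≤ 64 := by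
    rcases hy.1.2 with h | h | h | h <;> rw [h] <;> norm_num
  rcases short_cong hy.1.1 hx hyn (le_of_eq hn) ((cls_eq_iff hy.1.1 hx).mp hy.2) with h | h | h
  · rw [h]; exact hn
  · rw [h, sqNorm_neg']; exact hn
  · exact h.1

open Classical in
theorem card_fiber64 {x : GolayPt → ℤ} (hx : x ∈ leechLattice) (hn : sqNorm x = 64) :
    (Sh.filter (fun y => cls y = cls x)).card = 48 := by
  have h1 := fiber_wt_eq (cls x)
  rw [Finset.sum_congr rfl (g := fun _ => 1)] at h1
  · simpa using h1
  · intro y hy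
    unfold wt
    rw [fiber64_norm hx hn hy]; norm_num

open Classical in
theorem cross_eq {x : GolayPt → ℤ} (hx : x ∈ leechLattice) (hn : sqNorm x = 64) :
    cross x = ↑(Sh.filter (fun y => cls y = cls x)) := by
  ext y
  rw [Finset.mem_coe, Finset.mem_filter, mem_Sh]
  unfold cross
  rw [Set.mem_setOf_eq]
  constructor
  · rintro ⟨h1, h2, h3⟩
    rw [hn] at h2
    refine ⟨⟨h1, Or.inr (Or.inr (Or.inr h2))⟩, ?_⟩
    exact (cls_eq_iff h1 hx).mpr (Cong.symm h3)
  · rintro ⟨⟨h1, h2⟩, h3⟩
    have h4 : y ∈ Sh.filter (fun y => cls y = cls x) := by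
      rw [Finset.mem_filter, mem_Sh]; exact ⟨⟨h1, h2⟩, h3⟩
    refine ⟨h1, ?_, ((cls_eq_iff h1 hx).mp h3).symm⟩
    rw [fiber64_norm hx hn h4, hn]

end Cfsg.Agent.Helper27
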