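import Mathlib
import Cfsg.Agent.Lib.Helper27.LeechChar
import Cfsg.Agent.Lib.Helper29.GolayCount

set_option autoImplicit false
open Cfsg

/-! A non-monomial automorphism of the lattice, attached to a partition of the 24 points into six
tetrads any two of which form the support of a code word. -/

namespace Cfsg.Agent.Helper27

open Cfsg.Agent.S0358 (idx)

/-- The tetrad number of each point. -/
def tetTab : List ℕ := [0, 0, 0, 2, 1, 2, 3, 3, 5, 4, 4, 5, 5, 1, 2, 4, 1, 2, 5, 3, 4, 3, 1, 0]

/-- The tetrad containing a point. -/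
def tetIdx (p : GolayPt) : Fin 6 := ⟨tetTab.getD (idx p) 0 % 6, Nat.mod_lt _ (by norm_num)⟩

/-- Sum of the coordinates over a tetrad. -/
def tsum (x : GolayPt → ℤ) (k : Fin 6) : ℤ := ∑ i, if tetIdx i = k then x i else 0

theorem sum_tsum (x : GolayPt → ℤ) : ∑ k, tsum x k = ∑ i, x i := by
  unfold tsum
  rw [Finset.sum_comm]
  apply Finset.sum_congr rfl
  intro i _
  rw [Finset.sum_ite_eq]
  simp

theorem card_tet : ∀ k : Fin 6, (Finset.univ.filter (fun i => tetIdx i = k)).card = 4 := by
  decide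

theorem tsum_const (m : ℤ) (k : Fin 6) : tsum (fun _ => m) k = 4 * m := by
  unfold tsum
  rw [← Finset.sum_filter, Finset.sum_const, card_tet k]
  simp

theorem tsum_add (x y : GolayPt → ℤ) (k : Fin 6) : tsum (x + y) k = tsum x k + tsum y k := by
  unfold tsum
  rw [← Finset.sum_add_distrib]
  apply Finset.sum_congr rfl
  intro i _
  rw [Pi.add_apply]
  split_ifs <;> ring

theorem tsum_mul (c : ℤ) (x : GolayPt → ℤ) (k : Fin 6) :
    tsum (fun i => c * x i) k = c * tsum x k := by
  unfold tsum
  rw [Finset.mul_sum]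
  apply Finset.sum_congr rfl
  intro i _
  split_ifs <;> ring

/-- Weighted sums regroup by tetrads. -/
theorem tsum_weight (g : Fin 6 → ℤ) (x : GolayPt → ℤ) (k : Fin 6) :
    tsum (fun i => g (tetIdx i) * x i) k = g k * tsum x k := by
  unfold tsum
  rw [Finset.mul_sum]
  apply Finset.sum_congr rfl
  intro i _
  by_cases h : tetIdx i = k
  · rw [if_pos h, if_pos h]
    beta_reduce
    rw [h]
  · rw [if_neg h, if_neg h, mul_zero]

theorem tsum_form {x a : GolayPt → ℤ} {m : ℤ} (hx : ∀ i, x i = m + 2 * a i) (k : Fin 6) :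
    tsum x k = 4 * m + 2 * tsum a k := by
  have : x = (fun _ => m) + (fun i => 2 * a i) := by
    funext i; rw [Pi.add_apply]; exact hx i
  rw [this, tsum_add, tsum_const, tsum_mul]

/-- Subtracting half the tetrad sum. -/
def eta (x : GolayPt → ℤ) : GolayPt → ℤ := fun i => x i - tsum x (tetIdx i) / 2

/-- The sign that is negative on the first tetrad. -/
def sgnK (k : Fin 6) : ℤ := if k = 0 then -1 else 1

theorem sgnK_mul_self (k : Fin 6) : sgnK k * sgnK k = 1 := by
  unfold sgnK; split_ifs <;> norm_num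

/-- The non-monomial map. -/
def xi (x : GolayPt → ℤ) : GolayPt → ℤ := fun i => sgnK (tetIdx i) * eta x i

/-- All tetrad sums are even. -/
def TEven (x : GolayPt → ℤ) : Prop := ∀ k, (2 : ℤ) ∣ tsum x k

theorem TEven.add {x y : GolayPt → ℤ} (hx : TEven x) (hy : TEven y) : TEven (x + y) := by
  intro k
  rw [tsum_add]
  exact dvd_add (hx k) (hy k)

theorem tsum_eta {x : GolayPt → ℤ} (hx : TEven x) (k : Fin 6) : tsum (eta x) k = -tsum x k := by
  have h1 : eta x = x + (fun i => (-(tsum x (tetIdx i) / 2)) * (fun _ => (1 : ℤ)) i) := by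
    funext i
    rw [Pi.add_apply]
    unfold eta
    ring
  rw [h1, tsum_add, tsum_weight (fun k => -(tsum x k / 2)), tsum_const]
  obtain ⟨r, hr⟩ := hx k
  rw [hr]
  rw [Int.mul_ediv_cancel_left _ (by norm_num : (2 : ℤ) ≠ 0)]
  ring

theorem tsum_xi {x : GolayPt → ℤ} (hx : TEven x) (k : Fin 6) :
    tsum (xi x) k = -(sgnK k * tsum x k) := by
  have : xi x = fun i => sgnK (tetIdx i) * eta x i := rfl
  rw [this, tsum_weight sgnK, tsum_eta hx]
  ring

theorem TEven.xi {x : GolayPt → ℤ} (hx : TEven x) : TEven (xi x) := by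
  intro k
  rw [tsum_xi hx]
  exact (dvd_neg).mpr (Dvd.dvd.mul_left (hx k) _)

theorem xi_xi {x : GolayPt → ℤ} (hx : TEven x) : xi (xi x) = x := by
  funext i
  show sgnK (tetIdx i) * (xi x i - tsum (xi x) (tetIdx i) / 2) = x i
  rw [tsum_xi hx]
  show sgnK (tetIdx i) * (sgnK (tetIdx i) * (x i - tsum x (tetIdx i) / 2) -
    -(sgnK (tetIdx i) * tsum x (tetIdx i)) / 2) = x i
  obtain ⟨r, hr⟩ := hx (tetIdx i)
  rw [hr]
  have e1 : -(sgnK (tetIdx i) * (2 * r)) = 2 * (-(sgnK (tetIdx i) * r)) := by ring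
  rw [e1, Int.mul_ediv_cancel_left _ (by norm_num : (2 : ℤ) ≠ 0),
    Int.mul_ediv_cancel_left _ (by norm_num : (2 : ℤ) ≠ 0)]
  have := sgnK_mul_self (tetIdx i)
  linear_combination (x i) * this

theorem xi_add {x y : GolayPt → ℤ} (hx : TEven x) (hy : TEven y) : xi (x + y) = xi x + xi y := by
  funext i
  show sgnK (tetIdx i) * ((x + y) i - tsum (x + y) (tetIdx i) / 2) =
    sgnK (tetIdx i) * (x i - tsum x (tetIdx i) / 2) + sgnK (tetIdx i) * (y i - tsum y (tetIdx i) / 2)
  rw [tsum_add, Pi.add_apply]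
  obtain ⟨r, hr⟩ := hx (tetIdx i)
  obtain ⟨s, hs⟩ := hy (tetIdx i)
  rw [hr, hs]
  have e1 : 2 * r + 2 * s = 2 * (r + s) := by ring
  rw [e1, Int.mul_ediv_cancel_left _ (by norm_num : (2 : ℤ) ≠ 0),
    Int.mul_ediv_cancel_left _ (by norm_num : (2 : ℤ) ≠ 0),
    Int.mul_ediv_cancel_left _ (by norm_num : (2 : ℤ) ≠ 0)]
  ring

theorem sqNorm_xi {x : GolayPt → ℤ} (hx : TEven x) : sqNorm (xi x) = sqNorm x := by
  choose h hh using hx
  have h1 : ∀ i, xi x i ^ 2 = x i ^ 2 - 2 * (h (tetIdx i) * x i) +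
      (fun k => h k ^ 2) (tetIdx i) * (fun _ => (1 : ℤ)) i := by
    intro i
    show (sgnK (tetIdx i) * (x i - tsum x (tetIdx i) / 2)) ^ 2 = _
    rw [hh (tetIdx i), Int.mul_ediv_cancel_left _ (by norm_num : (2 : ℤ) ≠ 0)]
    have := sgnK_mul_self (tetIdx i)
    linear_combination (x i - h (tetIdx i)) ^ 2 * this
  unfold sqNorm
  rw [Finset.sum_congr rfl (fun i _ => h1 i), Finset.sum_add_distrib, Finset.sum_sub_distrib,
    ← Finset.mul_sum]
  rw [← sum_tsum (fun i => h (tetIdx i) * x i),
    ← sum_tsum (fun i => (fun k => h k ^ 2) (tetIdx i) * (fun _ => (1 : ℤ)) i)]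
  have e1 : ∀ k, tsum (fun i => h (tetIdx i) * x i) k = h k * (2 * h k) := by
    intro k
    rw [tsum_weight h, hh k]
  have e2 : ∀ k, tsum (fun i => (fun k => h k ^ 2) (tetIdx i) * (fun _ => (1 : ℤ)) i) k =
      h k ^ 2 * 4 := by
    intro k
    rw [tsum_weight (fun k => h k ^ 2), tsum_const]
    ring
  rw [Finset.sum_congr rfl (fun k _ => e1 k), Finset.sum_congr rfl (fun k _ => e2 k)]
  have e3 : ∑ k : Fin 6, h k ^ 2 * 4 = 2 * ∑ k : Fin 6, h k * (2 * h k) := by
    rw [Finset.mul_sum]
    exact Finset.sum_congr rfl (fun k _ => by ring)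
  rw [e3]
  ring

/-- The word supported on the first tetrad and the `k`-th one. -/
def octW (k : Fin 6) : GolayPt → ZMod 2 := fun i => if tetIdx i = 0 ∨ tetIdx i = k then 1 else 0

/-- Indices of the five octads through the first tetrad in the list of code words. -/
def octN (k : Fin 6) : ℕ := [0, 3474, 2503, 2357, 3374, 2126].getD k.val 0

theorem octW_eq : ∀ k : Fin 6, k ≠ 0 → ∀ p : GolayPt, octW k p = ofMask (cw (octN k)) p := by
  decide

theorem octW_mem {k : Fin 6} (hk : k ≠ 0) : octW k ∈ golayCode := by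
  have : octW k = ofMask (cw (octN k)) := funext (octW_eq k hk)
  rw [this]
  exact Cfsg.Agent.Helper29.cw_mem _

theorem tsum_pair_even {a : GolayPt → ℤ} (ha : red2 a ∈ golayCode) (k : Fin 6) :
    (2 : ℤ) ∣ tsum a 0 + tsum a k := by
  by_cases hk : k = 0
  · rw [hk]; exact ⟨tsum a 0, by ring⟩
  · have h := even_sum_on_codeword ha (octW_mem hk)
    have e : ∑ i, (if octW k i ≠ 0 then a i else 0) = tsum a 0 + tsum a k := by
      unfold tsum
      rw [← Finset.sum_add_distrib]
      apply Finset.sum_congr rfl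
      intro i _
      unfold octW
      have one_ne : (1 : ZMod 2) ≠ 0 := by decide
      by_cases h0 : tetIdx i = 0
      · have hk' : tetIdx i ≠ k := fun h => hk (h ▸ h0)
        rw [if_pos (Or.inl h0), if_pos one_ne, if_pos h0, if_neg hk', add_zero]
      · by_cases hk' : tetIdx i = k
        · rw [if_pos (Or.inr hk'), if_pos one_ne, if_neg h0, if_pos hk', zero_add]
        · rw [if_neg (not_or.mpr ⟨h0, hk'⟩), if_neg (not_not.mpr rfl), if_neg h0, if_neg hk',
            add_zero]
    rw [e] at h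
    exact h

theorem tEven_of_mem {x : GolayPt → ℤ} (hx : x ∈ leechLattice) : TEven x := by
  obtain ⟨m, a, ha, -, -⟩ := leechForm_of_mem hx
  intro k
  rw [tsum_form ha]
  exact ⟨2 * m + tsum a k, by ring⟩

theorem xi_mem {x : GolayPt → ℤ} (hx : x ∈ leechLattice) : xi x ∈ leechLattice := by
  obtain ⟨m, a, ha, hc, hs⟩ := leechForm_of_mem hx
  have hpar := tsum_pair_even hc
  choose B hB using hpar
  rw [mem_leechLattice_iff]
  refine ⟨m + tsum a 0, fun i => if tetIdx i = 0 then -a i else a i - m - B (tetIdx i), ?_, ?_, ?_⟩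
  · intro i
    show sgnK (tetIdx i) * (x i - tsum x (tetIdx i) / 2) = _
    rw [tsum_form ha, ha i]
    have e1 : 4 * m + 2 * tsum a (tetIdx i) = 2 * (2 * m + tsum a (tetIdx i)) := by ring
    rw [e1, Int.mul_ediv_cancel_left _ (by norm_num : (2 : ℤ) ≠ 0)]
    unfold sgnK
    beta_reduce
    by_cases h0 : tetIdx i = 0
    · rw [if_pos h0, if_pos h0, h0]; ring
    · rw [if_neg h0, if_neg h0]
      have := hB (tetIdx i)
      linear_combination (-1 : ℤ) * this
  · -- the reduction is a code word
    set δ : Fin 6 → ZMod 2 := fun k => if k = 0 then 0 else ((m + B k : ℤ) : ZMod 2) with hδ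
    have hsum : ∑ k, δ k = 0 := by
      have h1 : ∑ k, δ k = ((∑ k : Fin 6, (if k = 0 then 0 else m + B k) : ℤ) : ZMod 2) := by
        push_cast
        apply Finset.sum_congr rfl
        intro k _
        rw [hδ]
        beta_reduce
        split_ifs <;> simp
      rw [h1, ZMod.intCast_zmod_eq_zero_iff_dvd]
      have h2 := sum_tsum a
      rw [Fin.sum_univ_six] at h2 ⊢
      have b1 := hB 1
      have b2 := hB 2
      have b3 := hB 3
      have b4 := hB 4
      have b5 := hB 5
      obtain ⟨r, hr⟩ := hs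
      simp only [Fin.isValue, ↓reduceIte, one_ne_zero,
        show (2 : Fin 6) ≠ 0 by decide, show (3 : Fin 6) ≠ 0 by decide,
        show (4 : Fin 6) ≠ 0 by decide, show (5 : Fin 6) ≠ 0 by decide]
      push_cast
      omega
    have hv : (fun i => ∑ k, δ k * octW k i) ∈ golayCode := by
      have : (fun i => ∑ k, δ k * octW k i) = ∑ k, δ k • octW k := by
        funext i
        rw [Finset.sum_apply]
        rfl
      rw [this]
      apply Submodule.sum_mem
      intro k _
      by_cases hk : k = 0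
      · rw [hδ]; beta_reduce; rw [if_pos hk, zero_smul]; exact zero_mem _
      · exact Submodule.smul_mem _ _ (octW_mem hk)
    have hveq : ∀ i, ∑ k, δ k * octW k i = if tetIdx i = 0 then 0 else δ (tetIdx i) := by
      intro i
      unfold octW
      by_cases h0 : tetIdx i = 0
      · rw [if_pos h0]
        rw [Finset.sum_congr rfl (g := δ)]
        · exact hsum
        · intro k _
          rw [if_pos (Or.inl h0), mul_one]
      · rw [if_neg h0]
        rw [Finset.sum_congr rfl (g := fun k => if tetIdx i = k then δ k else 0)]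
        · rw [Finset.sum_ite_eq]
          simp
        · intro k _
          by_cases hk : tetIdx i = k
          · rw [if_pos (Or.inr hk), if_pos hk, mul_one]
          · rw [if_neg (by tauto), if_neg hk, mul_zero]
    have hred : red2 (fun i => if tetIdx i = 0 then -a i else a i - m - B (tetIdx i)) =
        red2 a + fun i => ∑ k, δ k * octW k i := by
      funext i
      rw [Pi.add_apply, hveq i]
      unfold red2
      beta_reduce
      by_cases h0 : tetIdx i = 0
      · rw [if_pos h0, if_pos h0, add_zero]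
        push_cast
        have : ∀ t : ZMod 2, -t = t := by decide
        exact this _
      · rw [if_neg h0, if_neg h0, hδ]
        beta_reduce
        rw [if_neg h0]
        push_cast
        have : ∀ s t u : ZMod 2, s - t - u = s + (t + u) := by decide
        exact this _ _ _
    rw [hred]
    exact add_mem hc hv
  · -- the sum condition
    rw [← sum_tsum]
    have e : ∀ k, tsum (fun i => if tetIdx i = 0 then -a i else a i - m - B (tetIdx i)) k =
        if k = 0 then -tsum a 0 else tsum a k - 4 * m - 4 * B k := by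
      intro k
      have e1 : (fun i => if tetIdx i = 0 then -a i else a i - m - B (tetIdx i)) =
          (fun i => (fun k => if k = 0 then (-1 : ℤ) else 1) (tetIdx i) * a i) +
          (fun i => (fun k => if k = 0 then (0 : ℤ) else -m - B k) (tetIdx i) *
            (fun _ => (1 : ℤ)) i) := by
        funext i
        rw [Pi.add_apply]
        beta_reduce
        split_ifs <;> ring
      rw [e1, tsum_add, tsum_weight (fun k => if k = 0 then (-1 : ℤ) else 1) a k,
        tsum_weight (fun k => if k = 0 then (0 : ℤ) else -m - B k) (fun _ => (1 : ℤ)) k, tsum_const]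
      split_ifs with hk
      · rw [hk]; ring
      · ring
    rw [Finset.sum_congr rfl (fun k _ => e k)]
    have h2 := sum_tsum a
    rw [Fin.sum_univ_six] at h2 ⊢
    have b1 := hB 1
    have b2 := hB 2
    have b3 := hB 3
    have b4 := hB 4
    have b5 := hB 5
    obtain ⟨r, hr⟩ := hs
    simp only [Fin.isValue, ↓reduceIte, one_ne_zero,
      show (2 : Fin 6) ≠ 0 by decide, show (3 : Fin 6) ≠ 0 by decide,
      show (4 : Fin 6) ≠ 0 by decide, show (5 : Fin 6) ≠ 0 by decide]
    omega

/-- A permutation of the lattice from a map that is only well behaved on the lattice. -/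
def mkPermOn (f f' : (GolayPt → ℤ) → (GolayPt → ℤ))
    (hf : ∀ x ∈ leechLattice, f x ∈ leechLattice)
    (hf' : ∀ x ∈ leechLattice, f' x ∈ leechLattice)
    (h1 : ∀ x ∈ leechLattice, f' (f x) = x) (h2 : ∀ x ∈ leechLattice, f (f' x) = x) :
    Equiv.Perm leechLattice where
  toFun v := ⟨f v.1, hf v.1 v.2⟩
  invFun v := ⟨f' v.1, hf' v.1 v.2⟩
  left_inv v := Subtype.ext (h1 v.1 v.2)
  right_inv v := Subtype.ext (h2 v.1 v.2)

theorem mkPermOn_mem (f f' : (GolayPt → ℤ) → (GolayPt → ℤ))
    (hf : ∀ x ∈ leechLattice, f x ∈ leechLattice)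
    (hf' : ∀ x ∈ leechLattice, f' x ∈ leechLattice)
    (h1 : ∀ x ∈ leechLattice, f' (f x) = x) (h2 : ∀ x ∈ leechLattice, f (f' x) = x)
    (hadd : ∀ x ∈ leechLattice, ∀ y ∈ leechLattice, f (x + y) = f x + f y)
    (hn : ∀ x ∈ leechLattice, sqNorm (f x) = sqNorm x) :
    mkPermOn f f' hf hf' h1 h2 ∈ Co0 := by
  constructor
  · intro v w
    apply Subtype.ext
    exact hadd v.1 v.2 w.1 w.2
  · intro v
    exact hn v.1 v.2

/-- The non-monomial automorphism. -/
def xiP : Equiv.Perm leechLattice :=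
  mkPermOn xi xi (fun _ hx => xi_mem hx) (fun _ hx => xi_mem hx)
    (fun _ hx => xi_xi (tEven_of_mem hx)) (fun _ hx => xi_xi (tEven_of_mem hx))

theorem xiP_mem : xiP ∈ Co0 :=
  mkPermOn_mem _ _ _ _ _ _ (fun _ hx _ hy => xi_add (tEven_of_mem hx) (tEven_of_mem hy))
    (fun _ hx => sqNorm_xi (tEven_of_mem hx))

theorem xiP_apply (v : leechLattice) : ((xiP v : leechLattice) : GolayPt → ℤ) = xi v.1 := rfl

end Cfsg.Agent.Helper27
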