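import Mathlib
import Cfsg.Prelude.Def_Spor_Conway
import Cfsg.Agent.Lib.Helper27.Leech

set_option autoImplicit false
open Cfsg

/-! Automorphisms of the rank-24 lattice: additivity, preservation of inner products, and
rigidity (an automorphism fixing the vectors `4 e_i ± 4 e_j` is the identity). -/

namespace Cfsg.Agent.Helper27

/-- An element of `Co0` as an additive homomorphism. -/
def co0Hom (g : Equiv.Perm leechLattice) (hg : g ∈ Co0) : leechLattice →+ leechLattice where
  toFun := g
  map_zero' := by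
    have := hg.1 0 0
    rw [add_zero] at this
    exact left_eq_add.mp this
  map_add' := hg.1

theorem co0Hom_apply (g : Equiv.Perm leechLattice) (hg : g ∈ Co0) (v : leechLattice) :
    co0Hom g hg v = g v := rfl

theorem co0_zsmul {g : Equiv.Perm leechLattice} (hg : g ∈ Co0) (n : ℤ) (v : leechLattice) :
    g (n • v) = n • g v := map_zsmul (co0Hom g hg) n v

theorem co0_sum {g : Equiv.Perm leechLattice} (hg : g ∈ Co0) {ι : Type*} (s : Finset ι)
    (f : ι → leechLattice) : g (∑ i ∈ s, f i) = ∑ i ∈ s, g (f i) := map_sum (co0Hom g hg) f s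

theorem co0_add {g : Equiv.Perm leechLattice} (hg : g ∈ Co0) (v w : leechLattice) :
    g (v + w) = g v + g w := hg.1 v w

theorem co0_sqNorm {g : Equiv.Perm leechLattice} (hg : g ∈ Co0) (v : leechLattice) :
    sqNorm ((g v : leechLattice) : GolayPt → ℤ) = sqNorm (v : GolayPt → ℤ) := hg.2 v

theorem sqNorm_add (v w : GolayPt → ℤ) :
    sqNorm (v + w) = sqNorm v + sqNorm w + 2 * dotInt v w := by
  unfold sqNorm dotInt
  rw [Finset.mul_sum, ← Finset.sum_add_distrib, ← Finset.sum_add_distrib]
  exact Finset.sum_congr rfl (fun i _ => by rw [Pi.add_apply]; ring)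

theorem sqNorm_sub' (v w : GolayPt → ℤ) :
    sqNorm (v - w) = sqNorm v + sqNorm w - 2 * dotInt v w := by
  unfold sqNorm dotInt
  rw [Finset.mul_sum, ← Finset.sum_add_distrib, ← Finset.sum_sub_distrib]
  exact Finset.sum_congr rfl (fun i _ => by rw [Pi.sub_apply]; ring)

/-- Automorphisms preserve inner products. -/
theorem co0_dotInt {g : Equiv.Perm leechLattice} (hg : g ∈ Co0) (v w : leechLattice) :
    dotInt ((g v : leechLattice) : GolayPt → ℤ) ((g w : leechLattice) : GolayPt → ℤ)
      = dotInt (v : GolayPt → ℤ) (w : GolayPt → ℤ) := by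
  have h1 := co0_sqNorm hg (v + w)
  rw [co0_add hg] at h1
  simp only [AddSubgroup.coe_add] at h1
  rw [sqNorm_add, sqNorm_add, co0_sqNorm hg, co0_sqNorm hg] at h1
  linarith

/-- The vector `8 e_j`. -/
def vec8 (j : GolayPt) : GolayPt → ℤ := fun i => if i = j then 8 else 0

theorem sum_vec8 (j : GolayPt) : ∑ i, vec8 j i = 8 := by
  unfold vec8
  rw [Finset.sum_ite_eq' Finset.univ j]
  simp

theorem vec8_mem (j : GolayPt) : vec8 j ∈ leechLattice := by
  apply AddSubgroup.subset_closure
  refine Spor.mem_leechSet_of_const_mod_four (vec8 j) 0 0 (by decide) ?_ ?_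
  · intro i
    unfold vec8
    split_ifs <;> decide
  · rw [sum_vec8]; decide

/-- `8 e_j` as a lattice vector. -/
def e8 (j : GolayPt) : leechLattice := ⟨vec8 j, vec8_mem j⟩

/-- `8 v = ∑ v_j (8 e_j)` in the lattice. -/
theorem eight_smul_eq_sum (v : leechLattice) :
    (8 : ℤ) • v = ∑ j, ((v : GolayPt → ℤ) j) • e8 j := by
  apply Subtype.ext
  funext i
  rw [AddSubgroup.coe_zsmul, AddSubgroup.val_finsetSum, Pi.smul_apply, Finset.sum_apply]
  simp only [AddSubgroup.coe_zsmul, Pi.smul_apply, e8, vec8, smul_eq_mul, mul_ite, mul_zero]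
  rw [Finset.sum_ite_eq Finset.univ i]
  simp [mul_comm]

/-- The vector `4 e_i + 4 s e_j` (`i ≠ j`). -/
def vec44 (i j : GolayPt) (s : ℤ) : GolayPt → ℤ :=
  fun k => (if k = i then 4 else 0) + (if k = j then 4 * s else 0)

theorem vec44_mem (i j : GolayPt) (s : ℤ) (hs : s = 1 ∨ s = -1) :
    vec44 i j s ∈ leechLattice := by
  apply AddSubgroup.subset_closure
  refine Spor.mem_leechSet_of_const_mod_four (vec44 i j s) 0 0 (by decide) ?_ ?_
  · intro k
    unfold vec44
    rw [Int.modEq_iff_dvd]
    rcases hs with rfl | rfl <;> split_ifs <;> decide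
  · have : ∑ k, vec44 i j s k = 4 + 4 * s := by
      unfold vec44
      rw [Finset.sum_add_distrib, Finset.sum_ite_eq' Finset.univ i,
        Finset.sum_ite_eq' Finset.univ j]
      simp
    rw [this, Int.modEq_iff_dvd]
    rcases hs with rfl | rfl <;> decide

theorem sqNorm_vec44 (i j : GolayPt) (hij : i ≠ j) (s : ℤ) (hs : s = 1 ∨ s = -1) :
    sqNorm (vec44 i j s) = 32 := by
  unfold sqNorm vec44
  have : ∀ k, ((if k = i then (4:ℤ) else 0) + (if k = j then 4 * s else 0)) ^ 2
      = (if k = i then 16 else 0) + (if k = j then 16 else 0) := by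
    intro k
    by_cases h1 : k = i
    · have h2 : k ≠ j := fun h => hij (h1.symm.trans h)
      rw [if_pos h1, if_neg h2, if_pos h1, if_neg h2]; norm_num
    · by_cases h2 : k = j
      · rw [if_neg h1, if_pos h2, if_neg h1, if_pos h2]
        rcases hs with rfl | rfl <;> norm_num
      · rw [if_neg h1, if_neg h2, if_neg h1, if_neg h2]; norm_num
  rw [Finset.sum_congr rfl (fun k _ => this k), Finset.sum_add_distrib,
    Finset.sum_ite_eq' Finset.univ i, Finset.sum_ite_eq' Finset.univ j]
  simp

theorem vec44_add (i j : GolayPt) : vec44 i j 1 + vec44 i j (-1) = vec8 i := by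
  funext k
  unfold vec44 vec8
  simp only [Pi.add_apply]
  split_ifs <;> norm_num

/-- Reduction of an integer vector modulo 13. -/
def red13 : (GolayPt → ℤ) →+ (GolayPt → ZMod 13) where
  toFun x := fun i => (x i : ZMod 13)
  map_zero' := by funext i; simp
  map_add' x y := by funext i; simp

theorem red13_apply (x : GolayPt → ℤ) (i : GolayPt) : red13 x i = (x i : ZMod 13) := rfl

theorem red13_zsmul (n : ℤ) (x : GolayPt → ℤ) : red13 (n • x) = (n : ZMod 13) • red13 x := by
  funext i
  simp [red13_apply]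

/-- Two vectors of squared length at most 32 that agree modulo 13 are equal. -/
theorem eq_of_red13_eq_of_sqNorm_le {a b : GolayPt → ℤ} (h : red13 a = red13 b)
    (ha : sqNorm a ≤ 32) (hb : sqNorm b ≤ 32) : a = b := by
  by_contra hne
  have hex : ∃ i, a i ≠ b i := by
    by_contra hall
    push Not at hall
    exact hne (funext hall)
  obtain ⟨i, hi⟩ := hex
  have hdvd : (13 : ℤ) ∣ a i - b i := by
    have := congrFun h i
    rw [red13_apply, red13_apply] at this
    have h2 := (ZMod.intCast_eq_intCast_iff_dvd_sub (b i) (a i) 13).mp this.symm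
    exact_mod_cast h2
  have hpar : sqNorm (a - b) + sqNorm (a + b) = 2 * sqNorm a + 2 * sqNorm b := by
    rw [sqNorm_add, sqNorm_sub']; ring
  have hnn : 0 ≤ sqNorm (a + b) := sqNorm_nonneg _
  have hle : (a i - b i) ^ 2 ≤ sqNorm (a - b) := by
    unfold sqNorm
    have := Finset.single_le_sum (f := fun k => ((a - b) k) ^ 2) (fun k _ => sq_nonneg _)
      (Finset.mem_univ i)
    simpa using this
  obtain ⟨k, hk⟩ := hdvd
  have hk0 : k ≠ 0 := by
    rintro rfl
    apply hi
    linarith
  have : 1 ≤ k ^ 2 := by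
    have : 0 < k ^ 2 := by positivity
    omega
  rw [hk] at hle
  nlinarith

/-- An automorphism that is trivial modulo 13 is the identity. -/
theorem co0_eq_one_of_red13 {g : Equiv.Perm leechLattice} (hg : g ∈ Co0)
    (h : ∀ v : leechLattice, red13 ((g v : leechLattice) : GolayPt → ℤ)
      = red13 (v : GolayPt → ℤ)) : g = 1 := by
  -- g fixes the vectors 4 e_i ± 4 e_j
  have h44 : ∀ (i j : GolayPt) (hij : i ≠ j) (s : ℤ) (hs : s = 1 ∨ s = -1),
      g ⟨vec44 i j s, vec44_mem i j s hs⟩ = ⟨vec44 i j s, vec44_mem i j s hs⟩ := by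
    intro i j hij s hs
    apply Subtype.ext
    apply eq_of_red13_eq_of_sqNorm_le (h _)
    · rw [co0_sqNorm hg]
      exact (sqNorm_vec44 i j hij s hs).le
    · exact (sqNorm_vec44 i j hij s hs).le
  -- hence the vectors 8 e_i
  have h8 : ∀ i : GolayPt, g (e8 i) = e8 i := by
    intro i
    obtain ⟨j, hij⟩ : ∃ j : GolayPt, i ≠ j := by
      by_cases hi : i = none
      · exact ⟨some 0, by rw [hi]; simp⟩
      · exact ⟨none, hi⟩
    have hsum : e8 i = ⟨vec44 i j 1, vec44_mem i j 1 (Or.inl rfl)⟩
        + ⟨vec44 i j (-1), vec44_mem i j (-1) (Or.inr rfl)⟩ := by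
      apply Subtype.ext
      exact (vec44_add i j).symm
    rw [hsum, co0_add hg, h44 i j hij 1 (Or.inl rfl), h44 i j hij (-1) (Or.inr rfl)]
  ext v : 1
  have h1 : g ((8 : ℤ) • v) = (8 : ℤ) • v := by
    rw [eight_smul_eq_sum, co0_sum hg]
    refine Finset.sum_congr rfl (fun j _ => ?_)
    rw [co0_zsmul hg, h8]
  rw [co0_zsmul hg] at h1
  have h2 : g v = v := by
    apply Subtype.ext
    have h3 := congrArg (fun w : leechLattice => (w : GolayPt → ℤ)) h1
    simp only [AddSubgroup.coe_zsmul] at h3
    funext i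
    have h4 := congrFun h3 i
    simp only [Pi.smul_apply, smul_eq_mul] at h4
    omega
  rw [h2]; rfl

end Cfsg.Agent.Helper27
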