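import Mathlib
import Cfsg.Agent.Lib.Helper27.LeechXi
import Cfsg.Agent.Lib.Helper27.LeechOdd
import Cfsg.Agent.Lib.Helper29.M24Trans
import Cfsg.Agent.S0398
import Cfsg.Agent.Lib.Helper27.LeechShapes

set_option autoImplicit false
open Cfsg

/-! Equivalence of lattice vectors under the automorphism group, and the reduction of even
vectors to odd ones. -/

namespace Cfsg.Agent.Helper27

open Cfsg.Agent.S0398 (permP permP_mem permP_apply epsP epsP_mem epsP_apply negP negP_mem negP_apply)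

/-- Equivalence under the automorphism group. -/
def CoEq (x y : GolayPt → ℤ) : Prop :=
  ∃ g : Equiv.Perm leechLattice, g ∈ Co0 ∧ ∃ hx : x ∈ leechLattice,
    ((g ⟨x, hx⟩ : leechLattice) : GolayPt → ℤ) = y

theorem CoEq.refl {x : GolayPt → ℤ} (hx : x ∈ leechLattice) : CoEq x x :=
  ⟨1, Subgroup.one_mem _, hx, rfl⟩

theorem CoEq.mem_left {x y : GolayPt → ℤ} (h : CoEq x y) : x ∈ leechLattice := by
  obtain ⟨g, -, hx, -⟩ := h
  exact hx

theorem CoEq.mem_right {x y : GolayPt → ℤ} (h : CoEq x y) : y ∈ leechLattice := by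
  obtain ⟨g, -, hx, rfl⟩ := h
  exact (g ⟨x, hx⟩).2

theorem CoEq.symm {x y : GolayPt → ℤ} (h : CoEq x y) : CoEq y x := by
  have hy := h.mem_right
  obtain ⟨g, hg, hx, hxy⟩ := h
  refine ⟨g⁻¹, Subgroup.inv_mem _ hg, hy, ?_⟩
  have : (⟨y, hy⟩ : leechLattice) = g ⟨x, hx⟩ := Subtype.ext hxy.symm
  rw [this, Equiv.Perm.inv_def, Equiv.symm_apply_apply]

theorem CoEq.trans {x y z : GolayPt → ℤ} (h : CoEq x y) (h' : CoEq y z) : CoEq x z := by
  obtain ⟨g, hg, hx, hxy⟩ := h
  obtain ⟨g', hg', hy, hyz⟩ := h'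
  refine ⟨g' * g, Subgroup.mul_mem _ hg' hg, hx, ?_⟩
  rw [Equiv.Perm.mul_apply]
  have : g ⟨x, hx⟩ = ⟨y, hy⟩ := Subtype.ext hxy
  rw [this, hyz]

theorem CoEq.sqNorm_eq {x y : GolayPt → ℤ} (h : CoEq x y) : sqNorm y = sqNorm x := by
  obtain ⟨g, hg, hx, rfl⟩ := h
  exact hg.2 ⟨x, hx⟩

theorem coEq_perm {σ : Equiv.Perm GolayPt} (hσ : σ ∈ M24) {x : GolayPt → ℤ}
    (hx : x ∈ leechLattice) : CoEq x (fun i => x (σ i)) :=
  ⟨permP σ hσ, permP_mem σ hσ, hx, rfl⟩

theorem coEq_eps {w : GolayPt → ZMod 2} (hw : w ∈ golayCode) {x : GolayPt → ℤ}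
    (hx : x ∈ leechLattice) : CoEq x (signChange (support₂ w) x) :=
  ⟨epsP w hw, epsP_mem w hw, hx, rfl⟩

theorem coEq_xi {x : GolayPt → ℤ} (hx : x ∈ leechLattice) : CoEq x (xi x) :=
  ⟨xiP, xiP_mem, hx, rfl⟩

/-- Short lists of distinct points can be mapped to one another. -/
theorem exists_M24_map_list (l l' : List GolayPt) (hl : l.Nodup) (hl' : l'.Nodup)
    (hlen : l.length = l'.length) (hk : l.length ≤ 5) : ∃ σ ∈ M24, l.map σ = l' := by
  let x : Fin l.length ↪ GolayPt := ⟨l.get, List.nodup_iff_injective_get.mp hl⟩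
  let y : Fin l.length ↪ GolayPt := ⟨fun i => l'.get (Fin.cast hlen i), fun i j hij => by
    have := List.nodup_iff_injective_get.mp hl' hij
    exact Fin.cast_injective _ this⟩
  obtain ⟨σ, hσ, h⟩ := Cfsg.Agent.Helper29.M24.exists_map_emb₂ hk x y
  refine ⟨σ, hσ, ?_⟩
  apply List.ext_getElem
  · rw [List.length_map, hlen]
  · intro n h1 h2
    rw [List.getElem_map]
    have h3 : n < l.length := by rw [List.length_map] at h1; exact h1
    exact h ⟨n, h3⟩

theorem image_mem_iff {σ : Equiv.Perm GolayPt} {J J' : Finset GolayPt} (h : J.image σ = J')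
    (i : GolayPt) : σ i ∈ J' ↔ i ∈ J := by
  rw [← h, Finset.mem_image]
  constructor
  · rintro ⟨j, hj, hji⟩
    rw [← σ.injective hji]; exact hj
  · intro hi; exact ⟨i, hi, rfl⟩

theorem toFinset_map' (σ : Equiv.Perm GolayPt) (l : List GolayPt) :
    (l.map σ).toFinset = l.toFinset.image σ := by
  ext i
  simp only [List.mem_toFinset, List.mem_map, Finset.mem_image]

/-- Two disjoint small sets can be mapped simultaneously. -/
theorem exists_M24_map_sets {J3 J5 J3' J5' : Finset GolayPt} (hd : Disjoint J3 J5)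
    (hd' : Disjoint J3' J5') (h3 : J3.card = J3'.card) (h5 : J5.card = J5'.card)
    (hle : J3.card + J5.card ≤ 5) : ∃ σ ∈ M24, J3.image σ = J3' ∧ J5.image σ = J5' := by
  have hn : (J5.toList ++ J3.toList).Nodup := by
    rw [List.nodup_append]
    refine ⟨Finset.nodup_toList _, Finset.nodup_toList _, ?_⟩
    intro a ha b hb hab
    rw [Finset.mem_toList] at ha hb
    exact (Finset.disjoint_left.mp hd) (hab ▸ hb) ha
  have hn' : (J5'.toList ++ J3'.toList).Nodup := by
    rw [List.nodup_append]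
    refine ⟨Finset.nodup_toList _, Finset.nodup_toList _, ?_⟩
    intro a ha b hb hab
    rw [Finset.mem_toList] at ha hb
    exact (Finset.disjoint_left.mp hd') (hab ▸ hb) ha
  obtain ⟨σ, hσ, h⟩ := exists_M24_map_list _ _ hn hn'
    (by rw [List.length_append, List.length_append, Finset.length_toList, Finset.length_toList,
      Finset.length_toList, Finset.length_toList, h3, h5])
    (by rw [List.length_append, Finset.length_toList, Finset.length_toList]; omega)
  rw [List.map_append] at h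
  have h1 := List.append_inj h (by
    rw [List.length_map, Finset.length_toList, Finset.length_toList, h5])
  refine ⟨σ, hσ, ?_, ?_⟩
  · have := congrArg List.toFinset h1.2
    rw [toFinset_map', Finset.toList_toFinset, Finset.toList_toFinset] at this
    exact this
  · have := congrArg List.toFinset h1.1
    rw [toFinset_map', Finset.toList_toFinset, Finset.toList_toFinset] at this
    exact this

theorem signChange_oddVec (J3 J5 : Finset GolayPt) (w : GolayPt → ZMod 2) :
    signChange (support₂ w) (oddVec J3 J5 w) = oddVec J3 J5 0 := by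
  funext i
  unfold signChange oddVec aOdd
  by_cases h : w i = 0
  · rw [if_neg (fun hm => (mem_support₂.mp hm) h)]
    simp [h]
  · rw [if_pos (mem_support₂.mpr h)]
    simp only [h, if_false, Pi.zero_apply, if_true]
    split_ifs <;> ring

theorem oddVec_comp {J3 J5 J3' J5' : Finset GolayPt} {σ : Equiv.Perm GolayPt}
    (h3 : J3'.image σ = J3) (h5 : J5'.image σ = J5) :
    (fun i => oddVec J3 J5 0 (σ i)) = oddVec J3' J5' 0 := by
  funext i
  unfold oddVec aOdd
  simp only [Pi.zero_apply, if_true, image_mem_iff h3, image_mem_iff h5]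

/-- Odd vectors of the same shape with at most five large coordinates are equivalent. -/
theorem oddVec_coEq {J3 J5 J3' J5' : Finset GolayPt} (hd : Disjoint J3 J5)
    (hd' : Disjoint J3' J5') {w w' : GolayPt → ZMod 2} (hw : w ∈ golayCode)
    (hw' : w' ∈ golayCode) (h3 : J3.card = J3'.card) (h5 : J5.card = J5'.card)
    (hle : J3.card + J5.card ≤ 5) (hodd : Odd (J3.card + J5.card)) :
    CoEq (oddVec J3 J5 w) (oddVec J3' J5' w') := by
  have hm : oddVec J3 J5 w ∈ leechLattice := oddVec_mem hd hw hodd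
  have hm' : oddVec J3' J5' w' ∈ leechLattice := oddVec_mem hd' hw' (by rw [← h3, ← h5]; exact hodd)
  have s1 : CoEq (oddVec J3 J5 w) (oddVec J3 J5 0) := by
    have := coEq_eps hw hm
    rw [signChange_oddVec] at this
    exact this
  have s3 : CoEq (oddVec J3' J5' w') (oddVec J3' J5' 0) := by
    have := coEq_eps hw' hm'
    rw [signChange_oddVec] at this
    exact this
  obtain ⟨σ, hσ, e3, e5⟩ := exists_M24_map_sets hd' hd h3.symm h5.symm (by rw [← h3, ← h5]; exact hle)
  have s2 : CoEq (oddVec J3 J5 0) (oddVec J3' J5' 0) := by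
    have := coEq_perm hσ s1.mem_right
    rw [oddVec_comp e3 e5] at this
    exact this
  exact (s1.trans s2).trans s3.symm


theorem tet0_eq : Finset.univ.filter (fun i => tetIdx i = 0) =
    ({none, some 0, some 1, some 2} : Finset GolayPt) := by decide

theorem tsum_zero (x : GolayPt → ℤ) :
    tsum x 0 = x none + x (some 0) + x (some 1) + x (some 2) := by
  unfold tsum
  rw [← Finset.sum_filter, tet0_eq, Finset.sum_insert (by decide), Finset.sum_insert (by decide),
    Finset.sum_insert (by decide), Finset.sum_singleton]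
  ring

theorem descent_step {x b : GolayPt → ℤ} {c : ℤ} (hx : x ∈ leechLattice)
    (hb : ∀ i, x i = 2 * c * b i) (hP1 : ∃ i, ¬ (2 : ℤ) ∣ b i)
    (hP3 : 3 ≤ (Finset.univ.filter (fun i => (2 : ℤ) ∣ b i)).card) :
    ∃ y b' : GolayPt → ℤ, CoEq x y ∧ (∀ i, y i = c * b' i) ∧ ¬ (2 : ℤ) ∣ b' none := by
  obtain ⟨i1, hi1⟩ := hP1
  obtain ⟨t, hts, htc⟩ := Finset.exists_subset_card_eq hP3
  obtain ⟨j1, j2, j3, h12, h13, h23, rfl⟩ := Finset.card_eq_three.mp htc
  have hj1 : (2 : ℤ) ∣ b j1 := by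
    have := hts (show j1 ∈ ({j1, j2, j3} : Finset GolayPt) by simp)
    simpa using this
  have hj2 : (2 : ℤ) ∣ b j2 := by
    have := hts (show j2 ∈ ({j1, j2, j3} : Finset GolayPt) by simp)
    simpa using this
  have hj3 : (2 : ℤ) ∣ b j3 := by
    have := hts (show j3 ∈ ({j1, j2, j3} : Finset GolayPt) by simp)
    simpa using this
  have n1 : i1 ≠ j1 := fun h => hi1 (h ▸ hj1)
  have n2 : i1 ≠ j2 := fun h => hi1 (h ▸ hj2)
  have n3 : i1 ≠ j3 := fun h => hi1 (h ▸ hj3)
  obtain ⟨σ, hσ, hmap⟩ := exists_M24_map_list [none, some 0, some 1, some 2] [i1, j1, j2, j3]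
    (by decide) (by simp [n1, n2, n3, h12, h13, h23]) rfl (by norm_num)
  simp only [List.map_cons, List.map_nil, List.cons.injEq, and_true] at hmap
  obtain ⟨m0, m1, m2, m3⟩ := hmap
  have s1 := coEq_perm hσ hx
  have s2 := coEq_xi s1.mem_right
  refine ⟨_, fun i => sgnK (tetIdx i) * (2 * b (σ i) - tsum (fun j => b (σ j)) (tetIdx i)),
    s1.trans s2, ?_, ?_⟩
  · intro i
    show sgnK (tetIdx i) * ((fun i => x (σ i)) i - tsum (fun i => x (σ i)) (tetIdx i) / 2) = _
    have e1 : (fun i => x (σ i)) = fun i => (2 * c) * (fun j => b (σ j)) i := by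
      funext i; exact hb (σ i)
    rw [e1, tsum_mul]
    have e2 : 2 * c * tsum (fun j => b (σ j)) (tetIdx i) =
        2 * (c * tsum (fun j => b (σ j)) (tetIdx i)) := by ring
    rw [e2, Int.mul_ediv_cancel_left _ (by norm_num : (2 : ℤ) ≠ 0)]
    ring
  · have ht : tetIdx none = 0 := by decide
    beta_reduce
    rw [ht, tsum_zero, m0, m1, m2, m3]
    unfold sgnK
    rw [if_pos rfl]
    omega

theorem card_even_ge {x b : GolayPt → ℤ} {c : ℤ} (hc : c ≠ 0) (hb : ∀ i, x i = 2 * c * b i)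
    (hn : sqNorm x ≤ 64) : 3 ≤ (Finset.univ.filter (fun i => (2 : ℤ) ∣ b i)).card := by
  by_contra hlt
  have h1 := Finset.card_filter_add_card_filter_not (s := (Finset.univ : Finset GolayPt))
    (fun i => (2 : ℤ) ∣ b i)
  rw [Finset.card_univ, card_golayPt] at h1
  have h2 : 22 ≤ (Finset.univ.filter (fun i => ¬ (2 : ℤ) ∣ b i)).card := by omega
  have h3 : ∀ i ∈ Finset.univ.filter (fun i => ¬ (2 : ℤ) ∣ b i), (4 : ℤ) ≤ x i ^ 2 := by
    intro i hi
    rw [Finset.mem_filter] at hi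
    have hbi : b i ≠ 0 := by
      intro h0; rw [h0] at hi; exact hi.2 (dvd_zero _)
    have : c * b i ≠ 0 := mul_ne_zero hc hbi
    have hpos : 0 < (c * b i) ^ 2 := by positivity
    rw [hb i]
    have e : (2 * c * b i) ^ 2 = 4 * (c * b i) ^ 2 := by ring
    rw [e]
    omega
  have h4 := Finset.card_nsmul_le_sum _ _ _ h3
  have h5 : ∑ i ∈ Finset.univ.filter (fun i => ¬ (2 : ℤ) ∣ b i), x i ^ 2 ≤ sqNorm x := by
    unfold sqNorm
    exact Finset.sum_le_sum_of_subset_of_nonneg (Finset.filter_subset _ _)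
      (fun i _ _ => sq_nonneg (x i))
  rw [nsmul_eq_mul] at h4
  have h6 : (22 : ℤ) ≤ ((Finset.univ.filter (fun i => ¬ (2 : ℤ) ∣ b i)).card : ℤ) := by
    exact_mod_cast h2
  linarith

theorem claim1 {x a : GolayPt → ℤ} (hx : x ∈ leechLattice) (hn : sqNorm x ≤ 64)
    (ha : ∀ i, x i = 2 * 1 * a i) (hodd : ∃ i, ¬ (2 : ℤ) ∣ a i) :
    ∃ y, CoEq x y ∧ ¬ (2 : ℤ) ∣ y none := by
  obtain ⟨y, b', h1, h2, h3⟩ := descent_step hx ha hodd (card_even_ge one_ne_zero ha hn)
  refine ⟨y, h1, ?_⟩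
  rw [h2, one_mul]
  exact h3

theorem claim2 {x a : GolayPt → ℤ} (hx : x ∈ leechLattice) (hn : sqNorm x ≤ 64)
    (ha : ∀ i, x i = 2 * 2 * a i) (hodd : ∃ i, ¬ (2 : ℤ) ∣ a i) :
    ∃ y, CoEq x y ∧ ¬ (2 : ℤ) ∣ y none := by
  obtain ⟨y, b', h1, h2, h3⟩ := descent_step hx ha hodd (card_even_ge two_ne_zero ha hn)
  obtain ⟨z, h4, h5⟩ := claim1 h1.mem_right (by rw [h1.sqNorm_eq]; exact hn)
    (a := b') (fun i => by rw [h2 i]; ring) ⟨none, h3⟩
  exact ⟨z, h1.trans h4, h5⟩

theorem claim4 {x a : GolayPt → ℤ} (hx : x ∈ leechLattice) (hn : sqNorm x ≤ 64)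
    (ha : ∀ i, x i = 2 * 4 * a i) (hodd : ∃ i, ¬ (2 : ℤ) ∣ a i) :
    ∃ y, CoEq x y ∧ ¬ (2 : ℤ) ∣ y none := by
  obtain ⟨y, b', h1, h2, h3⟩ := descent_step hx ha hodd
    (card_even_ge (by norm_num : (4 : ℤ) ≠ 0) ha hn)
  obtain ⟨z, h4, h5⟩ := claim2 h1.mem_right (by rw [h1.sqNorm_eq]; exact hn)
    (a := b') (fun i => by rw [h2 i]; ring) ⟨none, h3⟩
  exact ⟨z, h1.trans h4, h5⟩

/-- Every nonzero lattice vector of norm at most 64 is equivalent to an odd vector. -/
theorem exists_odd_coEq {x : GolayPt → ℤ} (hx : x ∈ leechLattice) (h0 : x ≠ 0)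
    (hn : sqNorm x ≤ 64) : ∃ y, CoEq x y ∧ ¬ (2 : ℤ) ∣ y none := by
  by_cases h2 : (2 : ℤ) ∣ x none
  · obtain ⟨a, ha, -, -⟩ := even_form hx h2
    by_cases h1 : ∃ i, ¬ (2 : ℤ) ∣ a i
    · exact claim1 hx hn (fun i => by rw [ha i]; ring) h1
    simp only [not_exists, not_not] at h1
    choose b hb using h1
    by_cases h1' : ∃ i, ¬ (2 : ℤ) ∣ b i
    · exact claim2 hx hn (fun i => by rw [ha i, hb i]; ring) h1'
    simp only [not_exists, not_not] at h1'
    choose b' hb' using h1'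
    by_cases h1'' : ∃ i, ¬ (2 : ℤ) ∣ b' i
    · exact claim4 hx hn (fun i => by rw [ha i, hb i, hb' i]; ring) h1''
    simp only [not_exists, not_not] at h1''
    choose b'' hb'' using h1''
    exfalso
    have hex : ∃ i, b'' i ≠ 0 := by
      by_contra hall
      simp only [not_exists, not_not] at hall
      apply h0
      funext i
      rw [ha i, hb i, hb' i, hb'' i, hall i]
      simp
    obtain ⟨i, hi⟩ := hex
    have h3 : x i ^ 2 ≤ sqNorm x := by
      unfold sqNorm
      exact Finset.single_le_sum (f := fun i => x i ^ 2) (fun j _ => sq_nonneg (x j))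
        (Finset.mem_univ i)
    have e : x i ^ 2 = 256 * b'' i ^ 2 := by
      rw [ha i, hb i, hb' i, hb'' i]; ring
    have hpos : 0 < b'' i ^ 2 := by positivity
    rw [e] at h3
    omega
  · exact ⟨x, CoEq.refl hx, h2⟩

end Cfsg.Agent.Helper27
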