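import Mathlib
import Cfsg.Agent.Lib.Helper27.LeechTrans
import Cfsg.Agent.Lib.Helper27.LeechFamOdd

set_option autoImplicit false
open Cfsg

/-! Transitivity of the automorphism group on the lattice vectors of sum of squares 32, 48, 64. -/

namespace Cfsg.Agent.Helper27

theorem famO_coEq {n3 n5 : ℕ} (hle : n3 + n5 ≤ 5) (hodd : Odd (n3 + n5)) {x y : GolayPt → ℤ}
    (hx : x ∈ famO n3 n5) (hy : y ∈ famO n3 n5) : CoEq x y := by
  obtain ⟨J3, J5, w, hw, hd, h3, h5, rfl⟩ := famO_elim hx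
  obtain ⟨J3', J5', w', hw', hd', h3', h5', rfl⟩ := famO_elim hy
  exact oddVec_coEq hd hd' hw hw' (h3.trans h3'.symm) (h5.trans h5'.symm)
    (by rw [h3, h5]; exact hle) (by rw [h3, h5]; exact hodd)

theorem famO_card_abs3 {n3 n5 : ℕ} {x : GolayPt → ℤ} (hx : x ∈ famO n3 n5) :
    (Finset.univ.filter (fun i => |x i| = 3)).card = n3 := by
  obtain ⟨J3, J5, w, hw, hd, h3, h5, rfl⟩ := famO_elim hx
  have : Finset.univ.filter (fun i => |oddVec J3 J5 w i| = 3) = J3 := by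
    ext i
    rw [Finset.mem_filter, oddVec_abs hd]
    by_cases hi5 : i ∈ J5
    · have : i ∉ J3 := fun h => (Finset.disjoint_left.mp hd) h hi5
      simp [hi5, this]
    · by_cases hi3 : i ∈ J3 <;> simp [hi5, hi3]
  rw [this, h3]

/-- The odd vector `(5, 1^23)`. -/
def u5 : GolayPt → ℤ := oddVec ∅ {none} 0

theorem xi_u5_val : xi u5 (some 0) = 3 ∧ xi u5 none = -1 := by decide

/-- An odd vector of shape `(5, 3^2, 1^21)`. -/
def u64 : GolayPt → ℤ := oddVec {some 3, some 4} {some 0} 0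

theorem xi_u64_val : xi u64 (some 1) = 3 ∧ xi u64 (some 2) = 3 ∧ xi u64 (some 3) = -3 ∧
    xi u64 none = 3 := by decide

theorem u5_mem : u5 ∈ famO 0 1 :=
  famO_intro (zero_mem _) (Finset.disjoint_empty_left _) rfl rfl

theorem u64_mem : u64 ∈ famO 2 1 :=
  famO_intro (zero_mem _) (by decide) (by decide) rfl

theorem xi_u5_mem : xi u5 ∈ famO 3 0 := by
  have h1 := (famO_sound (by decide) u5_mem)
  have h2 := coEq_xi h1.1
  have hn : sqNorm (xi u5) = 24 + 4 * ((6 : ℕ) : ℤ) := by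
    rw [h2.sqNorm_eq, h1.2.1]; norm_num
  have hodd : ¬ (2 : ℤ) ∣ xi u5 none := by rw [xi_u5_val.2]; norm_num
  obtain ⟨n3, n5, h3, h4⟩ := famO_complete h2.mem_right hodd hn (by norm_num)
  have hc := famO_card_abs3 h4
  have hpos : 0 < (Finset.univ.filter (fun i => |xi u5 i| = 3)).card := by
    rw [Finset.card_pos]
    exact ⟨some 0, by rw [Finset.mem_filter, xi_u5_val.1]; simp⟩
  have : n5 = 0 ∧ n3 = 3 := by omega
  obtain ⟨rfl, rfl⟩ := this
  exact h4

theorem xi_u64_mem : xi u64 ∈ famO 5 0 := by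
  have h1 := (famO_sound (by decide) u64_mem)
  have h2 := coEq_xi h1.1
  have hn : sqNorm (xi u64) = 24 + 4 * ((10 : ℕ) : ℤ) := by
    rw [h2.sqNorm_eq, h1.2.1]; norm_num
  have hodd : ¬ (2 : ℤ) ∣ xi u64 none := by rw [xi_u64_val.2.2.2]; norm_num
  obtain ⟨n3, n5, h3, h4⟩ := famO_complete h2.mem_right hodd hn (by norm_num)
  have hc := famO_card_abs3 h4
  have hsub : ({some 1, some 2, some 3} : Finset GolayPt) ⊆
      Finset.univ.filter (fun i => |xi u64 i| = 3) := by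
    intro i hi
    rw [Finset.mem_insert, Finset.mem_insert, Finset.mem_singleton] at hi
    rw [Finset.mem_filter]
    refine ⟨Finset.mem_univ _, ?_⟩
    rcases hi with rfl | rfl | rfl
    · rw [xi_u64_val.1]; norm_num
    · rw [xi_u64_val.2.1]; norm_num
    · rw [xi_u64_val.2.2.1]; norm_num
  have hge := Finset.card_le_card hsub
  have h3' : ({some 1, some 2, some 3} : Finset GolayPt).card = 3 := by decide
  have : n5 = 0 ∧ n3 = 5 := by omega
  obtain ⟨rfl, rfl⟩ := this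
  exact h4

theorem odd_of_coEq_norm {x : GolayPt → ℤ} (hx : x ∈ leechLattice) (h0 : x ≠ 0)
    (hn : sqNorm x ≤ 64) : ∃ y, CoEq x y ∧ ¬ (2 : ℤ) ∣ y none := exists_odd_coEq hx h0 hn

theorem ne_zero_of_sqNorm {x : GolayPt → ℤ} {n : ℤ} (hn : sqNorm x = n) (h : n ≠ 0) : x ≠ 0 := by
  intro h0
  rw [h0] at hn
  unfold sqNorm at hn
  simp at hn
  exact h hn.symm

/-- Transitivity on the minimal vectors. -/
theorem trans_norm32 {x y : GolayPt → ℤ} (hx : x ∈ leechLattice) (hy : y ∈ leechLattice)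
    (hxn : sqNorm x = 32) (hyn : sqNorm y = 32) : CoEq x y := by
  have key : ∀ z, z ∈ leechLattice → sqNorm z = 32 → ∃ z', CoEq z z' ∧ z' ∈ famO 1 0 := by
    intro z hz hzn
    obtain ⟨z', h1, h2⟩ := exists_odd_coEq hz (ne_zero_of_sqNorm hzn (by norm_num))
      (by rw [hzn]; norm_num)
    have hn : sqNorm z' = 24 + 4 * ((2 : ℕ) : ℤ) := by rw [h1.sqNorm_eq, hzn]; norm_num
    obtain ⟨n3, n5, h3, h4⟩ := famO_complete h1.mem_right h2 hn (by norm_num)
    have : n5 = 0 ∧ n3 = 1 := by omega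
    obtain ⟨rfl, rfl⟩ := this
    exact ⟨z', h1, h4⟩
  obtain ⟨x', hx1, hx2⟩ := key x hx hxn
  obtain ⟨y', hy1, hy2⟩ := key y hy hyn
  exact (hx1.trans (famO_coEq (by norm_num) (by decide) hx2 hy2)).trans hy1.symm

/-- Transitivity on the vectors of sum of squares 48. -/
theorem trans_norm48 {x y : GolayPt → ℤ} (hx : x ∈ leechLattice) (hy : y ∈ leechLattice)
    (hxn : sqNorm x = 48) (hyn : sqNorm y = 48) : CoEq x y := by
  have key : ∀ z, z ∈ leechLattice → sqNorm z = 48 → ∃ z', CoEq z z' ∧ z' ∈ famO 3 0 := by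
    intro z hz hzn
    obtain ⟨z', h1, h2⟩ := exists_odd_coEq hz (ne_zero_of_sqNorm hzn (by norm_num))
      (by rw [hzn]; norm_num)
    have hn : sqNorm z' = 24 + 4 * ((6 : ℕ) : ℤ) := by rw [h1.sqNorm_eq, hzn]; norm_num
    obtain ⟨n3, n5, h3, h4⟩ := famO_complete h1.mem_right h2 hn (by norm_num)
    have : (n5 = 0 ∧ n3 = 3) ∨ (n5 = 1 ∧ n3 = 0) := by omega
    rcases this with ⟨rfl, rfl⟩ | ⟨rfl, rfl⟩
    · exact ⟨z', h1, h4⟩
    · have s1 : CoEq z' u5 := famO_coEq (by norm_num) (by decide) h4 u5_mem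
      have s2 : CoEq u5 (xi u5) := coEq_xi s1.mem_right
      exact ⟨xi u5, (h1.trans s1).trans s2, xi_u5_mem⟩
  obtain ⟨x', hx1, hx2⟩ := key x hx hxn
  obtain ⟨y', hy1, hy2⟩ := key y hy hyn
  exact (hx1.trans (famO_coEq (by norm_num) (by decide) hx2 hy2)).trans hy1.symm

/-- Transitivity on the vectors of sum of squares 64. -/
theorem trans_norm64 {x y : GolayPt → ℤ} (hx : x ∈ leechLattice) (hy : y ∈ leechLattice)
    (hxn : sqNorm x = 64) (hyn : sqNorm y = 64) : CoEq x y := by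
  have key : ∀ z, z ∈ leechLattice → sqNorm z = 64 → ∃ z', CoEq z z' ∧ z' ∈ famO 5 0 := by
    intro z hz hzn
    obtain ⟨z', h1, h2⟩ := exists_odd_coEq hz (ne_zero_of_sqNorm hzn (by norm_num))
      (by rw [hzn])
    have hn : sqNorm z' = 24 + 4 * ((10 : ℕ) : ℤ) := by rw [h1.sqNorm_eq, hzn]; norm_num
    obtain ⟨n3, n5, h3, h4⟩ := famO_complete h1.mem_right h2 hn (by norm_num)
    have : (n5 = 0 ∧ n3 = 5) ∨ (n5 = 1 ∧ n3 = 2) := by omega
    rcases this with ⟨rfl, rfl⟩ | ⟨rfl, rfl⟩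
    · exact ⟨z', h1, h4⟩
    · have s1 : CoEq z' u64 := famO_coEq (by norm_num) (by decide) h4 u64_mem
      have s2 : CoEq u64 (xi u64) := coEq_xi s1.mem_right
      exact ⟨xi u64, (h1.trans s1).trans s2, xi_u64_mem⟩
  obtain ⟨x', hx1, hx2⟩ := key x hx hxn
  obtain ⟨y', hy1, hy2⟩ := key y hy hyn
  exact (hx1.trans (famO_coEq (by norm_num) (by decide) hx2 hy2)).trans hy1.symm

/-- Equivalence in terms of the group action. -/
theorem coEq_iff_smul {v w : leechLattice} : CoEq v.1 w.1 ↔ ∃ g : Co0, g • v = w := by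
  constructor
  · rintro ⟨g, hg, hx, h⟩
    refine ⟨⟨g, hg⟩, ?_⟩
    apply Subtype.ext
    exact h
  · rintro ⟨g, rfl⟩
    exact ⟨g.1, g.2, v.2, rfl⟩

end Cfsg.Agent.Helper27
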