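import Mathlib
import Cfsg.Agent.Lib.Helper27.LeechTrans2
import Cfsg.Agent.Lib.Helper27.LeechMod2c
import Cfsg.Agent.S1571

set_option autoImplicit false
open Cfsg

/-! The order of the automorphism group of the lattice. -/

namespace Cfsg.Agent.Helper27

theorem stdCross_eq : stdCross = ↑fam8 := by
  ext y
  unfold stdCross fam8
  rw [Set.mem_setOf_eq, Finset.mem_coe, Finset.mem_image]
  constructor
  · rintro ⟨i, s, hs, rfl⟩
    rcases hs with rfl | rfl
    · exact ⟨(i, true), Finset.mem_univ _, rfl⟩
    · exact ⟨(i, false), Finset.mem_univ _, rfl⟩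
  · rintro ⟨⟨i, b⟩, -, rfl⟩
    unfold x8
    cases b
    · exact ⟨i, -8, Or.inr rfl, by simp⟩
    · exact ⟨i, 8, Or.inl rfl, by simp⟩

/-- The vector `8 e_∞`. -/
def v0raw : GolayPt → ℤ := Pi.single none 8

theorem v0raw_mem_fam8 : v0raw ∈ fam8 := by
  unfold fam8
  rw [Finset.mem_image]
  exact ⟨(none, true), Finset.mem_univ _, rfl⟩

theorem v0raw_mem : v0raw ∈ leechLattice := (fam8_sound v0raw_mem_fam8).1

theorem v0raw_norm : sqNorm v0raw = 64 := (fam8_sound v0raw_mem_fam8).2.1

theorem cong_fam8 {x : GolayPt → ℤ} (hx : x ∈ fam8) : Cong x v0raw := by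
  unfold fam8 at hx
  rw [Finset.mem_image] at hx
  obtain ⟨⟨i, b⟩, -, rfl⟩ := hx
  set s2 : ℤ := if b then 2 else -2 with hs2
  set a : GolayPt → ℤ := Pi.single i s2 - Pi.single none 2 with ha
  refine ⟨fun j => 2 * a j, ?_, ?_⟩
  · apply mem_of_even_form
    · have : red2 a = 0 := by
        funext j
        rw [Pi.zero_apply, red2_eq_zero_iff, ha, Pi.sub_apply]
        apply dvd_sub
        · by_cases hj : j = i
          · subst hj
            rw [Pi.single_eq_same, hs2]
            split_ifs <;> norm_num
          · rw [Pi.single_eq_of_ne hj]; exact dvd_zero _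
        · by_cases hj : j = none
          · subst hj
            rw [Pi.single_eq_same]
          · rw [Pi.single_eq_of_ne hj]; exact dvd_zero _
      rw [this]; exact zero_mem _
    · rw [ha]
      simp only [Pi.sub_apply]
      rw [Finset.sum_sub_distrib, Finset.sum_pi_single', Finset.sum_pi_single']
      simp only [Finset.mem_univ, if_true]
      rw [hs2]
      split_ifs <;> norm_num
  · funext j
    unfold x8 v0raw
    simp only [Pi.sub_apply, Pi.smul_apply, nsmul_eq_mul]
    rw [ha, hs2]
    simp only [Pi.sub_apply]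
    by_cases hj : j = i
    · subst hj
      rw [Pi.single_eq_same, Pi.single_eq_same]
      by_cases hj' : j = none
      · subst hj'
        rw [Pi.single_eq_same, Pi.single_eq_same]
        split_ifs <;> norm_num
      · rw [Pi.single_eq_of_ne hj', Pi.single_eq_of_ne hj']
        split_ifs <;> norm_num
    · rw [Pi.single_eq_of_ne hj, Pi.single_eq_of_ne hj]
      by_cases hj' : j = none
      · subst hj'
        rw [Pi.single_eq_same, Pi.single_eq_same]
        norm_num
      · rw [Pi.single_eq_of_ne hj', Pi.single_eq_of_ne hj']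
        norm_num

open Classical in
theorem fiber_v0 : Sh.filter (fun y => cls y = cls v0raw) = fam8 := by
  symm
  apply Finset.eq_of_subset_of_card_le
  · intro x hx
    rw [Finset.mem_filter, mem_Sh]
    obtain ⟨h1, h2, -⟩ := fam8_sound hx
    exact ⟨⟨h1, Or.inr (Or.inr (Or.inr h2))⟩, (cls_eq_iff h1 v0raw_mem).mpr (cong_fam8 hx)⟩
  · rw [card_fiber64 v0raw_mem v0raw_norm, card_fam8]

/-- The cross through `8 e_∞` is the standard cross. -/
theorem cross_v0 : cross v0raw = stdCross := by
  classical
  rw [cross_eq v0raw_mem v0raw_norm, fiber_v0, stdCross_eq]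

end Cfsg.Agent.Helper27
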