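import Mathlib
import Cfsg.Agent.Lib.Helper27.LeechTrans2
import Cfsg.Agent.Lib.Helper27.LeechMod2c
import Cfsg.Agent.Lib.Helper27.Steiner
import Cfsg.Agent.S0363

set_option autoImplicit false
set_option maxRecDepth 8000
open Cfsg

/-! Counting minimal vectors with a prescribed inner product with a given lattice vector. -/

namespace Cfsg.Agent.Helper27

open Cfsg.Agent.S0394 (FA FB FC idxA idxB fC octF mem_octF mem_idxA mem_idxB mem_octads_iff
  fC_injective aJW sum_aJW disj_AB disj_ABC instFintypeGolayCode)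

/-- The number of minimal vectors having inner product `t` with `u`. -/
noncomputable def cntDot (u : GolayPt → ℤ) (t : ℤ) : ℕ :=
  (F32.filter (fun w => dotInt u w = t)).card

theorem cntDot_coEq {u u' : GolayPt → ℤ} (h : CoEq u u') (t : ℤ) : cntDot u t = cntDot u' t := by
  obtain ⟨g, hg, hu, hgu⟩ := h
  unfold cntDot
  have hmem : ∀ w, w ∈ F32.filter (fun w => dotInt u w = t) → w ∈ leechLattice := fun w hw =>
    (mem_F32.mp (Finset.mem_filter.mp hw).1).1
  have hmem' : ∀ w, w ∈ F32.filter (fun w => dotInt u' w = t) → w ∈ leechLattice := fun w hw =>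
    (mem_F32.mp (Finset.mem_filter.mp hw).1).1
  refine Finset.card_bij (fun w hw => ((g ⟨w, hmem w hw⟩ : leechLattice) : GolayPt → ℤ)) ?_ ?_ ?_
  · intro w hw
    have hw' := Finset.mem_filter.mp hw
    rw [Finset.mem_filter, mem_F32]
    refine ⟨⟨(g ⟨w, hmem w hw⟩).2, ?_⟩, ?_⟩
    · rw [co0_sqNorm hg]; exact (mem_F32.mp hw'.1).2
    · rw [← hgu, co0_dotInt hg]; exact hw'.2
  · intro w hw w' hw' he
    have := g.injective (Subtype.ext he)
    exact congrArg Subtype.val this
  · intro w' hw'
    have hw2 := Finset.mem_filter.mp hw'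
    have hgi : g⁻¹ ∈ Co0 := Co0.inv_mem hg
    have hgg : g (g⁻¹ ⟨w', hmem' w' hw'⟩) = ⟨w', hmem' w' hw'⟩ := by
      rw [Equiv.Perm.inv_def]; exact Equiv.apply_symm_apply g _
    have hin : ((g⁻¹ ⟨w', hmem' w' hw'⟩ : leechLattice) : GolayPt → ℤ) ∈
        F32.filter (fun w => dotInt u w = t) := by
      rw [Finset.mem_filter, mem_F32]
      refine ⟨⟨(g⁻¹ ⟨w', hmem' w' hw'⟩).2, ?_⟩, ?_⟩
      · rw [co0_sqNorm hgi]; exact (mem_F32.mp hw2.1).2
      · have h1 := co0_dotInt hg ⟨u, hu⟩ (g⁻¹ ⟨w', hmem' w' hw'⟩)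
        rw [hgg, hgu] at h1
        rw [← hw2.2]
        exact h1.symm
    refine ⟨_, hin, ?_⟩
    exact congrArg Subtype.val hgg

/-- Transfer of a count of lattice vectors (as a subtype) to a finset of functions. -/
theorem ncard_subtype_eq (F : Finset (GolayPt → ℤ)) (hF : ∀ x ∈ F, x ∈ leechLattice) :
    {v : leechLattice | (v : GolayPt → ℤ) ∈ F}.ncard = F.card := by
  have h1 : (Subtype.val '' {v : leechLattice | (v : GolayPt → ℤ) ∈ F}) = (F : Set (GolayPt → ℤ)) := by
    ext x
    constructor
    · rintro ⟨v, hv, rfl⟩; exact hv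
    · intro hx; exact ⟨⟨x, hF x hx⟩, hx, rfl⟩
  rw [← Set.ncard_image_of_injective _ Subtype.val_injective, h1, Set.ncard_coe_finset]

/-! ### Octads through given points -/

theorem octF_steiner : IsSteinerSystem 5 8 (octF : Set (Finset GolayPt)) := by
  have : (octF : Set (Finset GolayPt)) = octads := by
    ext p; rw [Finset.mem_coe, mem_octF]
  rw [this]; exact Cfsg.Agent.S0363.result

theorem card_octF_through (J : Finset GolayPt) (hJ : J.card ≤ 5) :
    (octF.filter (fun b => J ⊆ b)).card * (8 - J.card).choose (5 - J.card) =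
      (24 - J.card).choose (5 - J.card) := by
  have := steiner_lambda octF octF_steiner J hJ
  rw [card_golayPt] at this
  exact this

theorem card_octF_one (a : GolayPt) : (octF.filter (fun b => a ∈ b)).card = 253 := by
  have h := card_octF_through {a} (by simp)
  rw [Finset.card_singleton] at h
  have e : octF.filter (fun b => ({a} : Finset GolayPt) ⊆ b) = octF.filter (fun b => a ∈ b) := by
    apply Finset.filter_congr; intro b _; rw [Finset.singleton_subset_iff]
  rw [e] at h
  have c1 : (8 - 1).choose (5 - 1) = 35 := by decide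
  have c2 : (24 - 1).choose (5 - 1) = 8855 := by decide
  rw [c1, c2] at h
  omega

theorem card_octF_two {a b : GolayPt} (hab : a ≠ b) :
    (octF.filter (fun p => a ∈ p ∧ b ∈ p)).card = 77 := by
  have h := card_octF_through {a, b} (by rw [Finset.card_pair hab]; norm_num)
  rw [Finset.card_pair hab] at h
  have e : octF.filter (fun p => ({a, b} : Finset GolayPt) ⊆ p) =
      octF.filter (fun p => a ∈ p ∧ b ∈ p) := by
    apply Finset.filter_congr; intro p _
    rw [Finset.insert_subset_iff, Finset.singleton_subset_iff]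
  rw [e] at h
  have c1 : (8 - 2).choose (5 - 2) = 20 := by decide
  have c2 : (24 - 2).choose (5 - 2) = 1540 := by decide
  rw [c1, c2] at h
  omega

end Cfsg.Agent.Helper27
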