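import Mathlib
import Cfsg.Agent.Lib.Helper27.LeechPairs

set_option autoImplicit false
set_option maxRecDepth 8000
open Cfsg

/-! The minimal vectors having inner product `24` with `(5, 1^23)`. -/

namespace Cfsg.Agent.Helper27

open Cfsg.Agent.S0394 (FA FB FC idxA idxB fC octF mem_octF mem_idxA mem_idxB mem_octads_iff
  fC_injective aJW sum_aJW disj_AB disj_ABC instFintypeGolayCode)

theorem u5_apply (i : GolayPt) : u5 i = if i = none then 5 else 1 := by
  revert i; decide

theorem dotInt_u5 (w : GolayPt → ℤ) : dotInt u5 w = ∑ i, w i + 4 * w none := by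
  unfold dotInt
  have h : ∀ i, u5 i * w i = w i + (if i = none then 4 * w none else 0) := by
    intro i
    rw [u5_apply]
    split_ifs with h
    · subst h; ring
    · ring
  rw [Finset.sum_congr rfl (fun i _ => h i), Finset.sum_add_distrib,
    Finset.sum_ite_eq' Finset.univ none]
  simp

/-! #### Family A -/

set_option maxRecDepth 100000 in
theorem cntA_u5 : (idxA.filter (fun q => dotInt u5 (shapeVec 4 q.1 q.2) = 24)).card = 23 := by
  decide +kernel

theorem card_filter_FA (P : (GolayPt → ℤ) → Prop) [DecidablePred P] :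
    (FA.filter P).card = (idxA.filter (fun q => P (shapeVec 4 q.1 q.2))).card := by
  unfold FA
  rw [Finset.filter_image, Finset.card_image_of_injOn]
  intro q hq q' hq' h
  rw [Finset.mem_coe, Finset.mem_filter, mem_idxA] at hq hq'
  obtain ⟨h1, h2⟩ := shapeVec_injective (by norm_num : (0 : ℤ) < 4) hq.1.2 hq'.1.2 h
  exact Sigma.ext h1 (heq_of_eq h2)

/-! #### Family B -/

theorem filter_FB_u5 : FB.filter (fun w => dotInt u5 w = 24) =
    (octF.filter (fun p => none ∈ p)).image (fun p => shapeVec 2 p ∅) := by
  ext w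
  rw [Finset.mem_filter, Finset.mem_image]
  constructor
  · rintro ⟨hw, hd⟩
    unfold FB at hw
    rw [Finset.mem_image] at hw
    obtain ⟨q, hq, rfl⟩ := hw
    rw [mem_idxB] at hq
    have h8 : q.1.card = 8 := by
      obtain ⟨c, -, -, h8⟩ := (mem_octads_iff q.1).mp hq.1
      exact h8
    rw [dotInt_u5, sum_shapeVec 2 hq.2.1, h8] at hd
    have hle : shapeVec 2 q.1 q.2 none ≤ 2 := by
      unfold shapeVec; split_ifs <;> norm_num
    have hN : q.2.card = 0 := by
      have : (0 : ℤ) ≤ (q.2.card : ℤ) := Int.natCast_nonneg _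
      push_cast at hd
      omega
    have hN' : q.2 = ∅ := Finset.card_eq_zero.mp hN
    have h2 : shapeVec 2 q.1 q.2 none = 2 := by
      rw [hN] at hd; push_cast at hd; omega
    have hin : none ∈ q.1 := by
      by_contra hc
      unfold shapeVec at h2
      rw [if_neg hc] at h2
      norm_num at h2
    refine ⟨q.1, ?_, by rw [hN']⟩
    rw [Finset.mem_filter, mem_octF]
    exact ⟨hq.1, hin⟩
  · rintro ⟨p, hp, rfl⟩
    rw [Finset.mem_filter, mem_octF] at hp
    have h8 : p.card = 8 := by
      obtain ⟨c, -, -, h8⟩ := (mem_octads_iff p).mp hp.1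
      exact h8
    constructor
    · unfold FB
      rw [Finset.mem_image]
      refine ⟨⟨p, ∅⟩, ?_, rfl⟩
      rw [mem_idxB]
      exact ⟨hp.1, Finset.empty_subset _, by simp⟩
    · rw [dotInt_u5, sum_shapeVec 2 (Finset.empty_subset p), h8]
      unfold shapeVec
      rw [if_pos hp.2, if_neg (Finset.notMem_empty _)]
      norm_num

theorem cntB_u5 : (FB.filter (fun w => dotInt u5 w = 24)).card = 253 := by
  rw [filter_FB_u5, Finset.card_image_of_injOn, card_octF_one]
  intro p _ p' _ h
  exact (shapeVec_injective (by norm_num : (0 : ℤ) < 2) (Finset.empty_subset p)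
    (Finset.empty_subset p') h).1

/-! #### Family C -/

theorem sum_fC (q : GolayPt × golayCode) :
    ∑ i, fC q i = 24 - 2 * ((support₂ q.2.1).card : ℤ) + (if q.2.1 q.1 = 0 then -4 else 4) := by
  unfold fC
  rw [Finset.sum_add_distrib, ← Finset.mul_sum, sum_aJW, Finset.sum_const, Finset.card_univ,
    card_golayPt]
  split_ifs <;> simp <;> ring

theorem support₂_card_pos {w : GolayPt → ZMod 2} {i : GolayPt} (h : w i ≠ 0) :
    0 < (support₂ w).card := Finset.card_pos.mpr ⟨i, mem_support₂.mpr h⟩

theorem eq_zero_of_support₂_card {w : GolayPt → ZMod 2} (h : (support₂ w).card = 0) : w = 0 := by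
  funext i
  by_contra hc
  have := support₂_card_pos (i := i) hc
  omega

theorem support₂_zero_card : (support₂ (0 : GolayPt → ZMod 2)).card = 0 := by
  rw [Finset.card_eq_zero]
  ext i
  rw [mem_support₂]
  simp

/-- The condition on `(j, c)` for `fC (j, c)` to have inner product `24` with `u5`. -/
theorem dot_u5_fC (q : GolayPt × golayCode) :
    dotInt u5 (fC q) = 24 ↔
      (q.1 = none ∧ q.2.1 none ≠ 0 ∧ (support₂ q.2.1).card = 8) ∨ (q.1 ≠ none ∧ q.2.1 = 0) := by
  obtain ⟨j, c⟩ := q
  rw [dotInt_u5, sum_fC]
  have hW := golay_weight c.2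
  show _ + 4 * (1 + 2 * aJW j c.1 none) = 24 ↔ _
  unfold aJW
  simp only
  by_cases hj : j = none
  · subst hj
    rw [if_pos rfl]
    by_cases h0 : c.1 none = 0
    · rw [if_pos h0, if_pos h0]
      constructor
      · intro h; exfalso; omega
      · rintro (⟨-, h, -⟩ | ⟨h, -⟩)
        · exact absurd h0 h
        · exact absurd rfl h
    · rw [if_neg h0, if_neg h0]
      constructor
      · intro h
        left
        refine ⟨rfl, h0, ?_⟩
        omega
      · rintro (⟨-, -, h⟩ | ⟨h, -⟩)
        · rw [h]; norm_num
        · exact absurd rfl h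
  · have hj' : ¬ none = j := fun h => hj h.symm
    rw [if_neg hj']
    have hpos1 := support₂_card_pos (w := c.1) (i := none)
    have hpos2 := support₂_card_pos (w := c.1) (i := j)
    by_cases h0 : c.1 none = 0
    · rw [if_pos h0]
      by_cases h1 : c.1 j = 0
      · rw [if_pos h1]
        constructor
        · intro h
          right
          refine ⟨hj, eq_zero_of_support₂_card ?_⟩
          omega
        · rintro (⟨h, -, -⟩ | ⟨-, h⟩)
          · exact absurd h hj
          · rw [h, support₂_zero_card]; norm_num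
      · rw [if_neg h1]
        constructor
        · intro h; exfalso; omega
        · rintro (⟨h, -, -⟩ | ⟨-, h⟩)
          · exact absurd h hj
          · rw [h] at h1; exact absurd rfl h1
    · rw [if_neg h0]
      have := hpos1 h0
      constructor
      · intro h
        exfalso
        split_ifs at h <;> omega
      · rintro (⟨h, -, -⟩ | ⟨-, h⟩)
        · exact absurd h hj
        · rw [h] at h0; exact absurd rfl h0


theorem card_code8_through (a : GolayPt) :
    ((Finset.univ : Finset golayCode).filter
      (fun c => c.1 a ≠ 0 ∧ (support₂ c.1).card = 8)).card = 253 := by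
  rw [← card_octF_one a]
  apply Finset.card_bij (fun c _ => support₂ c.1)
  · intro c hc
    rw [Finset.mem_filter] at hc
    rw [Finset.mem_filter, mem_octF, mem_octads_iff]
    exact ⟨⟨c.1, c.2, rfl, hc.2.2⟩, mem_support₂.mpr hc.2.1⟩
  · intro c _ c' _ h
    exact Subtype.ext (Cfsg.Agent.Helper29.support₂_injective h)
  · intro p hp
    rw [Finset.mem_filter, mem_octF, mem_octads_iff] at hp
    obtain ⟨⟨w, hw, rfl, h8⟩, ha⟩ := hp
    refine ⟨⟨w, hw⟩, ?_, rfl⟩
    rw [Finset.mem_filter]
    exact ⟨Finset.mem_univ _, mem_support₂.mp ha, h8⟩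

theorem card_filter_FC (P : (GolayPt → ℤ) → Prop) [DecidablePred P] :
    (FC.filter P).card =
      ((Finset.univ : Finset (GolayPt × golayCode)).filter (fun q => P (fC q))).card := by
  unfold FC
  rw [Finset.filter_image, Finset.card_image_of_injective _ fC_injective]

theorem cntC_u5 : (FC.filter (fun w => dotInt u5 w = 24)).card = 276 := by
  rw [card_filter_FC]
  have e : (Finset.univ : Finset (GolayPt × golayCode)).filter (fun q => dotInt u5 (fC q) = 24) =
      (({none} : Finset GolayPt) ×ˢ ((Finset.univ : Finset golayCode).filter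
        (fun c => c.1 none ≠ 0 ∧ (support₂ c.1).card = 8))) ∪
      (((Finset.univ : Finset GolayPt).erase none) ×ˢ ({0} : Finset golayCode)) := by
    ext q
    rw [Finset.mem_filter, dot_u5_fC, Finset.mem_union, Finset.mem_product, Finset.mem_product,
      Finset.mem_singleton, Finset.mem_filter, Finset.mem_erase, Finset.mem_singleton]
    constructor
    · rintro ⟨-, h | h⟩
      · left; exact ⟨h.1, Finset.mem_univ _, h.2⟩
      · right; exact ⟨⟨h.1, Finset.mem_univ _⟩, Subtype.ext h.2⟩
    · rintro (h | h)
      · exact ⟨Finset.mem_univ _, Or.inl ⟨h.1, h.2.2⟩⟩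
      · refine ⟨Finset.mem_univ _, Or.inr ⟨h.1.1, ?_⟩⟩
        rw [h.2]; rfl
  rw [e, Finset.card_union_of_disjoint, Finset.card_product, Finset.card_product,
    card_code8_through, Finset.card_singleton, Finset.card_singleton, Finset.card_erase_of_mem
    (Finset.mem_univ _), Finset.card_univ, card_golayPt]
  rw [Finset.disjoint_left]
  intro q h1 h2
  rw [Finset.mem_product, Finset.mem_singleton] at h1
  rw [Finset.mem_product, Finset.mem_erase] at h2
  exact h2.1.1 h1.1

theorem cntDot_u5 : cntDot u5 24 = 552 := by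
  unfold cntDot F32
  rw [Finset.filter_union, Finset.filter_union, Finset.card_union_of_disjoint,
    Finset.card_union_of_disjoint, card_filter_FA, cntA_u5, cntB_u5, cntC_u5]
  · exact Finset.disjoint_filter_filter disj_AB
  · rw [← Finset.filter_union]
    exact Finset.disjoint_filter_filter disj_ABC

/-- Every vector of norm 48 has inner product `24` with exactly `552` minimal vectors. -/
theorem cntDot_norm48 {u : GolayPt → ℤ} (hu : u ∈ leechLattice) (hn : sqNorm u = 48) :
    cntDot u 24 = 552 := by
  have h5 := famO_sound (by decide) u5_mem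
  have h5n : sqNorm u5 = 48 := by rw [h5.2.1]; norm_num
  rw [cntDot_coEq (trans_norm48 hu h5.1 hn h5n) 24, cntDot_u5]


end Cfsg.Agent.Helper27
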