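import Mathlib
import Cfsg.Agent.Lib.Helper27.LeechPairs2

set_option autoImplicit false
set_option maxRecDepth 8000
open Cfsg

/-! Double counting of pairs of minimal vectors by the norm of their sum. -/

namespace Cfsg.Agent.Helper27

theorem dotInt_comm' (x y : GolayPt → ℤ) : dotInt x y = dotInt y x := by
  unfold dotInt; exact Finset.sum_congr rfl (fun i _ => mul_comm _ _)

theorem dotInt_self' (x : GolayPt → ℤ) : dotInt x x = sqNorm x := by
  unfold dotInt sqNorm; exact Finset.sum_congr rfl (fun i _ => (sq _).symm)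

theorem dotInt_sub_right' (x y z : GolayPt → ℤ) : dotInt x (y - z) = dotInt x y - dotInt x z := by
  unfold dotInt
  rw [← Finset.sum_sub_distrib]
  exact Finset.sum_congr rfl (fun i _ => by rw [Pi.sub_apply]; ring)

theorem dotInt_add_right' (x y z : GolayPt → ℤ) : dotInt x (y + z) = dotInt x y + dotInt x z := by
  unfold dotInt
  rw [← Finset.sum_add_distrib]
  exact Finset.sum_congr rfl (fun i _ => by rw [Pi.add_apply]; ring)

theorem dotInt_neg_right' (x y : GolayPt → ℤ) : dotInt x (-y) = -dotInt x y := by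
  unfold dotInt
  rw [← Finset.sum_neg_distrib]
  exact Finset.sum_congr rfl (fun i _ => by rw [Pi.neg_apply]; ring)

theorem dotInt_two_nsmul_right (x y : GolayPt → ℤ) : dotInt x (2 • y) = 2 * dotInt x y := by
  rw [two_smul ℕ y, dotInt_add_right']; ring

theorem dotInt_dvd_eight {y z : GolayPt → ℤ} (hy : y ∈ leechLattice) (hz : z ∈ leechLattice) :
    (8 : ℤ) ∣ dotInt y z := by
  have h1 := sqNorm_dvd_of_mem hy
  have h2 := sqNorm_dvd_of_mem hz
  have h3 := sqNorm_dvd_of_mem (add_mem hy hz)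
  rw [sqNorm_add] at h3
  omega

/-! ### Norm 64: the cross -/

theorem sub_two_nsmul_apply (u w : GolayPt → ℤ) (i : GolayPt) :
    (u - 2 • w) i = u i - 2 * w i := by
  rw [Pi.sub_apply, two_smul ℕ, Pi.add_apply]; ring

open Classical in
theorem cntDot_norm64 {u : GolayPt → ℤ} (hu : u ∈ leechLattice) (hn : sqNorm u = 64) :
    cntDot u 32 = 46 := by
  have h48 := card_fiber64 hu hn
  set C := Sh.filter (fun y => cls y = cls u) with hC
  have huC : u ∈ C := by
    rw [hC, Finset.mem_filter, mem_Sh]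
    exact ⟨⟨hu, Or.inr (Or.inr (Or.inr hn))⟩, rfl⟩
  have hune : u ≠ -u := by
    intro h
    have h0 : u = 0 := by
      funext i
      have := congrFun h i
      rw [Pi.neg_apply] at this
      show u i = 0
      omega
    rw [h0, sqNorm_zero'] at hn
    norm_num at hn
  have hnuC : -u ∈ C.erase u := by
    rw [Finset.mem_erase, hC, Finset.mem_filter, mem_Sh]
    refine ⟨fun h => hune h.symm, ⟨neg_mem hu, Or.inr (Or.inr (Or.inr ?_))⟩, ?_⟩
    · rw [sqNorm_neg']; exact hn
    · rw [cls_eq_iff (neg_mem hu) hu]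
      refine ⟨-u, neg_mem hu, ?_⟩
      rw [two_smul ℕ]; abel
  have h46 : ((C.erase u).erase (-u)).card = 46 := by
    rw [Finset.card_erase_of_mem hnuC, Finset.card_erase_of_mem huC, h48]
  rw [← h46]
  unfold cntDot
  refine Finset.card_bij (fun w _ => u - 2 • w) ?_ ?_ ?_
  · intro w hw
    rw [Finset.mem_filter, mem_F32] at hw
    obtain ⟨⟨hwL, hwn⟩, hd⟩ := hw
    have hyL : u - 2 • w ∈ leechLattice := sub_mem hu (nsmul_mem hwL 2)
    have hyn : sqNorm (u - 2 • w) = 64 := by
      rw [sqNorm_sub', sqNorm_two_nsmul, dotInt_two_nsmul_right, hn, hwn, hd]; norm_num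
    have hw0 : w ≠ 0 := ne_zero_of_sqNorm hwn (by norm_num)
    rw [Finset.mem_erase, Finset.mem_erase, hC, Finset.mem_filter, mem_Sh]
    refine ⟨?_, ?_, ⟨hyL, Or.inr (Or.inr (Or.inr hyn))⟩, ?_⟩
    · intro h
      have h1 : w = u := by
        funext i
        have := congrFun h i
        rw [sub_two_nsmul_apply, Pi.neg_apply] at this
        omega
      rw [h1, hn] at hwn
      norm_num at hwn
    · intro h
      apply hw0
      funext i
      have := congrFun h i
      rw [sub_two_nsmul_apply] at this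
      show w i = 0
      omega
    · rw [cls_eq_iff hyL hu]
      refine ⟨-w, neg_mem hwL, ?_⟩
      rw [smul_neg]; abel
  · intro w _ w' _ h
    funext i
    have := congrFun h i
    rw [sub_two_nsmul_apply, sub_two_nsmul_apply] at this
    omega
  · intro y hy
    rw [Finset.mem_erase, Finset.mem_erase, hC, Finset.mem_filter, mem_Sh] at hy
    obtain ⟨hy1, hy2, ⟨hyL, hyS⟩, hcls⟩ := hy
    have hyn : sqNorm y ≤ 64 := by
      rcases hyS with h | h | h | h <;> rw [h] <;> norm_num
    have hcong := (cls_eq_iff hyL hu).mp hcls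
    rcases short_cong hyL hu hyn (le_of_eq hn) hcong with h | h | ⟨h64, -, hdot⟩
    · exact absurd h hy2
    · exact absurd h hy1
    obtain ⟨z, hz, hyz⟩ := hcong
    have h1 : sqNorm (y - u) = 128 := by
      rw [sqNorm_sub', h64, hn, hdot]; norm_num
    rw [hyz, sqNorm_two_nsmul] at h1
    have h2 : dotInt u (y - u) = -64 := by
      rw [dotInt_sub_right', dotInt_self', hn, dotInt_comm', hdot]; norm_num
    rw [hyz, dotInt_two_nsmul_right] at h2
    refine ⟨-z, ?_, ?_⟩
    · rw [Finset.mem_filter, mem_F32]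
      refine ⟨⟨neg_mem hz, ?_⟩, ?_⟩
      · rw [sqNorm_neg']; omega
      · rw [dotInt_neg_right']; omega
    · show u - 2 • (-z) = y
      rw [smul_neg, ← hyz]; abel

/-! ### Double counting -/

theorem card_filter_shift (Fn : Finset (GolayPt → ℤ)) (m : ℤ)
    (hFn : ∀ x, x ∈ Fn ↔ x ∈ leechLattice ∧ sqNorm x = 2 * m) {v : GolayPt → ℤ} (hv : v ∈ F32) :
    (Fn.filter (fun u => dotInt u v = m)).card = cntDot v (m - 32) := by
  rw [mem_F32] at hv
  unfold cntDot
  refine Finset.card_bij (fun u _ => u - v) ?_ ?_ ?_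
  · intro u hu
    rw [Finset.mem_filter, hFn] at hu
    obtain ⟨⟨huL, hun⟩, hd⟩ := hu
    rw [Finset.mem_filter, mem_F32]
    refine ⟨⟨sub_mem huL hv.1, ?_⟩, ?_⟩
    · rw [sqNorm_sub', hun, hv.2, hd]; ring
    · rw [dotInt_sub_right', dotInt_self', hv.2, dotInt_comm', hd]
  · intro u _ u' _ h
    exact sub_left_injective h
  · intro w hw
    rw [Finset.mem_filter, mem_F32] at hw
    obtain ⟨⟨hwL, hwn⟩, hd⟩ := hw
    refine ⟨w + v, ?_, by abel⟩
    rw [Finset.mem_filter, hFn]
    refine ⟨⟨add_mem hwL hv.1, ?_⟩, ?_⟩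
    · rw [sqNorm_add, hwn, hv.2, dotInt_comm', hd]; ring
    · rw [dotInt_comm', dotInt_add_right', dotInt_self', hv.2, hd]; ring

theorem sum_cntDot (Fn : Finset (GolayPt → ℤ)) (m : ℤ)
    (hFn : ∀ x, x ∈ Fn ↔ x ∈ leechLattice ∧ sqNorm x = 2 * m) :
    ∑ u ∈ Fn, cntDot u m = ∑ v ∈ F32, cntDot v (m - 32) := by
  have h := Finset.sum_card_bipartiteAbove_eq_sum_card_bipartiteBelow (s := Fn) (t := F32)
    (fun u v => dotInt u v = m)
  have h1 : ∑ u ∈ Fn, cntDot u m =
      ∑ u ∈ Fn, (Finset.bipartiteAbove (fun u v => dotInt u v = m) F32 u).card := rfl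
  rw [h1, h]
  apply Finset.sum_congr rfl
  intro v hv
  exact card_filter_shift Fn m hFn hv

theorem cntDot_const {v v' : GolayPt → ℤ} (hv : v ∈ F32) (hv' : v' ∈ F32) (t : ℤ) :
    cntDot v t = cntDot v' t := by
  rw [mem_F32] at hv hv'
  exact cntDot_coEq (trans_norm32 hv.1 hv'.1 hv.2 hv'.2) t

theorem sum_cntDot_F32 {v : GolayPt → ℤ} (hv : v ∈ F32) (t : ℤ) :
    ∑ v' ∈ F32, cntDot v' t = 196560 * cntDot v t := by
  rw [Finset.sum_congr rfl (fun v' hv' => cntDot_const hv' hv t), Finset.sum_const, card_F32,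
    smul_eq_mul]

theorem cntDot_zero {v : GolayPt → ℤ} (hv : v ∈ F32) : cntDot v 0 = 93150 := by
  have h1 := sum_cntDot F64 32 (fun x => by rw [mem_F64']; norm_num)
  rw [Finset.sum_congr rfl (g := fun _ => 46)
    (fun u hu => cntDot_norm64 (mem_F64'.mp hu).1 (mem_F64'.mp hu).2), Finset.sum_const, card_F64,
    smul_eq_mul] at h1
  have h2 : (32 : ℤ) - 32 = 0 := by norm_num
  rw [h2, sum_cntDot_F32 hv] at h1
  omega

theorem cntDot_neg_eight {v : GolayPt → ℤ} (hv : v ∈ F32) : cntDot v (-8) = 47104 := by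
  have h1 := sum_cntDot F48 24 (fun x => by rw [mem_F48']; norm_num)
  rw [Finset.sum_congr rfl (g := fun _ => 552)
    (fun u hu => cntDot_norm48 (mem_F48'.mp hu).1 (mem_F48'.mp hu).2), Finset.sum_const, card_F48,
    smul_eq_mul] at h1
  have h2 : (24 : ℤ) - 32 = -8 := by norm_num
  rw [h2, sum_cntDot_F32 hv] at h1
  omega

theorem cntDot_neg (v : GolayPt → ℤ) (t : ℤ) : cntDot v (-t) = cntDot v t := by
  unfold cntDot
  refine Finset.card_bij (fun w _ => -w) ?_ ?_ ?_
  · intro w hw
    rw [Finset.mem_filter, mem_F32] at hw ⊢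
    refine ⟨⟨neg_mem hw.1.1, by rw [sqNorm_neg']; exact hw.1.2⟩, ?_⟩
    rw [dotInt_neg_right', hw.2]; ring
  · intro w _ w' _ h
    exact neg_injective h
  · intro w hw
    rw [Finset.mem_filter, mem_F32] at hw
    refine ⟨-w, ?_, neg_neg w⟩
    rw [Finset.mem_filter, mem_F32]
    refine ⟨⟨neg_mem hw.1.1, by rw [sqNorm_neg']; exact hw.1.2⟩, ?_⟩
    rw [dotInt_neg_right', hw.2]

theorem cntDot_32 {v : GolayPt → ℤ} (hv : v ∈ F32) : cntDot v 32 = 1 := by
  unfold cntDot
  rw [Finset.card_eq_one]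
  refine ⟨v, ?_⟩
  ext w
  rw [Finset.mem_filter, Finset.mem_singleton]
  rw [mem_F32] at hv
  constructor
  · rintro ⟨hw, hd⟩
    rw [mem_F32] at hw
    have h := sqNorm_sub' v w
    rw [hv.2, hw.2, hd] at h
    have h0 : v - w = 0 := (sqNorm_eq_zero_iff' _).mp (by rw [h]; norm_num)
    exact (sub_eq_zero.mp h0).symm
  · rintro rfl
    exact ⟨mem_F32.mpr hv, by rw [dotInt_self', hv.2]⟩

theorem dot_values {v w : GolayPt → ℤ} (hv : v ∈ F32) (hw : w ∈ F32) :
    dotInt v w ∈ ({-32, -16, -8, 0, 8, 16, 32} : Finset ℤ) := by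
  rw [mem_F32] at hv hw
  have h8 := dotInt_dvd_eight hv.1 hw.1
  have h1 := sqNorm_sub' v w
  have h2 := sqNorm_add v w
  rw [hv.2, hw.2] at h1 h2
  have h3 : dotInt v w = 32 ∨ dotInt v w ≤ 16 := by
    by_cases h0 : v - w = 0
    · left
      rw [h0, sqNorm_zero'] at h1
      omega
    · right
      have := leech_min_norm (sub_mem hv.1 hw.1) h0
      omega
  have h4 : dotInt v w = -32 ∨ -16 ≤ dotInt v w := by
    by_cases h0 : v + w = 0
    · left
      rw [h0, sqNorm_zero'] at h2
      omega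
    · right
      have := leech_min_norm (add_mem hv.1 hw.1) h0
      omega
  simp only [Finset.mem_insert, Finset.mem_singleton]
  omega

theorem cntDot_neg_sixteen {v : GolayPt → ℤ} (hv : v ∈ F32) : cntDot v (-16) = 4600 := by
  have h := Finset.card_eq_sum_card_fiberwise (s := F32) (t := ({-32, -16, -8, 0, 8, 16, 32} : Finset ℤ))
    (f := fun w => dotInt v w) (fun w hw => dot_values hv hw)
  rw [card_F32] at h
  rw [Finset.sum_insert (by decide), Finset.sum_insert (by decide), Finset.sum_insert (by decide),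
    Finset.sum_insert (by decide), Finset.sum_insert (by decide), Finset.sum_insert (by decide),
    Finset.sum_singleton] at h
  have e : ∀ t : ℤ, (F32.filter (fun w => dotInt v w = t)).card = cntDot v t := fun t => rfl
  rw [e, e, e, e, e, e, e] at h
  have a1 := cntDot_neg v 32
  have a2 := cntDot_neg v 16
  have a3 := cntDot_neg v 8
  rw [a1, a2, a3, cntDot_32 hv, cntDot_zero hv] at h
  have a4 := cntDot_neg_eight hv
  rw [a3] at a4
  rw [a2]
  omega


end Cfsg.Agent.Helper27
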