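import Mathlib
import Cfsg.Agent.Lib.Helper27.LeechPairs3
import Cfsg.Agent.Lib.Helper27.LeechOrder
import Cfsg.Agent.Lib.Helper29.GolayCount

set_option autoImplicit false
set_option maxRecDepth 8000
open Cfsg

/-! Simultaneous equivalence of pairs of lattice vectors under the automorphism group, and
adapted coordinate frames. -/

namespace Cfsg.Agent.Helper27

open Cfsg.Agent.S0398 (permP permP_mem permP_apply epsP epsP_mem epsP_apply)
open Cfsg.Agent.Helper29 (cw_mem)
open Cfsg.Agent.S0394 (FA FB FC idxA idxB fC mem_idxA mem_idxB mem_octads_iff aJW odd_fC)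

/-- Simultaneous equivalence of two pairs of vectors. -/
def CoEq2 (x y x' y' : GolayPt → ℤ) : Prop :=
  ∃ g : Equiv.Perm leechLattice, g ∈ Co0 ∧ ∃ (hx : x ∈ leechLattice) (hy : y ∈ leechLattice),
    ((g ⟨x, hx⟩ : leechLattice) : GolayPt → ℤ) = x' ∧
    ((g ⟨y, hy⟩ : leechLattice) : GolayPt → ℤ) = y'

theorem CoEq2.refl {x y : GolayPt → ℤ} (hx : x ∈ leechLattice) (hy : y ∈ leechLattice) :
    CoEq2 x y x y :=
  ⟨1, Subgroup.one_mem _, hx, hy, rfl, rfl⟩

theorem CoEq2.symm {x y x' y' : GolayPt → ℤ} (h : CoEq2 x y x' y') : CoEq2 x' y' x y := by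
  obtain ⟨g, hg, hx, hy, rfl, rfl⟩ := h
  refine ⟨g⁻¹, Co0.inv_mem hg, (g ⟨x, hx⟩).2, (g ⟨y, hy⟩).2, ?_, ?_⟩
  · show ((g⁻¹ (g ⟨x, hx⟩) : leechLattice) : GolayPt → ℤ) = x
    rw [Equiv.Perm.inv_def, Equiv.symm_apply_apply]
  · show ((g⁻¹ (g ⟨y, hy⟩) : leechLattice) : GolayPt → ℤ) = y
    rw [Equiv.Perm.inv_def, Equiv.symm_apply_apply]

theorem CoEq2.trans {x y x' y' x'' y'' : GolayPt → ℤ} (h : CoEq2 x y x' y')
    (h' : CoEq2 x' y' x'' y'') : CoEq2 x y x'' y'' := by
  obtain ⟨g, hg, hx, hy, rfl, rfl⟩ := h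
  obtain ⟨g', hg', hx', hy', rfl, rfl⟩ := h'
  exact ⟨g' * g, Co0.mul_mem hg' hg, hx, hy, rfl, rfl⟩

theorem CoEq2.left {x y x' y' : GolayPt → ℤ} (h : CoEq2 x y x' y') : CoEq x x' := by
  obtain ⟨g, hg, hx, hy, h1, h2⟩ := h
  exact ⟨g, hg, hx, h1⟩

theorem CoEq2.right {x y x' y' : GolayPt → ℤ} (h : CoEq2 x y x' y') : CoEq y y' := by
  obtain ⟨g, hg, hx, hy, h1, h2⟩ := h
  exact ⟨g, hg, hy, h2⟩

theorem CoEq2.swap {x y x' y' : GolayPt → ℤ} (h : CoEq2 x y x' y') : CoEq2 y x y' x' := by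
  obtain ⟨g, hg, hx, hy, h1, h2⟩ := h
  exact ⟨g, hg, hy, hx, h2, h1⟩

theorem CoEq2.dot {x y x' y' : GolayPt → ℤ} (h : CoEq2 x y x' y') :
    dotInt x' y' = dotInt x y := by
  obtain ⟨g, hg, hx, hy, rfl, rfl⟩ := h
  exact co0_dotInt hg ⟨x, hx⟩ ⟨y, hy⟩

theorem CoEq2.add {x y x' y' : GolayPt → ℤ} (h : CoEq2 x y x' y') : CoEq (x + y) (x' + y') := by
  obtain ⟨g, hg, hx, hy, rfl, rfl⟩ := h
  refine ⟨g, hg, add_mem hx hy, ?_⟩
  have := co0_add hg ⟨x, hx⟩ ⟨y, hy⟩
  exact congrArg Subtype.val this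

/-- An equivalence of single vectors extends to a second vector. -/
theorem CoEq.extend {x x' : GolayPt → ℤ} (h : CoEq x x') {y : GolayPt → ℤ}
    (hy : y ∈ leechLattice) : ∃ y', CoEq2 x y x' y' := by
  obtain ⟨g, hg, hx, h1⟩ := h
  exact ⟨_, g, hg, hx, hy, h1, rfl⟩

theorem coEq2_perm {σ : Equiv.Perm GolayPt} (hσ : σ ∈ M24) {x y : GolayPt → ℤ}
    (hx : x ∈ leechLattice) (hy : y ∈ leechLattice) :
    CoEq2 x y (fun i => x (σ i)) (fun i => y (σ i)) :=
  ⟨permP σ hσ, permP_mem σ hσ, hx, hy, rfl, rfl⟩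

theorem coEq2_eps {c : GolayPt → ZMod 2} (hc : c ∈ golayCode) {x y : GolayPt → ℤ}
    (hx : x ∈ leechLattice) (hy : y ∈ leechLattice) :
    CoEq2 x y (signChange (support₂ c) x) (signChange (support₂ c) y) :=
  ⟨epsP c hc, epsP_mem c hc, hx, hy, rfl, rfl⟩

/-- From simultaneous equivalence to a common standard pair to a group element. -/
theorem exists_smul_of_coEq2 {v w w' : leechLattice} {p q : GolayPt → ℤ}
    (h : CoEq2 v.1 w.1 p q) (h' : CoEq2 v.1 w'.1 p q) :
    ∃ g : Co0, g • v = v ∧ g • w = w' := by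
  obtain ⟨g, hg, hx, hy, h1, h2⟩ := h.trans h'.symm
  refine ⟨⟨g, hg⟩, Subtype.ext h1, Subtype.ext h2⟩

/-! ### Vectors with a coordinate `±4` -/

theorem vec44_apply_left {i j : GolayPt} (hij : i ≠ j) (s : ℤ) : vec44 i j s i = 4 := by
  unfold vec44
  rw [if_pos rfl, if_neg hij]; ring

theorem vec44_apply_right {i j : GolayPt} (hij : i ≠ j) (s : ℤ) : vec44 i j s j = 4 * s := by
  unfold vec44
  rw [if_neg (Ne.symm hij), if_pos rfl]; ring

theorem vec44_apply_other {i j k : GolayPt} (hi : k ≠ i) (hj : k ≠ j) (s : ℤ) :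
    vec44 i j s k = 0 := by
  unfold vec44
  rw [if_neg hi, if_neg hj]; ring

/-- A minimal vector with a coordinate `4`. -/
theorem eq_vec44_of_apply {x : GolayPt → ℤ} (hx : x ∈ leechLattice) (hn : sqNorm x = 32)
    {a : GolayPt} (h4 : x a = 4) :
    ∃ j, j ≠ a ∧ ∃ s : ℤ, (s = 1 ∨ s = -1) ∧ x = vec44 a j s := by
  have hF := mem_F32.mpr ⟨hx, hn⟩
  unfold F32 at hF
  rw [Finset.mem_union, Finset.mem_union] at hF
  rcases hF with (hA | hB) | hC
  · unfold FA at hA
    rw [Finset.mem_image] at hA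
    obtain ⟨q, hq, rfl⟩ := hA
    rw [mem_idxA] at hq
    obtain ⟨c, d, hcd, hp⟩ := Finset.card_eq_two.mp hq.1
    have hap : a ∈ q.1 := by
      by_contra hc
      unfold shapeVec at h4
      rw [if_neg hc] at h4
      norm_num at h4
    have haN : a ∉ q.2 := by
      intro hc
      unfold shapeVec at h4
      rw [if_pos hap, if_pos hc] at h4
      norm_num at h4
    -- the other point
    have key : ∀ j, j ≠ a → q.1 = {a, j} → ∃ j, j ≠ a ∧ ∃ s : ℤ, (s = 1 ∨ s = -1) ∧
        shapeVec 4 q.1 q.2 = vec44 a j s := by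
      intro j hja hpj
      refine ⟨j, hja, if j ∈ q.2 then -1 else 1, by split_ifs <;> simp, ?_⟩
      funext k
      unfold shapeVec vec44
      by_cases hka : k = a
      · subst hka
        rw [if_pos hap, if_neg haN, if_pos rfl, if_neg (Ne.symm hja)]; ring
      · by_cases hkj : k = j
        · subst hkj
          have : k ∈ q.1 := by rw [hpj]; simp
          rw [if_pos this, if_neg hka, if_pos rfl]
          split_ifs <;> ring
        · have : k ∉ q.1 := by rw [hpj]; simp [hka, hkj]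
          rw [if_neg this, if_neg hka, if_neg hkj]; ring
    rw [hp, Finset.mem_insert, Finset.mem_singleton] at hap
    rcases hap with rfl | rfl
    · exact key d (Ne.symm hcd) hp
    · exact key c hcd (by rw [hp, Finset.pair_comm])
  · exfalso
    unfold FB at hB
    rw [Finset.mem_image] at hB
    obtain ⟨q, -, rfl⟩ := hB
    unfold shapeVec at h4
    split_ifs at h4 <;> norm_num at h4
  · exfalso
    unfold FC at hC
    rw [Finset.mem_image] at hC
    obtain ⟨q, -, rfl⟩ := hC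
    have := odd_fC q a
    rw [h4] at this
    exact this (by norm_num)

theorem v0raw_apply (i : GolayPt) : v0raw i = if i = none then 8 else 0 := by
  unfold v0raw; rw [Pi.single_apply]

theorem dotInt_v0raw (x : GolayPt → ℤ) : dotInt v0raw x = 8 * x none := by
  unfold dotInt
  rw [Finset.sum_eq_single none]
  · rw [v0raw_apply, if_pos rfl]
  · intro i _ hi
    rw [v0raw_apply, if_neg hi, zero_mul]
  · intro h; exact absurd (Finset.mem_univ _) h

theorem v0raw_sub_vec44 {j : GolayPt} (hj : j ≠ none) (s : ℤ) :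
    v0raw - vec44 none j s = vec44 none j (-s) := by
  funext k
  rw [Pi.sub_apply, v0raw_apply]
  unfold vec44
  by_cases hk : k = none
  · subst hk
    rw [if_pos rfl, if_pos rfl, if_neg (Ne.symm hj), if_neg (Ne.symm hj)]; ring
  · rw [if_neg hk, if_neg hk]
    split_ifs <;> ring

/-- Two orthogonal minimal vectors become `4e_∞ ± 4e_j` in a suitable frame. -/
theorem frame_adapt {v q : GolayPt → ℤ} (hv : v ∈ leechLattice) (hq : q ∈ leechLattice)
    (hvn : sqNorm v = 32) (hqn : sqNorm q = 32) (hd : dotInt v q = 0) :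
    ∃ j, j ≠ none ∧ ∃ s : ℤ, (s = 1 ∨ s = -1) ∧
      CoEq2 v q (vec44 none j s) (vec44 none j (-s)) := by
  have hyn : sqNorm (v + q) = 64 := by rw [sqNorm_add, hvn, hqn, hd]; norm_num
  obtain ⟨g, hg, hy, hgy⟩ := trans_norm64 (add_mem hv hq) v0raw_mem hyn v0raw_norm
  have hsum : ((g ⟨v, hv⟩ : leechLattice) : GolayPt → ℤ) + ((g ⟨q, hq⟩ : leechLattice) : GolayPt → ℤ)
      = v0raw := by
    rw [← hgy]
    have := co0_add hg ⟨v, hv⟩ ⟨q, hq⟩
    exact (congrArg Subtype.val this).symm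
  set v' := ((g ⟨v, hv⟩ : leechLattice) : GolayPt → ℤ) with hv'
  set q' := ((g ⟨q, hq⟩ : leechLattice) : GolayPt → ℤ) with hq'
  have hv'n : sqNorm v' = 32 := by rw [hv', co0_sqNorm hg]; exact hvn
  have hq'n : sqNorm q' = 32 := by rw [hq', co0_sqNorm hg]; exact hqn
  have hq'e : q' = v0raw - v' := by rw [← hsum]; abel
  have h4 : v' none = 4 := by
    have := hq'n
    rw [hq'e, sqNorm_sub', v0raw_norm, hv'n, dotInt_v0raw] at this
    omega
  obtain ⟨j, hj, s, hs, hvs⟩ := eq_vec44_of_apply (g ⟨v, hv⟩).2 hv'n h4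
  refine ⟨j, hj, s, hs, g, hg, hv, hq, hvs, ?_⟩
  show q' = _
  rw [hq'e, ← v0raw_sub_vec44 hj s]
  congr 1


theorem vec44_comp {σ : Equiv.Perm GolayPt} {a b i j : GolayPt} (ha : σ a = i) (hb : σ b = j)
    (s : ℤ) : (fun k => vec44 i j s (σ k)) = vec44 a b s := by
  funext k
  unfold vec44
  rw [← ha, ← hb]
  simp only [EmbeddingLike.apply_eq_iff_eq]

theorem signChange_vec44 {C : Finset GolayPt} {i j : GolayPt} (hi : i ∉ C) (s : ℤ) :
    signChange C (vec44 i j s) = vec44 i j (if j ∈ C then -s else s) := by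
  funext k
  unfold signChange vec44
  by_cases hk : k ∈ C
  · have hki : k ≠ i := fun h => hi (h ▸ hk)
    rw [if_pos hk, if_neg hki]
    by_cases hkj : k = j
    · subst hkj
      rw [if_pos rfl, if_pos rfl, if_pos hk]; ring
    · rw [if_neg hkj, if_neg hkj]; ring
  · rw [if_neg hk]
    by_cases hkj : k = j
    · subst hkj
      rw [if_neg hk]
    · rw [if_neg hkj, if_neg hkj]

theorem signChange_neg (C : Finset GolayPt) (x : GolayPt → ℤ) :
    signChange C (-x) = -signChange C x := by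
  funext k
  unfold signChange
  rw [Pi.neg_apply, Pi.neg_apply]
  split_ifs <;> rfl

/-- Code words with prescribed values at `∞, 0, 1`. -/
theorem exists_code_vals (a b : ZMod 2) :
    ∃ c ∈ golayCode, c none = 0 ∧ c (some 0) = a ∧ c (some 1) = b := by
  have h : ∀ a b : ZMod 2, ∃ n : Fin 4, ofMask (cw n.val) none = 0 ∧
      ofMask (cw n.val) (some 0) = a ∧ ofMask (cw n.val) (some 1) = b := by decide
  obtain ⟨n, hn⟩ := h a b
  exact ⟨_, cw_mem n.val, hn⟩

theorem exists_perm2 {j : GolayPt} (hj : j ≠ none) :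
    ∃ σ ∈ M24, σ none = none ∧ σ (some 0) = j := by
  obtain ⟨σ, hσ, h⟩ := exists_M24_map_list [none, some 0] [none, j] (by decide)
    (by simp [Ne.symm hj]) rfl (by decide)
  simp only [List.map_cons, List.map_nil, List.cons.injEq, and_true] at h
  exact ⟨σ, hσ, h.1, h.2⟩

theorem exists_perm3 {j k : GolayPt} (hj : j ≠ none) (hk : k ≠ none) (hjk : j ≠ k) :
    ∃ σ ∈ M24, σ none = none ∧ σ (some 0) = j ∧ σ (some 1) = k := by
  obtain ⟨σ, hσ, h⟩ := exists_M24_map_list [none, some 0, some 1] [none, j, k] (by decide)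
    (by simp [Ne.symm hj, Ne.symm hk, hjk]) rfl (by decide)
  simp only [List.map_cons, List.map_nil, List.cons.injEq, and_true] at h
  exact ⟨σ, hσ, h.1, h.2.1, h.2.2⟩

/-- Normal form of an orthogonal pair inside the standard frame. -/
theorem norm_pair0 {j : GolayPt} (hj : j ≠ none) {s : ℤ} (hs : s = 1 ∨ s = -1) :
    CoEq2 (vec44 none j s) (vec44 none j (-s)) (vec44 none (some 0) 1)
      (vec44 none (some 0) (-1)) := by
  obtain ⟨σ, hσ, h1, h2⟩ := exists_perm2 hj
  have hs' : -s = 1 ∨ -s = -1 := by rcases hs with rfl | rfl <;> simp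
  have s1 := coEq2_perm hσ (vec44_mem none j s hs) (vec44_mem none j (-s) hs')
  rw [vec44_comp h1 h2, vec44_comp h1 h2] at s1
  rcases hs with rfl | rfl
  · exact s1
  · obtain ⟨c, hc, c0, c1, -⟩ := exists_code_vals 1 0
    have hn : none ∉ support₂ c := by rw [mem_support₂, c0]; simp
    have h0 : some 0 ∈ support₂ c := by rw [mem_support₂, c1]; decide
    have s2 := coEq2_eps hc (vec44_mem none (some 0) (-1) (Or.inr rfl))
      (vec44_mem none (some 0) (-(-1)) (Or.inl (by norm_num)))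
    rw [signChange_vec44 hn, signChange_vec44 hn, if_pos h0, if_pos h0] at s2
    have e : (-(-1 : ℤ)) = 1 := by norm_num
    rw [e] at s2 s1
    exact s1.trans s2


/-- All ordered pairs of orthogonal minimal vectors are equivalent. -/
theorem pair_zero {v w : GolayPt → ℤ} (hv : v ∈ leechLattice) (hw : w ∈ leechLattice)
    (hvn : sqNorm v = 32) (hwn : sqNorm w = 32) (hd : dotInt v w = 0) :
    CoEq2 v w (vec44 none (some 0) 1) (vec44 none (some 0) (-1)) := by
  obtain ⟨j, hj, s, hs, h⟩ := frame_adapt hv hw hvn hwn hd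
  exact h.trans (norm_pair0 hj hs)

end Cfsg.Agent.Helper27
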