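import Mathlib
import Cfsg.Agent.Lib.Helper27.LeechFrame

set_option autoImplicit false
set_option maxRecDepth 8000
open Cfsg

/-! Transitivity on ordered pairs of minimal vectors with inner product `-16`. -/

namespace Cfsg.Agent.Helper27
open Cfsg.Agent.Helper29 (cw_mem)
open Cfsg.Agent.S0394 (FA FB FC idxA idxB fC mem_idxA mem_idxB mem_octads_iff aJW odd_fC)

theorem dotInt_vec44_left (i j : GolayPt) (s : ℤ) (x : GolayPt → ℤ) :
    dotInt (vec44 i j s) x = 4 * x i + 4 * s * x j := by
  unfold dotInt vec44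
  have h : ∀ k, ((if k = i then (4 : ℤ) else 0) + (if k = j then 4 * s else 0)) * x k =
      (if k = i then 4 * x i else 0) + (if k = j then 4 * s * x j else 0) := by
    intro k
    by_cases h1 : k = i <;> by_cases h2 : k = j
    · subst h1; subst h2; simp; ring
    · subst h1; simp [h2]
    · subst h2; simp [h1]
    · simp [h1, h2]
  rw [Finset.sum_congr rfl (fun k _ => h k), Finset.sum_add_distrib,
    Finset.sum_ite_eq' Finset.univ i, Finset.sum_ite_eq' Finset.univ j]
  simp

theorem dotInt_neg_left' (x y : GolayPt → ℤ) : dotInt (-x) y = -dotInt x y := by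
  rw [dotInt_comm', dotInt_neg_right', dotInt_comm']

theorem dotInt_add_left' (x y z : GolayPt → ℤ) : dotInt (x + y) z = dotInt x z + dotInt y z := by
  rw [dotInt_comm', dotInt_add_right', dotInt_comm' z x, dotInt_comm' z y]

theorem dotInt_sub_left' (x y z : GolayPt → ℤ) : dotInt (x - y) z = dotInt x z - dotInt y z := by
  rw [dotInt_comm', dotInt_sub_right', dotInt_comm' z x, dotInt_comm' z y]

/-- The standard minimal vector `4e_∞ + 4e_0`. -/
def v44 : GolayPt → ℤ := vec44 none (some 0) 1

theorem v44_mem : v44 ∈ leechLattice := vec44_mem _ _ _ (Or.inl rfl)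

theorem v44_norm : sqNorm v44 = 32 := sqNorm_vec44 _ _ (by decide) _ (Or.inl rfl)

theorem dotInt_v44 (x : GolayPt → ℤ) : dotInt v44 x = 4 * x none + 4 * x (some 0) := by
  unfold v44; rw [dotInt_vec44_left]; ring

/-- An explicit octad avoiding `∞` and `0`. -/
def oct30 : GolayPt → ZMod 2 := ofMask (cw 30)

theorem oct30_mem : oct30 ∈ golayCode := cw_mem 30

theorem oct30_card : (support₂ oct30).card = 8 := by
  unfold oct30; rw [card_support₂_ofMask]; decide

theorem oct30_none : none ∉ support₂ oct30 := by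
  rw [mem_support₂]; unfold oct30; decide

theorem oct30_zero : some 0 ∉ support₂ oct30 := by
  rw [mem_support₂]; unfold oct30; decide

theorem fC_apply_ne {j : GolayPt} {c : golayCode} {i : GolayPt} (hij : i ≠ j) :
    fC (j, c) i = 1 ∨ fC (j, c) i = -1 := by
  unfold fC aJW
  simp only
  rw [if_neg hij]
  split_ifs
  · left; norm_num
  · right; norm_num

theorem fC_apply_self (j : GolayPt) (c : golayCode) :
    fC (j, c) j = 3 ∨ fC (j, c) j = -3 := by
  unfold fC aJW
  simp only [if_true]
  split_ifs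
  · right; norm_num
  · left; norm_num

/-- The vector `-2x` on a set, `0` elsewhere, as a difference. -/
theorem signChange_sub_apply (C : Finset GolayPt) (x : GolayPt → ℤ) (i : GolayPt) :
    (signChange C x - x) i = if i ∈ C then -2 * x i else 0 := by
  rw [Pi.sub_apply]
  unfold signChange
  split_ifs <;> ring

theorem dotInt_signChange_sub (C : Finset GolayPt) (x y : GolayPt → ℤ) :
    dotInt (signChange C x - x) y = ∑ i ∈ C, -2 * x i * y i := by
  unfold dotInt
  rw [← Finset.sum_filter_add_sum_filter_not Finset.univ (fun i => i ∈ C)]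
  have h1 : ∑ i ∈ Finset.univ.filter (fun i => ¬ i ∈ C), (signChange C x - x) i * y i = 0 := by
    apply Finset.sum_eq_zero
    intro i hi
    rw [Finset.mem_filter] at hi
    rw [signChange_sub_apply, if_neg hi.2, zero_mul]
  rw [h1, add_zero]
  have h2 : Finset.univ.filter (fun i => i ∈ C) = C := by ext i; simp
  rw [h2]
  apply Finset.sum_congr rfl
  intro i hi
  rw [signChange_sub_apply, if_pos hi]

theorem sqNorm_signChange_sub (C : Finset GolayPt) (x : GolayPt → ℤ) :
    sqNorm (signChange C x - x) = ∑ i ∈ C, 4 * x i ^ 2 := by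
  rw [← dotInt_self', dotInt_signChange_sub]
  apply Finset.sum_congr rfl
  intro i hi
  rw [signChange_sub_apply, if_pos hi]; ring

/-- For a minimal vector `w` with inner product `-16` with `v44`, there is a minimal vector
orthogonal to `v44` with inner product `-16` with `w`. -/
theorem exists_q16 {w : GolayPt → ℤ} (hw : w ∈ leechLattice) (hn : sqNorm w = 32)
    (hd : dotInt v44 w = -16) :
    ∃ q ∈ leechLattice, sqNorm q = 32 ∧ dotInt v44 q = 0 ∧ dotInt q w = -16 := by
  rw [dotInt_v44] at hd
  have hF := mem_F32.mpr ⟨hw, hn⟩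
  unfold F32 at hF
  rw [Finset.mem_union, Finset.mem_union] at hF
  have hab : (none : GolayPt) ≠ some 0 := by decide
  rcases hF with (hA | hB) | hC
  · -- shape (4,4)
    unfold FA at hA
    rw [Finset.mem_image] at hA
    obtain ⟨p, -, rfl⟩ := hA
    have hval : ∀ i, shapeVec 4 p.1 p.2 i = 0 ∨ shapeVec 4 p.1 p.2 i = 4 ∨
        shapeVec 4 p.1 p.2 i = -4 := by
      intro i; unfold shapeVec; split_ifs <;> simp
    have h1 := hval none
    have h2 := hval (some 0)
    have hcase : (shapeVec 4 p.1 p.2 none = -4 ∧ shapeVec 4 p.1 p.2 (some 0) = 0) ∨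
        (shapeVec 4 p.1 p.2 none = 0 ∧ shapeVec 4 p.1 p.2 (some 0) = -4) := by omega
    rcases hcase with ⟨e1, e2⟩ | ⟨e1, e2⟩
    · refine ⟨vec44 none (some 0) (-1), vec44_mem _ _ _ (Or.inr rfl),
        sqNorm_vec44 _ _ hab _ (Or.inr rfl), ?_, ?_⟩
      · rw [dotInt_v44, vec44_apply_left hab, vec44_apply_right hab]; norm_num
      · rw [dotInt_vec44_left, e1, e2]; norm_num
    · refine ⟨-vec44 none (some 0) (-1), neg_mem (vec44_mem _ _ _ (Or.inr rfl)), ?_, ?_, ?_⟩
      · rw [sqNorm_neg']; exact sqNorm_vec44 _ _ hab _ (Or.inr rfl)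
      · rw [dotInt_neg_right', dotInt_v44, vec44_apply_left hab, vec44_apply_right hab]; norm_num
      · rw [dotInt_neg_left', dotInt_vec44_left, e1, e2]; norm_num
  · -- shape (2^8)
    unfold FB at hB
    rw [Finset.mem_image] at hB
    obtain ⟨p, hp, rfl⟩ := hB
    rw [mem_idxB] at hp
    have h8 : p.1.card = 8 := by
      obtain ⟨c, -, -, h8⟩ := (mem_octads_iff p.1).mp hp.1
      exact h8
    have hval : ∀ i, (i ∉ p.1 ∧ shapeVec 2 p.1 p.2 i = 0) ∨
        (i ∈ p.1 ∧ (shapeVec 2 p.1 p.2 i = 2 ∨ shapeVec 2 p.1 p.2 i = -2)) := by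
      intro i; unfold shapeVec
      by_cases h : i ∈ p.1
      · right; refine ⟨h, ?_⟩; rw [if_pos h]; split_ifs <;> simp
      · left; exact ⟨h, by rw [if_neg h]⟩
    -- two further points of the octad
    have hcard : 1 < ((p.1.erase none).erase (some 0)).card := by
      have h1 : (p.1.erase none).card ≥ 7 := by
        have := Finset.pred_card_le_card_erase (s := p.1) (a := none)
        omega
      have h2 := Finset.pred_card_le_card_erase (s := p.1.erase none) (a := some 0)
      omega
    obtain ⟨c, hc, d, hd', hcd⟩ := Finset.one_lt_card.mp hcard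
    rw [Finset.mem_erase, Finset.mem_erase] at hc hd'
    have hvc := hval c
    have hvd := hval d
    have hc' : shapeVec 2 p.1 p.2 c = 2 ∨ shapeVec 2 p.1 p.2 c = -2 := by
      rcases hvc with h | h
      · exact absurd hc.2.2 h.1
      · exact h.2
    have hd'' : shapeVec 2 p.1 p.2 d = 2 ∨ shapeVec 2 p.1 p.2 d = -2 := by
      rcases hvd with h | h
      · exact absurd hd'.2.2 h.1
      · exact h.2
    have hcn : c ≠ none := hc.2.1
    have hc0 : c ≠ some 0 := hc.1
    have hdn : d ≠ none := hd'.2.1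
    have hd0 : d ≠ some 0 := hd'.1
    have hz : ∀ s : ℤ, dotInt v44 (vec44 c d s) = 0 := by
      intro s
      rw [dotInt_v44, vec44_apply_other (Ne.symm hcn) (fun h => hdn h.symm),
        vec44_apply_other (Ne.symm hc0) (fun h => hd0 h.symm)]
      norm_num
    rcases hc' with e1 | e1 <;> rcases hd'' with e2 | e2
    · refine ⟨-vec44 c d 1, neg_mem (vec44_mem _ _ _ (Or.inl rfl)), ?_, ?_, ?_⟩
      · rw [sqNorm_neg']; exact sqNorm_vec44 _ _ hcd _ (Or.inl rfl)
      · rw [dotInt_neg_right', hz]; norm_num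
      · rw [dotInt_neg_left', dotInt_vec44_left, e1, e2]; norm_num
    · refine ⟨-vec44 c d (-1), neg_mem (vec44_mem _ _ _ (Or.inr rfl)), ?_, ?_, ?_⟩
      · rw [sqNorm_neg']; exact sqNorm_vec44 _ _ hcd _ (Or.inr rfl)
      · rw [dotInt_neg_right', hz]; norm_num
      · rw [dotInt_neg_left', dotInt_vec44_left, e1, e2]; norm_num
    · refine ⟨vec44 c d (-1), vec44_mem _ _ _ (Or.inr rfl), ?_, ?_, ?_⟩
      · exact sqNorm_vec44 _ _ hcd _ (Or.inr rfl)
      · exact hz _
      · rw [dotInt_vec44_left, e1, e2]; norm_num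
    · refine ⟨vec44 c d 1, vec44_mem _ _ _ (Or.inl rfl), ?_, ?_, ?_⟩
      · exact sqNorm_vec44 _ _ hcd _ (Or.inl rfl)
      · exact hz _
      · rw [dotInt_vec44_left, e1, e2]; norm_num
  · -- odd shape
    unfold FC at hC
    rw [Finset.mem_image] at hC
    obtain ⟨⟨j, c⟩, -, rfl⟩ := hC
    have hj : j = none ∨ j = some 0 := by
      by_contra hcon
      rw [not_or] at hcon
      have h1 := fC_apply_ne (j := j) (c := c) (i := none) (Ne.symm hcon.1)
      have h2 := fC_apply_ne (j := j) (c := c) (i := some 0) (Ne.symm hcon.2)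
      omega
    have hsq : ∀ i ∈ support₂ oct30, fC (j, c) i ^ 2 = 1 := by
      intro i hi
      have hij : i ≠ j := by
        rintro rfl
        rcases hj with rfl | rfl
        · exact oct30_none hi
        · exact oct30_zero hi
      rcases fC_apply_ne (c := c) hij with h | h <;> rw [h] <;> norm_num
    refine ⟨signChange (support₂ oct30) (fC (j, c)) - fC (j, c),
      sub_mem (signChange_mem ⟨oct30, oct30_mem, rfl⟩ hw) hw, ?_, ?_, ?_⟩
    · rw [sqNorm_signChange_sub, Finset.sum_congr rfl (g := fun _ => (4 : ℤ))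
        (fun i hi => by rw [hsq i hi]; norm_num), Finset.sum_const, oct30_card]
      norm_num
    · rw [dotInt_v44, signChange_sub_apply, signChange_sub_apply, if_neg oct30_none,
        if_neg oct30_zero]
      norm_num
    · rw [dotInt_signChange_sub, Finset.sum_congr rfl (g := fun _ => (-2 : ℤ))
        (fun i hi => by rw [mul_assoc, ← sq, hsq i hi]; norm_num), Finset.sum_const, oct30_card]
      norm_num


theorem vec44_add_neg {j : GolayPt} (hj : j ≠ none) (s : ℤ) :
    vec44 none j s + vec44 none j (-s) = v0raw := by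
  rw [← v0raw_sub_vec44 hj s]; abel

/-- Frame adaptation carrying a third vector along. -/
theorem frame_adapt3 {v q w : GolayPt → ℤ} (hv : v ∈ leechLattice) (hq : q ∈ leechLattice)
    (hw : w ∈ leechLattice) (hvn : sqNorm v = 32) (hqn : sqNorm q = 32)
    (hd : dotInt v q = 0) :
    ∃ j, j ≠ none ∧ ∃ s : ℤ, (s = 1 ∨ s = -1) ∧ ∃ w', CoEq2 v w (vec44 none j s) w' ∧
      8 * w' none = dotInt v w + dotInt q w := by
  obtain ⟨j, hj, s, hs, g, hg, hv', hq', h1, h2⟩ := frame_adapt hv hq hvn hqn hd
  refine ⟨j, hj, s, hs, _, ⟨g, hg, hv, hw, h1, rfl⟩, ?_⟩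
  rw [← dotInt_v0raw, ← vec44_add_neg hj s, dotInt_add_left', ← h1, ← h2, co0_dotInt hg,
    co0_dotInt hg]

theorem dotInt_vec44_vec44 {j k : GolayPt} (hj : j ≠ none) (hk : k ≠ none) (s t : ℤ) :
    dotInt (vec44 none j s) (vec44 none k t) = 16 + if j = k then 16 * s * t else 0 := by
  rw [dotInt_vec44_left, vec44_apply_left (Ne.symm hk)]
  by_cases hjk : j = k
  · subst hjk
    rw [vec44_apply_right (Ne.symm hk), if_pos rfl]; ring
  · rw [vec44_apply_other hj hjk, if_neg hjk]; ring

/-- The standard pair with inner product `-16`. -/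
def w16 : GolayPt → ℤ := -vec44 none (some 1) 1

/-- All ordered pairs of minimal vectors with inner product `-16` are equivalent. -/
theorem pair_m16 {v w : GolayPt → ℤ} (hv : v ∈ leechLattice) (hw : w ∈ leechLattice)
    (hvn : sqNorm v = 32) (hwn : sqNorm w = 32) (hd : dotInt v w = -16) :
    CoEq2 v w v44 w16 := by
  -- move `v` to the standard vector
  obtain ⟨w1, h1⟩ := (trans_norm32 hv v44_mem hvn v44_norm).extend hw
  have hw1 : w1 ∈ leechLattice := h1.right.mem_right
  have hw1n : sqNorm w1 = 32 := by rw [h1.right.sqNorm_eq, hwn]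
  have hd1 : dotInt v44 w1 = -16 := by rw [h1.dot, hd]
  -- an auxiliary orthogonal vector
  obtain ⟨q, hq, hqn, hq0, hqw⟩ := exists_q16 hw1 hw1n hd1
  obtain ⟨j, hj, s, hs, w2, h2, h8⟩ := frame_adapt3 v44_mem hq hw1 v44_norm hqn hq0
  rw [hd1, hqw] at h8
  have hw2 : w2 ∈ leechLattice := h2.right.mem_right
  have hw2n : sqNorm w2 = 32 := by rw [h2.right.sqNorm_eq, hw1n]
  have hd2 : dotInt (vec44 none j s) w2 = -16 := by rw [h2.dot, hd1]
  have h4 : (-w2) none = 4 := by rw [Pi.neg_apply]; omega
  obtain ⟨k, hk, t, ht, hkt⟩ := eq_vec44_of_apply (neg_mem hw2) (by rw [sqNorm_neg']; exact hw2n) h4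
  have hw2e : w2 = -vec44 none k t := by rw [← hkt, neg_neg]
  have hjk : j ≠ k := by
    intro hjk
    rw [hw2e, dotInt_neg_right', dotInt_vec44_vec44 hj hk, if_pos hjk] at hd2
    rcases hs with rfl | rfl <;> rcases ht with rfl | rfl <;> norm_num at hd2
  rw [hw2e] at h2
  -- permutation
  obtain ⟨σ, hσ, p1, p2, p3⟩ := exists_perm3 hj hk hjk
  have s3 := coEq2_perm hσ (vec44_mem none j s hs) (neg_mem (vec44_mem none k t ht))
  have e1 : (fun i => (-vec44 none k t) (σ i)) = -(fun i => vec44 none k t (σ i)) := rfl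
  rw [e1, vec44_comp p1 p2, vec44_comp p1 p3] at s3
  -- signs
  have key : ∀ s t : ℤ, (s = 1 ∨ s = -1) → (t = 1 ∨ t = -1) →
      CoEq2 (vec44 none (some 0) s) (-vec44 none (some 1) t) v44 w16 := by
    intro s t hs ht
    have hc : ∃ c ∈ golayCode, none ∉ support₂ c ∧ (some 0 ∈ support₂ c ↔ s = -1) ∧
        (some 1 ∈ support₂ c ↔ t = -1) := by
      rcases hs with rfl | rfl <;> rcases ht with rfl | rfl
      · obtain ⟨c, hc, c0, c1, c2⟩ := exists_code_vals 0 0
        exact ⟨c, hc, by rw [mem_support₂, c0]; simp, by rw [mem_support₂, c1]; simp,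
          by rw [mem_support₂, c2]; simp⟩
      · obtain ⟨c, hc, c0, c1, c2⟩ := exists_code_vals 0 1
        exact ⟨c, hc, by rw [mem_support₂, c0]; simp, by rw [mem_support₂, c1]; simp,
          by rw [mem_support₂, c2]; simp⟩
      · obtain ⟨c, hc, c0, c1, c2⟩ := exists_code_vals 1 0
        exact ⟨c, hc, by rw [mem_support₂, c0]; simp, by rw [mem_support₂, c1]; simp,
          by rw [mem_support₂, c2]; simp⟩
      · obtain ⟨c, hc, c0, c1, c2⟩ := exists_code_vals 1 1
        exact ⟨c, hc, by rw [mem_support₂, c0]; simp, by rw [mem_support₂, c1]; simp,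
          by rw [mem_support₂, c2]; simp⟩
    obtain ⟨c, hc, cn, c0, c1⟩ := hc
    have s4 := coEq2_eps hc (vec44_mem none (some 0) s hs)
      (neg_mem (vec44_mem none (some 1) t ht))
    rw [signChange_neg, signChange_vec44 cn, signChange_vec44 cn] at s4
    have e2 : (if some 0 ∈ support₂ c then -s else s) = 1 := by
      rcases hs with rfl | rfl
      · rw [if_neg (by rw [c0]; norm_num)]
      · rw [if_pos (by rw [c0])]; norm_num
    have e3 : (if some 1 ∈ support₂ c then -t else t) = 1 := by
      rcases ht with rfl | rfl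
      · rw [if_neg (by rw [c1]; norm_num)]
      · rw [if_pos (by rw [c1])]; norm_num
    rw [e2, e3] at s4
    exact s4
  exact ((h1.trans h2).trans s3).trans (key s t hs ht)


end Cfsg.Agent.Helper27
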