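import Mathlib
import Cfsg.Agent.Lib.Helper27.LeechFrame2

set_option autoImplicit false
set_option maxRecDepth 8000
open Cfsg

/-! Transitivity on ordered pairs of minimal vectors with inner product `-8`. -/

namespace Cfsg.Agent.Helper27
open Cfsg.Agent.Helper29 (cw_mem)
open Cfsg.Agent.S0394 (FA FB FC idxA idxB fC mem_idxA mem_idxB mem_octads_iff aJW odd_fC)

/-- For a minimal vector `w` with inner product `-8` with `v44`, there is a minimal vector
orthogonal to `v44` with inner product `16` with `w`. -/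
theorem exists_q8 {w : GolayPt → ℤ} (hw : w ∈ leechLattice) (hn : sqNorm w = 32)
    (hd : dotInt v44 w = -8) :
    ∃ q ∈ leechLattice, sqNorm q = 32 ∧ dotInt v44 q = 0 ∧ dotInt q w = 16 := by
  rw [dotInt_v44] at hd
  have hF := mem_F32.mpr ⟨hw, hn⟩
  unfold F32 at hF
  rw [Finset.mem_union, Finset.mem_union] at hF
  have hab : (none : GolayPt) ≠ some 0 := by decide
  -- a general recipe: two further coordinates `c, d` with `|w c|, |w d|` prescribed
  have recipe : ∀ c d : GolayPt, c ≠ d → c ≠ none → c ≠ some 0 → d ≠ none → d ≠ some 0 →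
      ∀ m n : ℤ, 0 < m → 0 < n → m + n = 4 → (w c = m ∨ w c = -m) → (w d = n ∨ w d = -n) →
      ∃ q ∈ leechLattice, sqNorm q = 32 ∧ dotInt v44 q = 0 ∧ dotInt q w = 16 := by
    intro c d hcd hcn hc0 hdn hd0 m n hm hn' hmn hc hd'
    have hz : ∀ s : ℤ, dotInt v44 (vec44 c d s) = 0 := by
      intro s
      rw [dotInt_v44, vec44_apply_other (Ne.symm hcn) (fun h => hdn h.symm),
        vec44_apply_other (Ne.symm hc0) (fun h => hd0 h.symm)]
      norm_num
    rcases hc with e1 | e1 <;> rcases hd' with e2 | e2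
    · refine ⟨vec44 c d 1, vec44_mem _ _ _ (Or.inl rfl), ?_, ?_, ?_⟩
      · exact sqNorm_vec44 _ _ hcd _ (Or.inl rfl)
      · exact hz _
      · rw [dotInt_vec44_left, e1, e2]; linarith
    · refine ⟨vec44 c d (-1), vec44_mem _ _ _ (Or.inr rfl), ?_, ?_, ?_⟩
      · exact sqNorm_vec44 _ _ hcd _ (Or.inr rfl)
      · exact hz _
      · rw [dotInt_vec44_left, e1, e2]; linarith
    · refine ⟨-vec44 c d (-1), neg_mem (vec44_mem _ _ _ (Or.inr rfl)), ?_, ?_, ?_⟩
      · rw [sqNorm_neg']; exact sqNorm_vec44 _ _ hcd _ (Or.inr rfl)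
      · rw [dotInt_neg_right', hz]; norm_num
      · rw [dotInt_neg_left', dotInt_vec44_left, e1, e2]; linarith
    · refine ⟨-vec44 c d 1, neg_mem (vec44_mem _ _ _ (Or.inl rfl)), ?_, ?_, ?_⟩
      · rw [sqNorm_neg']; exact sqNorm_vec44 _ _ hcd _ (Or.inl rfl)
      · rw [dotInt_neg_right', hz]; norm_num
      · rw [dotInt_neg_left', dotInt_vec44_left, e1, e2]; linarith
  rcases hF with (hA | hB) | hC
  · -- shape (4,4): impossible
    exfalso
    unfold FA at hA
    rw [Finset.mem_image] at hA
    obtain ⟨p, -, rfl⟩ := hA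
    have hval : ∀ i, shapeVec 4 p.1 p.2 i = 0 ∨ shapeVec 4 p.1 p.2 i = 4 ∨
        shapeVec 4 p.1 p.2 i = -4 := by
      intro i; unfold shapeVec; split_ifs <;> simp
    have h1 := hval none
    have h2 := hval (some 0)
    omega
  · -- shape (2^8)
    unfold FB at hB
    rw [Finset.mem_image] at hB
    obtain ⟨p, hp, rfl⟩ := hB
    rw [mem_idxB] at hp
    have h8 : p.1.card = 8 := by
      obtain ⟨c, -, -, h8⟩ := (mem_octads_iff p.1).mp hp.1
      exact h8
    have hval : ∀ i, (i ∉ p.1 ∧ shapeVec 2 p.1 p.2 i = 0) ∨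
        (i ∈ p.1 ∧ (shapeVec 2 p.1 p.2 i = 2 ∨ shapeVec 2 p.1 p.2 i = -2)) := by
      intro i; unfold shapeVec
      by_cases h : i ∈ p.1
      · right; refine ⟨h, ?_⟩; rw [if_pos h]; split_ifs <;> simp
      · left; exact ⟨h, by rw [if_neg h]⟩
    have hcard : 1 < ((p.1.erase none).erase (some 0)).card := by
      have h1 : (p.1.erase none).card ≥ 7 := by
        have := Finset.pred_card_le_card_erase (s := p.1) (a := none)
        omega
      have h2 := Finset.pred_card_le_card_erase (s := p.1.erase none) (a := some 0)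
      omega
    obtain ⟨c, hc, d, hd', hcd⟩ := Finset.one_lt_card.mp hcard
    rw [Finset.mem_erase, Finset.mem_erase] at hc hd'
    have hc' : shapeVec 2 p.1 p.2 c = 2 ∨ shapeVec 2 p.1 p.2 c = -2 := by
      rcases hval c with h | h
      · exact absurd hc.2.2 h.1
      · exact h.2
    have hd'' : shapeVec 2 p.1 p.2 d = 2 ∨ shapeVec 2 p.1 p.2 d = -2 := by
      rcases hval d with h | h
      · exact absurd hd'.2.2 h.1
      · exact h.2
    exact recipe c d hcd hc.2.1 hc.1 hd'.2.1 hd'.1 2 2 (by norm_num) (by norm_num) (by norm_num)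
      hc' hd''
  · -- odd shape
    unfold FC at hC
    rw [Finset.mem_image] at hC
    obtain ⟨⟨j, c⟩, -, rfl⟩ := hC
    by_cases hjn : j = none
    · subst hjn
      have h1 := fC_apply_self none c
      have h2 := fC_apply_ne (j := none) (c := c) (i := some 0) (by decide)
      have e1 : fC (none, c) none = -3 := by omega
      have e2 : fC (none, c) (some 0) = 1 := by omega
      refine ⟨-vec44 none (some 0) (-1), neg_mem (vec44_mem _ _ _ (Or.inr rfl)), ?_, ?_, ?_⟩
      · rw [sqNorm_neg']; exact sqNorm_vec44 _ _ hab _ (Or.inr rfl)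
      · rw [dotInt_neg_right', dotInt_v44, vec44_apply_left hab, vec44_apply_right hab]; norm_num
      · rw [dotInt_neg_left', dotInt_vec44_left, e1, e2]; norm_num
    by_cases hj0 : j = some 0
    · subst hj0
      have h1 := fC_apply_self (some 0) c
      have h2 := fC_apply_ne (j := some 0) (c := c) (i := none) (by decide)
      have e1 : fC (some 0, c) (some 0) = -3 := by omega
      have e2 : fC (some 0, c) none = 1 := by omega
      refine ⟨vec44 none (some 0) (-1), vec44_mem _ _ _ (Or.inr rfl), ?_, ?_, ?_⟩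
      · exact sqNorm_vec44 _ _ hab _ (Or.inr rfl)
      · rw [dotInt_v44, vec44_apply_left hab, vec44_apply_right hab]; norm_num
      · rw [dotInt_vec44_left, e1, e2]; norm_num
    · -- choose a further coordinate
      obtain ⟨d, hdj, hdn, hd0⟩ : ∃ d : GolayPt, d ≠ j ∧ d ≠ none ∧ d ≠ some 0 := by
        by_cases h : j = some 1
        · exact ⟨some 2, by rw [h]; decide, by decide, by decide⟩
        · exact ⟨some 1, fun e => h e.symm, by decide, by decide⟩
      have h1 := fC_apply_self j c
      have h2 := fC_apply_ne (j := j) (c := c) (i := d) hdj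
      exact recipe j d (Ne.symm hdj) hjn hj0 hdn hd0 3 1 (by norm_num) (by norm_num) (by norm_num)
        h1 h2

/-- The vector with `-3` at `j` and `1` elsewhere. -/
def m3 (j : GolayPt) : GolayPt → ℤ := fun i => if i = j then -3 else 1

theorem m3_comp {σ : Equiv.Perm GolayPt} {a j : GolayPt} (ha : σ a = j) :
    (fun k => m3 j (σ k)) = m3 a := by
  funext k
  unfold m3
  rw [← ha]
  simp only [EmbeddingLike.apply_eq_iff_eq]

theorem signChange_fC (j : GolayPt) (c : golayCode) :
    signChange (support₂ c.1) (fC (j, c)) = m3 j := by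
  funext i
  unfold signChange fC aJW m3
  simp only
  by_cases hij : i = j
  · subst hij
    by_cases h : c.1 i = 0
    · have h' : i ∉ support₂ c.1 := by rw [mem_support₂, not_not]; exact h
      simp [h, h']
    · have h' : i ∈ support₂ c.1 := by rw [mem_support₂]; exact h
      simp [h, h']
  · by_cases h : c.1 i = 0
    · have h' : i ∉ support₂ c.1 := by rw [mem_support₂, not_not]; exact h
      simp [h, h', hij]
    · have h' : i ∈ support₂ c.1 := by rw [mem_support₂]; exact h
      simp [h, h', hij]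

/-- All ordered pairs of minimal vectors with inner product `-8` are equivalent. -/
theorem pair_m8 {v w : GolayPt → ℤ} (hv : v ∈ leechLattice) (hw : w ∈ leechLattice)
    (hvn : sqNorm v = 32) (hwn : sqNorm w = 32) (hd : dotInt v w = -8) :
    CoEq2 v w v44 (m3 (some 0)) := by
  obtain ⟨w1, h1⟩ := (trans_norm32 hv v44_mem hvn v44_norm).extend hw
  have hw1 : w1 ∈ leechLattice := h1.right.mem_right
  have hw1n : sqNorm w1 = 32 := by rw [h1.right.sqNorm_eq, hwn]
  have hd1 : dotInt v44 w1 = -8 := by rw [h1.dot, hd]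
  obtain ⟨q, hq, hqn, hq0, hqw⟩ := exists_q8 hw1 hw1n hd1
  obtain ⟨j, hj, s, hs, w2, h2, h8⟩ := frame_adapt3 v44_mem hq hw1 v44_norm hqn hq0
  rw [hd1, hqw] at h8
  have hw2 : w2 ∈ leechLattice := h2.right.mem_right
  have hw2n : sqNorm w2 = 32 := by rw [h2.right.sqNorm_eq, hw1n]
  have hd2 : dotInt (vec44 none j s) w2 = -8 := by rw [h2.dot, hd1]
  have h1' : w2 none = 1 := by omega
  -- `w2` is of odd shape
  have hF := mem_F32.mpr ⟨hw2, hw2n⟩
  unfold F32 at hF
  rw [Finset.mem_union, Finset.mem_union] at hF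
  rcases hF with (hA | hB) | hC
  · exfalso
    unfold FA at hA
    rw [Finset.mem_image] at hA
    obtain ⟨p, -, rfl⟩ := hA
    unfold shapeVec at h1'
    split_ifs at h1' <;> norm_num at h1'
  · exfalso
    unfold FB at hB
    rw [Finset.mem_image] at hB
    obtain ⟨p, -, rfl⟩ := hB
    unfold shapeVec at h1'
    split_ifs at h1' <;> norm_num at h1'
  unfold FC at hC
  rw [Finset.mem_image] at hC
  obtain ⟨⟨j2, c2⟩, -, rfl⟩ := hC
  rw [dotInt_vec44_left, h1'] at hd2
  have hjj : j2 = j := by
    by_contra hne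
    have := fC_apply_ne (j := j2) (c := c2) (i := j) (fun h => hne h.symm)
    rcases hs with rfl | rfl <;> omega
  subst hjj
  have hcn : none ∉ support₂ c2.1 := by
    rw [mem_support₂, not_not]
    by_contra hc
    have : fC (j2, c2) none = -1 := by
      unfold fC aJW
      simp only
      rw [if_neg (Ne.symm hj), if_neg hc]; norm_num
    omega
  have hcj : (j2 ∈ support₂ c2.1 ↔ s = -1) := by
    rw [mem_support₂]
    have hval : fC (j2, c2) j2 = if c2.1 j2 = 0 then -3 else 3 := by
      unfold fC aJW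
      simp only [if_true]
      split_ifs <;> norm_num
    rw [hval] at hd2
    by_cases h : c2.1 j2 = 0
    · rw [if_pos h] at hd2
      rcases hs with rfl | rfl
      · simp [h]
      · omega
    · rw [if_neg h] at hd2
      rcases hs with rfl | rfl
      · omega
      · simp [h]
  -- signs
  have s3 := coEq2_eps c2.2 (vec44_mem none j2 s hs) hw2
  rw [signChange_vec44 hcn, signChange_fC] at s3
  have e2 : (if j2 ∈ support₂ c2.1 then -s else s) = 1 := by
    rcases hs with rfl | rfl
    · rw [if_neg (by rw [hcj]; norm_num)]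
    · rw [if_pos (by rw [hcj])]; norm_num
  rw [e2] at s3
  -- permutation
  obtain ⟨σ, hσ, p1, p2⟩ := exists_perm2 hj
  have s4 := coEq2_perm hσ (vec44_mem none j2 1 (Or.inl rfl)) s3.right.mem_right
  rw [vec44_comp p1 p2, m3_comp p2] at s4
  exact ((h1.trans h2).trans s3).trans s4


/-- From simultaneous equivalence to a common standard pair to a group element. -/
theorem exists_smul_of_coEq2' {v w v' w' : leechLattice} {p q : GolayPt → ℤ}
    (h : CoEq2 v.1 w.1 p q) (h' : CoEq2 v'.1 w'.1 p q) :
    ∃ g : Co0, g • v = v' ∧ g • w = w' := by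
  obtain ⟨g, hg, hx, hy, h1, h2⟩ := h.trans h'.symm
  refine ⟨⟨g, hg⟩, Subtype.ext h1, Subtype.ext h2⟩

end Cfsg.Agent.Helper27
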