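import Mathlib
import Cfsg.Agent.Lib.Helper27.LeechFrame3

set_option autoImplicit false
set_option maxRecDepth 8000
open Cfsg

/-! Transitivity on pairs `(v, x)` with `v` of norm 48, `x` minimal, inner product `16`. -/

namespace Cfsg.Agent.Helper27
open Cfsg.Agent.Helper29 (cw_mem)
open Cfsg.Agent.S0394 (FA FB FC idxA idxB fC mem_idxA mem_idxB mem_octads_iff aJW odd_fC famC_mem)

theorem m3_eq_fC (k : GolayPt) : m3 k = fC (k, (0 : golayCode)) := by
  funext i
  unfold m3 fC aJW
  simp only [ZeroMemClass.coe_zero, Pi.zero_apply, if_true]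
  split_ifs <;> norm_num

theorem m3_mem (k : GolayPt) : m3 k ∈ leechLattice := by
  rw [m3_eq_fC]; exact (famC_mem _).1

theorem m3_norm (k : GolayPt) : sqNorm (m3 k) = 32 := by
  rw [m3_eq_fC]; exact (famC_mem _).2

theorem dotInt_m3 (k : GolayPt) (y : GolayPt → ℤ) : dotInt (m3 k) y = ∑ i, y i - 4 * y k := by
  unfold dotInt m3
  have h : ∀ i, (if i = k then (-3 : ℤ) else 1) * y i = y i - (if i = k then 4 * y k else 0) := by
    intro i
    split_ifs with h
    · subst h; ring
    · ring
  rw [Finset.sum_congr rfl (fun i _ => h i), Finset.sum_sub_distrib,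
    Finset.sum_ite_eq' Finset.univ k]
  simp

theorem sum_u5 : ∑ i, u5 i = 28 := by decide

theorem exists_notMem_of_card_lt {S : Finset GolayPt} (h : S.card < 24) : ∃ j, j ∉ S := by
  by_contra hc
  rw [not_exists] at hc
  have : S = Finset.univ := by
    ext i
    simp only [Finset.mem_univ, iff_true]
    exact not_not.mp (hc i)
  rw [this, Finset.card_univ, card_golayPt] at h
  exact absurd h (lt_irrefl _)

/-- For a minimal vector `x` with inner product `16` with `u5`, there is a minimal vector
orthogonal to `x` with inner product `24` with `u5`. -/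
theorem exists_q_u5 {x : GolayPt → ℤ} (hx : x ∈ leechLattice) (hn : sqNorm x = 32)
    (hd : dotInt u5 x = 16) :
    ∃ q ∈ leechLattice, sqNorm q = 32 ∧ dotInt x q = 0 ∧ dotInt u5 q = 24 := by
  have hd0 := hd
  rw [dotInt_u5] at hd
  have hF := mem_F32.mpr ⟨hx, hn⟩
  unfold F32 at hF
  rw [Finset.mem_union, Finset.mem_union] at hF
  -- the recipe `4e_∞ + 4e_k`
  have recipe : ∀ k : GolayPt, k ≠ none → x none + x k = 0 →
      ∃ q ∈ leechLattice, sqNorm q = 32 ∧ dotInt x q = 0 ∧ dotInt u5 q = 24 := by
    intro k hk h0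
    refine ⟨vec44 none k 1, vec44_mem _ _ _ (Or.inl rfl), sqNorm_vec44 _ _ (Ne.symm hk) _ (Or.inl rfl),
      ?_, ?_⟩
    · rw [dotInt_comm', dotInt_vec44_left]; linarith
    · rw [dotInt_comm', dotInt_vec44_left, u5_apply, u5_apply, if_pos rfl, if_neg hk]; norm_num
  rcases hF with (hA | hB) | hC
  · -- shape (4,4)
    unfold FA at hA
    rw [Finset.mem_image] at hA
    obtain ⟨p, hp, hxp⟩ := hA
    rw [mem_idxA] at hp
    have hN : p.2.card ≤ 2 := by rw [← hp.1]; exact Finset.card_le_card hp.2
    have hval : shapeVec 4 p.1 p.2 none = 0 ∨ shapeVec 4 p.1 p.2 none = 4 ∨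
        shapeVec 4 p.1 p.2 none = -4 := by
      unfold shapeVec; split_ifs <;> simp
    have h4 : x none = 4 := by
      have hd2 := hd
      rw [← hxp, sum_shapeVec 4 hp.2, hp.1] at hd2
      rw [← hxp]
      have : (p.2.card : ℤ) ≤ 2 := by exact_mod_cast hN
      have : (0 : ℤ) ≤ (p.2.card : ℤ) := Int.natCast_nonneg _
      push_cast at hd2
      omega
    obtain ⟨d, hd', s, hs, hxs⟩ := eq_vec44_of_apply hx hn h4
    have h5 := hd0
    rw [hxs, dotInt_comm', dotInt_vec44_left, u5_apply, u5_apply, if_pos rfl, if_neg hd'] at h5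
    apply recipe d hd'
    rw [hxs, vec44_apply_left (Ne.symm hd'), vec44_apply_right (Ne.symm hd')]
    linarith
  · -- shape (2^8)
    unfold FB at hB
    rw [Finset.mem_image] at hB
    obtain ⟨p, hp, rfl⟩ := hB
    rw [mem_idxB] at hp
    have h8 : p.1.card = 8 := by
      obtain ⟨c, -, -, h8⟩ := (mem_octads_iff p.1).mp hp.1
      exact h8
    rw [sum_shapeVec 2 hp.2.1, h8] at hd
    have hval : shapeVec 2 p.1 p.2 none = 0 ∨ shapeVec 2 p.1 p.2 none = 2 ∨
        shapeVec 2 p.1 p.2 none = -2 := by
      unfold shapeVec; split_ifs <;> simp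
    have hN0 : (0 : ℤ) ≤ (p.2.card : ℤ) := Int.natCast_nonneg _
    push_cast at hd
    have hcase : (shapeVec 2 p.1 p.2 none = 0 ∧ p.2.card = 0) ∨
        (shapeVec 2 p.1 p.2 none = 2 ∧ p.2.card = 2) := by omega
    rcases hcase with ⟨e0, eN⟩ | ⟨e2, eN⟩
    · -- a point outside the octad
      have hlt : (insert none p.1).card < 24 := by
        have := Finset.card_insert_le none p.1
        omega
      obtain ⟨j, hj⟩ := exists_notMem_of_card_lt hlt
      rw [Finset.mem_insert, not_or] at hj
      apply recipe j hj.1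
      rw [e0]
      unfold shapeVec
      rw [if_neg hj.2]; norm_num
    · have hne : p.2.Nonempty := by rw [← Finset.card_pos, eN]; norm_num
      obtain ⟨m, hm⟩ := hne
      have hmv : shapeVec 2 p.1 p.2 m = -2 := by
        unfold shapeVec
        rw [if_pos (hp.2.1 hm), if_pos hm]
      have hmn : m ≠ none := by
        rintro rfl
        omega
      apply recipe m hmn
      rw [e2, hmv]; norm_num
  · -- odd shape
    unfold FC at hC
    rw [Finset.mem_image] at hC
    obtain ⟨⟨j, c⟩, -, rfl⟩ := hC
    rw [sum_fC] at hd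
    have hW := golay_weight c.2
    simp only at hd
    by_cases hj : j = none
    · subst hj
      have hval : fC (none, c) none = if c.1 none = 0 then -3 else 3 := by
        unfold fC aJW
        simp only [if_true]
        split_ifs <;> norm_num
      rw [hval] at hd
      by_cases h0 : c.1 none = 0
      · exfalso
        rw [if_pos h0, if_pos h0] at hd
        omega
      · rw [if_neg h0, if_neg h0] at hd
        have hW12 : (support₂ c.1).card = 12 := by omega
        obtain ⟨k, hk⟩ := exists_notMem_of_card_lt (S := support₂ c.1) (by rw [hW12]; norm_num)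
        have hck : c.1 k = 0 := by
          by_contra h; exact hk (mem_support₂.mpr h)
        have hkn : k ≠ none := by rintro rfl; exact h0 hck
        have hxk : fC (none, c) k = 1 := by
          unfold fC aJW
          simp only
          rw [if_neg hkn, if_pos hck]; norm_num
        refine ⟨m3 k, m3_mem k, m3_norm k, ?_, ?_⟩
        · rw [dotInt_comm', dotInt_m3, sum_fC, hxk]
          simp only
          rw [if_neg h0, hW12]; norm_num
        · rw [dotInt_comm', dotInt_m3, sum_u5, u5_apply, if_neg hkn]; norm_num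
    · have hval : fC (j, c) none = if c.1 none = 0 then 1 else -1 := by
        unfold fC aJW
        simp only
        rw [if_neg (Ne.symm hj)]
        split_ifs <;> norm_num
      rw [hval] at hd
      by_cases h0 : c.1 none = 0
      · rw [if_pos h0] at hd
        by_cases h1 : c.1 j = 0
        · exfalso
          rw [if_pos h1] at hd
          omega
        · rw [if_neg h1] at hd
          have hW8 : (support₂ c.1).card = 8 := by omega
          have hcard : 1 < (support₂ c.1).card := by rw [hW8]; norm_num
          obtain ⟨k, hk, hkj⟩ : ∃ k ∈ support₂ c.1, k ≠ j := by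
            obtain ⟨a, ha, b, hb, hab⟩ := Finset.one_lt_card.mp hcard
            by_cases haj : a = j
            · exact ⟨b, hb, fun h => hab (haj.trans h.symm)⟩
            · exact ⟨a, ha, haj⟩
          have hck : c.1 k ≠ 0 := mem_support₂.mp hk
          have hkn : k ≠ none := by rintro rfl; exact hck h0
          apply recipe k hkn
          rw [hval, if_pos h0]
          have hxk : fC (j, c) k = -1 := by
            unfold fC aJW
            simp only
            rw [if_neg hkj, if_neg hck]; norm_num
          rw [hxk]; norm_num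
      · exfalso
        rw [if_neg h0] at hd
        have := support₂_card_pos (w := c.1) (i := none) h0
        split_ifs at hd <;> omega


theorem oddVec5_apply (c : GolayPt → ZMod 2) (i : GolayPt) :
    oddVec ∅ {none} c i = if i = none then (if c none = 0 then 5 else -5)
      else (if c i = 0 then 1 else -1) := by
  unfold oddVec aOdd
  by_cases hi : i = none
  · subst hi
    simp only [Finset.mem_singleton, if_true]
    split_ifs <;> norm_num
  · simp only [Finset.mem_singleton, hi, if_false, Finset.notMem_empty]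
    split_ifs <;> norm_num

theorem u5_mem' : u5 ∈ leechLattice := (famO_sound (by decide) u5_mem).1

theorem u5_norm : sqNorm u5 = 48 := by
  rw [(famO_sound (by decide) u5_mem).2.1]; norm_num

/-- A vector of norm 48 with a coordinate `5` at `∞`. -/
theorem eq_oddVec5 {x : GolayPt → ℤ} (hx : x ∈ leechLattice) (hn : sqNorm x = 48)
    (h5 : x none = 5) : ∃ c ∈ golayCode, c none = 0 ∧ x = oddVec ∅ {none} c := by
  have hodd : ¬ (2 : ℤ) ∣ x none := by rw [h5]; norm_num
  obtain ⟨n3, n5, hT, hfam⟩ := famO_complete hx hodd (T := 6) (by rw [hn]; norm_num) (by norm_num)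
  obtain ⟨J3, J5, c, hc, hdis, h3, h5', rfl⟩ := famO_elim hfam
  have habs := oddVec_abs hdis c none
  rw [h5] at habs
  have hin : none ∈ J5 := by
    by_contra hnot
    rw [if_neg hnot] at habs
    split_ifs at habs <;> norm_num at habs
  have hn5 : n5 = 1 := by
    have : 0 < J5.card := Finset.card_pos.mpr ⟨none, hin⟩
    omega
  have hn3 : n3 = 0 := by omega
  have hJ5 : J5 = {none} := by
    rw [hn5] at h5'
    obtain ⟨a, ha⟩ := Finset.card_eq_one.mp h5'
    rw [ha, Finset.mem_singleton] at hin
    rw [ha, hin]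
  have hJ3 : J3 = ∅ := by
    rw [hn3] at h3
    exact Finset.card_eq_zero.mp h3
  subst hJ5; subst hJ3
  refine ⟨c, hc, ?_, rfl⟩
  rw [oddVec5_apply, if_pos rfl] at h5
  by_contra hne
  rw [if_neg hne] at h5
  norm_num at h5

theorem u5_comp {σ : Equiv.Perm GolayPt} (h : σ none = none) : (fun i => u5 (σ i)) = u5 := by
  funext i
  rw [u5_apply, u5_apply]
  have : σ i = none ↔ i = none := by
    constructor
    · intro hi
      rw [← h] at hi
      exact σ.injective hi
    · rintro rfl; exact h
  simp only [this]

theorem u5_eq_oddVec : u5 = oddVec ∅ {none} 0 := rfl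

/-- All pairs `(v, x)` with `v` of norm 48, `x` minimal and inner product `16` are equivalent. -/
theorem pair_u5 {v x : GolayPt → ℤ} (hv : v ∈ leechLattice) (hx : x ∈ leechLattice)
    (hvn : sqNorm v = 48) (hxn : sqNorm x = 32) (hd : dotInt v x = 16) :
    CoEq2 v x u5 (vec44 none (some 0) (-1)) := by
  obtain ⟨x1, h1⟩ := (trans_norm48 hv u5_mem' hvn u5_norm).extend hx
  have hx1 : x1 ∈ leechLattice := h1.right.mem_right
  have hx1n : sqNorm x1 = 32 := by rw [h1.right.sqNorm_eq, hxn]
  have hd1 : dotInt u5 x1 = 16 := by rw [h1.dot, hd]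
  obtain ⟨q, hq, hqn, hq0, hqu⟩ := exists_q_u5 hx1 hx1n hd1
  obtain ⟨j, hj, s, hs, u', h2, h8⟩ := frame_adapt3 hx1 hq u5_mem' hx1n hqn hq0
  rw [dotInt_comm' x1, hd1, dotInt_comm' q, hqu] at h8
  have hu' : u' ∈ leechLattice := h2.right.mem_right
  have hu'n : sqNorm u' = 48 := by rw [h2.right.sqNorm_eq, u5_norm]
  have hd2 : dotInt (vec44 none j s) u' = 16 := by rw [h2.dot, dotInt_comm', hd1]
  have h5 : u' none = 5 := by omega
  obtain ⟨c, hc, hc0, rfl⟩ := eq_oddVec5 hu' hu'n h5
  rw [dotInt_vec44_left, oddVec5_apply, oddVec5_apply, if_pos rfl, if_pos hc0, if_neg hj] at hd2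
  have hcn : none ∉ support₂ c := by rw [mem_support₂, not_not]; exact hc0
  -- signs
  have s3 := coEq2_eps hc (vec44_mem none j s hs) hu'
  rw [signChange_vec44 hcn, signChange_oddVec, ← u5_eq_oddVec] at s3
  have e2 : (if j ∈ support₂ c then -s else s) = -1 := by
    by_cases hcj : c j = 0
    · rw [if_pos hcj] at hd2
      have : j ∉ support₂ c := by rw [mem_support₂, not_not]; exact hcj
      rw [if_neg this]
      rcases hs with rfl | rfl
      · omega
      · rfl
    · rw [if_neg hcj] at hd2
      have : j ∈ support₂ c := mem_support₂.mpr hcj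
      rw [if_pos this]
      rcases hs with rfl | rfl
      · rfl
      · omega
  rw [e2] at s3
  -- permutation
  obtain ⟨σ, hσ, p1, p2⟩ := exists_perm2 hj
  have s4 := coEq2_perm hσ (vec44_mem none j (-1) (Or.inr rfl)) u5_mem'
  rw [vec44_comp p1 p2, u5_comp p1] at s4
  exact ((h1.swap.trans h2).trans s3).trans s4 |>.swap


end Cfsg.Agent.Helper27
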