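import Mathlib
import Cfsg.Agent.Lib.Helper27.LeechFrame4

set_option autoImplicit false
set_option maxRecDepth 8000
open Cfsg

/-! The Higman-Sims configuration: a norm-48 vector `v`, and minimal vectors. -/

namespace Cfsg.Agent.Helper27
open Cfsg.Agent.S0398 (permP permP_mem permP_apply epsP epsP_mem epsP_apply)
open Cfsg.Agent.S0394 (FA FB FC idxA idxB fC mem_idxA mem_idxB mem_octads_iff aJW odd_fC famC_mem
  octF mem_octF)

/-! ### Group elements acting on lattice vectors -/

theorem smul_dot (g : Co0) (v w : leechLattice) :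
    dotInt ((g • v : leechLattice) : GolayPt → ℤ) ((g • w : leechLattice) : GolayPt → ℤ) =
      dotInt (v : GolayPt → ℤ) (w : GolayPt → ℤ) := co0_dotInt g.2 v w

theorem smul_norm (g : Co0) (v : leechLattice) :
    sqNorm ((g • v : leechLattice) : GolayPt → ℤ) = sqNorm (v : GolayPt → ℤ) := co0_sqNorm g.2 v

theorem smul_add' (g : Co0) (v w : leechLattice) : g • (v + w) = g • v + g • w :=
  co0_add g.2 v w

theorem smul_sub' (g : Co0) (v w : leechLattice) : g • (v - w) = g • v - g • w := by
  have h := smul_add' g (v - w) w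
  rw [sub_add_cancel] at h
  rw [h, add_sub_cancel_right]

theorem smul_neg' (g : Co0) (v : leechLattice) : g • (-v) = -(g • v) := by
  have h := smul_add' g (-v) v
  rw [neg_add_cancel] at h
  have h0 : g • (0 : leechLattice) = 0 := by
    have := smul_add' g 0 0
    rw [add_zero] at this
    exact (add_eq_left.mp this.symm)
  rw [h0] at h
  exact eq_neg_of_add_eq_zero_left h.symm

/-- Coordinate permutation as a group element. -/
def permG (σ : Equiv.Perm GolayPt) (hσ : σ ∈ M24) : Co0 := ⟨permP σ hσ, permP_mem σ hσ⟩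

/-- Sign change as a group element. -/
def epsG (c : GolayPt → ZMod 2) (hc : c ∈ golayCode) : Co0 := ⟨epsP c hc, epsP_mem c hc⟩

theorem permG_smul (σ : Equiv.Perm GolayPt) (hσ : σ ∈ M24) (v : leechLattice) :
    ((permG σ hσ • v : leechLattice) : GolayPt → ℤ) = fun i => v.1 (σ i) := rfl

theorem epsG_smul (c : GolayPt → ZMod 2) (hc : c ∈ golayCode) (v : leechLattice) :
    ((epsG c hc • v : leechLattice) : GolayPt → ℤ) = signChange (support₂ c) v.1 := rfl

theorem CoEq2.exists_smul {v w : leechLattice} {p q : GolayPt → ℤ} (h : CoEq2 v.1 w.1 p q) :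
    ∃ g : Co0, ((g • v : leechLattice) : GolayPt → ℤ) = p ∧
      ((g • w : leechLattice) : GolayPt → ℤ) = q := by
  obtain ⟨g, hg, hx, hy, h1, h2⟩ := h
  exact ⟨⟨g, hg⟩, h1, h2⟩

/-- The standard vectors as lattice elements. -/
def U5 : leechLattice := ⟨u5, u5_mem'⟩
def V44 : leechLattice := ⟨v44, v44_mem⟩
def X0 : leechLattice := ⟨vec44 none (some 0) (-1), vec44_mem _ _ _ (Or.inr rfl)⟩

theorem dotInt_v0raw' (x : GolayPt → ℤ) : dotInt x v0raw = 8 * x none := by
  rw [dotInt_comm', dotInt_v0raw]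

/-- Normal form of a configuration `(v, x', x)`: `v` of norm 48, `x', x` orthogonal minimal with
inner products `16` and `24` with `v`. -/
theorem nf_hs {v x' x : leechLattice} (hv : sqNorm (v : GolayPt → ℤ) = 48)
    (hx' : sqNorm (x' : GolayPt → ℤ) = 32) (hx : sqNorm (x : GolayPt → ℤ) = 32)
    (h0 : dotInt (x : GolayPt → ℤ) (x' : GolayPt → ℤ) = 0)
    (h16 : dotInt (v : GolayPt → ℤ) (x' : GolayPt → ℤ) = 16)
    (h24 : dotInt (v : GolayPt → ℤ) (x : GolayPt → ℤ) = 24) :
    ∃ g : Co0, g • v = U5 ∧ g • x' = X0 ∧ g • x = V44 := by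
  obtain ⟨j, hj, s, hs, hfr⟩ := frame_adapt x.2 x'.2 hx hx' h0
  obtain ⟨g1, e1, e2⟩ := hfr.exists_smul
  -- the image of `v`
  have hv1n : sqNorm ((g1 • v : leechLattice) : GolayPt → ℤ) = 48 := by rw [smul_norm, hv]
  have hd1 : dotInt ((g1 • v : leechLattice) : GolayPt → ℤ) (vec44 none j s) = 24 := by
    rw [← e1, smul_dot, h24]
  have hd2 : dotInt ((g1 • v : leechLattice) : GolayPt → ℤ) (vec44 none j (-s)) = 16 := by
    rw [← e2, smul_dot, h16]
  have h5 : ((g1 • v : leechLattice) : GolayPt → ℤ) none = 5 := by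
    have := dotInt_v0raw' ((g1 • v : leechLattice) : GolayPt → ℤ)
    rw [← vec44_add_neg hj s, dotInt_add_right', hd1, hd2] at this
    omega
  obtain ⟨c, hc, hc0, hvc⟩ := eq_oddVec5 (g1 • v).2 hv1n h5
  rw [hvc, dotInt_comm', dotInt_vec44_left, oddVec5_apply, oddVec5_apply, if_pos rfl, if_pos hc0,
    if_neg hj] at hd1
  have hcn : none ∉ support₂ c := by rw [mem_support₂, not_not]; exact hc0
  have e3 : (if j ∈ support₂ c then -s else s) = 1 := by
    by_cases hcj : c j = 0
    · rw [if_pos hcj] at hd1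
      have : j ∉ support₂ c := by rw [mem_support₂, not_not]; exact hcj
      rw [if_neg this]
      rcases hs with rfl | rfl
      · rfl
      · omega
    · rw [if_neg hcj] at hd1
      have : j ∈ support₂ c := mem_support₂.mpr hcj
      rw [if_pos this]
      rcases hs with rfl | rfl
      · omega
      · norm_num
  have e3' : (if j ∈ support₂ c then -(-s) else -s) = -1 := by
    by_cases hjc : j ∈ support₂ c
    · rw [if_pos hjc] at e3 ⊢; linarith
    · rw [if_neg hjc] at e3 ⊢; linarith
  obtain ⟨σ, hσ, p1, p2⟩ := exists_perm2 hj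
  refine ⟨permG σ hσ * epsG c hc * g1, ?_, ?_, ?_⟩
  · apply Subtype.ext
    rw [mul_smul, mul_smul, permG_smul, epsG_smul, hvc, signChange_oddVec, ← u5_eq_oddVec]
    exact u5_comp p1
  · apply Subtype.ext
    rw [mul_smul, mul_smul, permG_smul, epsG_smul, e2, signChange_vec44 hcn, e3']
    exact vec44_comp p1 p2 _
  · apply Subtype.ext
    rw [mul_smul, mul_smul, permG_smul, epsG_smul, e1, signChange_vec44 hcn, e3]
    exact vec44_comp p1 p2 _


/-- The hundred minimal vectors attached to the standard configuration. -/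
noncomputable def H100 : Finset (GolayPt → ℤ) :=
  F32.filter (fun x => dotInt u5 x = 24 ∧ x none = x (some 0))

/-- The 77 vectors of shape `2^8`. -/
noncomputable def HB : Finset (GolayPt → ℤ) :=
  (octF.filter (fun p => none ∈ p ∧ some 0 ∈ p)).image (fun p => shapeVec 2 p ∅)

/-- The 22 vectors of shape `(-3, 1^23)`. -/
def HD : Finset (GolayPt → ℤ) :=
  (((Finset.univ : Finset GolayPt).erase none).erase (some 0)).image m3

theorem m3_injective : Function.Injective m3 := by
  intro j k h
  have := congrFun h j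
  unfold m3 at this
  rw [if_pos rfl] at this
  by_contra hjk
  rw [if_neg hjk] at this
  norm_num at this

theorem card_HB : HB.card = 77 := by
  unfold HB
  rw [Finset.card_image_of_injOn, card_octF_two (by decide)]
  intro p _ p' _ h
  exact (shapeVec_injective (by norm_num : (0 : ℤ) < 2) (Finset.empty_subset p)
    (Finset.empty_subset p') h).1

theorem card_HD : HD.card = 22 := by
  unfold HD
  rw [Finset.card_image_of_injective _ m3_injective]
  decide

theorem FA_subset_F32 {x : GolayPt → ℤ} (h : x ∈ FA) : x ∈ F32 := by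
  unfold F32; exact Finset.mem_union_left _ (Finset.mem_union_left _ h)

theorem FB_subset_F32 {x : GolayPt → ℤ} (h : x ∈ FB) : x ∈ F32 := by
  unfold F32; exact Finset.mem_union_left _ (Finset.mem_union_right _ h)

theorem FC_subset_F32 {x : GolayPt → ℤ} (h : x ∈ FC) : x ∈ F32 := by
  unfold F32; exact Finset.mem_union_right _ h

theorem dotInt_u5_v44 : dotInt u5 v44 = 24 := by
  rw [dotInt_comm', dotInt_v44, u5_apply, u5_apply, if_pos rfl, if_neg (by decide)]; norm_num

theorem mem_filter_FB_u5 {x : GolayPt → ℤ} :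
    (x ∈ FB ∧ dotInt u5 x = 24) ↔ ∃ p ∈ octads, none ∈ p ∧ x = shapeVec 2 p ∅ := by
  have h := filter_FB_u5
  have hx : x ∈ FB.filter (fun w => dotInt u5 w = 24) ↔
      x ∈ (octF.filter (fun p => none ∈ p)).image (fun p => shapeVec 2 p ∅) := by rw [h]
  rw [Finset.mem_filter, Finset.mem_image] at hx
  rw [hx]
  constructor
  · rintro ⟨p, hp, rfl⟩
    rw [Finset.mem_filter, mem_octF] at hp
    exact ⟨p, hp.1, hp.2, rfl⟩
  · rintro ⟨p, hp, hn, rfl⟩
    exact ⟨p, by rw [Finset.mem_filter, mem_octF]; exact ⟨hp, hn⟩, rfl⟩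

theorem H100_eq : H100 = {v44} ∪ HB ∪ HD := by
  ext x
  unfold H100
  rw [Finset.mem_filter, Finset.mem_union, Finset.mem_union, Finset.mem_singleton]
  constructor
  · rintro ⟨hF, hP, hQ⟩
    have hxL := (mem_F32.mp hF)
    have hF' := hF
    unfold F32 at hF'
    rw [Finset.mem_union, Finset.mem_union] at hF'
    rcases hF' with (hA | hB) | hC
    · -- shape (4,4)
      left; left
      have hA' := hA
      unfold FA at hA'
      rw [Finset.mem_image] at hA'
      obtain ⟨p, hp, hxp⟩ := hA'
      rw [mem_idxA] at hp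
      have hN : p.2.card ≤ 2 := by rw [← hp.1]; exact Finset.card_le_card hp.2
      have hval : shapeVec 4 p.1 p.2 none = 0 ∨ shapeVec 4 p.1 p.2 none = 4 ∨
          shapeVec 4 p.1 p.2 none = -4 := by
        unfold shapeVec; split_ifs <;> simp
      have h4 : x none = 4 := by
        have hd2 := hP
        rw [dotInt_u5, ← hxp, sum_shapeVec 4 hp.2, hp.1] at hd2
        rw [← hxp]
        have : (p.2.card : ℤ) ≤ 2 := by exact_mod_cast hN
        have : (0 : ℤ) ≤ (p.2.card : ℤ) := Int.natCast_nonneg _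
        push_cast at hd2
        omega
      obtain ⟨d, hd', s, hs, hxs⟩ := eq_vec44_of_apply hxL.1 hxL.2 h4
      have h5 := hP
      rw [hxs, dotInt_comm', dotInt_vec44_left, u5_apply, u5_apply, if_pos rfl, if_neg hd'] at h5
      have hs1 : s = 1 := by linarith
      subst hs1
      have hd0 : d = some 0 := by
        by_contra hne
        rw [hxs, vec44_apply_left (Ne.symm hd'),
          vec44_apply_other (by decide) (fun h => hne h.symm)] at hQ
        norm_num at hQ
      rw [hxs, hd0]; rfl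
    · -- shape (2^8)
      left; right
      obtain ⟨p, hp, hn, rfl⟩ := mem_filter_FB_u5.mp ⟨hB, hP⟩
      unfold HB
      rw [Finset.mem_image]
      refine ⟨p, ?_, rfl⟩
      rw [Finset.mem_filter, mem_octF]
      refine ⟨hp, hn, ?_⟩
      by_contra h0
      unfold shapeVec at hQ
      rw [if_pos hn, if_neg (Finset.notMem_empty _), if_neg h0] at hQ
      norm_num at hQ
    · -- odd shape
      right
      unfold FC at hC
      rw [Finset.mem_image] at hC
      obtain ⟨⟨j, c⟩, -, rfl⟩ := hC
      rcases (dot_u5_fC (j, c)).mp hP with ⟨hj, hc0, -⟩ | ⟨hj, hc⟩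
      · exfalso
        simp only at hj hc0
        subst hj
        have h1 := fC_apply_self none c
        have h2 := fC_apply_ne (j := none) (c := c) (i := some 0) (by decide)
        omega
      · simp only at hj hc
        have hc' : c = 0 := Subtype.ext hc
        subst hc'
        rw [← m3_eq_fC] at hQ ⊢
        unfold HD
        rw [Finset.mem_image]
        refine ⟨j, ?_, rfl⟩
        rw [Finset.mem_erase, Finset.mem_erase]
        refine ⟨?_, hj, Finset.mem_univ _⟩
        rintro rfl
        unfold m3 at hQ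
        rw [if_neg (by decide), if_pos rfl] at hQ
        norm_num at hQ
  · rintro ((rfl | hB) | hD)
    · refine ⟨mem_F32.mpr ⟨v44_mem, v44_norm⟩, dotInt_u5_v44, ?_⟩
      unfold v44
      rw [vec44_apply_left (by decide), vec44_apply_right (by decide)]; norm_num
    · unfold HB at hB
      rw [Finset.mem_image] at hB
      obtain ⟨p, hp, rfl⟩ := hB
      rw [Finset.mem_filter, mem_octF] at hp
      have h1 := mem_filter_FB_u5.mpr ⟨p, hp.1, hp.2.1, rfl⟩
      refine ⟨FB_subset_F32 h1.1, h1.2, ?_⟩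
      unfold shapeVec
      rw [if_pos hp.2.1, if_pos hp.2.2, if_neg (Finset.notMem_empty _),
        if_neg (Finset.notMem_empty _)]
    · unfold HD at hD
      rw [Finset.mem_image] at hD
      obtain ⟨k, hk, rfl⟩ := hD
      rw [Finset.mem_erase, Finset.mem_erase] at hk
      refine ⟨mem_F32.mpr ⟨m3_mem k, m3_norm k⟩, ?_, ?_⟩
      · rw [dotInt_comm', dotInt_m3, sum_u5, u5_apply, if_neg hk.2.1]; norm_num
      · unfold m3
        rw [if_neg (Ne.symm hk.2.1), if_neg (Ne.symm hk.1)]

theorem v44_notMem_HB : v44 ∉ HB := by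
  unfold HB
  rw [Finset.mem_image]
  rintro ⟨p, -, h⟩
  have := congrFun h none
  unfold shapeVec v44 at this
  rw [vec44_apply_left (by decide)] at this
  split_ifs at this <;> norm_num at this

theorem v44_notMem_HD : v44 ∉ HD := by
  unfold HD
  rw [Finset.mem_image]
  rintro ⟨k, -, h⟩
  have := congrFun h none
  unfold m3 v44 at this
  rw [vec44_apply_left (by decide)] at this
  split_ifs at this <;> norm_num at this

theorem HB_HD_disjoint : Disjoint HB HD := by
  rw [Finset.disjoint_left]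
  intro x hB hD
  unfold HB at hB
  unfold HD at hD
  rw [Finset.mem_image] at hB hD
  obtain ⟨p, -, rfl⟩ := hB
  obtain ⟨k, -, h⟩ := hD
  have := congrFun h none
  unfold m3 shapeVec at this
  split_ifs at this <;> norm_num at this

theorem card_H100 : H100.card = 100 := by
  rw [H100_eq, Finset.card_union_of_disjoint, Finset.card_union_of_disjoint, card_HB, card_HD,
    Finset.card_singleton]
  · rw [Finset.disjoint_singleton_left]; exact v44_notMem_HB
  · rw [Finset.disjoint_union_left]
    exact ⟨by rw [Finset.disjoint_singleton_left]; exact v44_notMem_HD, HB_HD_disjoint⟩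


/-- The set attached to a pair `(v, w)`. -/
def hsSet (v w : leechLattice) : Set leechLattice :=
  {x : leechLattice | sqNorm (x : GolayPt → ℤ) = 32 ∧
    dotInt (v : GolayPt → ℤ) (x : GolayPt → ℤ) = 24 ∧
    dotInt (w : GolayPt → ℤ) (x : GolayPt → ℤ) = -24}

theorem dotInt_X0 (y : GolayPt → ℤ) : dotInt (X0 : GolayPt → ℤ) y = 4 * y none - 4 * y (some 0) := by
  show dotInt (vec44 none (some 0) (-1)) y = _
  rw [dotInt_vec44_left]; ring

/-- Transport of the set to the standard configuration. -/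
theorem mem_hsSet_iff {v w : leechLattice} {g : Co0} (h1 : g • v = U5) (h2 : g • (v + w) = X0)
    (x : leechLattice) : x ∈ hsSet v w ↔ ((g • x : leechLattice) : GolayPt → ℤ) ∈ H100 := by
  unfold hsSet H100
  rw [Set.mem_setOf_eq, Finset.mem_filter, mem_F32]
  have e1 : dotInt u5 ((g • x : leechLattice) : GolayPt → ℤ) =
      dotInt (v : GolayPt → ℤ) (x : GolayPt → ℤ) := by
    rw [← smul_dot g v x, h1]; rfl
  have e2 : dotInt (X0 : GolayPt → ℤ) ((g • x : leechLattice) : GolayPt → ℤ) =
      dotInt (v : GolayPt → ℤ) (x : GolayPt → ℤ) + dotInt (w : GolayPt → ℤ) (x : GolayPt → ℤ) := by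
    rw [← h2, smul_dot g (v + w) x]
    show dotInt ((v : GolayPt → ℤ) + (w : GolayPt → ℤ)) _ = _
    rw [dotInt_add_left']
  rw [dotInt_X0] at e2
  rw [e1, smul_norm]
  constructor
  · rintro ⟨h32, h24, hm⟩
    exact ⟨⟨(g • x).2, h32⟩, h24, by omega⟩
  · rintro ⟨⟨-, h32⟩, h24, hq⟩
    exact ⟨h32, h24, by omega⟩

theorem exists_std_pair {v w : leechLattice} (hv : sqNorm (v : GolayPt → ℤ) = 48)
    (hw : sqNorm (w : GolayPt → ℤ) = 48)
    (hvw : dotInt (v : GolayPt → ℤ) (w : GolayPt → ℤ) = -32) :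
    ∃ g : Co0, g • v = U5 ∧ g • (v + w) = X0 := by
  have hxn : sqNorm ((v + w : leechLattice) : GolayPt → ℤ) = 32 := by
    show sqNorm ((v : GolayPt → ℤ) + (w : GolayPt → ℤ)) = 32
    rw [sqNorm_add, hv, hw, hvw]; norm_num
  have h1 : dotInt (v : GolayPt → ℤ) ((v + w : leechLattice) : GolayPt → ℤ) = 16 := by
    show dotInt (v : GolayPt → ℤ) ((v : GolayPt → ℤ) + (w : GolayPt → ℤ)) = 16
    rw [dotInt_add_right', dotInt_self', hv, hvw]; norm_num
  obtain ⟨g, e1, e2⟩ := (pair_u5 v.2 (v + w).2 hv hxn h1).exists_smul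
  exact ⟨g, Subtype.ext e1, Subtype.ext e2⟩

theorem ncard_hsSet {v w : leechLattice} (hv : sqNorm (v : GolayPt → ℤ) = 48)
    (hw : sqNorm (w : GolayPt → ℤ) = 48)
    (hvw : dotInt (v : GolayPt → ℤ) (w : GolayPt → ℤ) = -32) : (hsSet v w).ncard = 100 := by
  obtain ⟨g, h1, h2⟩ := exists_std_pair hv hw hvw
  have e : hsSet v w = (fun x : leechLattice => g • x) ⁻¹'
      {y : leechLattice | (y : GolayPt → ℤ) ∈ H100} := by
    ext x
    rw [mem_hsSet_iff h1 h2]
    rfl
  rw [e, Set.ncard_preimage_of_injective_subset_range (MulAction.injective g)]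
  · rw [ncard_subtype_eq, card_H100]
    intro x hx
    unfold H100 at hx
    exact (mem_F32.mp (Finset.mem_filter.mp hx).1).1
  · intro y _
    exact ⟨g⁻¹ • y, smul_inv_smul g y⟩

theorem hsSet_trans {v w : leechLattice} (hv : sqNorm (v : GolayPt → ℤ) = 48)
    (hw : sqNorm (w : GolayPt → ℤ) = 48)
    (hvw : dotInt (v : GolayPt → ℤ) (w : GolayPt → ℤ) = -32) {x : leechLattice}
    (hx : x ∈ hsSet v w) : ∃ g : Co0, g • v = U5 ∧ g • (v + w) = X0 ∧ g • x = V44 := by
  have hxn : sqNorm ((v + w : leechLattice) : GolayPt → ℤ) = 32 := by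
    show sqNorm ((v : GolayPt → ℤ) + (w : GolayPt → ℤ)) = 32
    rw [sqNorm_add, hv, hw, hvw]; norm_num
  have h1 : dotInt (v : GolayPt → ℤ) ((v + w : leechLattice) : GolayPt → ℤ) = 16 := by
    show dotInt (v : GolayPt → ℤ) ((v : GolayPt → ℤ) + (w : GolayPt → ℤ)) = 16
    rw [dotInt_add_right', dotInt_self', hv, hvw]; norm_num
  have h0 : dotInt (x : GolayPt → ℤ) ((v + w : leechLattice) : GolayPt → ℤ) = 0 := by
    show dotInt (x : GolayPt → ℤ) ((v : GolayPt → ℤ) + (w : GolayPt → ℤ)) = 0
    rw [dotInt_add_right', dotInt_comm' _ (v : GolayPt → ℤ), dotInt_comm' _ (w : GolayPt → ℤ),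
      hx.2.1, hx.2.2]
    norm_num
  exact nf_hs hv hxn hx.1 h0 h1 hx.2.1


end Cfsg.Agent.Helper27
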