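import Mathlib
import Cfsg.Agent.Lib.Helper27.LeechHS

set_option autoImplicit false
set_option maxRecDepth 8000
open Cfsg
open scoped Pointwise

/-! The Higman-Sims configuration: rank 3 action on the hundred points. -/

namespace Cfsg.Agent.Helper27
open Cfsg.Agent.S0394 (FA FB FC idxA idxB fC mem_idxA mem_idxB mem_octads_iff aJW odd_fC famC_mem
  octF mem_octF)

theorem dotInt_v44_self : dotInt v44 v44 = 32 := by rw [dotInt_self', v44_norm]

theorem dotInt_v44_HB {z : GolayPt → ℤ} (hz : z ∈ HB) : dotInt v44 z = 16 := by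
  unfold HB at hz
  rw [Finset.mem_image] at hz
  obtain ⟨p, hp, rfl⟩ := hz
  rw [Finset.mem_filter] at hp
  rw [dotInt_v44]
  unfold shapeVec
  rw [if_pos hp.2.1, if_pos hp.2.2, if_neg (Finset.notMem_empty _),
    if_neg (Finset.notMem_empty _)]
  norm_num

theorem dotInt_v44_HD {z : GolayPt → ℤ} (hz : z ∈ HD) : dotInt v44 z = 8 := by
  unfold HD at hz
  rw [Finset.mem_image] at hz
  obtain ⟨k, hk, rfl⟩ := hz
  rw [Finset.mem_erase, Finset.mem_erase] at hk
  rw [dotInt_v44]
  unfold m3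
  rw [if_neg (Ne.symm hk.2.1), if_neg (Ne.symm hk.1)]
  norm_num

theorem H100_filter_eight : H100.filter (fun z => dotInt v44 z = 8) = HD := by
  ext z
  rw [Finset.mem_filter, H100_eq, Finset.mem_union, Finset.mem_union, Finset.mem_singleton]
  constructor
  · rintro ⟨(rfl | hB) | hD, h8⟩
    · rw [dotInt_v44_self] at h8; norm_num at h8
    · rw [dotInt_v44_HB hB] at h8; norm_num at h8
    · exact hD
  · intro hD
    exact ⟨Or.inr hD, dotInt_v44_HD hD⟩

theorem H100_filter_sixteen :
    H100.filter (fun z => z ≠ v44 ∧ dotInt v44 z ≠ 8) = HB := by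
  ext z
  rw [Finset.mem_filter, H100_eq, Finset.mem_union, Finset.mem_union, Finset.mem_singleton]
  constructor
  · rintro ⟨(rfl | hB) | hD, hne, h8⟩
    · exact absurd rfl hne
    · exact hB
    · exact absurd (dotInt_v44_HD hD) h8
  · intro hB
    refine ⟨Or.inl (Or.inr hB), ?_, ?_⟩
    · rintro rfl; exact v44_notMem_HB hB
    · rw [dotInt_v44_HB hB]; norm_num

/-- Counting a subset of the configuration through the standard one. -/
theorem ncard_hs_filter {v w : leechLattice} {g : Co0} (h1 : g • v = U5)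
    (h2 : g • (v + w) = X0) (Q : leechLattice → Prop) (Q' : (GolayPt → ℤ) → Prop)
    [DecidablePred Q'] (hQ : ∀ y : leechLattice, Q y ↔ Q' ((g • y : leechLattice) : GolayPt → ℤ)) :
    {y : leechLattice | y ∈ hsSet v w ∧ Q y}.ncard = (H100.filter Q').card := by
  have e : {y : leechLattice | y ∈ hsSet v w ∧ Q y} = (fun x : leechLattice => g • x) ⁻¹'
      {y : leechLattice | (y : GolayPt → ℤ) ∈ H100.filter Q'} := by
    ext x
    rw [Set.mem_setOf_eq, mem_hsSet_iff h1 h2, hQ, Set.mem_preimage, Set.mem_setOf_eq,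
      Finset.mem_filter]
  rw [e, Set.ncard_preimage_of_injective_subset_range (MulAction.injective g)]
  · rw [ncard_subtype_eq]
    intro x hx
    unfold H100 at hx
    exact (mem_F32.mp (Finset.mem_filter.mp (Finset.mem_filter.mp hx).1).1).1
  · intro y _
    exact ⟨g⁻¹ • y, smul_inv_smul g y⟩

/-- A permutation of the code's group fixing `∞, 0` and mapping a further point. -/
theorem exists_perm_fix2 {k k' : GolayPt} (hk : k ≠ none ∧ k ≠ some 0)
    (hk' : k' ≠ none ∧ k' ≠ some 0) :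
    ∃ σ ∈ M24, σ none = none ∧ σ (some 0) = some 0 ∧ σ k' = k := by
  obtain ⟨σ, hσ, h⟩ := exists_M24_map_list [none, some 0, k'] [none, some 0, k]
    (by simp [Ne.symm hk'.1, Ne.symm hk'.2]) (by simp [Ne.symm hk.1, Ne.symm hk.2]) rfl (by simp)
  simp only [List.map_cons, List.map_nil, List.cons.injEq, and_true] at h
  exact ⟨σ, hσ, h.1, h.2.1, h.2.2⟩

/-- Three further points of an octad through `∞, 0`. -/
theorem exists_three {p : Finset GolayPt} (hp : p ∈ octads) :
    ∃ a b c : GolayPt, a ∈ p ∧ b ∈ p ∧ c ∈ p ∧ [none, some 0, a, b, c].Nodup := by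
  have h8 : p.card = 8 := hp.2
  have hcard : 3 ≤ ((p.erase none).erase (some 0)).card := by
    have h1 := Finset.pred_card_le_card_erase (s := p) (a := none)
    have h2 := Finset.pred_card_le_card_erase (s := p.erase none) (a := some 0)
    omega
  obtain ⟨t, ht, ht3⟩ := Finset.exists_subset_card_eq hcard
  obtain ⟨a, b, c, hab, hac, hbc, rfl⟩ := Finset.card_eq_three.mp ht3
  have ha := ht (by simp : a ∈ ({a, b, c} : Finset GolayPt))
  have hb := ht (by simp : b ∈ ({a, b, c} : Finset GolayPt))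
  have hc := ht (by simp : c ∈ ({a, b, c} : Finset GolayPt))
  rw [Finset.mem_erase, Finset.mem_erase] at ha hb hc
  refine ⟨a, b, c, ha.2.2, hb.2.2, hc.2.2, ?_⟩
  simp only [List.nodup_cons, List.mem_cons, List.not_mem_nil, or_false, not_or, List.nodup_nil,
    and_true]
  refine ⟨⟨by decide, Ne.symm ha.2.1, Ne.symm hb.2.1, Ne.symm hc.2.1⟩,
    ⟨Ne.symm ha.1, Ne.symm hb.1, Ne.symm hc.1⟩, ⟨hab, hac⟩, hbc, not_false⟩

theorem exists_perm_octad {p p' : Finset GolayPt} (hp : p ∈ octads) (hp' : p' ∈ octads)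
    (h1 : none ∈ p ∧ some 0 ∈ p) (h1' : none ∈ p' ∧ some 0 ∈ p') :
    ∃ σ ∈ M24, σ none = none ∧ σ (some 0) = some 0 ∧ ∀ i, σ i ∈ p ↔ i ∈ p' := by
  obtain ⟨a, b, c, ha, hb, hc, hnd⟩ := exists_three hp
  obtain ⟨a', b', c', ha', hb', hc', hnd'⟩ := exists_three hp'
  obtain ⟨σ, hσ, h⟩ := exists_M24_map_list [none, some 0, a', b', c'] [none, some 0, a, b, c]
    hnd' hnd rfl (by simp)
  simp only [List.map_cons, List.map_nil, List.cons.injEq, and_true] at h
  obtain ⟨e1, e2, e3, e4, e5⟩ := h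
  refine ⟨σ, hσ, e1, e2, ?_⟩
  have hs : σ • p' = p := by
    apply Cfsg.Agent.S0363.octad_unique (s := {none, some 0, a, b, c}) (smul_mem_octads hσ hp') hp
    · have := List.toFinset_card_of_nodup hnd
      simp only [List.toFinset_cons, List.toFinset_nil, List.length_cons, List.length_nil,
        insert_empty_eq] at this
      exact this
    · intro i hi
      simp only [Finset.mem_insert, Finset.mem_singleton] at hi
      rcases hi with rfl | rfl | rfl | rfl | rfl
      · rw [← e1]; exact Finset.smul_mem_smul_finset h1'.1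
      · rw [← e2]; exact Finset.smul_mem_smul_finset h1'.2
      · rw [← e3]; exact Finset.smul_mem_smul_finset ha'
      · rw [← e4]; exact Finset.smul_mem_smul_finset hb'
      · rw [← e5]; exact Finset.smul_mem_smul_finset hc'
    · intro i hi
      simp only [Finset.mem_insert, Finset.mem_singleton] at hi
      rcases hi with rfl | rfl | rfl | rfl | rfl
      · exact h1.1
      · exact h1.2
      · exact ha
      · exact hb
      · exact hc
  intro i
  rw [← hs]
  constructor
  · intro hi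
    obtain ⟨k, hk, hki⟩ := Finset.mem_smul_finset.mp hi
    have : k = i := σ.injective hki
    rw [← this]; exact hk
  · intro hi
    exact Finset.smul_mem_smul_finset hi


theorem shapeVec_comp {σ : Equiv.Perm GolayPt} {p p' : Finset GolayPt}
    (h : ∀ i, σ i ∈ p ↔ i ∈ p') : (fun i => shapeVec 2 p ∅ (σ i)) = shapeVec 2 p' ∅ := by
  funext i
  unfold shapeVec
  by_cases hi : i ∈ p'
  · rw [if_pos hi, if_pos ((h i).mpr hi), if_neg (Finset.notMem_empty _),
      if_neg (Finset.notMem_empty _)]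
  · rw [if_neg hi, if_neg (fun hc => hi ((h i).mp hc))]

/-- Elements of the standard stabiliser moving points of the hundred. -/
theorem exists_std_move {y y' : GolayPt → ℤ} (hy : y ∈ H100) (hy' : y' ∈ H100)
    (hne : y ≠ v44) (hne' : y' ≠ v44) (h8 : dotInt v44 y = 8 ↔ dotInt v44 y' = 8) :
    ∃ σ ∈ M24, σ none = none ∧ σ (some 0) = some 0 ∧ (fun i => y (σ i)) = y' := by
  rw [H100_eq, Finset.mem_union, Finset.mem_union, Finset.mem_singleton] at hy hy'
  rcases hy with (rfl | hB) | hD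
  · exact absurd rfl hne
  · rcases hy' with (rfl | hB') | hD'
    · exact absurd rfl hne'
    · unfold HB at hB hB'
      rw [Finset.mem_image] at hB hB'
      obtain ⟨p, hp, rfl⟩ := hB
      obtain ⟨p', hp', rfl⟩ := hB'
      rw [Finset.mem_filter, mem_octF] at hp hp'
      obtain ⟨σ, hσ, e1, e2, e3⟩ := exists_perm_octad hp.1 hp'.1 hp.2 hp'.2
      exact ⟨σ, hσ, e1, e2, shapeVec_comp e3⟩
    · exfalso
      have a1 := dotInt_v44_HB hB
      have a2 := dotInt_v44_HD hD'
      rw [a1, a2] at h8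
      norm_num at h8
  · rcases hy' with (rfl | hB') | hD'
    · exact absurd rfl hne'
    · exfalso
      have a1 := dotInt_v44_HD hD
      have a2 := dotInt_v44_HB hB'
      rw [a1, a2] at h8
      norm_num at h8
    · unfold HD at hD hD'
      rw [Finset.mem_image] at hD hD'
      obtain ⟨k, hk, rfl⟩ := hD
      obtain ⟨k', hk', rfl⟩ := hD'
      rw [Finset.mem_erase, Finset.mem_erase] at hk hk'
      obtain ⟨σ, hσ, e1, e2, e3⟩ := exists_perm_fix2 ⟨hk.2.1, hk.1⟩ ⟨hk'.2.1, hk'.1⟩
      exact ⟨σ, hσ, e1, e2, m3_comp e3⟩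

theorem hs_rank3 {v w x : leechLattice} (hv : sqNorm (v : GolayPt → ℤ) = 48)
    (hw : sqNorm (w : GolayPt → ℤ) = 48)
    (hvw : dotInt (v : GolayPt → ℤ) (w : GolayPt → ℤ) = -32) (hx : x ∈ hsSet v w) :
    {y : leechLattice | y ∈ hsSet v w ∧
      dotInt (x : GolayPt → ℤ) (y : GolayPt → ℤ) = 8}.ncard = 22 ∧
    {y : leechLattice | y ∈ hsSet v w ∧ (y ≠ x ∧
      dotInt (x : GolayPt → ℤ) (y : GolayPt → ℤ) ≠ 8)}.ncard = 77 ∧
    ∀ y ∈ hsSet v w, ∀ y' ∈ hsSet v w, y ≠ x → y' ≠ x →
      (dotInt (x : GolayPt → ℤ) (y : GolayPt → ℤ) = 8 ↔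
        dotInt (x : GolayPt → ℤ) (y' : GolayPt → ℤ) = 8) →
      ∃ g : Co0, g • v = v ∧ g • w = w ∧ g • x = x ∧ g • y = y' := by
  obtain ⟨g, a1, a2, a3⟩ := hsSet_trans hv hw hvw hx
  have hdot : ∀ y : leechLattice, dotInt (x : GolayPt → ℤ) (y : GolayPt → ℤ) =
      dotInt v44 ((g • y : leechLattice) : GolayPt → ℤ) := by
    intro y
    rw [← smul_dot g x y, a3]; rfl
  have hneq : ∀ y : leechLattice, y ≠ x ↔ ((g • y : leechLattice) : GolayPt → ℤ) ≠ v44 := by
    intro y
    constructor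
    · intro h hc
      apply h
      have : g • y = g • x := by rw [a3]; exact Subtype.ext hc
      exact MulAction.injective g this
    · intro h hc
      apply h
      rw [hc, a3]; rfl
  refine ⟨?_, ?_, ?_⟩
  · rw [ncard_hs_filter a1 a2 _ (fun z => dotInt v44 z = 8) (fun y => by rw [hdot y]),
      H100_filter_eight, card_HD]
  · rw [ncard_hs_filter a1 a2 _ (fun z => z ≠ v44 ∧ dotInt v44 z ≠ 8)
      (fun y => by rw [hdot y, hneq y]), H100_filter_sixteen, card_HB]
  · intro y hy y' hy' hne hne' h8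
    rw [hdot y, hdot y'] at h8
    obtain ⟨σ, hσ, e1, e2, e3⟩ := exists_std_move ((mem_hsSet_iff a1 a2 y).mp hy)
      ((mem_hsSet_iff a1 a2 y').mp hy') ((hneq y).mp hne) ((hneq y').mp hne') h8
    have b1 : permG σ hσ • U5 = U5 := Subtype.ext (u5_comp e1)
    have b2 : permG σ hσ • X0 = X0 := Subtype.ext (vec44_comp e1 e2 _)
    have b3 : permG σ hσ • V44 = V44 := Subtype.ext (vec44_comp e1 e2 _)
    have b4 : permG σ hσ • (g • y) = g • y' := Subtype.ext e3
    have hgv : (g⁻¹ * permG σ hσ * g) • v = v := by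
      rw [mul_smul, mul_smul, a1, b1, ← a1, inv_smul_smul]
    have hgs : (g⁻¹ * permG σ hσ * g) • (v + w) = v + w := by
      rw [mul_smul, mul_smul, a2, b2, ← a2, inv_smul_smul]
    refine ⟨g⁻¹ * permG σ hσ * g, hgv, ?_, ?_, ?_⟩
    · rw [smul_add', hgv] at hgs
      exact add_left_cancel hgs
    · rw [mul_smul, mul_smul, a3, b3, ← a3, inv_smul_smul]
    · rw [mul_smul, mul_smul, b4, inv_smul_smul]


end Cfsg.Agent.Helper27
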