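import Mathlib
import Cfsg.Agent.Lib.Helper27.LeechHS2

set_option autoImplicit false
set_option maxRecDepth 8000
open Cfsg

/-! The McLaughlin configuration: the 275 minimal vectors attached to a pair `(u, v)` with
`u` of norm 48, `v` and `u - v` minimal; transitivity of the stabiliser on them. -/

namespace Cfsg.Agent.Helper27
open Cfsg.Agent.S0394 (FA FB FC idxA idxB fC mem_idxA mem_idxB mem_octads_iff aJW odd_fC famC_mem
  octF mem_octF instFintypeGolayCode card_golayCode fC_injective famB_mem)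


/-- Classification of the 552 minimal vectors having inner product 24 with `u5`. -/
theorem mem_552 {x : GolayPt → ℤ} (hF : x ∈ F32) (hP : dotInt u5 x = 24) :
    (∃ d, d ≠ none ∧ x = vec44 none d 1) ∨
    (∃ p ∈ octads, none ∈ p ∧ x = shapeVec 2 p ∅) ∨
    (∃ c : golayCode, c.1 none ≠ 0 ∧ (support₂ c.1).card = 8 ∧ x = fC (none, c)) ∨
    (∃ j, j ≠ none ∧ x = m3 j) := by
  have hxL := (mem_F32.mp hF)
  have hF' := hF
  unfold F32 at hF'
  rw [Finset.mem_union, Finset.mem_union] at hF'
  rcases hF' with (hA | hB) | hC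
  · left
    have hA' := hA
    unfold FA at hA'
    rw [Finset.mem_image] at hA'
    obtain ⟨p, hp, hxp⟩ := hA'
    rw [mem_idxA] at hp
    have hN : p.2.card ≤ 2 := by rw [← hp.1]; exact Finset.card_le_card hp.2
    have hval : shapeVec 4 p.1 p.2 none = 0 ∨ shapeVec 4 p.1 p.2 none = 4 ∨
        shapeVec 4 p.1 p.2 none = -4 := by
      unfold shapeVec; split_ifs <;> simp
    have h4 : x none = 4 := by
      have hd2 := hP
      rw [dotInt_u5, ← hxp, sum_shapeVec 4 hp.2, hp.1] at hd2
      rw [← hxp]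
      have : (p.2.card : ℤ) ≤ 2 := by exact_mod_cast hN
      have : (0 : ℤ) ≤ (p.2.card : ℤ) := Int.natCast_nonneg _
      push_cast at hd2
      omega
    obtain ⟨d, hd', s, hs, hxs⟩ := eq_vec44_of_apply hxL.1 hxL.2 h4
    have h5 := hP
    rw [hxs, dotInt_comm', dotInt_vec44_left, u5_apply, u5_apply, if_pos rfl, if_neg hd'] at h5
    have hs1 : s = 1 := by linarith
    subst hs1
    exact ⟨d, hd', hxs⟩
  · right; left
    obtain ⟨p, hp, hn, rfl⟩ := mem_filter_FB_u5.mp ⟨hB, hP⟩
    exact ⟨p, hp, hn, rfl⟩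
  · right; right
    unfold FC at hC
    rw [Finset.mem_image] at hC
    obtain ⟨⟨j, c⟩, -, rfl⟩ := hC
    rcases (dot_u5_fC (j, c)).mp hP with ⟨hj, hc0, h8⟩ | ⟨hj, hc⟩
    · left
      simp only at hj hc0 h8
      subst hj
      exact ⟨c, hc0, h8, rfl⟩
    · right
      simp only at hj hc
      have hc' : c = 0 := Subtype.ext hc
      subst hc'
      exact ⟨j, hj, (m3_eq_fC j).symm⟩

/-! ### The 275 vectors -/

/-- The 275 minimal vectors attached to the standard pair `(u5, v44)`. -/
noncomputable def M275 : Finset (GolayPt → ℤ) :=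
  F32.filter (fun x => dotInt u5 x = 24 ∧ dotInt v44 x = 16)

def MA : Finset (GolayPt → ℤ) :=
  (((Finset.univ : Finset GolayPt).erase none).erase (some 0)).image (fun j => vec44 none j 1)

noncomputable def MCidx : Finset golayCode :=
  (Finset.univ : Finset golayCode).filter
    (fun c => c.1 none ≠ 0 ∧ c.1 (some 0) = 0 ∧ (support₂ c.1).card = 8)

noncomputable def MC : Finset (GolayPt → ℤ) := MCidx.image (fun c => fC (none, c))

theorem vec44_right_injective {a : GolayPt} :
    Function.Injective (fun j => vec44 a j 1) := by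
  intro j k h
  by_contra hjk
  have h1 := congrFun h j
  simp only at h1
  unfold vec44 at h1
  rw [if_pos rfl, if_neg hjk] at h1
  split_ifs at h1 <;> norm_num at h1

theorem card_MA : MA.card = 22 := by
  unfold MA
  rw [Finset.card_image_of_injective _ vec44_right_injective]
  decide

theorem card_MCidx : MCidx.card = 176 := by
  have h1 := card_code8_through none
  have h2 : ((Finset.univ : Finset golayCode).filter
      (fun c => (c.1 none ≠ 0 ∧ (support₂ c.1).card = 8) ∧ c.1 (some 0) ≠ 0)).card = 77 := by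
    rw [← card_octF_two (a := none) (b := some 0) (by decide)]
    apply Finset.card_bij (fun c _ => support₂ c.1)
    · intro c hc
      rw [Finset.mem_filter] at hc
      rw [Finset.mem_filter, mem_octF, mem_octads_iff]
      exact ⟨⟨c.1, c.2, rfl, hc.2.1.2⟩, mem_support₂.mpr hc.2.1.1, mem_support₂.mpr hc.2.2⟩
    · intro c _ c' _ h
      exact Subtype.ext (Cfsg.Agent.Helper29.support₂_injective h)
    · intro p hp
      rw [Finset.mem_filter, mem_octF, mem_octads_iff] at hp
      obtain ⟨⟨w, hw, rfl, h8⟩, ha, hb⟩ := hp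
      refine ⟨⟨w, hw⟩, ?_, rfl⟩
      rw [Finset.mem_filter]
      exact ⟨Finset.mem_univ _, ⟨mem_support₂.mp ha, h8⟩, mem_support₂.mp hb⟩
  have h3 := Finset.card_filter_add_card_filter_not
    (s := (Finset.univ : Finset golayCode).filter
      (fun c => c.1 none ≠ 0 ∧ (support₂ c.1).card = 8)) (fun c => c.1 (some 0) ≠ 0)
  rw [Finset.filter_filter, Finset.filter_filter, h1, h2] at h3
  have h4 : MCidx = (Finset.univ : Finset golayCode).filter
      (fun c => (c.1 none ≠ 0 ∧ (support₂ c.1).card = 8) ∧ ¬ c.1 (some 0) ≠ 0) := by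
    unfold MCidx
    apply Finset.filter_congr
    intro c _
    rw [not_not]
    tauto
  rw [h4]
  omega

theorem card_MC : MC.card = 176 := by
  unfold MC
  rw [Finset.card_image_of_injective, card_MCidx]
  intro c c' h
  exact (Prod.mk.inj (fC_injective h)).2

theorem fC_none_apply (c : golayCode) (i : GolayPt) :
    fC (none, c) i = if i = none then (if c.1 none = 0 then -3 else 3)
      else (if c.1 i = 0 then 1 else -1) := by
  unfold fC aJW
  simp only
  by_cases hi : i = none
  · subst hi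
    rw [if_pos rfl, if_pos rfl]
    split_ifs <;> norm_num
  · rw [if_neg hi, if_neg hi]
    split_ifs <;> norm_num

theorem M275_eq : M275 = MA ∪ HB ∪ MC := by
  ext x
  unfold M275
  rw [Finset.mem_filter, Finset.mem_union, Finset.mem_union]
  constructor
  · rintro ⟨hF, hP, hQ⟩
    rw [dotInt_v44] at hQ
    rcases mem_552 hF hP with ⟨d, hd, rfl⟩ | ⟨p, hp, hn, rfl⟩ | ⟨c, hc0, h8, rfl⟩ | ⟨j, hj, rfl⟩
    · left; left
      unfold MA
      rw [Finset.mem_image]
      refine ⟨d, ?_, rfl⟩
      rw [Finset.mem_erase, Finset.mem_erase]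
      refine ⟨?_, hd, Finset.mem_univ _⟩
      rintro rfl
      rw [vec44_apply_left (by decide), vec44_apply_right (by decide)] at hQ
      norm_num at hQ
    · left; right
      unfold HB
      rw [Finset.mem_image]
      refine ⟨p, ?_, rfl⟩
      rw [Finset.mem_filter, mem_octF]
      refine ⟨hp, hn, ?_⟩
      by_contra h0
      unfold shapeVec at hQ
      rw [if_pos hn, if_neg (Finset.notMem_empty _), if_neg h0] at hQ
      norm_num at hQ
    · right
      unfold MC MCidx
      rw [Finset.mem_image]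
      refine ⟨c, ?_, rfl⟩
      rw [Finset.mem_filter]
      refine ⟨Finset.mem_univ _, hc0, ?_, h8⟩
      rw [fC_none_apply, fC_none_apply, if_pos rfl, if_neg hc0, if_neg (by decide)] at hQ
      by_contra h0
      rw [if_neg h0] at hQ
      norm_num at hQ
    · exfalso
      unfold m3 at hQ
      rw [if_neg (Ne.symm hj)] at hQ
      split_ifs at hQ <;> norm_num at hQ
  · rintro ((hA | hB) | hC)
    · unfold MA at hA
      rw [Finset.mem_image] at hA
      obtain ⟨j, hj, rfl⟩ := hA
      rw [Finset.mem_erase, Finset.mem_erase] at hj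
      refine ⟨mem_F32.mpr ⟨vec44_mem _ _ _ (Or.inl rfl),
        sqNorm_vec44 _ _ (Ne.symm hj.2.1) _ (Or.inl rfl)⟩, ?_, ?_⟩
      · rw [dotInt_comm', dotInt_vec44_left, u5_apply, u5_apply, if_pos rfl, if_neg hj.2.1]
        norm_num
      · rw [dotInt_v44, vec44_apply_left (Ne.symm hj.2.1),
          vec44_apply_other (by decide) (Ne.symm hj.1)]
        norm_num
    · have h100 : x ∈ H100 := by
        rw [H100_eq, Finset.mem_union, Finset.mem_union]
        exact Or.inl (Or.inr hB)
      unfold H100 at h100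
      rw [Finset.mem_filter] at h100
      exact ⟨h100.1, h100.2.1, dotInt_v44_HB hB⟩
    · unfold MC MCidx at hC
      rw [Finset.mem_image] at hC
      obtain ⟨c, hc, rfl⟩ := hC
      rw [Finset.mem_filter] at hc
      obtain ⟨-, hc0, hc1, h8⟩ := hc
      refine ⟨FC_subset_F32 ?_, ?_, ?_⟩
      · unfold FC
        exact Finset.mem_image_of_mem _ (Finset.mem_univ _)
      · exact (dot_u5_fC (none, c)).mpr (Or.inl ⟨rfl, hc0, h8⟩)
      · rw [dotInt_v44, fC_none_apply, fC_none_apply, if_pos rfl, if_neg hc0,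
          if_neg (by decide), if_pos hc1]
        norm_num



theorem MA_apply_none {x : GolayPt → ℤ} (h : x ∈ MA) : x none = 4 := by
  unfold MA at h
  rw [Finset.mem_image] at h
  obtain ⟨j, hj, rfl⟩ := h
  rw [Finset.mem_erase, Finset.mem_erase] at hj
  exact vec44_apply_left (Ne.symm hj.2.1) _

theorem HB_apply_none {x : GolayPt → ℤ} (h : x ∈ HB) : x none = 2 := by
  unfold HB at h
  rw [Finset.mem_image] at h
  obtain ⟨p, hp, rfl⟩ := h
  rw [Finset.mem_filter] at hp
  unfold shapeVec
  rw [if_pos hp.2.1, if_neg (Finset.notMem_empty _)]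

theorem MC_apply_none {x : GolayPt → ℤ} (h : x ∈ MC) : x none = 3 := by
  unfold MC MCidx at h
  rw [Finset.mem_image] at h
  obtain ⟨c, hc, rfl⟩ := h
  rw [Finset.mem_filter] at hc
  rw [fC_none_apply, if_pos rfl, if_neg hc.2.1]

theorem card_M275 : M275.card = 275 := by
  rw [M275_eq, Finset.card_union_of_disjoint, Finset.card_union_of_disjoint, card_MA, card_HB,
    card_MC]
  · rw [Finset.disjoint_left]
    intro x h1 h2
    have := MA_apply_none h1
    rw [HB_apply_none h2] at this
    norm_num at this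
  · rw [Finset.disjoint_left]
    intro x h1 h2
    have h3 := MC_apply_none h2
    rw [Finset.mem_union] at h1
    rcases h1 with h1 | h1
    · rw [MA_apply_none h1] at h3; norm_num at h3
    · rw [HB_apply_none h1] at h3; norm_num at h3

/-- The set attached to a pair `(u, v)`. -/
def mclSet (u v : leechLattice) : Set leechLattice :=
  {x : leechLattice | sqNorm (x : GolayPt → ℤ) = 32 ∧
    sqNorm ((u - x : leechLattice) : GolayPt → ℤ) = 32 ∧
    dotInt (v : GolayPt → ℤ) (x : GolayPt → ℤ) = 16}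

theorem v44_add_m3 : v44 + m3 (some 0) = u5 := by
  funext i
  rw [Pi.add_apply, u5_apply]
  unfold v44 vec44 m3
  by_cases h1 : i = none
  · subst h1; simp
  · by_cases h2 : i = some 0
    · subst h2; simp
    · simp [h1, h2]

theorem dot_of_sub_norm {u x : GolayPt → ℤ} (hu : sqNorm u = 48) (hx : sqNorm x = 32) :
    sqNorm (u - x) = 32 ↔ dotInt u x = 24 := by
  rw [sqNorm_sub', hu, hx]
  constructor <;> intro h <;> linarith

theorem exists_std_mcl {u v : leechLattice} (hu : sqNorm (u : GolayPt → ℤ) = 48)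
    (hv : sqNorm (v : GolayPt → ℤ) = 32)
    (huv : sqNorm ((u - v : leechLattice) : GolayPt → ℤ) = 32) :
    ∃ g : Co0, g • u = U5 ∧ g • v = V44 := by
  have h24 : dotInt (u : GolayPt → ℤ) (v : GolayPt → ℤ) = 24 :=
    (dot_of_sub_norm hu hv).mp huv
  have hd : dotInt (v : GolayPt → ℤ) ((u - v : leechLattice) : GolayPt → ℤ) = -8 := by
    show dotInt (v : GolayPt → ℤ) ((u : GolayPt → ℤ) - (v : GolayPt → ℤ)) = -8
    rw [dotInt_sub_right', dotInt_self', hv, dotInt_comm', h24]; norm_num
  obtain ⟨g, e1, e2⟩ := (pair_m8 v.2 (u - v).2 hv huv hd).exists_smul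
  refine ⟨g, ?_, Subtype.ext e1⟩
  have e3 : g • u = g • v + g • (u - v) := by
    rw [← smul_add', add_sub_cancel]
  rw [e3]
  apply Subtype.ext
  show ((g • v : leechLattice) : GolayPt → ℤ) + ((g • (u - v) : leechLattice) : GolayPt → ℤ) = u5
  rw [e1, e2, v44_add_m3]

theorem mem_mclSet_iff {u v : leechLattice} {g : Co0} (h1 : g • u = U5) (h2 : g • v = V44)
    (x : leechLattice) : x ∈ mclSet u v ↔ ((g • x : leechLattice) : GolayPt → ℤ) ∈ M275 := by
  unfold mclSet M275
  rw [Set.mem_setOf_eq, Finset.mem_filter, mem_F32]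
  have hu : sqNorm (u : GolayPt → ℤ) = 48 := by
    rw [← smul_norm g u, h1]; exact u5_norm
  have e1 : dotInt u5 ((g • x : leechLattice) : GolayPt → ℤ) =
      dotInt (u : GolayPt → ℤ) (x : GolayPt → ℤ) := by
    rw [← smul_dot g u x, h1]; rfl
  have e2 : dotInt v44 ((g • x : leechLattice) : GolayPt → ℤ) =
      dotInt (v : GolayPt → ℤ) (x : GolayPt → ℤ) := by
    rw [← smul_dot g v x, h2]; rfl
  rw [e1, e2, smul_norm]
  constructor
  · rintro ⟨h32, hs, h16⟩
    exact ⟨⟨(g • x).2, h32⟩, (dot_of_sub_norm hu h32).mp hs, h16⟩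
  · rintro ⟨⟨-, h32⟩, h24, h16⟩
    exact ⟨h32, (dot_of_sub_norm hu h32).mpr h24, h16⟩

theorem ncard_mclSet {u v : leechLattice} (hu : sqNorm (u : GolayPt → ℤ) = 48)
    (hv : sqNorm (v : GolayPt → ℤ) = 32)
    (huv : sqNorm ((u - v : leechLattice) : GolayPt → ℤ) = 32) : (mclSet u v).ncard = 275 := by
  obtain ⟨g, h1, h2⟩ := exists_std_mcl hu hv huv
  have e : mclSet u v = (fun x : leechLattice => g • x) ⁻¹'
      {y : leechLattice | (y : GolayPt → ℤ) ∈ M275} := by
    ext x
    rw [mem_mclSet_iff h1 h2]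
    rfl
  rw [e, Set.ncard_preimage_of_injective_subset_range (MulAction.injective g)]
  · rw [ncard_subtype_eq, card_M275]
    intro x hx
    unfold M275 at hx
    exact (mem_F32.mp (Finset.mem_filter.mp hx).1).1
  · intro y _
    exact ⟨g⁻¹ • y, smul_inv_smul g y⟩



theorem octad_inter_even {p p' : Finset GolayPt} (hp : p ∈ octads) (hp' : p' ∈ octads) :
    Even (p ∩ p').card := by
  obtain ⟨w, hw, rfl, -⟩ := (mem_octads_iff p).mp hp
  obtain ⟨w', hw', rfl, -⟩ := (mem_octads_iff p').mp hp'
  have h := golay_inter_even hw hw'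
  have e : ((support₂ w ∩ support₂ w').card : ℤ) =
      ∑ i, (if w i ≠ 0 ∧ w' i ≠ 0 then (1 : ℤ) else 0) := by
    have : support₂ w ∩ support₂ w' =
        (Finset.univ : Finset GolayPt).filter (fun i => w i ≠ 0 ∧ w' i ≠ 0) := by
      ext i
      rw [Finset.mem_inter, mem_support₂, mem_support₂, Finset.mem_filter]
      simp
    rw [this, Finset.card_filter]
    push_cast
    rfl
  rw [← e] at h
  have h' : (2 : ℕ) ∣ (support₂ w ∩ support₂ w').card := by exact_mod_cast h
  exact even_iff_two_dvd.mpr h'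

theorem sum_inter_card (B : Finset (Finset GolayPt)) (S : Finset GolayPt) :
    ∑ b ∈ B, (b ∩ S).card = ∑ m ∈ S, (B.filter (fun b => m ∈ b)).card := by
  have h := Finset.sum_card_bipartiteAbove_eq_sum_card_bipartiteBelow (s := B) (t := S)
    (fun (b : Finset GolayPt) (m : GolayPt) => m ∈ b)
  unfold Finset.bipartiteAbove Finset.bipartiteBelow at h
  rw [← h]
  apply Finset.sum_congr rfl
  intro b _
  rw [Finset.filter_mem_eq_inter, Finset.inter_comm]

theorem card_octF_three {J : Finset GolayPt} (hJ : J.card = 3) :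
    (octF.filter (fun b => J ⊆ b)).card = 21 := by
  have h := card_octF_through J (by omega)
  rw [hJ] at h
  have c1 : (8 - 3).choose (5 - 3) = 10 := by decide
  have c2 : (24 - 3).choose (5 - 3) = 210 := by decide
  rw [c1, c2] at h
  omega

theorem card_octF_four {J : Finset GolayPt} (hJ : J.card = 4) :
    (octF.filter (fun b => J ⊆ b)).card = 5 := by
  have h := card_octF_through J (by omega)
  rw [hJ] at h
  have c1 : (8 - 4).choose (5 - 4) = 4 := by decide
  have c2 : (24 - 4).choose (5 - 4) = 20 := by decide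
  rw [c1, c2] at h
  omega

theorem card_octF_two' {J : Finset GolayPt} (hJ : J.card = 2) :
    (octF.filter (fun b => J ⊆ b)).card = 77 := by
  have h := card_octF_through J (by omega)
  rw [hJ] at h
  have c1 : (8 - 2).choose (5 - 2) = 20 := by decide
  have c2 : (24 - 2).choose (5 - 2) = 1540 := by decide
  rw [c1, c2] at h
  omega

theorem octad_card {p : Finset GolayPt} (hp : p ∈ octads) : p.card = 8 := by
  obtain ⟨w, hw, rfl, h8⟩ := (mem_octads_iff p).mp hp
  exact h8

/-- An octad through `T` (which meets `O` in one point) meeting `O` in exactly two points. -/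
theorem exists_octad_meet_two {O : Finset GolayPt} (hO : O ∈ octads) {a : GolayPt} (ha : a ∈ O)
    (T : Finset GolayPt) (hT : T ∩ O = {a}) (n1 n2 : ℕ)
    (h1 : (octF.filter (fun b => T ⊆ b)).card = n1)
    (h2 : ∀ m ∈ O.erase a, (octF.filter (fun b => insert m T ⊆ b)).card = n2)
    (hn : 7 * n2 < 3 * n1) :
    ∃ p ∈ octads, T ⊆ p ∧ ∃ m, m ≠ a ∧ p ∩ O = {a, m} := by
  have haT : a ∈ T := by
    have : a ∈ T ∩ O := by rw [hT]; exact Finset.mem_singleton_self a
    exact (Finset.mem_inter.mp this).1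
  set B := octF.filter (fun b => T ⊆ b) with hB
  set S := O.erase a with hS
  have hScard : S.card = 7 := by
    rw [hS, Finset.card_erase_of_mem ha, octad_card hO]
  have hsum : ∑ b ∈ B, (b ∩ S).card = 7 * n2 := by
    rw [sum_inter_card, ← hScard, ← smul_eq_mul, ← Finset.sum_const]
    apply Finset.sum_congr rfl
    intro m hm
    rw [← h2 m hm, hB, Finset.filter_filter]
    congr 1
    apply Finset.filter_congr
    intro b _
    rw [Finset.insert_subset_iff]
    tauto
  -- every member of `B` meets `O` in an even number of points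
  have hpar : ∀ b ∈ B, (b ∩ O).card = (b ∩ S).card + 1 := by
    intro b hb
    rw [hB, Finset.mem_filter] at hb
    have hab : a ∈ b ∩ O := Finset.mem_inter.mpr ⟨hb.2 haT, ha⟩
    have : b ∩ S = (b ∩ O).erase a := by
      rw [hS, Finset.inter_erase]
    rw [this, Finset.card_erase_of_mem hab]
    have : 0 < (b ∩ O).card := Finset.card_pos.mpr ⟨a, hab⟩
    omega
  by_contra hcon
  have hge : ∀ b ∈ B, 3 ≤ (b ∩ S).card := by
    intro b hb
    have hb' := hb
    rw [hB, Finset.mem_filter, mem_octF] at hb'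
    have hev := octad_inter_even hb'.1 hO
    rw [hpar b hb] at hev
    by_contra hlt
    have h1' : (b ∩ S).card = 1 := by
      rcases hev with ⟨r, hr⟩
      omega
    obtain ⟨m, hm⟩ := Finset.card_eq_one.mp h1'
    apply hcon
    refine ⟨b, hb'.1, hb'.2, m, ?_, ?_⟩
    · have : m ∈ b ∩ S := by rw [hm]; exact Finset.mem_singleton_self m
      exact (Finset.mem_erase.mp (Finset.mem_inter.mp this).2).1
    · have hab : a ∈ b ∩ O := Finset.mem_inter.mpr ⟨hb'.2 haT, ha⟩
      have : b ∩ S = (b ∩ O).erase a := by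
        rw [hS, Finset.inter_erase]
      rw [this] at hm
      rw [← Finset.insert_erase hab, hm]
  have hlow : B.card * 3 ≤ ∑ b ∈ B, (b ∩ S).card := by
    rw [← smul_eq_mul, ← Finset.sum_const]
    exact Finset.sum_le_sum hge
  rw [hsum, h1] at hlow
  omega

/-- An octad through `a` and `z` meeting `O` in exactly two points. -/
theorem exists_octad_meet_two_a {O : Finset GolayPt} (hO : O ∈ octads) {a z : GolayPt}
    (ha : a ∈ O) (hz : z ∉ O) :
    ∃ p ∈ octads, a ∈ p ∧ z ∈ p ∧ ∃ m, m ≠ a ∧ p ∩ O = {a, m} := by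
  have haz : a ≠ z := by rintro rfl; exact hz ha
  obtain ⟨p, hp, hT, m, hm, hpm⟩ := exists_octad_meet_two hO ha {a, z} (by
      ext i
      rw [Finset.mem_inter, Finset.mem_insert, Finset.mem_singleton, Finset.mem_singleton]
      constructor
      · rintro ⟨rfl | rfl, hi⟩
        · rfl
        · exact absurd hi hz
      · rintro rfl; exact ⟨Or.inl rfl, ha⟩) 77 21
    (card_octF_two' (Finset.card_pair haz))
    (by
      intro m hm
      apply card_octF_three
      rw [Finset.mem_erase] at hm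
      rw [Finset.card_insert_of_notMem, Finset.card_pair haz]
      rw [Finset.mem_insert, Finset.mem_singleton]
      rintro (rfl | rfl)
      · exact hm.1 rfl
      · exact hz hm.2) (by norm_num)
  rw [Finset.insert_subset_iff, Finset.singleton_subset_iff] at hT
  exact ⟨p, hp, hT.1, hT.2, m, hm, hpm⟩



theorem dotInt_shapeVec (k : ℤ) {p N : Finset GolayPt} (hN : N ⊆ p) (y : GolayPt → ℤ) :
    dotInt (shapeVec k p N) y = k * (∑ i ∈ p, y i - 2 * ∑ i ∈ N, y i) := by
  unfold dotInt shapeVec
  have : ∀ i, (if i ∈ p then (if i ∈ N then -k else k) else 0) * y i =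
      (if i ∈ p then k * y i else 0) - (if i ∈ N then 2 * k * y i else 0) := by
    intro i
    by_cases h' : i ∈ N
    · have h : i ∈ p := hN h'
      simp [h, h']; ring
    · by_cases h : i ∈ p <;> simp [h, h']
  rw [Finset.sum_congr rfl (fun i _ => this i), Finset.sum_sub_distrib, Finset.sum_ite_mem,
    Finset.sum_ite_mem, Finset.univ_inter, Finset.univ_inter, ← Finset.mul_sum, ← Finset.mul_sum]
  ring

theorem fC_none_eq (c : golayCode) (hc0 : c.1 none ≠ 0) (i : GolayPt) :
    fC (none, c) i = 1 - (if i ∈ support₂ c.1 then 2 else 0) + (if i = none then 4 else 0) := by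
  rw [fC_none_apply]
  by_cases hi : i = none
  · subst hi
    have : none ∈ support₂ c.1 := mem_support₂.mpr hc0
    rw [if_pos rfl, if_neg hc0, if_pos this, if_pos rfl]; norm_num
  · rw [if_neg hi, if_neg hi]
    by_cases h : c.1 i = 0
    · have : i ∉ support₂ c.1 := by rw [mem_support₂, not_not]; exact h
      rw [if_pos h, if_neg this]; norm_num
    · have : i ∈ support₂ c.1 := mem_support₂.mpr h
      rw [if_neg h, if_pos this]; norm_num

theorem sum_fC_none_on (c : golayCode) (hc0 : c.1 none ≠ 0) (S : Finset GolayPt) :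
    ∑ i ∈ S, fC (none, c) i =
      (S.card : ℤ) - 2 * ((S ∩ support₂ c.1).card : ℤ) + (if none ∈ S then 4 else 0) := by
  rw [Finset.sum_congr rfl (fun i _ => fC_none_eq c hc0 i), Finset.sum_add_distrib,
    Finset.sum_sub_distrib, Finset.sum_ite_mem, Finset.sum_const, Finset.sum_const,
    Finset.sum_ite_eq' S none]
  simp only [nsmul_eq_mul, mul_one]
  ring

theorem sum_shapeVec_on (k : ℤ) (p S : Finset GolayPt) :
    ∑ i ∈ S, shapeVec k p ∅ i = k * ((S ∩ p).card : ℤ) := by
  unfold shapeVec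
  simp only [Finset.notMem_empty, if_false]
  rw [Finset.sum_ite_mem, Finset.sum_const]
  simp [mul_comm]

/-- the auxiliary vector `q` attached to an octad through `∞, 0` and one more of its points. -/
theorem qvec_props {p : Finset GolayPt} (hp : p ∈ octads) (hn : none ∈ p) (h0 : some 0 ∈ p)
    {m : GolayPt} (hm : m ∈ p) (hmn : m ≠ none) (hm0 : m ≠ some 0) :
    shapeVec 2 p {some 0, m} ∈ leechLattice ∧ sqNorm (shapeVec 2 p {some 0, m}) = 32 ∧
    dotInt v44 (shapeVec 2 p {some 0, m}) = 0 ∧ dotInt u5 (shapeVec 2 p {some 0, m}) = 16 := by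
  obtain ⟨w, hw, rfl, h8⟩ := (mem_octads_iff p).mp hp
  have hN : ({some 0, m} : Finset GolayPt) ⊆ support₂ w := by
    rw [Finset.insert_subset_iff, Finset.singleton_subset_iff]; exact ⟨h0, hm⟩
  have hc : ({some 0, m} : Finset GolayPt).card = 2 := Finset.card_pair (Ne.symm hm0)
  obtain ⟨hmem, hnorm⟩ := famB_mem hw h8 hN (by rw [hc]; exact even_two)
  have e1 : shapeVec 2 (support₂ w) {some 0, m} none = 2 := by
    unfold shapeVec
    rw [if_pos hn, if_neg]
    rw [Finset.mem_insert, Finset.mem_singleton]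
    rintro (h | h)
    · exact absurd h (by decide)
    · exact hmn h.symm
  have e2 : shapeVec 2 (support₂ w) {some 0, m} (some 0) = -2 := by
    unfold shapeVec
    rw [if_pos h0, if_pos (Finset.mem_insert_self _ _)]
  refine ⟨hmem, hnorm, ?_, ?_⟩
  · rw [dotInt_v44, e1, e2]; norm_num
  · rw [dotInt_u5, sum_shapeVec 2 hN, h8, hc, e1]; norm_num

theorem exists_q_mcl {x : GolayPt → ℤ} (hx : x ∈ M275) :
    ∃ q ∈ leechLattice, sqNorm q = 32 ∧ dotInt v44 q = 0 ∧ dotInt u5 q = 16 ∧
      dotInt q x = 16 := by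
  rw [M275_eq, Finset.mem_union, Finset.mem_union] at hx
  rcases hx with (hA | hB) | hC
  · -- type A
    unfold MA at hA
    rw [Finset.mem_image] at hA
    obtain ⟨j, hj, rfl⟩ := hA
    rw [Finset.mem_erase, Finset.mem_erase] at hj
    refine ⟨vec44 none (some 0) (-1), vec44_mem _ _ _ (Or.inr rfl),
      sqNorm_vec44 _ _ (by decide) _ (Or.inr rfl), ?_, ?_, ?_⟩
    · rw [dotInt_v44, vec44_apply_left (by decide), vec44_apply_right (by decide)]; norm_num
    · rw [dotInt_comm', dotInt_vec44_left, u5_apply, u5_apply, if_pos rfl, if_neg (by decide)]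
      norm_num
    · rw [dotInt_vec44_left, vec44_apply_left (Ne.symm hj.2.1),
        vec44_apply_other (by decide) (Ne.symm hj.1)]
      norm_num
  · -- type B
    unfold HB at hB
    rw [Finset.mem_image] at hB
    obtain ⟨p, hp, rfl⟩ := hB
    rw [Finset.mem_filter, mem_octF] at hp
    obtain ⟨hp, hn, h0⟩ := hp
    obtain ⟨m, hm, hmn, hm0⟩ : ∃ m ∈ p, m ≠ none ∧ m ≠ some 0 := by
      have h8 := octad_card hp
      have : 0 < ((p.erase none).erase (some 0)).card := by
        have h1 := Finset.pred_card_le_card_erase (s := p) (a := none)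
        have h2 := Finset.pred_card_le_card_erase (s := p.erase none) (a := some 0)
        omega
      obtain ⟨m, hm⟩ := Finset.card_pos.mp this
      rw [Finset.mem_erase, Finset.mem_erase] at hm
      exact ⟨m, hm.2.2, hm.2.1, hm.1⟩
    obtain ⟨q1, q2, q3, q4⟩ := qvec_props hp hn h0 hm hmn hm0
    have hN : ({some 0, m} : Finset GolayPt) ⊆ p := by
      rw [Finset.insert_subset_iff, Finset.singleton_subset_iff]; exact ⟨h0, hm⟩
    refine ⟨_, q1, q2, q3, q4, ?_⟩
    rw [dotInt_shapeVec 2 hN, sum_shapeVec_on, sum_shapeVec_on, Finset.inter_self,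
      Finset.inter_eq_left.mpr hN, octad_card hp, Finset.card_pair (Ne.symm hm0)]
    norm_num
  · -- type C
    unfold MC MCidx at hC
    rw [Finset.mem_image] at hC
    obtain ⟨c, hc, rfl⟩ := hC
    rw [Finset.mem_filter] at hc
    obtain ⟨-, hc0, hc1, h8⟩ := hc
    have hO : support₂ c.1 ∈ octads := (mem_octads_iff _).mpr ⟨c.1, c.2, rfl, h8⟩
    have hz : some 0 ∉ support₂ c.1 := by rw [mem_support₂, not_not]; exact hc1
    obtain ⟨p, hp, hn, h0, m, hmn, hpm⟩ :=
      exists_octad_meet_two_a hO (mem_support₂.mpr hc0) hz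
    have hm : m ∈ p ∩ support₂ c.1 := by
      rw [hpm]; exact Finset.mem_insert_of_mem (Finset.mem_singleton_self m)
    rw [Finset.mem_inter] at hm
    have hm0 : m ≠ some 0 := by
      rintro rfl; exact hz hm.2
    obtain ⟨q1, q2, q3, q4⟩ := qvec_props hp hn h0 hm.1 hmn hm0
    have hN : ({some 0, m} : Finset GolayPt) ⊆ p := by
      rw [Finset.insert_subset_iff, Finset.singleton_subset_iff]; exact ⟨h0, hm.1⟩
    refine ⟨_, q1, q2, q3, q4, ?_⟩
    have e1 : ({some 0, m} : Finset GolayPt) ∩ support₂ c.1 = {m} := by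
      ext i
      rw [Finset.mem_inter, Finset.mem_insert, Finset.mem_singleton]
      constructor
      · rintro ⟨rfl | rfl, hi⟩
        · exact absurd hi hz
        · rfl
      · rintro rfl; exact ⟨Or.inr rfl, hm.2⟩
    have e2 : none ∉ ({some 0, m} : Finset GolayPt) := by
      rw [Finset.mem_insert, Finset.mem_singleton]
      rintro (h | h)
      · exact absurd h (by decide)
      · exact hmn h.symm
    rw [dotInt_shapeVec 2 hN, sum_fC_none_on c hc0, sum_fC_none_on c hc0, hpm, e1, if_pos hn,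
      if_neg e2, octad_card hp, Finset.card_pair (Ne.symm hm0), Finset.card_pair (Ne.symm hmn),
      Finset.card_singleton]
    norm_num



def V41 : leechLattice := ⟨vec44 none (some 1) 1, vec44_mem _ _ _ (Or.inl rfl)⟩

theorem U5_norm : sqNorm (U5 : GolayPt → ℤ) = 48 := u5_norm
theorem V44_norm : sqNorm (V44 : GolayPt → ℤ) = 32 := v44_norm

/-- an element of `M275` with fourth coordinate data `4, 0` at `∞, 0`. -/
theorem eq_vec44_of_M275 {y : GolayPt → ℤ} (hy : y ∈ M275) (h4 : y none = 4) :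
    ∃ k, k ≠ none ∧ k ≠ some 0 ∧ y = vec44 none k 1 := by
  unfold M275 at hy
  rw [Finset.mem_filter, mem_F32] at hy
  obtain ⟨⟨hyL, hyn⟩, h24, h16⟩ := hy
  rw [dotInt_v44, h4] at h16
  have h0 : y (some 0) = 0 := by linarith
  obtain ⟨k, hk, s, hs, rfl⟩ := eq_vec44_of_apply hyL hyn h4
  have hk0 : k ≠ some 0 := by
    rintro rfl
    rw [vec44_apply_right (by decide)] at h0
    rcases hs with rfl | rfl <;> norm_num at h0
  rw [dotInt_comm', dotInt_vec44_left, u5_apply, u5_apply, if_pos rfl, if_neg hk] at h24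
  have hs1 : s = 1 := by linarith
  subst hs1
  exact ⟨k, hk, hk0, rfl⟩

theorem mcl_nf {u v x : leechLattice} (hu : sqNorm (u : GolayPt → ℤ) = 48)
    (hv : sqNorm (v : GolayPt → ℤ) = 32)
    (huv : sqNorm ((u - v : leechLattice) : GolayPt → ℤ) = 32) (hx : x ∈ mclSet u v) :
    ∃ g : Co0, g • u = U5 ∧ g • v = V44 ∧ g • x = V41 := by
  obtain ⟨g0, h1, h2⟩ := exists_std_mcl hu hv huv
  have hx1 := (mem_mclSet_iff h1 h2 x).mp hx
  obtain ⟨q, hqL, hqn, hq0, hq16, hqx⟩ := exists_q_mcl hx1
  obtain ⟨g1, e1, e2, e3⟩ := nf_hs (v := U5) (x' := ⟨q, hqL⟩) (x := V44) U5_norm hqn V44_norm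
    hq0 hq16 dotInt_u5_v44
  have f1 : (g1 * g0) • u = U5 := by rw [mul_smul, h1, e1]
  have f2 : (g1 * g0) • v = V44 := by rw [mul_smul, h2, e3]
  have hy := (mem_mclSet_iff f1 f2 x).mp hx
  have hd : dotInt (X0 : GolayPt → ℤ) (((g1 * g0) • x : leechLattice) : GolayPt → ℤ) = 16 := by
    rw [mul_smul, ← e2, smul_dot]
    exact hqx
  rw [dotInt_X0] at hd
  have hy' := hy
  unfold M275 at hy'
  rw [Finset.mem_filter, dotInt_v44] at hy'
  have h4 : (((g1 * g0) • x : leechLattice) : GolayPt → ℤ) none = 4 := by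
    have := hy'.2.2
    linarith
  obtain ⟨k, hk, hk0, hyk⟩ := eq_vec44_of_M275 hy h4
  obtain ⟨σ, hσ, p1, p2, p3⟩ := exists_perm_fix2 (k := k) (k' := some 1) ⟨hk, hk0⟩
    ⟨by decide, by decide⟩
  refine ⟨permG σ hσ * (g1 * g0), ?_, ?_, ?_⟩
  · rw [mul_smul, f1]
    apply Subtype.ext
    rw [permG_smul]
    exact u5_comp p1
  · rw [mul_smul, f2]
    apply Subtype.ext
    rw [permG_smul]
    exact vec44_comp p1 p2 _
  · rw [mul_smul]
    apply Subtype.ext
    rw [permG_smul, hyk]
    exact vec44_comp p1 p3 _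

theorem mcl_trans {u v x x' : leechLattice} (hu : sqNorm (u : GolayPt → ℤ) = 48)
    (hv : sqNorm (v : GolayPt → ℤ) = 32)
    (huv : sqNorm ((u - v : leechLattice) : GolayPt → ℤ) = 32) (hx : x ∈ mclSet u v)
    (hx' : x' ∈ mclSet u v) : ∃ g : Co0, g • u = u ∧ g • v = v ∧ g • x = x' := by
  obtain ⟨g, a1, a2, a3⟩ := mcl_nf hu hv huv hx
  obtain ⟨g', b1, b2, b3⟩ := mcl_nf hu hv huv hx'
  refine ⟨g'⁻¹ * g, ?_, ?_, ?_⟩
  · rw [mul_smul, a1, ← b1, inv_smul_smul]
  · rw [mul_smul, a2, ← b2, inv_smul_smul]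
  · rw [mul_smul, a3, ← b3, inv_smul_smul]


end Cfsg.Agent.Helper27
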