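import Mathlib
import Cfsg.Agent.Lib.Helper27.LeechHS

set_option autoImplicit false
set_option maxRecDepth 8000
open Cfsg

/-! The minimal vectors form a spherical 2-design; census of minimal vectors by inner product
with a vector of norm 48. -/

namespace Cfsg.Agent.Helper27
open Cfsg.Agent.S0398 (exists_codeword)
open Cfsg.Agent.S0394 (FA FB FC idxA idxB fC mem_idxA mem_idxB mem_octads_iff aJW odd_fC famC_mem
  octF mem_octF instFintypeGolayCode card_golayCode fC_injective)

/-! ### The second moment of the minimal vectors -/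

/-- The matrix of second moments. -/
noncomputable def mom (i j : GolayPt) : ℤ := ∑ x ∈ F32, x i * x j

theorem signChange_mem_F32 {c : GolayPt → ZMod 2} (hc : c ∈ golayCode) {x : GolayPt → ℤ}
    (hx : x ∈ F32) : signChange (support₂ c) x ∈ F32 := by
  rw [mem_F32] at hx ⊢
  exact ⟨signChange_mem ⟨c, hc, rfl⟩ hx.1, by rw [sqNorm_signChange]; exact hx.2⟩

theorem mom_off {i j : GolayPt} (hij : i ≠ j) : mom i j = 0 := by
  obtain ⟨c, hc, hi, hj⟩ := exists_codeword i j hij
  have h : mom i j = -mom i j := by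
    unfold mom
    rw [← Finset.sum_neg_distrib]
    refine Finset.sum_bij' (fun x _ => signChange (support₂ c) x)
      (fun x _ => signChange (support₂ c) x) ?_ ?_ ?_ ?_ ?_
    · intro x hx; exact signChange_mem_F32 hc hx
    · intro x hx; exact signChange_mem_F32 hc hx
    · intro x _; exact signChange_signChange _ _
    · intro x _; exact signChange_signChange _ _
    · intro x _
      unfold signChange
      rw [if_pos (mem_support₂.mpr hi), if_neg (by rw [mem_support₂, not_not]; exact hj)]
      ring
  omega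

theorem perm_mem_F32 {σ : Equiv.Perm GolayPt} (hσ : σ ∈ M24) {x : GolayPt → ℤ}
    (hx : x ∈ F32) : (fun i => x (σ i)) ∈ F32 := by
  rw [mem_F32] at hx ⊢
  have h := coEq_perm hσ hx.1
  exact ⟨h.mem_right, by rw [h.sqNorm_eq]; exact hx.2⟩

theorem mom_diag (i j : GolayPt) : mom i i = mom j j := by
  obtain ⟨σ, hσ, h⟩ := exists_M24_map_list [i] [j] (by simp) (by simp) rfl (by simp)
  simp only [List.map_cons, List.map_nil, List.cons.injEq, and_true] at h
  unfold mom
  refine Finset.sum_bij' (fun x _ => fun k => x (σ⁻¹ k)) (fun x _ => fun k => x (σ k)) ?_ ?_ ?_ ?_ ?_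
  · intro x hx; exact perm_mem_F32 (Subgroup.inv_mem _ hσ) hx
  · intro x hx; exact perm_mem_F32 hσ hx
  · intro x _; funext k; simp
  · intro x _; funext k; simp
  · intro x _
    simp only
    rw [← h]
    simp

theorem sum_mom_diag : ∑ i, mom i i = 32 * 196560 := by
  unfold mom
  rw [Finset.sum_comm]
  have : ∀ x ∈ F32, ∑ i, x i * x i = 32 := by
    intro x hx
    have := (mem_F32.mp hx).2
    unfold sqNorm at this
    rw [← this]
    exact Finset.sum_congr rfl (fun i _ => (sq _).symm)
  rw [Finset.sum_congr rfl this, Finset.sum_const, card_F32]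
  norm_num

theorem mom_self (i : GolayPt) : mom i i = 262080 := by
  have h := sum_mom_diag
  rw [Finset.sum_congr rfl (fun j _ => mom_diag j i), Finset.sum_const, Finset.card_univ,
    card_golayPt] at h
  simp only [nsmul_eq_mul, Nat.cast_ofNat] at h
  omega

/-- The minimal vectors form a spherical 2-design: second moment identity. -/
theorem sum_sq_dot (a : GolayPt → ℤ) : ∑ x ∈ F32, (dotInt a x) ^ 2 = 262080 * sqNorm a := by
  have h1 : ∀ x : GolayPt → ℤ, (dotInt a x) ^ 2 = ∑ i, ∑ j, a i * a j * (x i * x j) := by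
    intro x
    unfold dotInt
    rw [sq, Finset.sum_mul_sum]
    apply Finset.sum_congr rfl
    intro i _
    apply Finset.sum_congr rfl
    intro j _
    ring
  rw [Finset.sum_congr rfl (fun x _ => h1 x), Finset.sum_comm]
  have h2 : ∀ i, ∑ x ∈ F32, ∑ j, a i * a j * (x i * x j) = 262080 * a i ^ 2 := by
    intro i
    rw [Finset.sum_comm]
    have h3 : ∀ j, ∑ x ∈ F32, a i * a j * (x i * x j) = a i * a j * mom i j := by
      intro j
      unfold mom
      rw [Finset.mul_sum]
    rw [Finset.sum_congr rfl (fun j _ => h3 j), Finset.sum_eq_single i]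
    · rw [mom_self]; ring
    · intro j _ hji
      rw [mom_off (Ne.symm hji), mul_zero]
    · intro h; exact absurd (Finset.mem_univ _) h
  rw [Finset.sum_congr rfl (fun i _ => h2 i), ← Finset.mul_sum]
  rfl


/-- Half of the code words vanish at a given point. -/
theorem card_code_zero (a : GolayPt) :
    ((Finset.univ : Finset golayCode).filter (fun c => c.1 a = 0)).card = 2048 := by
  have h1 : ((Finset.univ : Finset golayCode).filter (fun c => c.1 a = 0)).card =
      ((Finset.univ : Finset golayCode).filter (fun c => ¬ c.1 a = 0)).card := by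
    refine Finset.card_bij' (fun c _ => c + ⟨1, one_mem_golayCode⟩)
      (fun c _ => c + ⟨1, one_mem_golayCode⟩) ?_ ?_ ?_ ?_
    · intro c hc
      rw [Finset.mem_filter] at hc ⊢
      refine ⟨Finset.mem_univ _, ?_⟩
      show ¬ (c.1 + 1) a = 0
      rw [Pi.add_apply, Pi.one_apply, hc.2]
      decide
    · intro c hc
      rw [Finset.mem_filter] at hc ⊢
      refine ⟨Finset.mem_univ _, ?_⟩
      show (c.1 + 1) a = 0
      rw [Pi.add_apply]
      have : ∀ b : ZMod 2, ¬ b = 0 → b + (1 : GolayPt → ZMod 2) a = 0 := by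
        intro b; rw [Pi.one_apply]; revert b; decide
      exact this _ hc.2
    · intro c _
      apply Subtype.ext
      show c.1 + 1 + 1 = c.1
      funext i
      simp only [Pi.add_apply, Pi.one_apply]
      have : ∀ b : ZMod 2, b + 1 + 1 = b := by decide
      exact this _
    · intro c _
      apply Subtype.ext
      show c.1 + 1 + 1 = c.1
      funext i
      simp only [Pi.add_apply, Pi.one_apply]
      have : ∀ b : ZMod 2, b + 1 + 1 = b := by decide
      exact this _
  have h2 := Finset.card_filter_add_card_filter_not (s := (Finset.univ : Finset golayCode))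
    (fun c => c.1 a = 0)
  rw [Finset.card_univ, card_golayCode] at h2
  omega

theorem cntDot_v0raw : cntDot v0raw (-24) = 2048 := by
  unfold cntDot
  rw [← card_code_zero none]
  symm
  refine Finset.card_bij (fun c _ => fC (none, c)) ?_ ?_ ?_
  · intro c hc
    rw [Finset.mem_filter] at hc
    rw [Finset.mem_filter, dotInt_v0raw]
    refine ⟨FC_subset_F32 ?_, ?_⟩
    · unfold FC
      exact Finset.mem_image_of_mem _ (Finset.mem_univ _)
    · have : fC (none, c) none = -3 := by
        unfold fC aJW
        simp only [if_true]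
        rw [if_pos hc.2]; norm_num
      rw [this]; norm_num
  · intro c _ c' _ h
    have := fC_injective h
    exact (Prod.mk.inj this).2
  · intro x hx
    rw [Finset.mem_filter, dotInt_v0raw] at hx
    have h3 : x none = -3 := by omega
    have hF := hx.1
    unfold F32 at hF
    rw [Finset.mem_union, Finset.mem_union] at hF
    rcases hF with (hA | hB) | hC
    · exfalso
      unfold FA at hA
      rw [Finset.mem_image] at hA
      obtain ⟨p, -, rfl⟩ := hA
      unfold shapeVec at h3
      split_ifs at h3 <;> norm_num at h3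
    · exfalso
      unfold FB at hB
      rw [Finset.mem_image] at hB
      obtain ⟨p, -, rfl⟩ := hB
      unfold shapeVec at h3
      split_ifs at h3 <;> norm_num at h3
    · unfold FC at hC
      rw [Finset.mem_image] at hC
      obtain ⟨⟨j, c⟩, -, rfl⟩ := hC
      have hj : j = none := by
        by_contra hne
        have := fC_apply_ne (j := j) (c := c) (i := none) (fun h => hne h.symm)
        omega
      subst hj
      refine ⟨c, ?_, rfl⟩
      rw [Finset.mem_filter]
      refine ⟨Finset.mem_univ _, ?_⟩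
      by_contra hc
      have : fC (none, c) none = 3 := by
        unfold fC aJW
        simp only [if_true]
        rw [if_neg hc]; norm_num
      omega

/-! ### A general double counting -/

theorem card_filter_shift' (Fa Fb : Finset (GolayPt → ℤ)) (A t : ℤ)
    (hFa : ∀ x, x ∈ Fa ↔ x ∈ leechLattice ∧ sqNorm x = A)
    (hFb : ∀ x, x ∈ Fb ↔ x ∈ leechLattice ∧ sqNorm x = A + 32 - 2 * t) {v : GolayPt → ℤ}
    (hv : v ∈ F32) :
    (Fa.filter (fun u => dotInt u v = t)).card = (Fb.filter (fun y => dotInt y v = t - 32)).card := by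
  rw [mem_F32] at hv
  refine Finset.card_bij (fun u _ => u - v) ?_ ?_ ?_
  · intro u hu
    rw [Finset.mem_filter, hFa] at hu
    obtain ⟨⟨huL, hun⟩, hd⟩ := hu
    rw [Finset.mem_filter, hFb]
    refine ⟨⟨sub_mem huL hv.1, ?_⟩, ?_⟩
    · rw [sqNorm_sub', hun, hv.2, hd]
    · rw [dotInt_sub_left', dotInt_self', hv.2, hd]
  · intro u _ u' _ h
    exact sub_left_injective h
  · intro y hy
    rw [Finset.mem_filter, hFb] at hy
    obtain ⟨⟨hyL, hyn⟩, hd⟩ := hy
    refine ⟨y + v, ?_, by abel⟩
    rw [Finset.mem_filter, hFa]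
    refine ⟨⟨add_mem hyL hv.1, ?_⟩, ?_⟩
    · rw [sqNorm_add, hyn, hv.2, hd]; ring
    · rw [dotInt_add_left', dotInt_self', hv.2, hd]; ring

theorem sum_cntDot' (Fa Fb : Finset (GolayPt → ℤ)) (A t : ℤ)
    (hFa : ∀ x, x ∈ Fa ↔ x ∈ leechLattice ∧ sqNorm x = A)
    (hFb : ∀ x, x ∈ Fb ↔ x ∈ leechLattice ∧ sqNorm x = A + 32 - 2 * t) :
    ∑ u ∈ Fa, cntDot u t = ∑ y ∈ Fb, cntDot y (t - 32) := by
  have h := Finset.sum_card_bipartiteAbove_eq_sum_card_bipartiteBelow (s := Fa) (t := F32)
    (fun u v => dotInt u v = t)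
  have h' := Finset.sum_card_bipartiteAbove_eq_sum_card_bipartiteBelow (s := Fb) (t := F32)
    (fun y v => dotInt y v = t - 32)
  have h1 : ∑ u ∈ Fa, cntDot u t =
      ∑ u ∈ Fa, (Finset.bipartiteAbove (fun u v => dotInt u v = t) F32 u).card := rfl
  have h2 : ∑ y ∈ Fb, cntDot y (t - 32) =
      ∑ y ∈ Fb, (Finset.bipartiteAbove (fun y v => dotInt y v = t - 32) F32 y).card := rfl
  rw [h1, h2, h, h']
  apply Finset.sum_congr rfl
  intro v hv
  exact card_filter_shift' Fa Fb A t hFa hFb hv


theorem dot_values48 {u x : GolayPt → ℤ} (hu : u ∈ F48) (hx : x ∈ F32) :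
    dotInt u x ∈ ({-24, -16, -8, 0, 8, 16, 24} : Finset ℤ) := by
  rw [mem_F48'] at hu
  rw [mem_F32] at hx
  have h8 := dotInt_dvd_eight hu.1 hx.1
  have h1 := sqNorm_sub' u x
  have h2 := sqNorm_add u x
  rw [hu.2, hx.2] at h1 h2
  have h3 : dotInt u x ≤ 24 := by
    have h0 : u - x ≠ 0 := by
      intro h0
      rw [h0, sqNorm_zero'] at h1
      have : u = x := sub_eq_zero.mp h0
      rw [this, dotInt_self', hx.2] at h1
      norm_num at h1
    have := leech_min_norm (sub_mem hu.1 hx.1) h0
    omega
  have h4 : -24 ≤ dotInt u x := by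
    have h0 : u + x ≠ 0 := by
      intro h0
      rw [h0, sqNorm_zero'] at h2
      have : u = -x := eq_neg_of_add_eq_zero_left h0
      rw [this, dotInt_neg_left', dotInt_self', hx.2] at h2
      norm_num at h2
    have := leech_min_norm (add_mem hu.1 hx.1) h0
    omega
  simp only [Finset.mem_insert, Finset.mem_singleton]
  omega

theorem cntDot48_const {u u' : GolayPt → ℤ} (hu : u ∈ F48) (hu' : u' ∈ F48) (t : ℤ) :
    cntDot u t = cntDot u' t := by
  rw [mem_F48'] at hu hu'
  exact cntDot_coEq (trans_norm48 hu.1 hu'.1 hu.2 hu'.2) t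

theorem cntDot48_eight {u : GolayPt → ℤ} (hu : u ∈ F48) : cntDot u 8 = 48600 := by
  have h := sum_cntDot' F48 F64 48 8 (fun x => mem_F48') (fun x => by rw [mem_F64']; norm_num)
  have e : (8 : ℤ) - 32 = -24 := by norm_num
  rw [e, Finset.sum_congr rfl (fun u' hu' => cntDot48_const hu' hu 8), Finset.sum_const, card_F48,
    Finset.sum_congr rfl (g := fun _ => 2048) (fun y hy => by
      rw [mem_F64'] at hy
      rw [cntDot_coEq (trans_norm64 hy.1 v0raw_mem hy.2 v0raw_norm) (-24), cntDot_v0raw]),
    Finset.sum_const, card_F64, smul_eq_mul, smul_eq_mul] at h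
  omega

theorem cntDot48_sixteen {u : GolayPt → ℤ} (hu : u ∈ F48) : cntDot u 16 = 11178 := by
  have h := Finset.sum_fiberwise_of_maps_to (s := F32)
    (t := ({-24, -16, -8, 0, 8, 16, 24} : Finset ℤ)) (g := fun x => dotInt u x)
    (fun x hx => dot_values48 hu hx) (fun x => (dotInt u x) ^ 2)
  rw [sum_sq_dot, (mem_F48'.mp hu).2] at h
  have e : ∀ t : ℤ, ∑ x ∈ F32.filter (fun x => dotInt u x = t), (dotInt u x) ^ 2 =
      t ^ 2 * (cntDot u t : ℤ) := by
    intro t
    rw [Finset.sum_congr rfl (g := fun _ => t ^ 2) (fun x hx => by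
      rw [(Finset.mem_filter.mp hx).2]), Finset.sum_const]
    unfold cntDot
    rw [nsmul_eq_mul]; ring
  rw [Finset.sum_insert (by decide), Finset.sum_insert (by decide), Finset.sum_insert (by decide),
    Finset.sum_insert (by decide), Finset.sum_insert (by decide), Finset.sum_insert (by decide),
    Finset.sum_singleton, e, e, e, e, e, e, e] at h
  have a1 := cntDot_neg u 24
  have a2 := cntDot_neg u 16
  have a3 := cntDot_neg u 8
  have a4 : cntDot u 24 = 552 := cntDot_norm48 (mem_F48'.mp hu).1 (mem_F48'.mp hu).2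
  have a5 := cntDot48_eight hu
  rw [a1, a2, a3, a4, a5] at h
  push_cast at h
  have : (cntDot u 16 : ℤ) = 11178 := by linarith
  exact_mod_cast this

theorem cntDot48_neg_sixteen {u : GolayPt → ℤ} (hu : u ∈ F48) : cntDot u (-16) = 11178 := by
  rw [cntDot_neg, cntDot48_sixteen hu]


end Cfsg.Agent.Helper27
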