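import Mathlib
import Cfsg.Agent.Lib.Helper27.LeechOrder

set_option autoImplicit false
open Cfsg

namespace Cfsg.Agent.Helper27

open Cfsg.Agent.S1571 (Stab monoP monoP_mem monoP_apply monoP_presCross signedPerm_single smul_eq)

/-- The lattice vectors of the standard cross. -/
def S0 : Set leechLattice := {v | (v : GolayPt → ℤ) ∈ stdCross}

theorem image_S0 : (Subtype.val '' S0 : Set (GolayPt → ℤ)) = ↑fam8 := by
  ext y
  rw [← stdCross_eq]
  constructor
  · rintro ⟨v, hv, rfl⟩; exact hv
  · intro hy
    have hy' : y ∈ leechLattice := by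
      rw [stdCross_eq] at hy
      exact (fam8_sound hy).1
    exact ⟨⟨y, hy'⟩, hy, rfl⟩

theorem ncard_S0 : S0.ncard = 48 := by
  rw [← Set.ncard_image_of_injective S0 Subtype.val_injective, image_S0, Set.ncard_coe_finset,
    card_fam8]

theorem finite_S0 : S0.Finite := by
  apply Set.finite_of_ncard_ne_zero
  rw [ncard_S0]; norm_num

/-- If `g` maps the standard cross into itself, it maps it onto itself. -/
theorem mem_S0_of_smul {g : Co0} (hg : ∀ v : leechLattice, v ∈ S0 → g • v ∈ S0)
    {v : leechLattice} (hv : g • v ∈ S0) : v ∈ S0 := by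
  have : Finite S0 := finite_S0
  let f : S0 → S0 := fun u => ⟨g • u.1, hg u.1 u.2⟩
  have hinj : Function.Injective f := by
    intro u u' h
    have : g • u.1 = g • u'.1 := congrArg Subtype.val h
    exact Subtype.ext (MulAction.injective g this)
  obtain ⟨u, hu⟩ := (Finite.injective_iff_surjective.mp hinj) ⟨g • v, hv⟩
  have : g • u.1 = g • v := congrArg Subtype.val hu
  rw [← MulAction.injective g this]
  exact u.2

/-- The stabiliser of the standard cross, as a subgroup. -/
def crossStab : Subgroup Co0 where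
  carrier := {g | ∀ v : leechLattice, v ∈ S0 ↔ g • v ∈ S0}
  one_mem' := fun v => by rw [one_smul]
  mul_mem' := by
    intro a b ha hb v
    rw [mul_smul]
    exact (hb v).trans (ha (b • v))
  inv_mem' := by
    intro a ha v
    have := ha (a⁻¹ • v)
    rw [smul_inv_smul] at this
    exact this.symm

theorem mem_crossStab {g : Co0} : g ∈ crossStab ↔ ∀ v : leechLattice, v ∈ S0 → g • v ∈ S0 := by
  constructor
  · intro h v hv; exact (h v).mp hv
  · intro h v; exact ⟨h v, fun hv => mem_S0_of_smul h hv⟩

theorem card_crossStab : Nat.card crossStab = 4096 * 244823040 := by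
  rw [← Cfsg.Agent.S1571.result.2]
  apply Nat.card_congr
  exact {
    toFun := fun g => ⟨g.1, mem_crossStab.mp g.2⟩
    invFun := fun g => ⟨g.1, mem_crossStab.mpr g.2⟩
    left_inv := fun g => rfl
    right_inv := fun g => rfl }

/-- The vector `8 e_∞` in the lattice. -/
def v0 : leechLattice := ⟨v0raw, v0raw_mem⟩

theorem stabilizer_le_crossStab : MulAction.stabilizer Co0 v0 ≤ crossStab := by
  intro g hg
  rw [MulAction.mem_stabilizer_iff] at hg
  rw [mem_crossStab]
  intro v hv
  have hv' : (v : GolayPt → ℤ) ∈ cross v0raw := by rw [cross_v0]; exact hv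
  obtain ⟨h1, h2, z, hz, h3⟩ := hv'
  show ((g • v : leechLattice) : GolayPt → ℤ) ∈ stdCross
  rw [← cross_v0]
  refine ⟨(g • v).2, ?_, ((g • (⟨z, hz⟩ : leechLattice) : leechLattice) : GolayPt → ℤ),
    (g • (⟨z, hz⟩ : leechLattice)).2, ?_⟩
  · rw [smul_eq, g.2.2 v]; exact h2
  · have e1 : v0 - v = (2 : ℕ) • (⟨z, hz⟩ : leechLattice) := Subtype.ext h3
    have e2 : g • (v0 - v) = g • v0 - g • v := by
      have hneg : (g : Equiv.Perm leechLattice) (-v) = -(g : Equiv.Perm leechLattice) v := by
        have := g.2.1 v (-v)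
        rw [add_neg_cancel] at this
        have h0 : (g : Equiv.Perm leechLattice) 0 = 0 := by
          have := g.2.1 0 0
          rw [add_zero] at this
          exact left_eq_add.mp this
        rw [h0] at this
        exact (neg_eq_of_add_eq_zero_right this.symm).symm
      rw [smul_eq, smul_eq, smul_eq, sub_eq_add_neg, g.2.1, hneg, ← sub_eq_add_neg]
    have e3 : g • ((2 : ℕ) • (⟨z, hz⟩ : leechLattice)) = (2 : ℕ) • (g • (⟨z, hz⟩ : leechLattice)) := by
      rw [two_smul, two_smul, smul_eq, smul_eq, g.2.1]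
    rw [e1, e3, hg] at e2
    have := congrArg (Subtype.val : leechLattice → GolayPt → ℤ) e2
    exact this.symm

end Cfsg.Agent.Helper27
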