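import Mathlib
import Cfsg.Agent.Lib.Helper27.LeechOrder
import Cfsg.Agent.Lib.Helper27.LeechOrder2

set_option autoImplicit false
open Cfsg

namespace Cfsg.Agent.Helper27

open Cfsg.Agent.S1571 (Stab monoP monoP_mem monoP_apply monoP_presCross signedPerm_single smul_eq)
open Cfsg.Agent.S0398 (exists_move_to_none)

theorem v0_mem_S0 : v0 ∈ S0 := by
  show v0raw ∈ stdCross
  rw [stdCross_eq]; exact v0raw_mem_fam8

theorem monoP_mem_crossStab (σ : M24) (w : golayCode) :
    (⟨monoP σ w, monoP_mem σ w⟩ : Co0) ∈ crossStab := by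
  rw [mem_crossStab]
  intro v hv
  exact monoP_presCross σ w v hv

theorem orbit_crossStab : MulAction.orbit crossStab v0 = S0 := by
  ext v
  rw [MulAction.mem_orbit_iff]
  constructor
  · rintro ⟨g, rfl⟩
    exact (mem_crossStab.mp g.2) v0 v0_mem_S0
  · intro hv
    obtain ⟨i, s, hs, hvs⟩ := hv
    obtain ⟨τ, hτ, hτi⟩ := exists_move_to_none i
    have hσ : τ⁻¹ ∈ M24 := Subgroup.inv_mem _ hτ
    have hσn : τ⁻¹ none = i := by
      rw [← hτi, Equiv.Perm.inv_def, Equiv.symm_apply_apply]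
    rcases hs with rfl | rfl
    · refine ⟨⟨⟨monoP ⟨τ⁻¹, hσ⟩ ⟨0, zero_mem _⟩, monoP_mem _ _⟩, monoP_mem_crossStab _ _⟩, ?_⟩
      apply Subtype.ext
      show ((monoP ⟨τ⁻¹, hσ⟩ ⟨0, zero_mem _⟩ v0 : leechLattice) : GolayPt → ℤ) = v.1
      rw [monoP_apply, hvs]
      show signedPerm τ⁻¹ (support₂ (0 : GolayPt → ZMod 2)) (Pi.single none 8) = _
      rw [signedPerm_single, hσn]
      have : i ∉ support₂ (0 : GolayPt → ZMod 2) := by
        rw [mem_support₂]; simp
      rw [if_neg this]
    · refine ⟨⟨⟨monoP ⟨τ⁻¹, hσ⟩ ⟨1, one_mem_golayCode⟩, monoP_mem _ _⟩, monoP_mem_crossStab _ _⟩, ?_⟩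
      apply Subtype.ext
      show ((monoP ⟨τ⁻¹, hσ⟩ ⟨1, one_mem_golayCode⟩ v0 : leechLattice) : GolayPt → ℤ) = v.1
      rw [monoP_apply, hvs]
      show signedPerm τ⁻¹ (support₂ (1 : GolayPt → ZMod 2)) (Pi.single none 8) = _
      rw [signedPerm_single, hσn]
      have : i ∈ support₂ (1 : GolayPt → ZMod 2) := by
        rw [mem_support₂]; simp
      rw [if_pos this]

theorem orbit_co0 : MulAction.orbit Co0 v0 = {v : leechLattice | sqNorm (v : GolayPt → ℤ) = 64} := by
  ext v
  rw [MulAction.mem_orbit_iff, Set.mem_setOf_eq]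
  constructor
  · rintro ⟨g, rfl⟩
    rw [smul_eq, g.2.2 v0]
    exact v0raw_norm
  · intro hv
    exact coEq_iff_smul.mp (trans_norm64 v0.2 v.2 v0raw_norm hv)

theorem ncard_norm64 : {v : leechLattice | sqNorm (v : GolayPt → ℤ) = 64}.ncard = 398034000 := by
  rw [← Set.ncard_image_of_injective _ Subtype.val_injective]
  have : (Subtype.val '' {v : leechLattice | sqNorm (v : GolayPt → ℤ) = 64} : Set (GolayPt → ℤ)) =
      ↑F64 := by
    rw [← norm64_eq]
    ext y
    constructor
    · rintro ⟨v, hv, rfl⟩; exact ⟨v.2, hv⟩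
    · rintro ⟨h1, h2⟩; exact ⟨⟨y, h1⟩, h2, rfl⟩
  rw [this, Set.ncard_coe_finset, card_F64]

theorem index_crossStab : crossStab.index = 8292375 := by
  have h1 := Subgroup.relIndex_mul_index stabilizer_le_crossStab
  rw [MulAction.index_stabilizer, orbit_co0, ncard_norm64] at h1
  have h2 : (MulAction.stabilizer Co0 v0).relIndex crossStab = 48 := by
    have : MulAction.stabilizer crossStab v0 = (MulAction.stabilizer Co0 v0).subgroupOf crossStab := by
      ext g
      rfl
    unfold Subgroup.relIndex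
    rw [← this, MulAction.index_stabilizer, orbit_crossStab, ncard_S0]
  rw [h2] at h1
  omega

/-- The order of the automorphism group of the lattice. -/
theorem card_co0 : Nat.card Co0 = 8315553613086720000 := by
  rw [← Subgroup.index_mul_card crossStab, index_crossStab, card_crossStab]

end Cfsg.Agent.Helper27
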