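import Mathlib

set_option autoImplicit false

/-! A simplicity criterion: a finite group acting faithfully and primitively, with a simple point
stabiliser, on a set whose size is not a prime power and such that groups of that size are solvable,
is simple.  Primitivity from the list of suborbit sizes.  The same for a subgroup acting on an
invariant subset. -/

namespace Cfsg.Agent.Helper27


open MulAction
open scoped Pointwise

variable {G Ω : Type*} [Group G] [MulAction G Ω]

/-- A subgroup that is transitive and contains a point stabiliser is everything. -/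
theorem eq_top_of_transitive_of_stabilizer_le (N : Subgroup G) (a : Ω)
    (htr : ∀ x : Ω, ∃ n ∈ N, n • a = x) (hle : stabilizer G a ≤ N) : N = ⊤ := by
  rw [eq_top_iff]
  intro g _
  obtain ⟨n, hn, hna⟩ := htr (g • a)
  have h1 : n⁻¹ * g ∈ stabilizer G a := by
    rw [mem_stabilizer_iff, mul_smul, ← hna, inv_smul_smul]
  have h2 := N.mul_mem hn (hle h1)
  rwa [mul_inv_cancel_left] at h2

/-- A nontrivial normal subgroup of a faithful primitive group is transitive. -/
theorem transitive_of_normal [FaithfulSMul G Ω] [IsPreprimitive G Ω] (N : Subgroup G)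
    [hN : N.Normal] (hN0 : N ≠ ⊥) (a x : Ω) : ∃ n ∈ N, n • a = x := by
  have hfix : fixedPoints N Ω ≠ Set.univ := by
    intro hf
    apply hN0
    rw [Subgroup.eq_bot_iff_forall]
    intro n hn
    apply FaithfulSMul.eq_of_smul_eq_smul (α := Ω)
    intro y
    have : y ∈ fixedPoints N Ω := by rw [hf]; exact Set.mem_univ y
    rw [one_smul]
    exact this ⟨n, hn⟩
  have := IsQuasiPreprimitive.isPretransitive_of_normal (G := G) (X := Ω) hfix
  obtain ⟨n, hn⟩ := exists_smul_eq N a x
  exact ⟨n.1, n.2, hn⟩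

theorem isSimpleGroup_of_primitive [Finite G] [Finite Ω] [FaithfulSMul G Ω] [IsPreprimitive G Ω]
    (a : Ω) (hs : IsSimpleGroup (stabilizer G a))
    (hsolv : ∀ N : Subgroup G, Nat.card N = Nat.card Ω → Group.IsSolvable N)
    (hnpp : ¬ IsPrimePow (Nat.card Ω)) : IsSimpleGroup G := by
  have : Nontrivial G := by
    obtain ⟨x, y, hxy⟩ := hs.toNontrivial
    exact ⟨x.1, y.1, fun h => hxy (Subtype.ext h)⟩
  refine ⟨fun N hN => ?_⟩
  by_cases hN0 : N = ⊥
  · exact Or.inl hN0
  right
  have htr := transitive_of_normal (Ω := Ω) N hN0 a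
  have : (N.subgroupOf (stabilizer G a)).Normal := Subgroup.normal_subgroupOf
  rcases hs.eq_bot_or_eq_top_of_normal (N.subgroupOf (stabilizer G a)) inferInstance with hK | hK
  swap
  · rw [Subgroup.subgroupOf_eq_top] at hK
    exact eq_top_of_transitive_of_stabilizer_le N a htr hK
  exfalso
  rw [Subgroup.subgroupOf_eq_bot, Subgroup.disjoint_def] at hK
  have hreg : ∀ n ∈ N, n • a = a → n = 1 := fun n hn hna => hK hn (mem_stabilizer_iff.mpr hna)
  -- a normal subgroup acting transitively has at least as many elements as points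
  have hcard_ge : ∀ M : Subgroup G, M.Normal → M ≠ ⊥ → Nat.card Ω ≤ Nat.card M := by
    intro M hM hM0
    have hMtr := transitive_of_normal (Ω := Ω) M hM0 a
    apply Nat.card_le_card_of_surjective (fun m : M => m.1 • a)
    intro x
    obtain ⟨m, hm, hmx⟩ := hMtr x
    exact ⟨⟨m, hm⟩, hmx⟩
  have hcard : Nat.card N = Nat.card Ω := by
    apply Nat.card_eq_of_bijective (fun n : N => n.1 • a)
    constructor
    · intro n m hnm
      have h1 : (m.1⁻¹ * n.1) • a = a := by
        rw [mul_smul]
        show m.1⁻¹ • (n.1 • a) = a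
        have : n.1 • a = m.1 • a := hnm
        rw [this, inv_smul_smul]
      have h2 := hreg _ (N.mul_mem (N.inv_mem m.2) n.2) h1
      apply Subtype.ext
      have := congrArg (fun z => m.1 * z) h2
      simpa using this
    · intro x
      obtain ⟨n, hn, hnx⟩ := htr x
      exact ⟨⟨n, hn⟩, hnx⟩
  have := hsolv N hcard
  -- `N` is a minimal normal subgroup
  have hmin : ∀ M : Subgroup G, M.Normal → M ≤ N → M = ⊥ ∨ M = N := by
    intro M hM hMN
    by_cases hM0 : M = ⊥
    · exact Or.inl hM0
    · right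
      apply Subgroup.eq_of_le_of_card_ge hMN
      rw [hcard]
      exact hcard_ge M hM hM0
  have : Nontrivial N := (Subgroup.nontrivial_iff_ne_bot N).mpr hN0
  -- `N` is abelian
  have hcomm : ⁅N, N⁆ = ⊥ := by
    rcases hmin ⁅N, N⁆ inferInstance (Subgroup.commutator_le_left N N) with h | h
    · exact h
    · exfalso
      have h1 := Group.IsSolvable.commutator_lt_top_of_nontrivial N
      have h2 : (commutator N).map N.subtype = ⁅N, N⁆ := Subgroup.map_subtype_commutator N
      rw [h] at h2
      have h3 : commutator N = ⊤ := by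
        rw [eq_top_iff]
        intro x _
        have : x.1 ∈ (commutator N).map N.subtype := by rw [h2]; exact x.2
        obtain ⟨y, hy, hyx⟩ := this
        have : y = x := Subtype.ext hyx
        rw [← this]; exact hy
      rw [h3] at h1
      exact lt_irrefl _ h1
  rw [Subgroup.commutator_eq_bot_iff_le_centralizer] at hcomm
  have hcomm' : ∀ x ∈ N, ∀ y ∈ N, x * y = y * x := by
    intro x hx y hy
    exact (Subgroup.mem_centralizer_iff.mp (hcomm hx) y hy).symm
  -- a prime dividing the order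
  have h1lt : 1 < Nat.card N := N.one_lt_card_iff_ne_bot.mpr hN0
  obtain ⟨p, hp, hpd⟩ := Nat.exists_prime_and_dvd (Nat.ne_of_gt h1lt)
  have : Fact p.Prime := ⟨hp⟩
  let M : Subgroup G :=
    { carrier := {x | x ∈ N ∧ x ^ p = 1}
      one_mem' := ⟨N.one_mem, one_pow p⟩
      mul_mem' := by
        rintro x y ⟨hx, hxp⟩ ⟨hy, hyp⟩
        refine ⟨N.mul_mem hx hy, ?_⟩
        have hc : Commute x y := hcomm' x hx y hy
        rw [hc.mul_pow, hxp, hyp, one_mul]
      inv_mem' := by
        rintro x ⟨hx, hxp⟩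
        exact ⟨N.inv_mem hx, by rw [inv_pow, hxp, inv_one]⟩ }
  have hMn : M.Normal := by
    refine ⟨fun x hx g => ?_⟩
    exact ⟨hN.conj_mem x hx.1 g, by rw [conj_pow, hx.2, mul_one, mul_inv_cancel]⟩
  have hMN : M ≤ N := fun x hx => hx.1
  have hM0 : M ≠ ⊥ := by
    obtain ⟨x, hx⟩ := exists_prime_orderOf_dvd_card' (G := N) p hpd
    intro hM
    have hxM : x.1 ∈ M := by
      refine ⟨x.2, ?_⟩
      have := pow_orderOf_eq_one x
      rw [hx] at this
      exact congrArg Subtype.val this
    rw [hM, Subgroup.mem_bot] at hxM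
    have hx1 : x = 1 := Subtype.ext hxM
    rw [hx1, orderOf_one] at hx
    exact hp.one_lt.ne hx
  have hMeq : M = N := (hmin M hMn hMN).resolve_left hM0
  have hpg : IsPGroup p N := by
    intro x
    refine ⟨1, ?_⟩
    have : x.1 ∈ M := by rw [hMeq]; exact x.2
    rw [pow_one]
    exact Subtype.ext this.2
  obtain ⟨k, hk⟩ := IsPGroup.iff_card.mp hpg
  apply hnpp
  rw [← hcard, hk]
  have hk0 : k ≠ 0 := by
    rintro rfl
    rw [hk, pow_zero] at h1lt
    exact lt_irrefl _ h1lt
  exact ⟨p, k, hp.prime, Nat.pos_of_ne_zero hk0, rfl⟩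





/-- A block through `a` contains every `Gₐ`-orbit it meets. -/
theorem block_contains_suborbit {B : Set Ω} (hB : IsBlock G B) {a : Ω} (ha : a ∈ B)
    {O : Set Ω} (hO : ∀ x ∈ O, ∀ y ∈ O, ∃ g : G, g • a = a ∧ g • x = y) {x : Ω} (hxO : x ∈ O)
    (hxB : x ∈ B) : O ⊆ B := by
  intro y hy
  obtain ⟨g, hga, hgx⟩ := hO x hxO y hy
  have hg : g ∈ stabilizer G B := hB.stabilizer_le ha (mem_stabilizer_iff.mpr hga)
  rw [mem_stabilizer_iff] at hg
  rw [← hg, ← hgx]
  exact Set.smul_mem_smul_set hxB

theorem ncard_biUnion_finset [Finite Ω] {ι : Type*} [DecidableEq ι] (S : Finset ι)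
    (O : ι → Set Ω) (hd : ∀ i j, i ≠ j → Disjoint (O i) (O j)) :
    (⋃ i ∈ S, O i).ncard = ∑ i ∈ S, (O i).ncard := by
  induction S using Finset.induction_on with
  | empty => simp
  | insert i S hi ih =>
    rw [Finset.set_biUnion_insert, Set.ncard_union_eq _ (Set.toFinite _) (Set.toFinite _),
      Finset.sum_insert hi, ih]
    rw [Set.disjoint_iUnion₂_right]
    intro j hj
    exact hd i j (fun h => hi (h ▸ hj))

/-- Primitivity from the list of suborbit sizes. -/
theorem isPreprimitive_of_suborbits [Finite Ω] [IsPretransitive G Ω] (a : Ω) {ι : Type*}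
    [Fintype ι] [DecidableEq ι] (O : ι → Set Ω)
    (hcover : ∀ x, x ≠ a → ∃ i, x ∈ O i)
    (htrans : ∀ i, ∀ x ∈ O i, ∀ y ∈ O i, ∃ g : G, g • a = a ∧ g • x = y)
    (hdisj : ∀ i j, i ≠ j → Disjoint (O i) (O j))
    (ha : ∀ i, a ∉ O i)
    (hnum : ∀ S : Finset ι, (1 + ∑ i ∈ S, (O i).ncard) ∣ Nat.card Ω →
      S = ∅ ∨ S = Finset.univ) : IsPreprimitive G Ω := by
  classical
  apply IsPreprimitive.of_isTrivialBlock_base a
  intro B haB hB
  set S : Finset ι := Finset.univ.filter (fun i => ∃ x ∈ O i, x ∈ B) with hS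
  have hBeq : B = {a} ∪ ⋃ i ∈ S, O i := by
    ext x
    constructor
    · intro hx
      by_cases hxa : x = a
      · left; exact hxa
      · right
        obtain ⟨i, hi⟩ := hcover x hxa
        rw [Set.mem_iUnion₂]
        refine ⟨i, ?_, hi⟩
        rw [hS, Finset.mem_filter]
        exact ⟨Finset.mem_univ _, x, hi, hx⟩
    · rintro (hx | hx)
      · rw [Set.mem_singleton_iff] at hx; rw [hx]; exact haB
      · rw [Set.mem_iUnion₂] at hx
        obtain ⟨i, hiS, hxi⟩ := hx
        rw [hS, Finset.mem_filter] at hiS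
        obtain ⟨-, y, hyO, hyB⟩ := hiS
        exact block_contains_suborbit hB haB (htrans i) hyO hyB hxi
  have hcard : B.ncard = 1 + ∑ i ∈ S, (O i).ncard := by
    rw [hBeq, Set.ncard_union_eq _ (Set.toFinite _) (Set.toFinite _), Set.ncard_singleton,
      ncard_biUnion_finset S O hdisj]
    rw [Set.disjoint_singleton_left, Set.mem_iUnion₂]
    rintro ⟨i, -, hi⟩
    exact ha i hi
  have hdvd := hB.ncard_dvd_card ⟨a, haB⟩
  rw [hcard] at hdvd
  rcases hnum S hdvd with h | h
  · left
    rw [hBeq, h]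
    simp
  · right
    rw [hBeq, h]
    ext x
    simp only [Finset.mem_univ, Set.iUnion_true, Set.mem_union, Set.mem_singleton_iff,
      Set.mem_iUnion, Set.mem_univ, iff_true]
    by_cases hxa : x = a
    · exact Or.inl hxa
    · exact Or.inr (hcover x hxa)


section SubAct



variable {G X : Type*} [Group G] [MulAction G X]

/-- The restriction of an action to a subgroup and an invariant set. -/
def subAct (H : Subgroup G) (S : Set X) (hinv : ∀ g ∈ H, ∀ x ∈ S, g • x ∈ S) :
    SubMulAction H X where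
  carrier := S
  smul_mem' := fun g x hx => hinv g.1 g.2 x hx

theorem subAct_val_smul (H : Subgroup G) (S : Set X) (hinv : ∀ g ∈ H, ∀ x ∈ S, g • x ∈ S)
    (g : H) (x : subAct H S hinv) : ((g • x : subAct H S hinv) : X) = g.1 • x.1 := rfl

/-- Orbit-stabiliser for a joint stabiliser. -/
theorem card_stabilizer_inf (v w : X) :
    (orbit (stabilizer G v) w).ncard * Nat.card ↥(stabilizer G v ⊓ stabilizer G w) =
      Nat.card (stabilizer G v) := by
  have h1 : stabilizer (stabilizer G v) w = (stabilizer G w).subgroupOf (stabilizer G v) := by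
    ext g; rfl
  have h2 := Subgroup.index_mul_card (stabilizer (stabilizer G v) w)
  rw [index_stabilizer, h1, ← Subgroup.inf_subgroupOf_left] at h2
  rw [← h2]
  congr 1
  exact (Nat.card_congr (Subgroup.subgroupOfEquivOfLe
    (inf_le_left : stabilizer G v ⊓ stabilizer G w ≤ stabilizer G v)).toEquiv).symm

/-- The stabiliser of a point for the restricted action. -/
theorem stabilizer_subAct (H : Subgroup G) (S : Set X) (hinv : ∀ g ∈ H, ∀ x ∈ S, g • x ∈ S)
    (a : X) (ha : a ∈ S) :
    stabilizer H (⟨a, ha⟩ : subAct H S hinv) = (stabilizer G a).subgroupOf H := by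
  ext g
  rw [mem_stabilizer_iff, Subgroup.mem_subgroupOf, mem_stabilizer_iff]
  constructor
  · intro h; exact congrArg Subtype.val h
  · intro h; exact Subtype.ext h

/-- Simplicity of a subgroup from a primitive action on an invariant set. -/
theorem simple_of_action (H : Subgroup G) [Finite H] (S : Set X) (hfin : S.Finite)
    (hinv : ∀ g ∈ H, ∀ x ∈ S, g • x ∈ S) (a : X) (haS : a ∈ S)
    (htr : ∀ x ∈ S, ∃ g ∈ H, g • a = x)
    {ι : Type*} [Fintype ι] [DecidableEq ι] (T : ι → Set X) (hT : ∀ i, T i ⊆ S)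
    (hcover : ∀ x ∈ S, x ≠ a → ∃ i, x ∈ T i)
    (htrans : ∀ i, ∀ x ∈ T i, ∀ y ∈ T i, ∃ g ∈ H, g • a = a ∧ g • x = y)
    (hdisj : ∀ i j, i ≠ j → Disjoint (T i) (T j))
    (ha : ∀ i, a ∉ T i)
    (hnum : ∀ S' : Finset ι, (1 + ∑ i ∈ S', (T i).ncard) ∣ S.ncard →
      S' = ∅ ∨ S' = Finset.univ)
    (hfaith : ∀ g ∈ H, (∀ x ∈ S, g • x = x) → g = 1)
    (hstab : IsSimpleGroup ↥(H ⊓ stabilizer G a))
    (hsolv : ∀ N : Subgroup H, Nat.card N = S.ncard → Group.IsSolvable N)
    (hnpp : ¬ IsPrimePow S.ncard) : IsSimpleGroup H := by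
  set Ω := subAct H S hinv with hΩ
  have hfinΩ : Finite Ω := hfin.to_subtype
  have hcardΩ : Nat.card Ω = S.ncard := Nat.card_coe_set_eq S
  have hpt : IsPretransitive H Ω := by
    rw [isPretransitive_iff_base (⟨a, haS⟩ : Ω)]
    intro x
    obtain ⟨g, hg, hgx⟩ := htr x.1 x.2
    exact ⟨⟨g, hg⟩, Subtype.ext hgx⟩
  have hfs : FaithfulSMul H Ω := by
    refine ⟨fun {g g'} h => ?_⟩
    have h1 : (g'⁻¹ * g).1 = 1 := by
      apply hfaith _ (g'⁻¹ * g).2
      intro x hx
      have := h ⟨x, hx⟩
      have h2 : g.1 • x = g'.1 • x := congrArg Subtype.val this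
      show (g'.1⁻¹ * g.1) • x = x
      rw [mul_smul, h2, inv_smul_smul]
    have h2 : g'⁻¹ * g = 1 := Subtype.ext h1
    have := congrArg (fun z => g' * z) h2
    simpa using this
  have hprim : IsPreprimitive H Ω := by
    apply isPreprimitive_of_suborbits (⟨a, haS⟩ : Ω) (fun i => {y : Ω | y.1 ∈ T i})
    · intro x hx
      obtain ⟨i, hi⟩ := hcover x.1 x.2 (fun h => hx (Subtype.ext h))
      exact ⟨i, hi⟩
    · intro i x hx y hy
      obtain ⟨g, hg, hga, hgx⟩ := htrans i x.1 hx y.1 hy
      exact ⟨⟨g, hg⟩, Subtype.ext hga, Subtype.ext hgx⟩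
    · intro i j hij
      rw [Set.disjoint_left]
      intro x hx hx'
      exact (Set.disjoint_left.mp (hdisj i j hij)) hx hx'
    · intro i hi
      exact ha i hi
    · intro S' hS'
      apply hnum S'
      rw [hcardΩ] at hS'
      have e : ∀ i, ({y : Ω | y.1 ∈ T i}).ncard = (T i).ncard := by
        intro i
        rw [← Set.ncard_image_of_injective _ Subtype.val_injective]
        congr 1
        ext x
        constructor
        · rintro ⟨y, hy, rfl⟩; exact hy
        · intro hx; exact ⟨⟨x, hT i hx⟩, hx, rfl⟩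
      rw [Finset.sum_congr rfl (fun i _ => e i)] at hS'
      exact hS'
  have hst : IsSimpleGroup (stabilizer H (⟨a, haS⟩ : Ω)) := by
    rw [stabilizer_subAct, ← Subgroup.inf_subgroupOf_left]
    exact (Subgroup.subgroupOfEquivOfLe
      (inf_le_left : H ⊓ stabilizer G a ≤ H)).isSimpleGroup
  exact isSimpleGroup_of_primitive (⟨a, haS⟩ : Ω) hst
    (fun N hN => hsolv N (by rw [hN, hcardΩ])) (by rw [hcardΩ]; exact hnpp)


end SubAct

end Cfsg.Agent.Helper27
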