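import Mathlib
import Cfsg.Agent.Lib.Helper27.PrimSimple
import Cfsg.Agent.Lib.Helper27.LeechHS2
import Cfsg.Agent.Lib.Helper27.LeechOrder3
import Cfsg.Agent.Lib.Helper27.LeechDesign

set_option autoImplicit false
set_option maxRecDepth 8000
open Cfsg

/-! Orders of vector stabilisers in the automorphism group of the lattice. -/

namespace Cfsg.Agent.Helper27


open MulAction

theorem finite_co0 : Finite Co0 :=
  Nat.finite_of_card_ne_zero (by rw [card_co0]; norm_num)

theorem orbit_norm48 (v : leechLattice) (hv : sqNorm (v : GolayPt → ℤ) = 48) :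
    orbit Co0 v = {x : leechLattice | sqNorm (x : GolayPt → ℤ) = 48} := by
  ext x
  rw [mem_orbit_iff, Set.mem_setOf_eq]
  constructor
  · rintro ⟨g, rfl⟩
    rw [smul_norm, hv]
  · intro hx
    exact coEq_iff_smul.mp (trans_norm48 v.2 x.2 hv hx)

theorem orbit_norm32 (v : leechLattice) (hv : sqNorm (v : GolayPt → ℤ) = 32) :
    orbit Co0 v = {x : leechLattice | sqNorm (x : GolayPt → ℤ) = 32} := by
  ext x
  rw [mem_orbit_iff, Set.mem_setOf_eq]
  constructor
  · rintro ⟨g, rfl⟩
    rw [smul_norm, hv]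
  · intro hx
    exact coEq_iff_smul.mp (trans_norm32 v.2 x.2 hv hx)

theorem ncard_norm48 : {v : leechLattice | sqNorm (v : GolayPt → ℤ) = 48}.ncard = 16773120 := by
  have : {v : leechLattice | sqNorm (v : GolayPt → ℤ) = 48} =
      {v : leechLattice | (v : GolayPt → ℤ) ∈ F48} := by
    ext v
    rw [Set.mem_setOf_eq, Set.mem_setOf_eq, mem_F48']
    exact ⟨fun h => ⟨v.2, h⟩, fun h => h.2⟩
  rw [this, ncard_subtype_eq F48 (fun x hx => (mem_F48'.mp hx).1), card_F48]

theorem ncard_norm32 : {v : leechLattice | sqNorm (v : GolayPt → ℤ) = 32}.ncard = 196560 := by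
  have : {v : leechLattice | sqNorm (v : GolayPt → ℤ) = 32} =
      {v : leechLattice | (v : GolayPt → ℤ) ∈ F32} := by
    ext v
    rw [Set.mem_setOf_eq, Set.mem_setOf_eq, mem_F32]
    exact ⟨fun h => ⟨v.2, h⟩, fun h => h.2⟩
  rw [this, ncard_subtype_eq F32 (fun x hx => (mem_F32.mp hx).1), card_F32]

theorem card_stab48 (v : leechLattice) (hv : sqNorm (v : GolayPt → ℤ) = 48) :
    Nat.card (stabilizer Co0 v) = 495766656000 := by
  have h := Subgroup.index_mul_card (stabilizer Co0 v)
  rw [index_stabilizer, orbit_norm48 v hv, ncard_norm48, card_co0] at h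
  omega

theorem card_stab32 (v : leechLattice) (hv : sqNorm (v : GolayPt → ℤ) = 32) :
    Nat.card (stabilizer Co0 v) = 42305421312000 := by
  have h := Subgroup.index_mul_card (stabilizer Co0 v)
  rw [index_stabilizer, orbit_norm32 v hv, ncard_norm32, card_co0] at h
  omega

/-- The number of minimal vectors with a given inner product with `v`. -/
theorem ncard_dot (v : leechLattice) (t : ℤ) :
    {x : leechLattice | sqNorm (x : GolayPt → ℤ) = 32 ∧
      dotInt (v : GolayPt → ℤ) (x : GolayPt → ℤ) = t}.ncard = cntDot v.1 t := by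
  have : {x : leechLattice | sqNorm (x : GolayPt → ℤ) = 32 ∧
      dotInt (v : GolayPt → ℤ) (x : GolayPt → ℤ) = t} =
      {x : leechLattice | (x : GolayPt → ℤ) ∈ F32.filter (fun w => dotInt v.1 w = t)} := by
    ext x
    rw [Set.mem_setOf_eq, Set.mem_setOf_eq, Finset.mem_filter, mem_F32]
    exact ⟨fun h => ⟨⟨x.2, h.1⟩, h.2⟩, fun h => ⟨h.1.2, h.2⟩⟩
  rw [this, ncard_subtype_eq _ (fun x hx => (mem_F32.mp (Finset.mem_filter.mp hx).1).1)]
  rfl

/-- The order of the joint stabiliser of `v` (norm 48) and a minimal `z` with `v·z = 16`. -/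
theorem card_stab48_16 (v z : leechLattice) (hv : sqNorm (v : GolayPt → ℤ) = 48)
    (hz : sqNorm (z : GolayPt → ℤ) = 32)
    (hvz : dotInt (v : GolayPt → ℤ) (z : GolayPt → ℤ) = 16) :
    Nat.card ↥(stabilizer Co0 v ⊓ stabilizer Co0 z) = 44352000 := by
  have h := card_stabilizer_inf (G := Co0) v z
  have horb : orbit (stabilizer Co0 v) z = {x : leechLattice | sqNorm (x : GolayPt → ℤ) = 32 ∧
      dotInt (v : GolayPt → ℤ) (x : GolayPt → ℤ) = 16} := by
    ext x
    rw [mem_orbit_iff, Set.mem_setOf_eq]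
    constructor
    · rintro ⟨g, rfl⟩
      have hg : g.1 • v = v := g.2
      show sqNorm ((g.1 • z : leechLattice) : GolayPt → ℤ) = 32 ∧
        dotInt (v : GolayPt → ℤ) ((g.1 • z : leechLattice) : GolayPt → ℤ) = 16
      refine ⟨by rw [smul_norm, hz], ?_⟩
      have e : dotInt (v : GolayPt → ℤ) ((g.1 • z : leechLattice) : GolayPt → ℤ) =
          dotInt ((g.1 • v : leechLattice) : GolayPt → ℤ)
            ((g.1 • z : leechLattice) : GolayPt → ℤ) := by rw [hg]
      rw [e, smul_dot, hvz]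
    · rintro ⟨hx, hvx⟩
      obtain ⟨g, hgv, hgz⟩ := exists_smul_of_coEq2 (pair_u5 v.2 z.2 hv hz hvz)
        (pair_u5 v.2 x.2 hv hx hvx)
      exact ⟨⟨g, hgv⟩, hgz⟩
  rw [horb, ncard_dot, cntDot48_sixteen (mem_F48'.mpr ⟨v.2, hv⟩), card_stab48 v hv] at h
  omega


end Cfsg.Agent.Helper27
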