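import Mathlib
import Cfsg.Agent.Lib.Helper27.CoOrders
import Cfsg.Agent.Lib.Helper29.M24Simple
import Cfsg.Agent.S0144

set_option autoImplicit false
set_option maxRecDepth 8000
open Cfsg

/-! The joint stabiliser of two norm-48 vectors with inner product -32 is simple of order
44352000: primitive rank 3 action on the hundred, point stabiliser the two-point stabiliser of the
code's group. -/

namespace Cfsg.Agent.Helper27


open MulAction
open Cfsg.Agent.S0398 (permP permP_mem permP_apply epsP epsP_mem epsP_apply eight_cancel)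
open Cfsg.Agent.S1571 (monoP monoP_apply Psi Psi_surjective word_eq_of_support₂_eq)

/-- An automorphism fixing all the `8 e_i` is the identity. -/
theorem eq_one_of_fix_e8 (g : Co0) (h : ∀ i, g • e8 i = e8 i) : g = 1 := by
  apply Subtype.ext
  apply Equiv.ext
  intro v
  apply eight_cancel
  show (8 : ℤ) • (g.1 v) = (8 : ℤ) • v
  rw [← co0_zsmul g.2, eight_smul_eq_sum, co0_sum g.2]
  apply Finset.sum_congr rfl
  intro i _
  rw [co0_zsmul g.2]
  congr 1
  exact h i

/-- Coordinate permutations as a group homomorphism. -/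
def permHom : M24 →* Co0 where
  toFun σ := permG σ.1⁻¹ (Subgroup.inv_mem _ σ.2)
  map_one' := by
    apply Subtype.ext; apply Equiv.ext; intro v; apply Subtype.ext; funext i
    show v.1 (((1 : M24).1)⁻¹ i) = v.1 i
    simp
  map_mul' σ τ := by
    apply Subtype.ext; apply Equiv.ext; intro v; apply Subtype.ext; funext i
    show v.1 (((σ * τ).1)⁻¹ i) = v.1 ((τ.1)⁻¹ ((σ.1)⁻¹ i))
    simp [mul_inv_rev]

theorem permHom_smul (σ : M24) (v : leechLattice) :
    ((permHom σ • v : leechLattice) : GolayPt → ℤ) = fun i => v.1 (σ.1⁻¹ i) := rfl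

theorem permHom_injective : Function.Injective permHom := by
  intro σ τ h
  apply Subtype.ext
  apply Equiv.ext
  intro i
  have h1 := congrArg (fun g : Co0 => ((g • e8 i : leechLattice) : GolayPt → ℤ) (σ.1 i)) h
  simp only [permHom_smul] at h1
  have e1 : σ.1⁻¹ (σ.1 i) = i := by simp
  rw [e1] at h1
  have h2 : (e8 i).1 i = 8 := by show vec8 i i = 8; unfold vec8; rw [if_pos rfl]
  rw [h2] at h1
  by_contra hne
  have h3 : (e8 i).1 (τ.1⁻¹ (σ.1 i)) = 0 := by
    show vec8 i _ = 0
    unfold vec8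
    rw [if_neg]
    intro hc
    apply hne
    have := congrArg τ.1 hc
    simpa using this
  rw [h3] at h1
  norm_num at h1

/-- The two-point stabiliser in the code's group. -/
abbrev M22 : Subgroup M24 := stabilizer M24 (none : GolayPt) ⊓ stabilizer M24 (some 0 : GolayPt)

/-- The standard point stabiliser of the Higman-Sims configuration. -/
abbrev T22 : Subgroup Co0 := stabilizer Co0 U5 ⊓ stabilizer Co0 X0 ⊓ stabilizer Co0 V44

theorem mem_M22 (σ : M24) : σ ∈ M22 ↔ σ.1 none = none ∧ σ.1 (some 0) = some 0 := by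
  rw [Subgroup.mem_inf, mem_stabilizer_iff, mem_stabilizer_iff]
  rfl

theorem mem_T22 (g : Co0) : g ∈ T22 ↔ g • U5 = U5 ∧ g • X0 = X0 ∧ g • V44 = V44 := by
  rw [Subgroup.mem_inf, Subgroup.mem_inf, mem_stabilizer_iff, mem_stabilizer_iff,
    mem_stabilizer_iff, and_assoc]

theorem permHom_mem_T22 (σ : M24) (hσ : σ ∈ M22) : permHom σ ∈ T22 := by
  rw [mem_M22] at hσ
  have h1 : σ.1⁻¹ none = none := by
    rw [Equiv.Perm.inv_def, Equiv.symm_apply_eq]; exact hσ.1.symm
  have h2 : σ.1⁻¹ (some 0) = some 0 := by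
    rw [Equiv.Perm.inv_def, Equiv.symm_apply_eq]; exact hσ.2.symm
  rw [mem_T22]
  refine ⟨Subtype.ext ?_, Subtype.ext ?_, Subtype.ext ?_⟩
  · rw [permHom_smul]; exact u5_comp h1
  · rw [permHom_smul]; exact vec44_comp h1 h2 _
  · rw [permHom_smul]; exact vec44_comp h1 h2 _

theorem V44_add_X0 : V44 + X0 = v0 := by
  apply Subtype.ext
  show vec44 none (some 0) 1 + vec44 none (some 0) (-1) = v0raw
  exact vec44_add_neg (by decide) 1

theorem exists_of_mem_T22 (g : Co0) (hg : g ∈ T22) : ∃ σ ∈ M22, permHom σ = g := by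
  rw [mem_T22] at hg
  obtain ⟨hU, hX, hV⟩ := hg
  have hv0 : g ∈ stabilizer Co0 v0 := by
    rw [mem_stabilizer_iff, ← V44_add_X0, smul_add', hV, hX]
  have hcross := mem_crossStab.mp (stabilizer_le_crossStab hv0)
  obtain ⟨⟨σ, w⟩, hp⟩ := Psi_surjective ⟨g, hcross⟩
  have hg' : ∀ x : leechLattice, ((g • x : leechLattice) : GolayPt → ℤ) =
      signedPerm σ.1 (support₂ w.1) x.1 := by
    intro x
    have : (⟨monoP σ w, Cfsg.Agent.S1571.monoP_mem σ w⟩ : Co0) = g :=
      congrArg (fun z : Cfsg.Agent.S1571.Stab => z.1) hp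
    rw [← this]
    exact monoP_apply σ w x
  -- no sign changes
  have hc : ∀ j, j ∉ support₂ w.1 := by
    intro j hj
    have := congrFun (hg' U5) j
    rw [hU] at this
    unfold signedPerm at this
    rw [if_pos hj] at this
    have p1 : (0 : ℤ) < (U5 : GolayPt → ℤ) j := by
      show 0 < u5 j; rw [u5_apply]; split_ifs <;> norm_num
    have p2 : (0 : ℤ) < (U5 : GolayPt → ℤ) (σ.1.symm j) := by
      show 0 < u5 _; rw [u5_apply]; split_ifs <;> norm_num
    linarith
  have hperm : ∀ x : leechLattice, ((g • x : leechLattice) : GolayPt → ℤ) =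
      fun j => x.1 (σ.1.symm j) := by
    intro x
    rw [hg' x]
    funext j
    unfold signedPerm
    rw [if_neg (hc j)]
  have hn : σ.1.symm none = none := by
    have := congrFun (hperm U5) none
    rw [hU] at this
    have e : (U5 : GolayPt → ℤ) = u5 := rfl
    rw [e, u5_apply, u5_apply, if_pos rfl] at this
    by_contra hne
    rw [if_neg hne] at this
    norm_num at this
  have h0 : σ.1.symm (some 0) = some 0 := by
    have := congrFun (hperm V44) (some 0)
    rw [hV] at this
    have e : (V44 : GolayPt → ℤ) = vec44 none (some 0) 1 := rfl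
    rw [e, vec44_apply_right (by decide)] at this
    by_contra hne
    have hne' : σ.1.symm (some 0) ≠ none := by
      intro hc'
      rw [← hn] at hc'
      exact absurd (σ.1.symm.injective hc') (by decide)
    rw [vec44_apply_other hne' hne] at this
    norm_num at this
  refine ⟨σ, ?_, ?_⟩
  · rw [mem_M22]
    constructor
    · have := congrArg σ.1 hn
      rw [Equiv.apply_symm_apply] at this
      exact this.symm
    · have := congrArg σ.1 h0
      rw [Equiv.apply_symm_apply] at this
      exact this.symm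
  · apply Subtype.ext
    apply Equiv.ext
    intro x
    apply Subtype.ext
    exact (hperm x).symm

/-- The standard point stabiliser is isomorphic to the two-point stabiliser of the code's group. -/
noncomputable def equivT22 : M22 ≃* T22 :=
  MulEquiv.ofBijective
    ((permHom.comp M22.subtype).codRestrict T22 (fun σ => permHom_mem_T22 σ.1 σ.2))
    ⟨by
      intro σ τ h
      have h1 : permHom σ.1 = permHom τ.1 := congrArg Subtype.val h
      exact Subtype.ext (permHom_injective h1), by
      intro g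
      obtain ⟨σ, hσ, hσg⟩ := exists_of_mem_T22 g.1 g.2
      exact ⟨⟨σ, hσ⟩, Subtype.ext hσg⟩⟩

theorem T22_simple : IsSimpleGroup T22 := by
  have : IsSimpleGroup M22 := Cfsg.Agent.Helper29.M24.stab_two_simple none (some 0) (by decide)
  exact equivT22.symm.isSimpleGroup




/-- Transport of simplicity of triple stabilisers. -/
theorem simple_conj3 (g : Co0) (a b c : leechLattice)
    (h : IsSimpleGroup
      ↥(stabilizer Co0 (g • a) ⊓ stabilizer Co0 (g • b) ⊓ stabilizer Co0 (g • c))) :
    IsSimpleGroup ↥(stabilizer Co0 a ⊓ stabilizer Co0 b ⊓ stabilizer Co0 c) := by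
  have hinj : Function.Injective (MulAut.conj g).toMonoidHom := MulEquiv.injective _
  rw [stabilizer_smul_eq_stabilizer_map_conj, stabilizer_smul_eq_stabilizer_map_conj,
    stabilizer_smul_eq_stabilizer_map_conj, ← Subgroup.map_inf _ _ _ hinj,
    ← Subgroup.map_inf _ _ _ hinj] at h
  exact (Subgroup.equivMapOfInjective _ _ hinj).isSimpleGroup

theorem not_isPrimePow_of_two_primes {n p q : ℕ} (hp : p.Prime) (hq : q.Prime) (hpq : p ≠ q)
    (hpn : p ∣ n) (hqn : q ∣ n) : ¬ IsPrimePow n := by
  intro h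
  rw [isPrimePow_iff_unique_prime_dvd] at h
  obtain ⟨r, -, hr⟩ := h
  exact hpq ((hr p ⟨hp, hpn⟩).trans (hr q ⟨hq, hqn⟩).symm)

theorem hs_stab_simple {v w x : leechLattice} (hv : sqNorm (v : GolayPt → ℤ) = 48)
    (hw : sqNorm (w : GolayPt → ℤ) = 48)
    (hvw : dotInt (v : GolayPt → ℤ) (w : GolayPt → ℤ) = -32) (hx : x ∈ hsSet v w) :
    IsSimpleGroup ↥(stabilizer Co0 v ⊓ stabilizer Co0 w ⊓ stabilizer Co0 x) := by
  obtain ⟨g, h1, h2, h3⟩ := hsSet_trans hv hw hvw hx
  apply simple_conj3 g
  have e : stabilizer Co0 (g • v) ⊓ stabilizer Co0 (g • w) ⊓ stabilizer Co0 (g • x) = T22 := by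
    have hw' : g • w = X0 - U5 := by
      rw [← h2, ← h1, smul_add', add_sub_cancel_left]
    ext k
    rw [mem_T22, Subgroup.mem_inf, Subgroup.mem_inf, mem_stabilizer_iff, mem_stabilizer_iff,
      mem_stabilizer_iff, h1, h3, hw', and_assoc]
    constructor
    · rintro ⟨a1, a2, a3⟩
      refine ⟨a1, ?_, a3⟩
      rw [smul_sub', a1] at a2
      exact sub_left_injective a2
    · rintro ⟨a1, a2, a3⟩
      refine ⟨a1, ?_, a3⟩
      rw [smul_sub', a1, a2]
  rw [e]
  exact T22_simple

theorem m3_mem_H100 {j : GolayPt} (hj : j ≠ none) (hj0 : j ≠ some 0) : m3 j ∈ H100 := by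
  rw [H100_eq, Finset.mem_union]
  right
  unfold HD
  rw [Finset.mem_image]
  refine ⟨j, ?_, rfl⟩
  rw [Finset.mem_erase, Finset.mem_erase]
  exact ⟨hj0, hj, Finset.mem_univ _⟩

theorem v44_mem_H100 : v44 ∈ H100 := by
  rw [H100_eq, Finset.mem_union, Finset.mem_union]
  left; left
  exact Finset.mem_singleton_self _

theorem hs_faithful {v w : leechLattice} (hv : sqNorm (v : GolayPt → ℤ) = 48)
    (hw : sqNorm (w : GolayPt → ℤ) = 48)
    (hvw : dotInt (v : GolayPt → ℤ) (w : GolayPt → ℤ) = -32) (g : Co0) (hgv : g • v = v)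
    (hgw : g • w = w) (hfix : ∀ x ∈ hsSet v w, g • x = x) : g = 1 := by
  obtain ⟨g0, h1, h2⟩ := exists_std_pair hv hw hvw
  have hU : (g0 * g * g0⁻¹) • U5 = U5 := by
    rw [mul_smul, mul_smul, ← h1, inv_smul_smul, hgv]
  have hX : (g0 * g * g0⁻¹) • X0 = X0 := by
    rw [mul_smul, mul_smul, ← h2, inv_smul_smul, smul_add', hgv, hgw]
  have hH : ∀ y : leechLattice, (y : GolayPt → ℤ) ∈ H100 → (g0 * g * g0⁻¹) • y = y := by
    intro y hy
    have : g0⁻¹ • y ∈ hsSet v w := by
      rw [mem_hsSet_iff h1 h2, smul_inv_smul]; exact hy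
    rw [mul_smul, mul_smul, hfix _ this, smul_inv_smul]
  have hV : (g0 * g * g0⁻¹) • V44 = V44 := hH V44 v44_mem_H100
  have key : g0 * g * g0⁻¹ = 1 := by
    apply eq_one_of_fix_e8
    have en : e8 none = V44 + X0 := by
      rw [V44_add_X0]; apply Subtype.ext; funext i
      show vec8 none i = v0raw i
      unfold vec8 v0raw
      by_cases hi : i = none
      · subst hi; simp
      · rw [if_neg hi, Pi.single_eq_of_ne hi]
    have hn : (g0 * g * g0⁻¹) • e8 none = e8 none := by
      rw [en, smul_add', hV, hX]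
    intro i
    by_cases hi : i = none
    · subst hi; exact hn
    by_cases hi0 : i = some 0
    · subst hi0
      have e0 : e8 (some 0) = V44 - X0 := by
        apply Subtype.ext; funext k
        show vec8 (some 0) k = vec44 none (some 0) 1 k - vec44 none (some 0) (-1) k
        unfold vec8 vec44
        by_cases hk : k = some 0
        · subst hk; simp
        · by_cases hk' : k = none
          · subst hk'; simp
          · simp [hk, hk']
      rw [e0, smul_sub', hV, hX]
    · have ei : e8 i = (2 : ℤ) • (U5 - (⟨m3 i, m3_mem i⟩ : leechLattice)) - e8 none := by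
        apply Subtype.ext; funext k
        show vec8 i k = 2 * (u5 k - m3 i k) - vec8 none k
        rw [u5_apply]
        unfold vec8 m3
        by_cases hk : k = none
        · subst hk
          rw [if_neg (Ne.symm hi), if_pos rfl, if_neg (Ne.symm hi), if_pos rfl]; norm_num
        · rw [if_neg hk, if_neg hk]
          by_cases hki : k = i
          · rw [if_pos hki, if_pos hki]; norm_num
          · rw [if_neg hki, if_neg hki]; norm_num
      have hm : (g0 * g * g0⁻¹) • (⟨m3 i, m3_mem i⟩ : leechLattice) = ⟨m3 i, m3_mem i⟩ :=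
        hH _ (m3_mem_H100 hi hi0)
      have hz : ∀ (k : Co0) (n : ℤ) (y : leechLattice), k • (n • y) = n • (k • y) :=
        fun k n y => co0_zsmul k.2 n y
      rw [ei, smul_sub', hz, smul_sub', hU, hm, hn]
  have := congrArg (fun z => g0⁻¹ * z * g0) key
  simpa [mul_assoc] using this




theorem hsSet_finite {v w : leechLattice} (hv : sqNorm (v : GolayPt → ℤ) = 48)
    (hw : sqNorm (w : GolayPt → ℤ) = 48)
    (hvw : dotInt (v : GolayPt → ℤ) (w : GolayPt → ℤ) = -32) : (hsSet v w).Finite :=
  Set.finite_of_ncard_ne_zero (by rw [ncard_hsSet hv hw hvw]; norm_num)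

theorem stab_inf_eq_add (v w : leechLattice) :
    stabilizer Co0 v ⊓ stabilizer Co0 w = stabilizer Co0 v ⊓ stabilizer Co0 (v + w) := by
  ext g
  rw [Subgroup.mem_inf, Subgroup.mem_inf, mem_stabilizer_iff, mem_stabilizer_iff,
    mem_stabilizer_iff]
  constructor
  · rintro ⟨a1, a2⟩
    exact ⟨a1, by rw [smul_add', a1, a2]⟩
  · rintro ⟨a1, a2⟩
    refine ⟨a1, ?_⟩
    rw [smul_add', a1] at a2
    exact add_left_cancel a2

theorem hs_simple {v w : leechLattice} (hv : sqNorm (v : GolayPt → ℤ) = 48)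
    (hw : sqNorm (w : GolayPt → ℤ) = 48)
    (hvw : dotInt (v : GolayPt → ℤ) (w : GolayPt → ℤ) = -32) :
    IsSimpleGroup ↥(stabilizer Co0 v ⊓ stabilizer Co0 w) := by
  have hfinC := finite_co0
  obtain ⟨g0, h1, h2⟩ := exists_std_pair hv hw hvw
  have hx : g0⁻¹ • V44 ∈ hsSet v w := by
    rw [mem_hsSet_iff h1 h2, smul_inv_smul]; exact v44_mem_H100
  set x := g0⁻¹ • V44 with hxdef
  obtain ⟨r1, r2, r3⟩ := hs_rank3 hv hw hvw hx
  have hxx : dotInt (x : GolayPt → ℤ) (x : GolayPt → ℤ) = 32 := by
    rw [dotInt_self']; exact hx.1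
  let T : Fin 2 → Set leechLattice := ![{y : leechLattice | y ∈ hsSet v w ∧
      dotInt (x : GolayPt → ℤ) (y : GolayPt → ℤ) = 8},
    {y : leechLattice | y ∈ hsSet v w ∧ (y ≠ x ∧
      dotInt (x : GolayPt → ℤ) (y : GolayPt → ℤ) ≠ 8)}]
  have hc : ∀ i, (T i).ncard = ![22, 77] i := by
    intro i
    fin_cases i
    · exact r1
    · exact r2
  apply simple_of_action (stabilizer Co0 v ⊓ stabilizer Co0 w) (hsSet v w)
    (hsSet_finite hv hw hvw) ?_ x hx ?_ T
  · -- T i ⊆ S
    intro i
    fin_cases i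
    · intro y hy; exact hy.1
    · intro y hy; exact hy.1
  · -- cover
    intro y hy hne
    by_cases h8 : dotInt (x : GolayPt → ℤ) (y : GolayPt → ℤ) = 8
    · exact ⟨0, hy, h8⟩
    · exact ⟨1, hy, hne, h8⟩
  · -- transitivity on the suborbits
    intro i y hy y' hy'
    fin_cases i
    · have hne : y ≠ x := by
        rintro rfl; have := hy.2; rw [hxx] at this; norm_num at this
      have hne' : y' ≠ x := by
        rintro rfl; have := hy'.2; rw [hxx] at this; norm_num at this
      obtain ⟨g, a1, a2, a3, a4⟩ := r3 y hy.1 y' hy'.1 hne hne'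
        ⟨fun _ => hy'.2, fun _ => hy.2⟩
      exact ⟨g, Subgroup.mem_inf.mpr ⟨a1, a2⟩, a3, a4⟩
    · obtain ⟨g, a1, a2, a3, a4⟩ := r3 y hy.1 y' hy'.1 hy.2.1 hy'.2.1
        ⟨fun h => absurd h hy.2.2, fun h => absurd h hy'.2.2⟩
      exact ⟨g, Subgroup.mem_inf.mpr ⟨a1, a2⟩, a3, a4⟩
  · -- disjointness
    intro i j hij
    fin_cases i <;> fin_cases j
    · exact absurd rfl hij
    · rw [Set.disjoint_left]; intro y hy hy'; exact hy'.2.2 hy.2
    · rw [Set.disjoint_left]; intro y hy hy'; exact hy.2.2 hy'.2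
    · exact absurd rfl hij
  · -- the base point
    intro i
    fin_cases i
    · intro h; have := h.2; rw [hxx] at this; norm_num at this
    · intro h; exact h.2.1 rfl
  · -- numerical condition
    intro S' hS'
    rw [ncard_hsSet hv hw hvw, Finset.sum_congr rfl (fun i _ => hc i)] at hS'
    revert S' 
    decide
  · -- faithfulness
    intro g hg hfix
    rw [Subgroup.mem_inf, mem_stabilizer_iff, mem_stabilizer_iff] at hg
    exact hs_faithful hv hw hvw g hg.1 hg.2 hfix
  · exact hs_stab_simple hv hw hvw hx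
  · intro N hN
    rw [ncard_hsSet hv hw hvw] at hN
    exact Cfsg.Agent.S0144.result 2 5 2 2 Nat.prime_two (by norm_num) (by rw [hN]; norm_num)
  · rw [ncard_hsSet hv hw hvw]
    exact not_isPrimePow_of_two_primes Nat.prime_two (by norm_num : Nat.Prime 5) (by norm_num)
      (by norm_num) (by norm_num)
  · -- invariance
    intro g hg y hy
    rw [Subgroup.mem_inf, mem_stabilizer_iff, mem_stabilizer_iff] at hg
    refine ⟨by rw [smul_norm]; exact hy.1, ?_, ?_⟩
    · have : dotInt (v : GolayPt → ℤ) ((g • y : leechLattice) : GolayPt → ℤ) =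
          dotInt ((g • v : leechLattice) : GolayPt → ℤ)
            ((g • y : leechLattice) : GolayPt → ℤ) := by rw [hg.1]
      rw [this, smul_dot]; exact hy.2.1
    · have : dotInt (w : GolayPt → ℤ) ((g • y : leechLattice) : GolayPt → ℤ) =
          dotInt ((g • w : leechLattice) : GolayPt → ℤ)
            ((g • y : leechLattice) : GolayPt → ℤ) := by rw [hg.2]
      rw [this, smul_dot]; exact hy.2.2
  · -- transitivity
    intro y hy
    obtain ⟨g1, b1, b2, b3⟩ := hsSet_trans hv hw hvw hx
    obtain ⟨g2, c1, c2, c3⟩ := hsSet_trans hv hw hvw hy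
    have e1 : (g2⁻¹ * g1) • v = v := by rw [mul_smul, b1, ← c1, inv_smul_smul]
    have e2 : (g2⁻¹ * g1) • (v + w) = v + w := by rw [mul_smul, b2, ← c2, inv_smul_smul]
    refine ⟨g2⁻¹ * g1, ?_, by rw [mul_smul, b3, ← c3, inv_smul_smul]⟩
    rw [Subgroup.mem_inf, mem_stabilizer_iff, mem_stabilizer_iff]
    refine ⟨e1, ?_⟩
    rw [smul_add', e1] at e2
    exact add_left_cancel e2

theorem hs_card {v w : leechLattice} (hv : sqNorm (v : GolayPt → ℤ) = 48)
    (hw : sqNorm (w : GolayPt → ℤ) = 48)
    (hvw : dotInt (v : GolayPt → ℤ) (w : GolayPt → ℤ) = -32) :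
    Nat.card ↥(stabilizer Co0 v ⊓ stabilizer Co0 w) = 44352000 := by
  rw [stab_inf_eq_add]
  apply card_stab48_16 v (v + w) hv
  · show sqNorm ((v : GolayPt → ℤ) + (w : GolayPt → ℤ)) = 32
    rw [sqNorm_add, hv, hw, hvw]; norm_num
  · show dotInt (v : GolayPt → ℤ) ((v : GolayPt → ℤ) + (w : GolayPt → ℤ)) = 16
    rw [dotInt_add_right', dotInt_self', hv, hvw]; norm_num


end Cfsg.Agent.Helper27
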