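import Mathlib
import Cfsg.Agent.Lib.Helper27.LeechMcL
import Cfsg.Agent.Lib.Helper29.M24Cfg

set_option autoImplicit false
set_option maxRecDepth 8000
open Cfsg

/-! The McLaughlin configuration, continued: the stabiliser of a point of the 275 has two further
orbits, of sizes 112 and 162. -/

namespace Cfsg.Agent.Helper27
open Cfsg.Agent.S0394 (FA FB FC idxA idxB fC mem_idxA mem_idxB mem_octads_iff aJW odd_fC famC_mem
  octF mem_octF instFintypeGolayCode card_golayCode fC_injective famB_mem)
open Cfsg.Agent.Helper29 Cfsg.Agent.Helper29.M24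
open scoped Pointwise


/-- Code words of weight eight correspond to octads. -/
theorem card_code8_filter (Q : Finset GolayPt → Prop) [DecidablePred Q] :
    ((Finset.univ : Finset golayCode).filter
      (fun c => (support₂ c.1).card = 8 ∧ Q (support₂ c.1))).card = (octF.filter Q).card := by
  apply Finset.card_bij (fun c _ => support₂ c.1)
  · intro c hc
    rw [Finset.mem_filter] at hc
    rw [Finset.mem_filter, mem_octF, mem_octads_iff]
    exact ⟨⟨c.1, c.2, rfl, hc.2.1⟩, hc.2.2⟩
  · intro c _ c' _ h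
    exact Subtype.ext (Cfsg.Agent.Helper29.support₂_injective h)
  · intro p hp
    rw [Finset.mem_filter, mem_octF, mem_octads_iff] at hp
    obtain ⟨⟨w, hw, rfl, h8⟩, hQ⟩ := hp
    refine ⟨⟨w, hw⟩, ?_, rfl⟩
    rw [Finset.mem_filter]
    exact ⟨Finset.mem_univ _, h8, hQ⟩

/-- Octads through two points avoiding a third. -/
theorem card_octF_two_not {a b z : GolayPt} (hab : a ≠ b) (haz : a ≠ z) (hbz : b ≠ z) :
    (octF.filter (fun p => a ∈ p ∧ b ∈ p ∧ z ∉ p)).card = 56 := by
  have h1 := card_octF_two hab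
  have h2 : (octF.filter (fun p => (a ∈ p ∧ b ∈ p) ∧ z ∈ p)).card = 21 := by
    have hc : ({a, b, z} : Finset GolayPt).card = 3 := by
      rw [Finset.card_insert_of_notMem, Finset.card_pair hbz]
      rw [Finset.mem_insert, Finset.mem_singleton]
      rintro (h | h)
      · exact hab h
      · exact haz h
    rw [← card_octF_three hc]
    congr 1
    apply Finset.filter_congr
    intro p _
    rw [Finset.insert_subset_iff, Finset.insert_subset_iff, Finset.singleton_subset_iff]
    tauto
  have h3 := Finset.card_filter_add_card_filter_not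
    (s := octF.filter (fun p => a ∈ p ∧ b ∈ p)) (fun p => z ∈ p)
  rw [Finset.filter_filter, Finset.filter_filter, h1, h2] at h3
  have h4 : octF.filter (fun p => a ∈ p ∧ b ∈ p ∧ z ∉ p) =
      octF.filter (fun p => (a ∈ p ∧ b ∈ p) ∧ ¬ z ∈ p) := by
    apply Finset.filter_congr
    intro p _
    tauto
  rw [h4]
  omega

/-- the standard third vector as a function. -/
def v41 : GolayPt → ℤ := vec44 none (some 1) 1

theorem dotInt_v41 (z : GolayPt → ℤ) : dotInt v41 z = 4 * z none + 4 * z (some 1) := by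
  unfold v41; rw [dotInt_vec44_left]; ring

/-- The `B`-part at inner product `8` with `v41`. -/
noncomputable def HB8 : Finset (GolayPt → ℤ) :=
  (octF.filter (fun p => none ∈ p ∧ some 0 ∈ p ∧ some 1 ∉ p)).image (fun p => shapeVec 2 p ∅)

noncomputable def MC8idx : Finset golayCode :=
  (Finset.univ : Finset golayCode).filter
    (fun c => (support₂ c.1).card = 8 ∧
      (none ∈ support₂ c.1 ∧ some 1 ∈ support₂ c.1 ∧ some 0 ∉ support₂ c.1))

noncomputable def MC8 : Finset (GolayPt → ℤ) := MC8idx.image (fun c => fC (none, c))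

theorem shapeVec2_injOn {p p' : Finset GolayPt} (h : shapeVec 2 p ∅ = shapeVec 2 p' ∅) :
    p = p' := by
  ext i
  have := congrFun h i
  unfold shapeVec at this
  simp only [Finset.notMem_empty, if_false] at this
  by_cases h1 : i ∈ p <;> by_cases h2 : i ∈ p' <;> simp [h1, h2] at this ⊢

theorem card_HB8 : HB8.card = 56 := by
  unfold HB8
  rw [Finset.card_image_of_injective _ (fun p p' h => shapeVec2_injOn h)]
  exact card_octF_two_not (by decide) (by decide) (by decide)

theorem card_MC8 : MC8.card = 56 := by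
  unfold MC8
  rw [Finset.card_image_of_injective]
  · unfold MC8idx
    rw [card_code8_filter (fun p => none ∈ p ∧ some 1 ∈ p ∧ some 0 ∉ p)]
    exact card_octF_two_not (by decide) (by decide) (by decide)
  · intro c c' h
    exact (Prod.mk.inj (fC_injective h)).2

theorem HB8_subset : HB8 ⊆ HB := by
  intro x hx
  unfold HB8 at hx
  unfold HB
  rw [Finset.mem_image] at hx ⊢
  obtain ⟨p, hp, rfl⟩ := hx
  rw [Finset.mem_filter] at hp
  exact ⟨p, Finset.mem_filter.mpr ⟨hp.1, hp.2.1, hp.2.2.1⟩, rfl⟩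

theorem MC8_subset : MC8 ⊆ MC := by
  intro x hx
  unfold MC8 MC8idx at hx
  unfold MC MCidx
  rw [Finset.mem_image] at hx ⊢
  obtain ⟨c, hc, rfl⟩ := hx
  rw [Finset.mem_filter, mem_support₂, mem_support₂, mem_support₂, not_not] at hc
  exact ⟨c, Finset.mem_filter.mpr ⟨Finset.mem_univ _, hc.2.2.1, hc.2.2.2.2, hc.2.1⟩, rfl⟩

theorem v41_mem_M275 : v41 ∈ M275 := by
  rw [M275_eq, Finset.mem_union, Finset.mem_union]
  left; left
  unfold MA v41
  rw [Finset.mem_image]
  exact ⟨some 1, by decide, rfl⟩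

/-- classification of the inner products with `v41`. -/
theorem M275_dot_v41 {z : GolayPt → ℤ} (hz : z ∈ M275) :
    z = v41 ∨ (dotInt v41 z = 8 ∧ z ∈ HB8 ∪ MC8) ∨ (dotInt v41 z = 16 ∧ z ∉ HB8 ∪ MC8) := by
  rw [M275_eq, Finset.mem_union, Finset.mem_union] at hz
  rcases hz with (hA | hB) | hC
  · have h4 := MA_apply_none hA
    unfold MA at hA
    rw [Finset.mem_image] at hA
    obtain ⟨j, hj, rfl⟩ := hA
    rw [Finset.mem_erase, Finset.mem_erase] at hj
    by_cases hj1 : j = some 1
    · left; rw [hj1]; rfl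
    · right; right
      constructor
      · rw [dotInt_v41, vec44_apply_left (Ne.symm hj.2.1),
          vec44_apply_other (by decide) (Ne.symm hj1)]
        norm_num
      · rw [Finset.mem_union]
        rintro (h | h)
        · have := HB_apply_none (HB8_subset h)
          rw [h4] at this; norm_num at this
        · have := MC_apply_none (MC8_subset h)
          rw [h4] at this; norm_num at this
  · have h2 := HB_apply_none hB
    have hB' := hB
    unfold HB at hB'
    rw [Finset.mem_image] at hB'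
    obtain ⟨p, hp, rfl⟩ := hB'
    rw [Finset.mem_filter] at hp
    right
    by_cases h1 : some 1 ∈ p
    · right
      constructor
      · rw [dotInt_v41, h2]
        unfold shapeVec
        rw [if_pos h1, if_neg (Finset.notMem_empty _)]
        norm_num
      · rw [Finset.mem_union]
        rintro (h | h)
        · unfold HB8 at h
          rw [Finset.mem_image] at h
          obtain ⟨p', hp', e⟩ := h
          rw [Finset.mem_filter] at hp'
          have := shapeVec2_injOn e
          subst this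
          exact hp'.2.2.2 h1
        · have := MC_apply_none (MC8_subset h)
          rw [h2] at this; norm_num at this
    · left
      constructor
      · rw [dotInt_v41, h2]
        unfold shapeVec
        rw [if_neg h1]
        norm_num
      · rw [Finset.mem_union]
        left
        unfold HB8
        rw [Finset.mem_image]
        exact ⟨p, Finset.mem_filter.mpr ⟨hp.1, hp.2.1, hp.2.2, h1⟩, rfl⟩
  · have h3 := MC_apply_none hC
    have hC' := hC
    unfold MC MCidx at hC'
    rw [Finset.mem_image] at hC'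
    obtain ⟨c, hc, rfl⟩ := hC'
    rw [Finset.mem_filter] at hc
    obtain ⟨-, hc0, hc1, h8⟩ := hc
    right
    by_cases h1 : c.1 (some 1) = 0
    · right
      constructor
      · rw [dotInt_v41, h3, fC_none_apply, if_neg (by decide), if_pos h1]
        norm_num
      · rw [Finset.mem_union]
        rintro (h | h)
        · have := HB_apply_none (HB8_subset h)
          rw [h3] at this; norm_num at this
        · unfold MC8 MC8idx at h
          rw [Finset.mem_image] at h
          obtain ⟨c', hc', e⟩ := h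
          rw [Finset.mem_filter, mem_support₂, mem_support₂, mem_support₂] at hc'
          have := (Prod.mk.inj (fC_injective e)).2
          subst this
          exact hc'.2.2.2.1 h1
    · left
      constructor
      · rw [dotInt_v41, h3, fC_none_apply, if_neg (by decide), if_neg h1]
        norm_num
      · rw [Finset.mem_union]
        right
        unfold MC8 MC8idx
        rw [Finset.mem_image]
        refine ⟨c, ?_, rfl⟩
        rw [Finset.mem_filter, mem_support₂, mem_support₂, mem_support₂, not_not]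
        exact ⟨Finset.mem_univ _, h8, hc0, h1, hc1⟩

theorem dotInt_v41_self : dotInt v41 v41 = 32 := by
  rw [dotInt_v41]
  unfold v41
  rw [vec44_apply_left (by decide), vec44_apply_right (by decide)]
  norm_num

theorem HB8_MC8_subset : HB8 ∪ MC8 ⊆ M275 := by
  rw [M275_eq]
  intro x hx
  rw [Finset.mem_union] at hx
  rcases hx with h | h
  · exact Finset.mem_union_left _ (Finset.mem_union_right _ (HB8_subset h))
  · exact Finset.mem_union_right _ (MC8_subset h)

theorem card_HB8_MC8 : (HB8 ∪ MC8).card = 112 := by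
  rw [Finset.card_union_of_disjoint, card_HB8, card_MC8]
  rw [Finset.disjoint_left]
  intro x h1 h2
  have := HB_apply_none (HB8_subset h1)
  rw [MC_apply_none (MC8_subset h2)] at this
  norm_num at this

theorem M275_filter_eight : M275.filter (fun z => dotInt v41 z = 8) = HB8 ∪ MC8 := by
  ext z
  rw [Finset.mem_filter]
  constructor
  · rintro ⟨hz, h8⟩
    rcases M275_dot_v41 hz with rfl | ⟨-, h⟩ | ⟨h, -⟩
    · rw [dotInt_v41_self] at h8; norm_num at h8
    · exact h
    · rw [h] at h8; norm_num at h8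
  · intro hz
    have hz' := HB8_MC8_subset hz
    refine ⟨hz', ?_⟩
    rcases M275_dot_v41 hz' with rfl | ⟨h, -⟩ | ⟨-, h⟩
    · exfalso
      rw [Finset.mem_union] at hz
      rcases hz with h | h
      · have := HB_apply_none (HB8_subset h)
        unfold v41 at this
        rw [vec44_apply_left (by decide)] at this; norm_num at this
      · have := MC_apply_none (MC8_subset h)
        unfold v41 at this
        rw [vec44_apply_left (by decide)] at this; norm_num at this
    · exact h
    · exact absurd hz h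

theorem M275_filter_sixteen :
    M275.filter (fun z => z ≠ v41 ∧ dotInt v41 z = 16) = (M275.erase v41) \ (HB8 ∪ MC8) := by
  ext z
  rw [Finset.mem_filter, Finset.mem_sdiff, Finset.mem_erase]
  constructor
  · rintro ⟨hz, hne, h16⟩
    refine ⟨⟨hne, hz⟩, ?_⟩
    rcases M275_dot_v41 hz with rfl | ⟨h, -⟩ | ⟨-, h⟩
    · exact absurd rfl hne
    · rw [h] at h16; norm_num at h16
    · exact h
  · rintro ⟨⟨hne, hz⟩, hn⟩
    refine ⟨hz, hne, ?_⟩
    rcases M275_dot_v41 hz with rfl | ⟨-, h⟩ | ⟨h, -⟩
    · exact absurd rfl hne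
    · exact absurd h hn
    · exact h

theorem card_M275_filter_eight : (M275.filter (fun z => dotInt v41 z = 8)).card = 112 := by
  rw [M275_filter_eight, card_HB8_MC8]

theorem card_M275_filter_sixteen :
    (M275.filter (fun z => z ≠ v41 ∧ dotInt v41 z = 16)).card = 162 := by
  rw [M275_filter_sixteen, Finset.card_sdiff_of_subset, Finset.card_erase_of_mem v41_mem_M275,
    card_M275, card_HB8_MC8]
  intro z hz
  rw [Finset.mem_erase]
  refine ⟨?_, HB8_MC8_subset hz⟩
  rintro rfl
  have := (Finset.mem_filter.mp (by rw [M275_filter_eight]; exact hz :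
    v41 ∈ M275.filter (fun z => dotInt v41 z = 8))).2
  rw [dotInt_v41_self] at this; norm_num at this



/-- Counting a subset of the configuration through the standard one. -/
theorem ncard_mcl_filter {u v : leechLattice} {g : Co0} (h1 : g • u = U5)
    (h2 : g • v = V44) (Q : leechLattice → Prop) (Q' : (GolayPt → ℤ) → Prop)
    [DecidablePred Q'] (hQ : ∀ y : leechLattice, Q y ↔ Q' ((g • y : leechLattice) : GolayPt → ℤ)) :
    {y : leechLattice | y ∈ mclSet u v ∧ Q y}.ncard = (M275.filter Q').card := by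
  have e : {y : leechLattice | y ∈ mclSet u v ∧ Q y} = (fun x : leechLattice => g • x) ⁻¹'
      {y : leechLattice | (y : GolayPt → ℤ) ∈ M275.filter Q'} := by
    ext x
    rw [Set.mem_setOf_eq, mem_mclSet_iff h1 h2, hQ, Set.mem_preimage, Set.mem_setOf_eq,
      Finset.mem_filter]
  rw [e, Set.ncard_preimage_of_injective_subset_range (MulAction.injective g)]
  · rw [ncard_subtype_eq]
    intro x hx
    unfold M275 at hx
    exact (mem_F32.mp (Finset.mem_filter.mp (Finset.mem_filter.mp hx).1).1).1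
  · intro y _
    exact ⟨g⁻¹ • y, smul_inv_smul g y⟩

/-- Two distinct octads share at most four points. -/
theorem octad_inter_le {p O : Finset GolayPt} (hp : p ∈ octads) (hO : O ∈ octads) (hne : p ≠ O) :
    (p ∩ O).card ≤ 4 := by
  by_contra hlt
  have h5 : 5 ≤ (p ∩ O).card := by omega
  obtain ⟨s, hs, hs5⟩ := Finset.exists_subset_card_eq h5
  apply hne
  exact Cfsg.Agent.S0363.octad_unique hp hO hs5
    (fun i hi => (Finset.mem_inter.mp (hs hi)).1) (fun i hi => (Finset.mem_inter.mp (hs hi)).2)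

/-- An octad through `a, b, z` meeting `O ∋ a, b` (`z ∉ O`) in four points. -/
theorem exists_octad_meet_four {O : Finset GolayPt} (hO : O ∈ octads) {a b z : GolayPt}
    (ha : a ∈ O) (hb : b ∈ O) (hab : a ≠ b) (hz : z ∉ O) :
    ∃ p ∈ octads, a ∈ p ∧ b ∈ p ∧ z ∈ p ∧ (p ∩ O).card = 4 := by
  have haz : a ≠ z := by rintro rfl; exact hz ha
  have hbz : b ≠ z := by rintro rfl; exact hz hb
  set B := octF.filter (fun p => ({a, b, z} : Finset GolayPt) ⊆ p) with hB
  set S := (O.erase a).erase b with hS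
  have hc3 : ({a, b, z} : Finset GolayPt).card = 3 := by
    rw [Finset.card_insert_of_notMem, Finset.card_pair hbz]
    rw [Finset.mem_insert, Finset.mem_singleton]
    rintro (h | h)
    · exact hab h
    · exact haz h
  have hScard : S.card = 6 := by
    rw [hS, Finset.card_erase_of_mem (Finset.mem_erase.mpr ⟨Ne.symm hab, hb⟩),
      Finset.card_erase_of_mem ha, octad_card hO]
  have hsum : ∑ p ∈ B, (p ∩ S).card = 6 * 5 := by
    rw [sum_inter_card, ← hScard, ← smul_eq_mul, ← Finset.sum_const]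
    apply Finset.sum_congr rfl
    intro m hm
    rw [hS, Finset.mem_erase, Finset.mem_erase] at hm
    have hc4 : (insert m ({a, b, z} : Finset GolayPt)).card = 4 := by
      rw [Finset.card_insert_of_notMem, hc3]
      rw [Finset.mem_insert, Finset.mem_insert, Finset.mem_singleton]
      rintro (h | h | h)
      · exact hm.2.1 h
      · exact hm.1 h
      · rw [h] at hm; exact hz hm.2.2
    rw [← card_octF_four hc4, hB, Finset.filter_filter]
    congr 1
    apply Finset.filter_congr
    intro p _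
    rw [Finset.insert_subset_iff (a := m)]
    tauto
  have hex : ∃ p ∈ B, (p ∩ S).card ≠ 0 := by
    by_contra hcon
    have : ∑ p ∈ B, (p ∩ S).card = 0 := by
      apply Finset.sum_eq_zero
      intro p hp
      by_contra h
      exact hcon ⟨p, hp, h⟩
    rw [hsum] at this
    norm_num at this
  obtain ⟨p, hp, hne⟩ := hex
  rw [hB, Finset.mem_filter, mem_octF, Finset.insert_subset_iff, Finset.insert_subset_iff,
    Finset.singleton_subset_iff] at hp
  obtain ⟨hpo, hap, hbp, hzp⟩ := hp
  refine ⟨p, hpo, hap, hbp, hzp, ?_⟩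
  obtain ⟨m, hm⟩ := Finset.card_pos.mp (Nat.pos_of_ne_zero hne)
  rw [Finset.mem_inter, hS, Finset.mem_erase, Finset.mem_erase] at hm
  have hsub : ({a, b, m} : Finset GolayPt) ⊆ p ∩ O := by
    intro i hi
    rw [Finset.mem_insert, Finset.mem_insert, Finset.mem_singleton] at hi
    rcases hi with rfl | rfl | rfl
    · exact Finset.mem_inter.mpr ⟨hap, ha⟩
    · exact Finset.mem_inter.mpr ⟨hbp, hb⟩
    · exact Finset.mem_inter.mpr ⟨hm.1, hm.2.2.2⟩
  have hc3' : ({a, b, m} : Finset GolayPt).card = 3 := by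
    rw [Finset.card_insert_of_notMem, Finset.card_pair (Ne.symm hm.2.1)]
    rw [Finset.mem_insert, Finset.mem_singleton]
    rintro (h | h)
    · exact hab h
    · exact hm.2.2.1 h.symm
  have h3 := Finset.card_le_card hsub
  rw [hc3'] at h3
  have h4 : (p ∩ O).card ≤ 4 := by
    apply octad_inter_le hpo hO
    rintro rfl
    exact hz hzp
  obtain ⟨r, hr⟩ := octad_inter_even hpo hO
  omega

/-- An octad through `a, z₁, z₂` meeting `O ∋ a` (`z₁, z₂ ∉ O`) in exactly two points. -/
theorem exists_octad_meet_two_b {O : Finset GolayPt} (hO : O ∈ octads) {a z z' : GolayPt}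
    (ha : a ∈ O) (hz : z ∉ O) (hz' : z' ∉ O) (hzz : z ≠ z') :
    ∃ p ∈ octads, a ∈ p ∧ z ∈ p ∧ z' ∈ p ∧ ∃ m, m ≠ a ∧ p ∩ O = {a, m} := by
  have haz : a ≠ z := by rintro rfl; exact hz ha
  have haz' : a ≠ z' := by rintro rfl; exact hz' ha
  have hc3 : ({a, z, z'} : Finset GolayPt).card = 3 := by
    rw [Finset.card_insert_of_notMem, Finset.card_pair hzz]
    rw [Finset.mem_insert, Finset.mem_singleton]
    rintro (h | h)
    · exact haz h
    · exact haz' h
  obtain ⟨p, hp, hT, m, hm, hpm⟩ := exists_octad_meet_two hO ha {a, z, z'} (by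
      ext i
      rw [Finset.mem_inter, Finset.mem_insert, Finset.mem_insert, Finset.mem_singleton,
        Finset.mem_singleton]
      constructor
      · rintro ⟨rfl | rfl | rfl, hi⟩
        · rfl
        · exact absurd hi hz
        · exact absurd hi hz'
      · rintro rfl; exact ⟨Or.inl rfl, ha⟩) 21 5
    (card_octF_three hc3)
    (by
      intro m hm
      apply card_octF_four
      rw [Finset.mem_erase] at hm
      rw [Finset.card_insert_of_notMem, hc3]
      rw [Finset.mem_insert, Finset.mem_insert, Finset.mem_singleton]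
      rintro (rfl | rfl | rfl)
      · exact hm.1 rfl
      · exact hz hm.2
      · exact hz' hm.2) (by norm_num)
  rw [Finset.insert_subset_iff, Finset.insert_subset_iff, Finset.singleton_subset_iff] at hT
  exact ⟨p, hp, hT.1, hT.2.1, hT.2.2, m, hm, hpm⟩

theorem qvec_v41 {p : Finset GolayPt} (hn : none ∈ p) (h1 : some 1 ∈ p)
    {m : GolayPt} (hmn : m ≠ none) (hm1 : m ≠ some 1) :
    dotInt (shapeVec 2 p {some 0, m}) v41 = 16 := by
  rw [dotInt_comm', dotInt_v41]
  have e1 : shapeVec 2 p {some 0, m} none = 2 := by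
    unfold shapeVec
    rw [if_pos hn, if_neg]
    rw [Finset.mem_insert, Finset.mem_singleton]
    rintro (h | h)
    · exact absurd h (by decide)
    · exact hmn h.symm
  have e2 : shapeVec 2 p {some 0, m} (some 1) = 2 := by
    unfold shapeVec
    rw [if_pos h1, if_neg]
    rw [Finset.mem_insert, Finset.mem_singleton]
    rintro (h | h)
    · exact absurd h (by decide)
    · exact hm1 h.symm
  rw [e1, e2]; norm_num

theorem dot_qvec_fC {p : Finset GolayPt} (hp8 : p.card = 8) (hn : none ∈ p) (h0 : some 0 ∈ p)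
    {m : GolayPt} (hm : m ∈ p) (hmn : m ≠ none) (hm0 : m ≠ some 0) (c : golayCode)
    (hc0 : c.1 none ≠ 0) (hz : some 0 ∉ support₂ c.1) :
    dotInt (shapeVec 2 p {some 0, m}) (fC (none, c)) =
      16 - 4 * ((p ∩ support₂ c.1).card : ℤ) + (if m ∈ support₂ c.1 then 8 else 0) := by
  have hN : ({some 0, m} : Finset GolayPt) ⊆ p := by
    rw [Finset.insert_subset_iff, Finset.singleton_subset_iff]; exact ⟨h0, hm⟩
  have e2 : none ∉ ({some 0, m} : Finset GolayPt) := by
    rw [Finset.mem_insert, Finset.mem_singleton]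
    rintro (h | h)
    · exact absurd h (by decide)
    · exact hmn h.symm
  have e1 : ((({some 0, m} : Finset GolayPt) ∩ support₂ c.1).card : ℤ) =
      if m ∈ support₂ c.1 then 1 else 0 := by
    by_cases hmO : m ∈ support₂ c.1
    · rw [if_pos hmO]
      have : ({some 0, m} : Finset GolayPt) ∩ support₂ c.1 = {m} := by
        ext i
        rw [Finset.mem_inter, Finset.mem_insert, Finset.mem_singleton]
        constructor
        · rintro ⟨rfl | rfl, hi⟩
          · exact absurd hi hz
          · rfl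
        · rintro rfl; exact ⟨Or.inr rfl, hmO⟩
      rw [this, Finset.card_singleton]; norm_num
    · rw [if_neg hmO]
      have : ({some 0, m} : Finset GolayPt) ∩ support₂ c.1 = ∅ := by
        ext i
        rw [Finset.mem_inter, Finset.mem_insert, Finset.mem_singleton]
        constructor
        · rintro ⟨rfl | rfl, hi⟩
          · exact absurd hi hz
          · exact absurd hi hmO
        · intro h; exact absurd h (Finset.notMem_empty _)
      rw [this, Finset.card_empty]; norm_num
  rw [dotInt_shapeVec 2 hN, sum_fC_none_on c hc0, sum_fC_none_on c hc0, e1, if_pos hn,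
    if_neg e2, hp8, Finset.card_pair (Ne.symm hm0)]
  split_ifs <;> push_cast <;> ring

theorem exists_third {p : Finset GolayPt} (hp : p.card = 8) (a b c : GolayPt) :
    ∃ m ∈ p, m ≠ a ∧ m ≠ b ∧ m ≠ c := by
  have : 0 < (((p.erase a).erase b).erase c).card := by
    have h1 := Finset.pred_card_le_card_erase (s := p) (a := a)
    have h2 := Finset.pred_card_le_card_erase (s := p.erase a) (a := b)
    have h3 := Finset.pred_card_le_card_erase (s := (p.erase a).erase b) (a := c)
    omega
  obtain ⟨m, hm⟩ := Finset.card_pos.mp this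
  rw [Finset.mem_erase, Finset.mem_erase, Finset.mem_erase] at hm
  exact ⟨m, hm.2.2.2, hm.2.2.1, hm.2.1, hm.1⟩

theorem exists_q_mcl2 {y : GolayPt → ℤ} (hy : y ∈ M275) (hne : y ≠ v41) :
    ∃ q ∈ leechLattice, sqNorm q = 32 ∧ dotInt v44 q = 0 ∧ dotInt u5 q = 16 ∧
      dotInt q v41 = 16 ∧
      ((dotInt v41 y = 16 ∧ dotInt q y = 16) ∨ (dotInt v41 y = 8 ∧ dotInt q y = 0)) := by
  have hX0 : vec44 none (some 0) (-1) ∈ leechLattice ∧ sqNorm (vec44 none (some 0) (-1)) = 32 ∧
      dotInt v44 (vec44 none (some 0) (-1)) = 0 ∧ dotInt u5 (vec44 none (some 0) (-1)) = 16 ∧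
      dotInt (vec44 none (some 0) (-1)) v41 = 16 := by
    refine ⟨vec44_mem _ _ _ (Or.inr rfl), sqNorm_vec44 _ _ (by decide) _ (Or.inr rfl), ?_, ?_, ?_⟩
    · rw [dotInt_v44, vec44_apply_left (by decide), vec44_apply_right (by decide)]; norm_num
    · rw [dotInt_comm', dotInt_vec44_left, u5_apply, u5_apply, if_pos rfl, if_neg (by decide)]
      norm_num
    · rw [dotInt_vec44_left]
      unfold v41
      rw [vec44_apply_left (by decide), vec44_apply_other (by decide) (by decide)]
      norm_num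
  have hy' := hy
  rw [M275_eq, Finset.mem_union, Finset.mem_union] at hy'
  rcases hy' with (hA | hB) | hC
  · -- type A
    unfold MA at hA
    rw [Finset.mem_image] at hA
    obtain ⟨j, hj, rfl⟩ := hA
    rw [Finset.mem_erase, Finset.mem_erase] at hj
    have hj1 : j ≠ some 1 := by
      rintro rfl; exact hne rfl
    refine ⟨_, hX0.1, hX0.2.1, hX0.2.2.1, hX0.2.2.2.1, hX0.2.2.2.2, Or.inl ⟨?_, ?_⟩⟩
    · rw [dotInt_v41, vec44_apply_left (Ne.symm hj.2.1),
        vec44_apply_other (by decide) (Ne.symm hj1)]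
      norm_num
    · rw [dotInt_vec44_left, vec44_apply_left (Ne.symm hj.2.1),
        vec44_apply_other (by decide) (Ne.symm hj.1)]
      norm_num
  · -- type B
    unfold HB at hB
    rw [Finset.mem_image] at hB
    obtain ⟨p, hp, rfl⟩ := hB
    rw [Finset.mem_filter, mem_octF] at hp
    obtain ⟨hp, hn, h0⟩ := hp
    by_cases h1 : some 1 ∈ p
    · obtain ⟨m, hm, hmn, hm0, hm1⟩ := exists_third (octad_card hp) none (some 0) (some 1)
      obtain ⟨q1, q2, q3, q4⟩ := qvec_props hp hn h0 hm hmn hm0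
      have hN : ({some 0, m} : Finset GolayPt) ⊆ p := by
        rw [Finset.insert_subset_iff, Finset.singleton_subset_iff]; exact ⟨h0, hm⟩
      refine ⟨_, q1, q2, q3, q4, qvec_v41 hn h1 hmn hm1, Or.inl ⟨?_, ?_⟩⟩
      · rw [dotInt_v41]
        unfold shapeVec
        rw [if_pos hn, if_pos h1, if_neg (Finset.notMem_empty _)]
        norm_num
      · rw [dotInt_shapeVec 2 hN, sum_shapeVec_on, sum_shapeVec_on, Finset.inter_self,
          Finset.inter_eq_left.mpr hN, octad_card hp, Finset.card_pair (Ne.symm hm0)]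
        norm_num
    · refine ⟨_, hX0.1, hX0.2.1, hX0.2.2.1, hX0.2.2.2.1, hX0.2.2.2.2, Or.inr ⟨?_, ?_⟩⟩
      · rw [dotInt_v41]
        unfold shapeVec
        rw [if_pos hn, if_neg h1, if_neg (Finset.notMem_empty _)]
        norm_num
      · rw [dotInt_vec44_left]
        unfold shapeVec
        rw [if_pos hn, if_pos h0, if_neg (Finset.notMem_empty _)]
        norm_num
  · -- type C
    unfold MC MCidx at hC
    rw [Finset.mem_image] at hC
    obtain ⟨c, hc, rfl⟩ := hC
    rw [Finset.mem_filter] at hc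
    obtain ⟨-, hc0, hc1, h8⟩ := hc
    have hO : support₂ c.1 ∈ octads := (mem_octads_iff _).mpr ⟨c.1, c.2, rfl, h8⟩
    have hz : some 0 ∉ support₂ c.1 := by rw [mem_support₂, not_not]; exact hc1
    have hnO : none ∈ support₂ c.1 := mem_support₂.mpr hc0
    by_cases h1 : c.1 (some 1) = 0
    · have hz1 : some 1 ∉ support₂ c.1 := by rw [mem_support₂, not_not]; exact h1
      obtain ⟨p, hp, hn, h0, h1p, m, hmn, hpm⟩ :=
        exists_octad_meet_two_b hO hnO hz hz1 (by decide)
      have hm : m ∈ p ∩ support₂ c.1 := by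
        rw [hpm]; exact Finset.mem_insert_of_mem (Finset.mem_singleton_self m)
      rw [Finset.mem_inter] at hm
      have hm0 : m ≠ some 0 := by
        rintro rfl; exact hz hm.2
      have hm1 : m ≠ some 1 := by
        rintro rfl; exact hz1 hm.2
      obtain ⟨q1, q2, q3, q4⟩ := qvec_props hp hn h0 hm.1 hmn hm0
      refine ⟨_, q1, q2, q3, q4, qvec_v41 hn h1p hmn hm1, Or.inl ⟨?_, ?_⟩⟩
      · rw [dotInt_v41, fC_none_apply, fC_none_apply, if_pos rfl, if_neg hc0, if_neg (by decide),
          if_pos h1]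
        norm_num
      · rw [dot_qvec_fC (octad_card hp) hn h0 hm.1 hmn hm0 c hc0 hz, hpm, if_pos hm.2,
          Finset.card_pair (Ne.symm hmn)]
        norm_num
    · have h1O : some 1 ∈ support₂ c.1 := mem_support₂.mpr h1
      obtain ⟨p, hp, hn, h1p, h0, h4⟩ :=
        exists_octad_meet_four hO hnO h1O (by decide) hz
      -- a point of `p` outside `O` other than `0`
      have hdiff : 2 ≤ (p \ support₂ c.1).card := by
        have := Finset.card_sdiff_add_card_inter p (support₂ c.1)
        rw [h4, octad_card hp] at this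
        omega
      have hpos : 0 < ((p \ support₂ c.1).erase (some 0)).card := by
        have := Finset.pred_card_le_card_erase (s := p \ support₂ c.1) (a := some 0)
        omega
      obtain ⟨m, hm⟩ := Finset.card_pos.mp hpos
      rw [Finset.mem_erase, Finset.mem_sdiff] at hm
      obtain ⟨hm0, hmp, hmO⟩ := hm
      have hmn : m ≠ none := by rintro rfl; exact hmO hnO
      have hm1 : m ≠ some 1 := by rintro rfl; exact hmO h1O
      obtain ⟨q1, q2, q3, q4⟩ := qvec_props hp hn h0 hmp hmn hm0
      refine ⟨_, q1, q2, q3, q4, qvec_v41 hn h1p hmn hm1, Or.inr ⟨?_, ?_⟩⟩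
      · rw [dotInt_v41, fC_none_apply, fC_none_apply, if_pos rfl, if_neg hc0, if_neg (by decide),
          if_neg h1]
        norm_num
      · rw [dot_qvec_fC (octad_card hp) hn h0 hmp hmn hm0 c hc0 hz, h4, if_neg hmO]
        norm_num



/-- A group element carrying the base octad with three marked points to given data. -/
theorem exists_std_octad_out {p : Finset GolayPt} (hp : p ∈ octads)
    (h1 : none ∈ p ∧ some 0 ∈ p) {k : GolayPt} (hk : k ∉ p) :
    ∃ τ ∈ M24, τ • oct0 = p ∧ τ (bp 0) = none ∧ τ (bp 1) = some 0 ∧ τ (bp 6) = k := by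
  obtain ⟨g0, hg0, e0, e1, e2⟩ := exists_map_octad_two p hp none (some 0) h1.1 h1.2 (by decide)
  have hy : g0⁻¹ k ∉ oct0 := by
    intro hmem
    apply hk
    rw [← e0]
    have := Finset.smul_mem_smul_finset (a := g0) hmem
    rwa [Equiv.Perm.smul_def, perm_apply_inv] at this
  obtain ⟨h, hh, hhy⟩ := exists_grp6_map _ hy
  refine ⟨g0 * h, Subgroup.mul_mem _ hg0 (grp_le_M24 6 hh), ?_, ?_, ?_, ?_⟩
  · rw [mul_smul, grp6_smul_oct0 h hh, e0]
  · rw [Equiv.Perm.mul_apply, grp6_fix h hh _ (bp_mem_oct0 0 (by norm_num)), e1]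
  · rw [Equiv.Perm.mul_apply, grp6_fix h hh _ (bp_mem_oct0 1 (by norm_num)), e2]
  · rw [Equiv.Perm.mul_apply, hhy, perm_apply_inv]

theorem exists_perm_octad_out {p p' : Finset GolayPt} (hp : p ∈ octads) (hp' : p' ∈ octads)
    (h1 : none ∈ p ∧ some 0 ∈ p) (h1' : none ∈ p' ∧ some 0 ∈ p') {k k' : GolayPt}
    (hk : k ∉ p) (hk' : k' ∉ p') :
    ∃ σ ∈ M24, σ none = none ∧ σ (some 0) = some 0 ∧ σ k' = k ∧ ∀ i, σ i ∈ p ↔ i ∈ p' := by
  obtain ⟨τ, hτ, a0, a1, a2, a3⟩ := exists_std_octad_out hp h1 hk
  obtain ⟨τ', hτ', b0, b1, b2, b3⟩ := exists_std_octad_out hp' h1' hk'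
  have c1 : τ'⁻¹ none = bp 0 := by rw [← b1, perm_inv_apply]
  have c2 : τ'⁻¹ (some 0) = bp 1 := by rw [← b2, perm_inv_apply]
  have c3 : τ'⁻¹ k' = bp 6 := by rw [← b3, perm_inv_apply]
  refine ⟨τ * τ'⁻¹, Subgroup.mul_mem _ hτ (Subgroup.inv_mem _ hτ'), ?_, ?_, ?_, ?_⟩
  · rw [Equiv.Perm.mul_apply, c1, a1]
  · rw [Equiv.Perm.mul_apply, c2, a2]
  · rw [Equiv.Perm.mul_apply, c3, a3]
  · have hs : (τ * τ'⁻¹) • p' = p := by
      rw [mul_smul, ← b0, inv_smul_smul, a0]
    intro i
    rw [← hs]
    constructor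
    · intro hi
      obtain ⟨j, hj, hji⟩ := Finset.mem_smul_finset.mp hi
      have : j = i := (τ * τ'⁻¹).injective hji
      rw [← this]; exact hj
    · intro hi
      exact Finset.smul_mem_smul_finset hi



def V42 : leechLattice := ⟨vec44 none (some 2) 1, vec44_mem _ _ _ (Or.inl rfl)⟩

theorem V41_coe : (V41 : GolayPt → ℤ) = v41 := rfl

/-- First step of the normal forms: both `x` and `y` are moved, keeping `U5, V44`, so that the
auxiliary vector becomes `X0`. -/
theorem mcl_nf_aux {u v x y : leechLattice} (hu : sqNorm (u : GolayPt → ℤ) = 48)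
    (hv : sqNorm (v : GolayPt → ℤ) = 32)
    (huv : sqNorm ((u - v : leechLattice) : GolayPt → ℤ) = 32) (hx : x ∈ mclSet u v)
    (hy : y ∈ mclSet u v) (hne : y ≠ x) :
    ∃ g : Co0, g • u = U5 ∧ g • v = V44 ∧
      dotInt (X0 : GolayPt → ℤ) ((g • x : leechLattice) : GolayPt → ℤ) = 16 ∧
      ((dotInt (x : GolayPt → ℤ) (y : GolayPt → ℤ) = 16 ∧
        dotInt (X0 : GolayPt → ℤ) ((g • y : leechLattice) : GolayPt → ℤ) = 16) ∨
       (dotInt (x : GolayPt → ℤ) (y : GolayPt → ℤ) = 8 ∧
        dotInt (X0 : GolayPt → ℤ) ((g • y : leechLattice) : GolayPt → ℤ) = 0)) := by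
  obtain ⟨g0, h1, h2, h3⟩ := mcl_nf hu hv huv hx
  have hy1 := (mem_mclSet_iff h1 h2 y).mp hy
  have hne1 : ((g0 • y : leechLattice) : GolayPt → ℤ) ≠ v41 := by
    intro hc
    apply hne
    have : g0 • y = g0 • x := by rw [h3]; exact Subtype.ext hc
    exact MulAction.injective g0 this
  have hdot : dotInt (x : GolayPt → ℤ) (y : GolayPt → ℤ) =
      dotInt v41 ((g0 • y : leechLattice) : GolayPt → ℤ) := by
    rw [← smul_dot g0 x y, h3]; rfl
  obtain ⟨q, hqL, hqn, hq0, hq16, hqx, hqy⟩ := exists_q_mcl2 hy1 hne1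
  obtain ⟨g1, e1, e2, e3⟩ := nf_hs (v := U5) (x' := ⟨q, hqL⟩) (x := V44) U5_norm hqn V44_norm
    hq0 hq16 dotInt_u5_v44
  refine ⟨g1 * g0, by rw [mul_smul, h1, e1], by rw [mul_smul, h2, e3], ?_, ?_⟩
  · rw [mul_smul, ← e2, smul_dot, h3]
    exact hqx
  · rw [hdot, mul_smul, ← e2, smul_dot]
    exact hqy

theorem mcl_nf16 {u v x y : leechLattice} (hu : sqNorm (u : GolayPt → ℤ) = 48)
    (hv : sqNorm (v : GolayPt → ℤ) = 32)
    (huv : sqNorm ((u - v : leechLattice) : GolayPt → ℤ) = 32) (hx : x ∈ mclSet u v)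
    (hy : y ∈ mclSet u v) (hne : y ≠ x)
    (h16 : dotInt (x : GolayPt → ℤ) (y : GolayPt → ℤ) = 16) :
    ∃ g : Co0, g • u = U5 ∧ g • v = V44 ∧ g • x = V41 ∧ g • y = V42 := by
  obtain ⟨g, f1, f2, dx, hd⟩ := mcl_nf_aux hu hv huv hx hy hne
  rcases hd with ⟨-, dy⟩ | ⟨h8, -⟩
  swap
  · rw [h16] at h8; norm_num at h8
  have hx2 := (mem_mclSet_iff f1 f2 x).mp hx
  have hy2 := (mem_mclSet_iff f1 f2 y).mp hy
  rw [dotInt_X0] at dx dy
  have hx4 : ((g • x : leechLattice) : GolayPt → ℤ) none = 4 := by
    have := hx2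
    unfold M275 at this
    rw [Finset.mem_filter, dotInt_v44] at this
    linarith [this.2.2]
  have hy4 : ((g • y : leechLattice) : GolayPt → ℤ) none = 4 := by
    have := hy2
    unfold M275 at this
    rw [Finset.mem_filter, dotInt_v44] at this
    linarith [this.2.2]
  obtain ⟨k, hk, hk0, hxk⟩ := eq_vec44_of_M275 hx2 hx4
  obtain ⟨k', hk', hk0', hyk⟩ := eq_vec44_of_M275 hy2 hy4
  have hkk : k ≠ k' := by
    rintro rfl
    apply hne
    have : g • y = g • x := Subtype.ext (by rw [hyk, hxk])
    exact MulAction.injective g this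
  obtain ⟨σ, hσ, h⟩ := exists_M24_map_list [none, some 0, some 1, some 2] [none, some 0, k, k']
    (by decide) (by simp [Ne.symm hk, Ne.symm hk0, Ne.symm hk', Ne.symm hk0', hkk]) rfl (by simp)
  simp only [List.map_cons, List.map_nil, List.cons.injEq, and_true] at h
  obtain ⟨p1, p2, p3, p4⟩ := h
  refine ⟨permG σ hσ * g, ?_, ?_, ?_, ?_⟩
  · rw [mul_smul, f1]
    apply Subtype.ext
    rw [permG_smul]
    exact u5_comp p1
  · rw [mul_smul, f2]
    apply Subtype.ext
    rw [permG_smul]
    exact vec44_comp p1 p2 _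
  · rw [mul_smul]
    apply Subtype.ext
    rw [permG_smul, hxk]
    exact vec44_comp p1 p3 _
  · rw [mul_smul]
    apply Subtype.ext
    rw [permG_smul, hyk]
    exact vec44_comp p1 p4 _

theorem mcl_nf8 {u v x y : leechLattice} (hu : sqNorm (u : GolayPt → ℤ) = 48)
    (hv : sqNorm (v : GolayPt → ℤ) = 32)
    (huv : sqNorm ((u - v : leechLattice) : GolayPt → ℤ) = 32) (hx : x ∈ mclSet u v)
    (hy : y ∈ mclSet u v) (hne : y ≠ x)
    (h8 : dotInt (x : GolayPt → ℤ) (y : GolayPt → ℤ) = 8) :
    ∃ (g : Co0) (k : GolayPt) (p : Finset GolayPt), g • u = U5 ∧ g • v = V44 ∧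
      ((g • x : leechLattice) : GolayPt → ℤ) = vec44 none k 1 ∧
      ((g • y : leechLattice) : GolayPt → ℤ) = shapeVec 2 p ∅ ∧ p ∈ octads ∧
      (none ∈ p ∧ some 0 ∈ p) ∧ k ∉ p := by
  obtain ⟨g, f1, f2, dx, hd⟩ := mcl_nf_aux hu hv huv hx hy hne
  rcases hd with ⟨h16, -⟩ | ⟨-, dy⟩
  · rw [h16] at h8; norm_num at h8
  have hx2 := (mem_mclSet_iff f1 f2 x).mp hx
  have hy2 := (mem_mclSet_iff f1 f2 y).mp hy
  rw [dotInt_X0] at dx dy
  have hx4 : ((g • x : leechLattice) : GolayPt → ℤ) none = 4 := by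
    have := hx2
    unfold M275 at this
    rw [Finset.mem_filter, dotInt_v44] at this
    linarith [this.2.2]
  have hy4 : ((g • y : leechLattice) : GolayPt → ℤ) none = 2 := by
    have := hy2
    unfold M275 at this
    rw [Finset.mem_filter, dotInt_v44] at this
    linarith [this.2.2]
  obtain ⟨k, hk, hk0, hxk⟩ := eq_vec44_of_M275 hx2 hx4
  have hyB : ((g • y : leechLattice) : GolayPt → ℤ) ∈ HB := by
    have := hy2
    rw [M275_eq, Finset.mem_union, Finset.mem_union] at this
    rcases this with (h | h) | h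
    · have := MA_apply_none h
      rw [hy4] at this; norm_num at this
    · exact h
    · have := MC_apply_none h
      rw [hy4] at this; norm_num at this
  unfold HB at hyB
  rw [Finset.mem_image] at hyB
  obtain ⟨p, hp, hyp⟩ := hyB
  rw [Finset.mem_filter, mem_octF] at hp
  refine ⟨g, k, p, f1, f2, hxk, hyp.symm, hp.1, hp.2, ?_⟩
  intro hkp
  have hd : dotInt ((g • x : leechLattice) : GolayPt → ℤ) ((g • y : leechLattice) : GolayPt → ℤ)
      = 8 := by rw [smul_dot, h8]
  rw [hxk, ← hyp, dotInt_vec44_left] at hd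
  unfold shapeVec at hd
  rw [if_pos hp.2.1, if_pos hkp, if_neg (Finset.notMem_empty _)] at hd
  norm_num at hd

theorem mcl_dot_cases {u v x y : leechLattice} (hu : sqNorm (u : GolayPt → ℤ) = 48)
    (hv : sqNorm (v : GolayPt → ℤ) = 32)
    (huv : sqNorm ((u - v : leechLattice) : GolayPt → ℤ) = 32) (hx : x ∈ mclSet u v)
    (hy : y ∈ mclSet u v) (hne : y ≠ x) :
    dotInt (x : GolayPt → ℤ) (y : GolayPt → ℤ) = 16 ∨
      dotInt (x : GolayPt → ℤ) (y : GolayPt → ℤ) = 8 := by
  obtain ⟨g, f1, f2, dx, hd⟩ := mcl_nf_aux hu hv huv hx hy hne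
  rcases hd with ⟨h, -⟩ | ⟨h, -⟩
  · exact Or.inl h
  · exact Or.inr h

theorem mcl_rank3 {u v x : leechLattice} (hu : sqNorm (u : GolayPt → ℤ) = 48)
    (hv : sqNorm (v : GolayPt → ℤ) = 32)
    (huv : sqNorm ((u - v : leechLattice) : GolayPt → ℤ) = 32) (hx : x ∈ mclSet u v) :
    {y : leechLattice | y ∈ mclSet u v ∧
      dotInt (x : GolayPt → ℤ) (y : GolayPt → ℤ) = 8}.ncard = 112 ∧
    {y : leechLattice | y ∈ mclSet u v ∧ (y ≠ x ∧
      dotInt (x : GolayPt → ℤ) (y : GolayPt → ℤ) = 16)}.ncard = 162 ∧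
    ∀ y ∈ mclSet u v, ∀ y' ∈ mclSet u v, y ≠ x → y' ≠ x →
      dotInt (x : GolayPt → ℤ) (y : GolayPt → ℤ) = dotInt (x : GolayPt → ℤ) (y' : GolayPt → ℤ) →
      ∃ g : Co0, g • u = u ∧ g • v = v ∧ g • x = x ∧ g • y = y' := by
  obtain ⟨g, a1, a2, a3⟩ := mcl_nf hu hv huv hx
  have hdot : ∀ y : leechLattice, dotInt (x : GolayPt → ℤ) (y : GolayPt → ℤ) =
      dotInt v41 ((g • y : leechLattice) : GolayPt → ℤ) := by
    intro y
    rw [← smul_dot g x y, a3]; rfl
  have hneq : ∀ y : leechLattice, y ≠ x ↔ ((g • y : leechLattice) : GolayPt → ℤ) ≠ v41 := by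
    intro y
    constructor
    · intro h hc
      apply h
      have : g • y = g • x := by rw [a3]; exact Subtype.ext hc
      exact MulAction.injective g this
    · intro h hc
      apply h
      rw [hc, a3]; rfl
  refine ⟨?_, ?_, ?_⟩
  · rw [ncard_mcl_filter a1 a2 _ (fun z => dotInt v41 z = 8) (fun y => by rw [hdot y]),
      card_M275_filter_eight]
  · rw [ncard_mcl_filter a1 a2 _ (fun z => z ≠ v41 ∧ dotInt v41 z = 16)
      (fun y => by rw [hdot y, hneq y]), card_M275_filter_sixteen]
  · intro y hy y' hy' hne hne' hdd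
    rcases mcl_dot_cases hu hv huv hx hy hne with h16 | h8
    · obtain ⟨G, b1, b2, b3, b4⟩ := mcl_nf16 hu hv huv hx hy hne h16
      obtain ⟨G', c1, c2, c3, c4⟩ := mcl_nf16 hu hv huv hx hy' hne' (by rw [← hdd]; exact h16)
      refine ⟨G'⁻¹ * G, ?_, ?_, ?_, ?_⟩
      · rw [mul_smul, b1, ← c1, inv_smul_smul]
      · rw [mul_smul, b2, ← c2, inv_smul_smul]
      · rw [mul_smul, b3, ← c3, inv_smul_smul]
      · rw [mul_smul, b4, ← c4, inv_smul_smul]
    · obtain ⟨G, k, p, b1, b2, b3, b4, hp, hp1, hkp⟩ := mcl_nf8 hu hv huv hx hy hne h8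
      obtain ⟨G', k', p', c1, c2, c3, c4, hp', hp1', hkp'⟩ :=
        mcl_nf8 hu hv huv hx hy' hne' (by rw [← hdd]; exact h8)
      obtain ⟨σ, hσ, e1, e2, e3, e4⟩ := exists_perm_octad_out hp hp' hp1 hp1' hkp hkp'
      have d1 : permG σ hσ • U5 = U5 := Subtype.ext (u5_comp e1)
      have d2 : permG σ hσ • V44 = V44 := Subtype.ext (vec44_comp e1 e2 _)
      have d3 : permG σ hσ • (G • x) = G' • x := by
        apply Subtype.ext
        rw [permG_smul, b3, c3]
        exact vec44_comp e1 e3 _
      have d4 : permG σ hσ • (G • y) = G' • y' := by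
        apply Subtype.ext
        rw [permG_smul, b4, c4]
        exact shapeVec_comp e4
      refine ⟨G'⁻¹ * permG σ hσ * G, ?_, ?_, ?_, ?_⟩
      · rw [mul_smul, mul_smul, b1, d1, ← c1, inv_smul_smul]
      · rw [mul_smul, mul_smul, b2, d2, ← c2, inv_smul_smul]
      · rw [mul_smul, mul_smul, d3, inv_smul_smul]
      · rw [mul_smul, mul_smul, d4, inv_smul_smul]


end Cfsg.Agent.Helper27
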