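import Mathlib
import Cfsg.Agent.Lib.Helper27.HSSimple
import Cfsg.Agent.Lib.Helper27.LeechMcL2

set_option autoImplicit false
set_option maxRecDepth 8000
open Cfsg

/-! The minimal vectors having inner product 16 with the standard vector of norm 48: their twelve shapes, and a transitivity statement for the code's group on octads with marked points. -/

namespace Cfsg.Agent.Helper27
open Cfsg.Agent.S0394 (FA FB FC idxA idxB fC mem_idxA mem_idxB mem_octads_iff aJW odd_fC famC_mem
  octF mem_octF instFintypeGolayCode card_golayCode fC_injective famB_mem)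
open Cfsg.Agent.Helper29 Cfsg.Agent.Helper29.M24
open scoped Pointwise
open MulAction



/-- General coordinate formula for the odd minimal vectors. -/
theorem fC_apply (j : GolayPt) (c : golayCode) (i : GolayPt) :
    fC (j, c) i = if i = j then (if c.1 j = 0 then -3 else 3)
      else (if c.1 i = 0 then 1 else -1) := by
  unfold fC aJW
  simp only
  by_cases hi : i = j
  · subst hi
    rw [if_pos rfl, if_pos rfl]
    split_ifs <;> norm_num
  · rw [if_neg hi, if_neg hi]
    split_ifs <;> norm_num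

/-- Classification of the minimal vectors having inner product 16 with `u5`. -/
theorem mem_Z_cases {z : GolayPt → ℤ} (hF : z ∈ F32) (hP : dotInt u5 z = 16) :
    (∃ j, j ≠ none ∧ z = vec44 none j (-1)) ∨
    (∃ p ∈ octads, none ∉ p ∧ z = shapeVec 2 p ∅) ∨
    (∃ p ∈ octads, none ∈ p ∧ ∃ N : Finset GolayPt, N ⊆ p ∧ N.card = 2 ∧ none ∉ N ∧
      z = shapeVec 2 p N) ∨
    (∃ c : golayCode, c.1 none ≠ 0 ∧ (support₂ c.1).card = 12 ∧ z = fC (none, c)) ∨
    (∃ j, j ≠ none ∧ ∃ c : golayCode, c.1 j ≠ 0 ∧ c.1 none = 0 ∧ (support₂ c.1).card = 8 ∧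
      z = fC (j, c)) := by
  have hzL := (mem_F32.mp hF)
  have hF' := hF
  unfold F32 at hF'
  rw [Finset.mem_union, Finset.mem_union] at hF'
  rcases hF' with (hA | hB) | hC
  · left
    have hA' := hA
    unfold FA at hA'
    rw [Finset.mem_image] at hA'
    obtain ⟨p, hp, hzp⟩ := hA'
    rw [mem_idxA] at hp
    have hN : p.2.card ≤ 2 := by rw [← hp.1]; exact Finset.card_le_card hp.2
    have hval : shapeVec 4 p.1 p.2 none = 0 ∨ shapeVec 4 p.1 p.2 none = 4 ∨
        shapeVec 4 p.1 p.2 none = -4 := by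
      unfold shapeVec; split_ifs <;> simp
    have h4 : z none = 4 := by
      have hd2 := hP
      rw [dotInt_u5, ← hzp, sum_shapeVec 4 hp.2, hp.1] at hd2
      rw [← hzp]
      have : (p.2.card : ℤ) ≤ 2 := by exact_mod_cast hN
      have : (0 : ℤ) ≤ (p.2.card : ℤ) := Int.natCast_nonneg _
      push_cast at hd2
      omega
    obtain ⟨d, hd', s, hs, hzs⟩ := eq_vec44_of_apply hzL.1 hzL.2 h4
    have h5 := hP
    rw [hzs, dotInt_comm', dotInt_vec44_left, u5_apply, u5_apply, if_pos rfl, if_neg hd'] at h5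
    have hs1 : s = -1 := by linarith
    subst hs1
    exact ⟨d, hd', hzs⟩
  · right
    unfold FB at hB
    rw [Finset.mem_image] at hB
    obtain ⟨q, hq, rfl⟩ := hB
    rw [mem_idxB] at hq
    have h8 : q.1.card = 8 := octad_card hq.1
    have hd := hP
    rw [dotInt_u5, sum_shapeVec 2 hq.2.1, h8] at hd
    have hNle : q.2.card ≤ 8 := by rw [← h8]; exact Finset.card_le_card hq.2.1
    by_cases hin : none ∈ q.1
    · by_cases hinN : none ∈ q.2
      · exfalso
        unfold shapeVec at hd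
        rw [if_pos hin, if_pos hinN] at hd
        have : (0 : ℤ) ≤ (q.2.card : ℤ) := Int.natCast_nonneg _
        push_cast at hd
        omega
      · right; left
        unfold shapeVec at hd
        rw [if_pos hin, if_neg hinN] at hd
        have hN2 : q.2.card = 2 := by
          have : (0 : ℤ) ≤ (q.2.card : ℤ) := Int.natCast_nonneg _
          push_cast at hd
          omega
        exact ⟨q.1, hq.1, hin, q.2, hq.2.1, hN2, hinN, rfl⟩
    · left
      unfold shapeVec at hd
      rw [if_neg hin] at hd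
      have hN0 : q.2.card = 0 := by
        have : (0 : ℤ) ≤ (q.2.card : ℤ) := Int.natCast_nonneg _
        push_cast at hd
        omega
      have hN' : q.2 = ∅ := Finset.card_eq_zero.mp hN0
      exact ⟨q.1, hq.1, hin, by rw [hN']⟩
  · right; right; right
    unfold FC at hC
    rw [Finset.mem_image] at hC
    obtain ⟨⟨j, c⟩, -, rfl⟩ := hC
    have hd := hP
    rw [dotInt_u5, sum_fC, fC_apply] at hd
    simp only at hd
    have hW := golay_weight c.2
    by_cases hj : none = j
    · subst hj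
      left
      rw [if_pos rfl] at hd
      by_cases h0 : c.1 none = 0
      · exfalso
        rw [if_pos h0, if_pos h0] at hd
        have : (0 : ℤ) ≤ ((support₂ c.1).card : ℤ) := Int.natCast_nonneg _
        omega
      · rw [if_neg h0, if_neg h0] at hd
        refine ⟨c, h0, ?_, rfl⟩
        omega
    · right
      rw [if_neg hj] at hd
      have hpos1 := support₂_card_pos (w := c.1) (i := none)
      have hpos2 := support₂_card_pos (w := c.1) (i := j)
      by_cases h0 : c.1 none = 0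
      · rw [if_pos h0] at hd
        by_cases h1 : c.1 j = 0
        · exfalso
          rw [if_pos h1] at hd
          rcases hW with h | h | h | h | h <;> rw [h] at hd <;> norm_num at hd
        · rw [if_neg h1] at hd
          refine ⟨j, fun h => hj h.symm, c, h1, h0, ?_, rfl⟩
          omega
      · exfalso
        rw [if_neg h0] at hd
        have := hpos1 h0
        by_cases h1 : c.1 j = 0
        · rw [if_pos h1] at hd
          omega
        · rw [if_neg h1] at hd
          rcases hW with h | h | h | h | h <;> rw [h] at hd <;> norm_num at hd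




/-- Extend a short duplicate-free list inside an octad to one of length five. -/
theorem exists_extend5 {p : Finset GolayPt} (hp : p.card = 8) {L : List GolayPt} (hL : L.Nodup)
    (h5 : L.length ≤ 5) (hLp : ∀ a ∈ L, a ∈ p) :
    ∃ M : List GolayPt, (L ++ M).Nodup ∧ (L ++ M).length = 5 ∧ ∀ a ∈ L ++ M, a ∈ p := by
  have hsub : L.toFinset ⊆ p := by
    intro a ha
    exact hLp a (List.mem_toFinset.mp ha)
  have hc : L.toFinset.card = L.length := List.toFinset_card_of_nodup hL
  have hcard : 5 - L.length ≤ (p \ L.toFinset).card := by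
    rw [Finset.card_sdiff_of_subset hsub, hp, hc]; omega
  obtain ⟨t, ht, htc⟩ := Finset.exists_subset_card_eq hcard
  refine ⟨t.toList, ?_, ?_, ?_⟩
  · rw [List.nodup_append]
    refine ⟨hL, Finset.nodup_toList t, ?_⟩
    intro a ha b hb hab
    rw [Finset.mem_toList] at hb
    have := ht hb
    rw [Finset.mem_sdiff, List.mem_toFinset] at this
    exact this.2 (hab ▸ ha)
  · rw [List.length_append, Finset.length_toList, htc]; omega
  · intro a ha
    rw [List.mem_append] at ha
    rcases ha with ha | ha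
    · exact hLp a ha
    · rw [Finset.mem_toList] at ha
      exact (Finset.mem_sdiff.mp (ht ha)).1

theorem bp5_nodup : [bp 0, bp 1, bp 2, bp 3, bp 4].Nodup := by decide

/-- Standard form for an octad with five marked points and an outside point. -/
theorem exists_std5 {p : Finset GolayPt} (hp : p ∈ octads) {L : List GolayPt} (hL : L.Nodup)
    (h5 : L.length = 5) (hLp : ∀ a ∈ L, a ∈ p) {k : GolayPt} (hk : k ∉ p) :
    ∃ τ ∈ M24, τ • oct0 = p ∧ [bp 0, bp 1, bp 2, bp 3, bp 4].map τ = L ∧ τ (bp 6) = k := by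
  obtain ⟨τ0, hτ0, hmap⟩ := exists_M24_map_list [bp 0, bp 1, bp 2, bp 3, bp 4] L bp5_nodup hL
    (by rw [h5]; rfl) (by norm_num)
  have e0 : τ0 • oct0 = p := by
    apply Cfsg.Agent.S0363.octad_unique (s := L.toFinset) (smul_mem_octads hτ0 oct0_mem) hp
    · rw [List.toFinset_card_of_nodup hL, h5]
    · intro a ha
      rw [List.mem_toFinset, ← hmap, List.mem_map] at ha
      obtain ⟨b, hb, rfl⟩ := ha
      apply Finset.smul_mem_smul_finset
      simp only [List.mem_cons, List.not_mem_nil, or_false] at hb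
      rcases hb with rfl | rfl | rfl | rfl | rfl
      · exact bp_mem_oct0 0 (by norm_num)
      · exact bp_mem_oct0 1 (by norm_num)
      · exact bp_mem_oct0 2 (by norm_num)
      · exact bp_mem_oct0 3 (by norm_num)
      · exact bp_mem_oct0 4 (by norm_num)
    · intro a ha
      exact hLp a (List.mem_toFinset.mp ha)
  have hy : τ0⁻¹ k ∉ oct0 := by
    intro hmem
    apply hk
    rw [← e0]
    have := Finset.smul_mem_smul_finset (a := τ0) hmem
    rwa [Equiv.Perm.smul_def, perm_apply_inv] at this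
  obtain ⟨h, hh, hhy⟩ := exists_grp6_map _ hy
  refine ⟨τ0 * h, Subgroup.mul_mem _ hτ0 (grp_le_M24 6 hh), ?_, ?_, ?_⟩
  · rw [mul_smul, grp6_smul_oct0 h hh, e0]
  · rw [← hmap]
    simp only [List.map_cons, List.map_nil, Equiv.Perm.mul_apply]
    rw [grp6_fix h hh _ (bp_mem_oct0 0 (by norm_num)), grp6_fix h hh _ (bp_mem_oct0 1 (by norm_num)),
      grp6_fix h hh _ (bp_mem_oct0 2 (by norm_num)), grp6_fix h hh _ (bp_mem_oct0 3 (by norm_num)),
      grp6_fix h hh _ (bp_mem_oct0 4 (by norm_num))]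
  · rw [Equiv.Perm.mul_apply, hhy, perm_apply_inv]

/-- The code's group maps an octad with up to five marked points and an outside point to any
other such configuration. -/
theorem exists_perm_octad5 {p p' : Finset GolayPt} (hp : p ∈ octads) (hp' : p' ∈ octads)
    {L L' : List GolayPt} (hL : L.Nodup) (hL' : L'.Nodup) (hlen : L.length = L'.length)
    (h5 : L.length ≤ 5) (hLp : ∀ a ∈ L, a ∈ p) (hLp' : ∀ a ∈ L', a ∈ p') {k k' : GolayPt}
    (hk : k ∉ p) (hk' : k' ∉ p') :
    ∃ σ ∈ M24, L'.map σ = L ∧ σ k' = k ∧ ∀ i, σ i ∈ p ↔ i ∈ p' := by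
  obtain ⟨M, hM1, hM2, hM3⟩ := exists_extend5 (octad_card hp) hL h5 hLp
  obtain ⟨M', hM1', hM2', hM3'⟩ := exists_extend5 (octad_card hp') hL' (hlen ▸ h5) hLp'
  obtain ⟨τ, hτ, a0, a1, a2⟩ := exists_std5 hp hM1 hM2 hM3 hk
  obtain ⟨τ', hτ', b0, b1, b2⟩ := exists_std5 hp' hM1' hM2' hM3' hk'
  refine ⟨τ * τ'⁻¹, Subgroup.mul_mem _ hτ (Subgroup.inv_mem _ hτ'), ?_, ?_, ?_⟩
  · have e : (L' ++ M').map (τ * τ'⁻¹) = L ++ M := by
      rw [← b1, ← a1, List.map_map]
      apply List.map_congr_left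
      intro a _
      simp only [Function.comp_apply, Equiv.Perm.mul_apply, perm_inv_apply]
    rw [List.map_append] at e
    exact (List.append_inj e (by rw [List.length_map, hlen])).1
  · have c3 : τ'⁻¹ k' = bp 6 := by rw [← b2, perm_inv_apply]
    rw [Equiv.Perm.mul_apply, c3, a2]
  · have hs : (τ * τ'⁻¹) • p' = p := by
      rw [mul_smul, ← b0, inv_smul_smul, a0]
    intro i
    rw [← hs]
    constructor
    · intro hi
      obtain ⟨j, hj, hji⟩ := Finset.mem_smul_finset.mp hi
      have : j = i := (τ * τ'⁻¹).injective hji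
      rw [← this]; exact hj
    · intro hi
      exact Finset.smul_mem_smul_finset hi




/-- Code words of a given weight with prescribed behaviour at the two base points. -/
noncomputable def codeF (w : ℕ) (a b : Bool) : Finset golayCode :=
  (Finset.univ : Finset golayCode).filter (fun c => (support₂ c.1).card = w ∧
    decide (none ∈ support₂ c.1) = a ∧ decide (some 0 ∈ support₂ c.1) = b)

theorem mem_codeF {w : ℕ} {a b : Bool} {c : golayCode} : c ∈ codeF w a b ↔
    (support₂ c.1).card = w ∧ decide (none ∈ support₂ c.1) = a ∧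
      decide (some 0 ∈ support₂ c.1) = b := by
  unfold codeF
  rw [Finset.mem_filter]
  exact ⟨fun h => h.2, fun h => ⟨Finset.mem_univ _, h⟩⟩

theorem card_codeF (w : ℕ) (a b : Bool) : (codeF w a b).card =
    countS (fun m => pop24 m == w && (m.testBit 23 == a && m.testBit 0 == b)) 4096 := by
  have h2 := ncard_words w (fun Y => decide (none ∈ Y) = a ∧ decide (some 0 ∈ Y) = b)
    (fun m => (m.testBit 23 == a && m.testBit 0 == b)) (by
    intro n _ _
    have e1 : (none : GolayPt) ∈ maskSet (cw n) ↔ (cw n).testBit 23 = true :=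
      mem_maskSet_idx _ 23 (by norm_num)
    have e2 : (some 0 : GolayPt) ∈ maskSet (cw n) ↔ (cw n).testBit 0 = true :=
      mem_maskSet_idx _ 0 (by norm_num)
    have d1 : decide ((none : GolayPt) ∈ maskSet (cw n)) = (cw n).testBit 23 := by
      simp only [e1, Bool.decide_eq_true]
    have d2 : decide ((some 0 : GolayPt) ∈ maskSet (cw n)) = (cw n).testBit 0 := by
      simp only [e2, Bool.decide_eq_true]
    simp only [Bool.and_eq_true, beq_iff_eq]
    rw [d1, d2])
  rw [← h2, ← Set.ncard_coe_finset]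
  have himg : {Y | Y ∈ wordsOfWeight (golayCode : Set (GolayPt → ZMod 2)) w ∧
      (decide (none ∈ Y) = a ∧ decide (some 0 ∈ Y) = b)} =
      (fun c : golayCode => support₂ c.1) '' (↑(codeF w a b) : Set golayCode) := by
    ext Y
    constructor
    · rintro ⟨⟨⟨c, hc, rfl⟩, hw⟩, hab⟩
      exact ⟨⟨c, hc⟩, Finset.mem_coe.mpr (mem_codeF.mpr ⟨hw, hab⟩), rfl⟩
    · rintro ⟨c, hc, rfl⟩
      have := mem_codeF.mp (Finset.mem_coe.mp hc)
      exact ⟨⟨⟨c.1, c.2, rfl⟩, this.1⟩, this.2⟩
  rw [himg, Set.ncard_image_of_injective]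
  intro c c' h
  exact Subtype.ext (support₂_injective h)

theorem card_codeF_8_tt : (codeF 8 true true).card = 77 := by
  rw [card_codeF]; decide +kernel
theorem card_codeF_8_tf : (codeF 8 true false).card = 176 := by
  rw [card_codeF]; decide +kernel
theorem card_codeF_8_ft : (codeF 8 false true).card = 176 := by
  rw [card_codeF]; decide +kernel
theorem card_codeF_8_ff : (codeF 8 false false).card = 330 := by
  rw [card_codeF]; decide +kernel
theorem card_codeF_12_tt : (codeF 12 true true).card = 616 := by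
  rw [card_codeF]; decide +kernel
theorem card_codeF_12_tf : (codeF 12 true false).card = 672 := by
  rw [card_codeF]; decide +kernel




/-! The twelve shapes of minimal vectors having inner product 16 with `u5`, sorted by their
coordinates at the two base points. -/

def TyA1 (z : GolayPt → ℤ) : Prop := ∃ j, j ≠ none ∧ j ≠ some 0 ∧ z = vec44 none j (-1)
def TyB1a (z : GolayPt → ℤ) : Prop :=
  ∃ p ∈ octads, none ∉ p ∧ some 0 ∉ p ∧ z = shapeVec 2 p ∅
def TyB1b (z : GolayPt → ℤ) : Prop :=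
  ∃ p ∈ octads, none ∉ p ∧ some 0 ∈ p ∧ z = shapeVec 2 p ∅
def TyB2a (z : GolayPt → ℤ) : Prop :=
  ∃ p ∈ octads, none ∈ p ∧ some 0 ∉ p ∧ ∃ N : Finset GolayPt, N ⊆ p ∧ N.card = 2 ∧ none ∉ N ∧
    z = shapeVec 2 p N
def TyB2b (z : GolayPt → ℤ) : Prop :=
  ∃ p ∈ octads, none ∈ p ∧ some 0 ∈ p ∧ ∃ N : Finset GolayPt, N ⊆ p ∧ N.card = 2 ∧ none ∉ N ∧
    some 0 ∉ N ∧ z = shapeVec 2 p N
def TyB2c (z : GolayPt → ℤ) : Prop :=
  ∃ p ∈ octads, none ∈ p ∧ some 0 ∈ p ∧ ∃ m ∈ p, m ≠ none ∧ m ≠ some 0 ∧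
    z = shapeVec 2 p {some 0, m}
def TyC1a (z : GolayPt → ℤ) : Prop :=
  ∃ c : golayCode, c.1 none ≠ 0 ∧ c.1 (some 0) ≠ 0 ∧ (support₂ c.1).card = 12 ∧ z = fC (none, c)
def TyC1b (z : GolayPt → ℤ) : Prop :=
  ∃ c : golayCode, c.1 none ≠ 0 ∧ c.1 (some 0) = 0 ∧ (support₂ c.1).card = 12 ∧ z = fC (none, c)
def TyC2a (z : GolayPt → ℤ) : Prop :=
  ∃ c : golayCode, c.1 none = 0 ∧ c.1 (some 0) ≠ 0 ∧ (support₂ c.1).card = 8 ∧
    z = fC (some 0, c)
def TyC2b (z : GolayPt → ℤ) : Prop :=
  ∃ j, j ≠ none ∧ j ≠ some 0 ∧ ∃ c : golayCode, c.1 j ≠ 0 ∧ c.1 none = 0 ∧ c.1 (some 0) = 0 ∧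
    (support₂ c.1).card = 8 ∧ z = fC (j, c)
def TyC2c (z : GolayPt → ℤ) : Prop :=
  ∃ j, j ≠ none ∧ j ≠ some 0 ∧ ∃ c : golayCode, c.1 j ≠ 0 ∧ c.1 none = 0 ∧ c.1 (some 0) ≠ 0 ∧
    (support₂ c.1).card = 8 ∧ z = fC (j, c)

theorem Z_types {z : GolayPt → ℤ} (hF : z ∈ F32) (hP : dotInt u5 z = 16) :
    z = vec44 none (some 0) (-1) ∨ TyA1 z ∨ TyB1a z ∨ TyB1b z ∨ TyB2a z ∨ TyB2b z ∨ TyB2c z ∨
      TyC1a z ∨ TyC1b z ∨ TyC2a z ∨ TyC2b z ∨ TyC2c z := by
  rcases mem_Z_cases hF hP with ⟨j, hj, rfl⟩ | ⟨p, hp, hn, rfl⟩ | ⟨p, hp, hn, N, hNp, hN2, hnN, rfl⟩ |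
    ⟨c, hc, h12, rfl⟩ | ⟨j, hj, c, hcj, hcn, h8, rfl⟩
  · by_cases h0 : j = some 0
    · subst h0; left; rfl
    · right; left; exact ⟨j, hj, h0, rfl⟩
  · by_cases h0 : some 0 ∈ p
    · right; right; right; left; exact ⟨p, hp, hn, h0, rfl⟩
    · right; right; left; exact ⟨p, hp, hn, h0, rfl⟩
  · by_cases h0 : some 0 ∈ p
    · by_cases h0N : some 0 ∈ N
      · right; right; right; right; right; right; left
        obtain ⟨a, b, hab, rfl⟩ := Finset.card_eq_two.mp hN2
        rw [Finset.mem_insert, Finset.mem_singleton] at h0N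
        rcases h0N with rfl | rfl
        · refine ⟨p, hp, hn, h0, b, hNp (by simp), ?_, Ne.symm hab, rfl⟩
          rintro rfl; exact hnN (by simp)
        · refine ⟨p, hp, hn, h0, a, hNp (by simp), ?_, hab, ?_⟩
          · rintro rfl; exact hnN (by simp)
          · rw [Finset.pair_comm]
      · right; right; right; right; right; left
        exact ⟨p, hp, hn, h0, N, hNp, hN2, hnN, h0N, rfl⟩
    · right; right; right; right; left
      exact ⟨p, hp, hn, h0, N, hNp, hN2, hnN, rfl⟩
  · by_cases h0 : c.1 (some 0) = 0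
    · right; right; right; right; right; right; right; right; left
      exact ⟨c, hc, h0, h12, rfl⟩
    · right; right; right; right; right; right; right; left
      exact ⟨c, hc, h0, h12, rfl⟩
  · by_cases h0 : j = some 0
    · subst h0
      right; right; right; right; right; right; right; right; right; left
      exact ⟨c, hcn, hcj, h8, rfl⟩
    · by_cases hc0 : c.1 (some 0) = 0
      · right; right; right; right; right; right; right; right; right; right; left
        exact ⟨j, hj, h0, c, hcj, hcn, hc0, h8, rfl⟩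
      · right; right; right; right; right; right; right; right; right; right; right
        exact ⟨j, hj, h0, c, hcj, hcn, hc0, h8, rfl⟩

/-! Coordinates at the two base points. -/

theorem TyA1.vals {z : GolayPt → ℤ} (h : TyA1 z) : z none = 4 ∧ z (some 0) = 0 := by
  obtain ⟨j, hj, hj0, rfl⟩ := h
  exact ⟨vec44_apply_left (Ne.symm hj) _, vec44_apply_other (by decide) (Ne.symm hj0) _⟩

theorem TyB1a.vals {z : GolayPt → ℤ} (h : TyB1a z) : z none = 0 ∧ z (some 0) = 0 := by
  obtain ⟨p, -, hn, h0, rfl⟩ := h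
  unfold shapeVec
  rw [if_neg hn, if_neg h0]; exact ⟨rfl, rfl⟩

theorem TyB1b.vals {z : GolayPt → ℤ} (h : TyB1b z) : z none = 0 ∧ z (some 0) = 2 := by
  obtain ⟨p, -, hn, h0, rfl⟩ := h
  unfold shapeVec
  rw [if_neg hn, if_pos h0, if_neg (Finset.notMem_empty _)]; exact ⟨rfl, rfl⟩

theorem TyB2a.vals {z : GolayPt → ℤ} (h : TyB2a z) : z none = 2 ∧ z (some 0) = 0 := by
  obtain ⟨p, -, hn, h0, N, -, -, hnN, rfl⟩ := h
  unfold shapeVec
  rw [if_pos hn, if_neg hnN, if_neg h0]; exact ⟨rfl, rfl⟩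

theorem TyB2b.vals {z : GolayPt → ℤ} (h : TyB2b z) : z none = 2 ∧ z (some 0) = 2 := by
  obtain ⟨p, -, hn, h0, N, -, -, hnN, h0N, rfl⟩ := h
  unfold shapeVec
  rw [if_pos hn, if_neg hnN, if_pos h0, if_neg h0N]; exact ⟨rfl, rfl⟩

theorem TyB2c.vals {z : GolayPt → ℤ} (h : TyB2c z) : z none = 2 ∧ z (some 0) = -2 := by
  obtain ⟨p, -, hn, h0, m, -, hmn, -, rfl⟩ := h
  unfold shapeVec
  have h1 : (none : GolayPt) ∉ ({some 0, m} : Finset GolayPt) := by
    rw [Finset.mem_insert, Finset.mem_singleton]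
    rintro (h | h)
    · exact absurd h (by decide)
    · exact hmn h.symm
  rw [if_pos hn, if_neg h1, if_pos h0, if_pos (Finset.mem_insert_self _ _)]; exact ⟨rfl, rfl⟩

theorem TyC1a.vals {z : GolayPt → ℤ} (h : TyC1a z) : z none = 3 ∧ z (some 0) = -1 := by
  obtain ⟨c, hn, h0, -, rfl⟩ := h
  rw [fC_apply, fC_apply, if_pos rfl, if_neg hn, if_neg (by decide), if_neg h0]
  exact ⟨rfl, rfl⟩

theorem TyC1b.vals {z : GolayPt → ℤ} (h : TyC1b z) : z none = 3 ∧ z (some 0) = 1 := by
  obtain ⟨c, hn, h0, -, rfl⟩ := h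
  rw [fC_apply, fC_apply, if_pos rfl, if_neg hn, if_neg (by decide), if_pos h0]
  exact ⟨rfl, rfl⟩

theorem TyC2a.vals {z : GolayPt → ℤ} (h : TyC2a z) : z none = 1 ∧ z (some 0) = 3 := by
  obtain ⟨c, hn, h0, -, rfl⟩ := h
  rw [fC_apply, fC_apply, if_neg (by decide), if_pos hn, if_pos rfl, if_neg h0]
  exact ⟨rfl, rfl⟩

theorem TyC2b.vals {z : GolayPt → ℤ} (h : TyC2b z) : z none = 1 ∧ z (some 0) = 1 := by
  obtain ⟨j, hj, hj0, c, -, hn, h0, -, rfl⟩ := h
  rw [fC_apply, fC_apply, if_neg (Ne.symm hj), if_pos hn, if_neg (Ne.symm hj0), if_pos h0]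
  exact ⟨rfl, rfl⟩

theorem TyC2c.vals {z : GolayPt → ℤ} (h : TyC2c z) : z none = 1 ∧ z (some 0) = -1 := by
  obtain ⟨j, hj, hj0, c, -, hn, h0, -, rfl⟩ := h
  rw [fC_apply, fC_apply, if_neg (Ne.symm hj), if_pos hn, if_neg (Ne.symm hj0), if_neg h0]
  exact ⟨rfl, rfl⟩


end Cfsg.Agent.Helper27
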