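import Mathlib
import Cfsg.Agent.Lib.Helper27.Co3Types

set_option autoImplicit false
set_option maxRecDepth 8000
open Cfsg

/-! Counting the classes of the 11178 minimal vectors by their inner product with a fixed one. -/

namespace Cfsg.Agent.Helper27
open Cfsg.Agent.S0394 (FA FB FC idxA idxB fC mem_idxA mem_idxB mem_octads_iff aJW odd_fC famC_mem
  octF mem_octF instFintypeGolayCode card_golayCode fC_injective famB_mem)
open Cfsg.Agent.Helper29 Cfsg.Agent.Helper29.M24
open scoped Pointwise
open MulAction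



/-- the second base vector as a function -/
def x0f : GolayPt → ℤ := vec44 none (some 0) (-1)

theorem dotInt_x0f (y : GolayPt → ℤ) : dotInt x0f y = 4 * y none - 4 * y (some 0) := by
  unfold x0f
  rw [dotInt_vec44_left]; ring

theorem octad_code {p : Finset GolayPt} (hp : p ∈ octads) (a b : Bool)
    (ha : decide (none ∈ p) = a) (hb : decide (some 0 ∈ p) = b) :
    ∃ c ∈ codeF 8 a b, support₂ c.1 = p := by
  obtain ⟨w, hw, rfl, h8⟩ := (mem_octads_iff p).mp hp
  exact ⟨⟨w, hw⟩, mem_codeF.mpr ⟨h8, ha, hb⟩, rfl⟩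

noncomputable def PA1 : Finset (GolayPt → ℤ) :=
  (((Finset.univ : Finset GolayPt).erase none).erase (some 0)).image (fun j => vec44 none j (-1))
noncomputable def PB1a : Finset (GolayPt → ℤ) :=
  (codeF 8 false false).image (fun c => shapeVec 2 (support₂ c.1) ∅)
noncomputable def PB1b : Finset (GolayPt → ℤ) :=
  (codeF 8 false true).image (fun c => shapeVec 2 (support₂ c.1) ∅)
noncomputable def PB2a : Finset (GolayPt → ℤ) :=
  ((codeF 8 true false).sigma
    (fun c => Finset.powersetCard 2 ((support₂ c.1).erase none))).image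
    (fun q => shapeVec 2 (support₂ q.1.1) q.2)
noncomputable def PB2b : Finset (GolayPt → ℤ) :=
  ((codeF 8 true true).sigma
    (fun c => Finset.powersetCard 2 (((support₂ c.1).erase none).erase (some 0)))).image
    (fun q => shapeVec 2 (support₂ q.1.1) q.2)
noncomputable def PB2c : Finset (GolayPt → ℤ) :=
  ((codeF 8 true true).sigma
    (fun c => ((support₂ c.1).erase none).erase (some 0))).image
    (fun q => shapeVec 2 (support₂ q.1.1) {some 0, q.2})
noncomputable def PC1a : Finset (GolayPt → ℤ) :=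
  (codeF 12 true true).image (fun c => fC (none, c))
noncomputable def PC1b : Finset (GolayPt → ℤ) :=
  (codeF 12 true false).image (fun c => fC (none, c))
noncomputable def PC2a : Finset (GolayPt → ℤ) :=
  (codeF 8 false true).image (fun c => fC (some 0, c))
noncomputable def PC2b : Finset (GolayPt → ℤ) :=
  ((codeF 8 false false).sigma (fun c => support₂ c.1)).image (fun q => fC (q.2, q.1))
noncomputable def PC2c : Finset (GolayPt → ℤ) :=
  ((codeF 8 false true).sigma (fun c => (support₂ c.1).erase (some 0))).image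
    (fun q => fC (q.2, q.1))

theorem card_PA1 : PA1.card ≤ 22 := by
  unfold PA1
  refine le_trans Finset.card_image_le ?_
  decide

theorem card_PB1a : PB1a.card ≤ 330 := by
  unfold PB1a
  refine le_trans Finset.card_image_le ?_
  rw [card_codeF_8_ff]

theorem card_PB1b : PB1b.card ≤ 176 := by
  unfold PB1b
  refine le_trans Finset.card_image_le ?_
  rw [card_codeF_8_ft]

theorem card_PC1a : PC1a.card ≤ 616 := by
  unfold PC1a
  refine le_trans Finset.card_image_le ?_
  rw [card_codeF_12_tt]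

theorem card_PC1b : PC1b.card ≤ 672 := by
  unfold PC1b
  refine le_trans Finset.card_image_le ?_
  rw [card_codeF_12_tf]

theorem card_PC2a : PC2a.card ≤ 176 := by
  unfold PC2a
  refine le_trans Finset.card_image_le ?_
  rw [card_codeF_8_ft]

theorem card_PB2a : PB2a.card ≤ 176 * 21 := by
  unfold PB2a
  refine le_trans Finset.card_image_le ?_
  rw [Finset.card_sigma, ← card_codeF_8_tf, ← smul_eq_mul, ← Finset.sum_const]
  apply le_of_eq
  apply Finset.sum_congr rfl
  intro c hc
  have h := mem_codeF.mp hc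
  rw [Finset.card_powersetCard, Finset.card_erase_of_mem (of_decide_eq_true h.2.1), h.1]
  rfl

theorem card_PB2b : PB2b.card ≤ 77 * 15 := by
  unfold PB2b
  refine le_trans Finset.card_image_le ?_
  rw [Finset.card_sigma, ← card_codeF_8_tt, ← smul_eq_mul, ← Finset.sum_const]
  apply le_of_eq
  apply Finset.sum_congr rfl
  intro c hc
  have h := mem_codeF.mp hc
  rw [Finset.card_powersetCard, Finset.card_erase_of_mem (Finset.mem_erase.mpr
    ⟨by decide, of_decide_eq_true h.2.2⟩), Finset.card_erase_of_mem (of_decide_eq_true h.2.1), h.1]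
  rfl

theorem card_PB2c : PB2c.card ≤ 77 * 6 := by
  unfold PB2c
  refine le_trans Finset.card_image_le ?_
  rw [Finset.card_sigma, ← card_codeF_8_tt, ← smul_eq_mul, ← Finset.sum_const]
  apply le_of_eq
  apply Finset.sum_congr rfl
  intro c hc
  have h := mem_codeF.mp hc
  rw [Finset.card_erase_of_mem (Finset.mem_erase.mpr
    ⟨by decide, of_decide_eq_true h.2.2⟩), Finset.card_erase_of_mem (of_decide_eq_true h.2.1), h.1]

theorem card_PC2b : PC2b.card ≤ 330 * 8 := by
  unfold PC2b
  refine le_trans Finset.card_image_le ?_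
  rw [Finset.card_sigma, ← card_codeF_8_ff, ← smul_eq_mul, ← Finset.sum_const]
  apply le_of_eq
  apply Finset.sum_congr rfl
  intro c hc
  exact (mem_codeF.mp hc).1

theorem card_PC2c : PC2c.card ≤ 176 * 7 := by
  unfold PC2c
  refine le_trans Finset.card_image_le ?_
  rw [Finset.card_sigma, ← card_codeF_8_ft, ← smul_eq_mul, ← Finset.sum_const]
  apply le_of_eq
  apply Finset.sum_congr rfl
  intro c hc
  have h := mem_codeF.mp hc
  rw [Finset.card_erase_of_mem (of_decide_eq_true h.2.2), h.1]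

theorem TyA1.mem {z : GolayPt → ℤ} (h : TyA1 z) : z ∈ PA1 := by
  obtain ⟨j, hj, hj0, rfl⟩ := h
  unfold PA1
  rw [Finset.mem_image]
  exact ⟨j, Finset.mem_erase.mpr ⟨hj0, Finset.mem_erase.mpr ⟨hj, Finset.mem_univ _⟩⟩, rfl⟩

theorem TyB1a.mem {z : GolayPt → ℤ} (h : TyB1a z) : z ∈ PB1a := by
  obtain ⟨p, hp, hn, h0, rfl⟩ := h
  obtain ⟨c, hc, rfl⟩ := octad_code hp false false (decide_eq_false hn) (decide_eq_false h0)
  unfold PB1a
  rw [Finset.mem_image]
  exact ⟨c, hc, rfl⟩

theorem TyB1b.mem {z : GolayPt → ℤ} (h : TyB1b z) : z ∈ PB1b := by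
  obtain ⟨p, hp, hn, h0, rfl⟩ := h
  obtain ⟨c, hc, rfl⟩ := octad_code hp false true (decide_eq_false hn) (decide_eq_true h0)
  unfold PB1b
  rw [Finset.mem_image]
  exact ⟨c, hc, rfl⟩

theorem TyB2a.mem {z : GolayPt → ℤ} (h : TyB2a z) : z ∈ PB2a := by
  obtain ⟨p, hp, hn, h0, N, hNp, hN2, hnN, rfl⟩ := h
  obtain ⟨c, hc, rfl⟩ := octad_code hp true false (decide_eq_true hn) (decide_eq_false h0)
  unfold PB2a
  rw [Finset.mem_image]
  refine ⟨⟨c, N⟩, ?_, rfl⟩
  rw [Finset.mem_sigma]
  refine ⟨hc, ?_⟩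
  rw [Finset.mem_powersetCard]
  refine ⟨?_, hN2⟩
  intro i hi
  exact Finset.mem_erase.mpr ⟨fun h => hnN (h ▸ hi), hNp hi⟩

theorem TyB2b.mem {z : GolayPt → ℤ} (h : TyB2b z) : z ∈ PB2b := by
  obtain ⟨p, hp, hn, h0, N, hNp, hN2, hnN, h0N, rfl⟩ := h
  obtain ⟨c, hc, rfl⟩ := octad_code hp true true (decide_eq_true hn) (decide_eq_true h0)
  unfold PB2b
  rw [Finset.mem_image]
  refine ⟨⟨c, N⟩, ?_, rfl⟩
  rw [Finset.mem_sigma]
  refine ⟨hc, ?_⟩
  rw [Finset.mem_powersetCard]
  refine ⟨?_, hN2⟩
  intro i hi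
  exact Finset.mem_erase.mpr ⟨fun h => h0N (h ▸ hi),
    Finset.mem_erase.mpr ⟨fun h => hnN (h ▸ hi), hNp hi⟩⟩

theorem TyB2c.mem {z : GolayPt → ℤ} (h : TyB2c z) : z ∈ PB2c := by
  obtain ⟨p, hp, hn, h0, m, hm, hmn, hm0, rfl⟩ := h
  obtain ⟨c, hc, rfl⟩ := octad_code hp true true (decide_eq_true hn) (decide_eq_true h0)
  unfold PB2c
  rw [Finset.mem_image]
  refine ⟨⟨c, m⟩, ?_, rfl⟩
  rw [Finset.mem_sigma]
  exact ⟨hc, Finset.mem_erase.mpr ⟨hm0, Finset.mem_erase.mpr ⟨hmn, hm⟩⟩⟩

theorem TyC1a.mem {z : GolayPt → ℤ} (h : TyC1a z) : z ∈ PC1a := by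
  obtain ⟨c, hn, h0, h12, rfl⟩ := h
  unfold PC1a
  rw [Finset.mem_image]
  exact ⟨c, mem_codeF.mpr ⟨h12, decide_eq_true (mem_support₂.mpr hn),
    decide_eq_true (mem_support₂.mpr h0)⟩, rfl⟩

theorem TyC1b.mem {z : GolayPt → ℤ} (h : TyC1b z) : z ∈ PC1b := by
  obtain ⟨c, hn, h0, h12, rfl⟩ := h
  unfold PC1b
  rw [Finset.mem_image]
  exact ⟨c, mem_codeF.mpr ⟨h12, decide_eq_true (mem_support₂.mpr hn),
    decide_eq_false (fun hm => mem_support₂.mp hm h0)⟩, rfl⟩

theorem TyC2a.mem {z : GolayPt → ℤ} (h : TyC2a z) : z ∈ PC2a := by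
  obtain ⟨c, hn, h0, h8, rfl⟩ := h
  unfold PC2a
  rw [Finset.mem_image]
  exact ⟨c, mem_codeF.mpr ⟨h8, decide_eq_false (fun hm => mem_support₂.mp hm hn),
    decide_eq_true (mem_support₂.mpr h0)⟩, rfl⟩

theorem TyC2b.mem {z : GolayPt → ℤ} (h : TyC2b z) : z ∈ PC2b := by
  obtain ⟨j, hj, hj0, c, hcj, hn, h0, h8, rfl⟩ := h
  unfold PC2b
  rw [Finset.mem_image]
  refine ⟨⟨c, j⟩, ?_, rfl⟩
  rw [Finset.mem_sigma]
  exact ⟨mem_codeF.mpr ⟨h8, decide_eq_false (fun hm => mem_support₂.mp hm hn),
    decide_eq_false (fun hm => mem_support₂.mp hm h0)⟩, mem_support₂.mpr hcj⟩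

theorem TyC2c.mem {z : GolayPt → ℤ} (h : TyC2c z) : z ∈ PC2c := by
  obtain ⟨j, hj, hj0, c, hcj, hn, h0, h8, rfl⟩ := h
  unfold PC2c
  rw [Finset.mem_image]
  refine ⟨⟨c, j⟩, ?_, rfl⟩
  rw [Finset.mem_sigma]
  exact ⟨mem_codeF.mpr ⟨h8, decide_eq_false (fun hm => mem_support₂.mp hm hn),
    decide_eq_true (mem_support₂.mpr h0)⟩, Finset.mem_erase.mpr ⟨hj0, mem_support₂.mpr hcj⟩⟩




theorem Z_cover {z : GolayPt → ℤ} (hF : z ∈ F32) (hP : dotInt u5 z = 16) :
    (dotInt x0f z = 32 ∧ z = x0f) ∨ (dotInt x0f z = 16 ∧ z ∈ PA1 ∪ PB2c ∪ PC1a) ∨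
    (dotInt x0f z = -8 ∧ z ∈ PB1b ∪ PC2a) ∨ (dotInt x0f z = 0 ∧ z ∈ PB1a ∪ PB2b ∪ PC2b) ∨
    (dotInt x0f z = 8 ∧ z ∈ PB2a ∪ PC1b ∪ PC2c) := by
  rw [dotInt_x0f]
  rcases Z_types hF hP with h | h | h | h | h | h | h | h | h | h | h | h
  · left
    refine ⟨?_, h⟩
    rw [h, vec44_apply_left (by decide), vec44_apply_right (by decide)]; norm_num
  · right; left
    refine ⟨by rw [h.vals.1, h.vals.2]; norm_num, ?_⟩
    rw [Finset.mem_union, Finset.mem_union]; left; left; exact h.mem
  · right; right; right; left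
    refine ⟨by rw [h.vals.1, h.vals.2]; norm_num, ?_⟩
    rw [Finset.mem_union, Finset.mem_union]; left; left; exact h.mem
  · right; right; left
    refine ⟨by rw [h.vals.1, h.vals.2]; norm_num, ?_⟩
    rw [Finset.mem_union]; left; exact h.mem
  · right; right; right; right
    refine ⟨by rw [h.vals.1, h.vals.2]; norm_num, ?_⟩
    rw [Finset.mem_union, Finset.mem_union]; left; left; exact h.mem
  · right; right; right; left
    refine ⟨by rw [h.vals.1, h.vals.2]; norm_num, ?_⟩
    rw [Finset.mem_union, Finset.mem_union]; left; right; exact h.mem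
  · right; left
    refine ⟨by rw [h.vals.1, h.vals.2]; norm_num, ?_⟩
    rw [Finset.mem_union, Finset.mem_union]; left; right; exact h.mem
  · right; left
    refine ⟨by rw [h.vals.1, h.vals.2]; norm_num, ?_⟩
    rw [Finset.mem_union, Finset.mem_union]; right; exact h.mem
  · right; right; right; right
    refine ⟨by rw [h.vals.1, h.vals.2]; norm_num, ?_⟩
    rw [Finset.mem_union, Finset.mem_union]; left; right; exact h.mem
  · right; right; left
    refine ⟨by rw [h.vals.1, h.vals.2]; norm_num, ?_⟩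
    rw [Finset.mem_union]; right; exact h.mem
  · right; right; right; left
    refine ⟨by rw [h.vals.1, h.vals.2]; norm_num, ?_⟩
    rw [Finset.mem_union, Finset.mem_union]; right; exact h.mem
  · right; right; right; right
    refine ⟨by rw [h.vals.1, h.vals.2]; norm_num, ?_⟩
    rw [Finset.mem_union, Finset.mem_union]; right; exact h.mem

noncomputable def Zf : Finset (GolayPt → ℤ) := F32.filter (fun z => dotInt u5 z = 16)

noncomputable def Zt (t : ℤ) : Finset (GolayPt → ℤ) := Zf.filter (fun z => dotInt x0f z = t)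

theorem mem_Zt {t : ℤ} {z : GolayPt → ℤ} : z ∈ Zt t ↔
    (z ∈ leechLattice ∧ sqNorm z = 32) ∧ dotInt u5 z = 16 ∧ dotInt x0f z = t := by
  unfold Zt Zf
  rw [Finset.mem_filter, Finset.mem_filter, mem_F32, and_assoc]

theorem card_Zf : Zf.card = 11178 := by
  have h5 : u5 ∈ F48 := mem_F48'.mpr ⟨u5_mem', u5_norm⟩
  exact cntDot48_sixteen h5

theorem Z_values {z : GolayPt → ℤ} (hz : z ∈ Zf) :
    dotInt x0f z ∈ ({32, 16, -8, 0, 8} : Finset ℤ) := by
  unfold Zf at hz
  rw [Finset.mem_filter] at hz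
  simp only [Finset.mem_insert, Finset.mem_singleton]
  rcases Z_cover hz.1 hz.2 with h | h | h | h | h
  · left; exact h.1
  · right; left; exact h.1
  · right; right; left; exact h.1
  · right; right; right; left; exact h.1
  · right; right; right; right; exact h.1

theorem card_Zt_le : (Zt 32).card ≤ 1 ∧ (Zt 16).card ≤ 1100 ∧ (Zt (-8)).card ≤ 352 ∧
    (Zt 0).card ≤ 4125 ∧ (Zt 8).card ≤ 5600 := by
  have key : ∀ (t : ℤ) (W : Finset (GolayPt → ℤ)),
      (∀ z, z ∈ F32 → dotInt u5 z = 16 → dotInt x0f z = t → z ∈ W) → (Zt t).card ≤ W.card := by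
    intro t W h
    apply Finset.card_le_card
    intro z hz
    unfold Zt Zf at hz
    rw [Finset.mem_filter, Finset.mem_filter] at hz
    exact h z hz.1.1 hz.1.2 hz.2
  refine ⟨?_, ?_, ?_, ?_, ?_⟩
  · refine le_trans (key 32 {x0f} ?_) (by rw [Finset.card_singleton])
    intro z hF hP ht
    rcases Z_cover hF hP with h | h | h | h | h
    · rw [Finset.mem_singleton]; exact h.2
    all_goals (have := h.1; rw [ht] at this; norm_num at this)
  · refine le_trans (key 16 (PA1 ∪ PB2c ∪ PC1a) ?_) ?_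
    · intro z hF hP ht
      rcases Z_cover hF hP with h | h | h | h | h
      · have := h.1; rw [ht] at this; norm_num at this
      · exact h.2
      all_goals (have := h.1; rw [ht] at this; norm_num at this)
    · refine le_trans (Finset.card_union_le _ _) ?_
      have := Finset.card_union_le PA1 PB2c
      have := card_PA1
      have := card_PB2c
      have := card_PC1a
      omega
  · refine le_trans (key (-8) (PB1b ∪ PC2a) ?_) ?_
    · intro z hF hP ht
      rcases Z_cover hF hP with h | h | h | h | h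
      · have := h.1; rw [ht] at this; norm_num at this
      · have := h.1; rw [ht] at this; norm_num at this
      · exact h.2
      all_goals (have := h.1; rw [ht] at this; norm_num at this)
    · refine le_trans (Finset.card_union_le _ _) ?_
      have := card_PB1b
      have := card_PC2a
      omega
  · refine le_trans (key 0 (PB1a ∪ PB2b ∪ PC2b) ?_) ?_
    · intro z hF hP ht
      rcases Z_cover hF hP with h | h | h | h | h
      · have := h.1; rw [ht] at this; norm_num at this
      · have := h.1; rw [ht] at this; norm_num at this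
      · have := h.1; rw [ht] at this; norm_num at this
      · exact h.2
      · have := h.1; rw [ht] at this; norm_num at this
    · refine le_trans (Finset.card_union_le _ _) ?_
      have := Finset.card_union_le PB1a PB2b
      have := card_PB1a
      have := card_PB2b
      have := card_PC2b
      omega
  · refine le_trans (key 8 (PB2a ∪ PC1b ∪ PC2c) ?_) ?_
    · intro z hF hP ht
      rcases Z_cover hF hP with h | h | h | h | h
      · have := h.1; rw [ht] at this; norm_num at this
      · have := h.1; rw [ht] at this; norm_num at this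
      · have := h.1; rw [ht] at this; norm_num at this
      · have := h.1; rw [ht] at this; norm_num at this
      · exact h.2
    · refine le_trans (Finset.card_union_le _ _) ?_
      have := Finset.card_union_le PB2a PC1b
      have := card_PB2a
      have := card_PC1b
      have := card_PC2c
      omega

theorem card_Zt : (Zt 32).card = 1 ∧ (Zt 16).card = 1100 ∧ (Zt (-8)).card = 352 ∧
    (Zt 0).card = 4125 ∧ (Zt 8).card = 5600 := by
  have h := Finset.card_eq_sum_card_fiberwise (s := Zf) (t := ({32, 16, -8, 0, 8} : Finset ℤ))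
    (f := fun z => dotInt x0f z) (fun z hz => Z_values hz)
  rw [card_Zf] at h
  rw [Finset.sum_insert (by decide), Finset.sum_insert (by decide), Finset.sum_insert (by decide),
    Finset.sum_insert (by decide), Finset.sum_singleton] at h
  obtain ⟨h1, h2, h3, h4, h5⟩ := card_Zt_le
  unfold Zt at h1 h2 h3 h4 h5 ⊢
  omega


end Cfsg.Agent.Helper27
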