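import Mathlib
import Cfsg.Agent.Lib.Helper27.Co3Count

set_option autoImplicit false
set_option maxRecDepth 8000
open Cfsg

/-! The stabiliser of a norm 48 vector and one of its 11178 minimal vectors has four further orbits on them. -/

namespace Cfsg.Agent.Helper27
open Cfsg.Agent.S0394 (FA FB FC idxA idxB fC mem_idxA mem_idxB mem_octads_iff aJW odd_fC famC_mem
  octF mem_octF instFintypeGolayCode card_golayCode fC_injective famB_mem)
open Cfsg.Agent.Helper29 Cfsg.Agent.Helper29.M24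
open scoped Pointwise
open MulAction



theorem X0_coe : (X0 : GolayPt → ℤ) = x0f := rfl

theorem X0_norm : sqNorm (X0 : GolayPt → ℤ) = 32 :=
  sqNorm_vec44 _ _ (by decide) _ (Or.inr rfl)

theorem sum_x0f : ∑ i, x0f i = 0 := by
  unfold x0f vec44
  rw [Finset.sum_add_distrib, Finset.sum_ite_eq', Finset.sum_ite_eq']
  simp

/-- Moving a vector by an element fixing the two base vectors. -/
theorem co3_move (z : leechLattice) {k : GolayPt} (hk : k ≠ none) (hk0 : k ≠ some 0) :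
    ∃ g : Co0, g • U5 = U5 ∧ g • X0 = X0 ∧
      dotInt v44 ((g • z : leechLattice) : GolayPt → ℤ) = dotInt (m3 k) (z : GolayPt → ℤ) := by
  have h0 : dotInt ((⟨m3 k, m3_mem k⟩ : leechLattice) : GolayPt → ℤ) (X0 : GolayPt → ℤ) = 0 := by
    show dotInt (m3 k) x0f = 0
    rw [dotInt_m3, sum_x0f]
    unfold x0f
    rw [vec44_apply_other hk hk0]; norm_num
  have h16 : dotInt (U5 : GolayPt → ℤ) (X0 : GolayPt → ℤ) = 16 := by
    show dotInt u5 x0f = 16
    rw [dotInt_u5, sum_x0f]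
    unfold x0f
    rw [vec44_apply_left (by decide)]; norm_num
  have h24 : dotInt (U5 : GolayPt → ℤ) ((⟨m3 k, m3_mem k⟩ : leechLattice) : GolayPt → ℤ) = 24 := by
    show dotInt u5 (m3 k) = 24
    rw [dotInt_comm', dotInt_m3]
    have : ∑ i, u5 i = 28 := by decide
    rw [this, u5_apply, if_neg hk]; norm_num
  obtain ⟨g, e1, e2, e3⟩ := nf_hs U5_norm X0_norm (m3_norm k) h0 h16 h24
  refine ⟨g, e1, e2, ?_⟩
  have : dotInt v44 ((g • z : leechLattice) : GolayPt → ℤ) =
      dotInt ((g • (⟨m3 k, m3_mem k⟩ : leechLattice) : leechLattice) : GolayPt → ℤ)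
        ((g • z : leechLattice) : GolayPt → ℤ) := by rw [e3]; rfl
  rw [this, smul_dot]

theorem shapeVec_comp' {σ : Equiv.Perm GolayPt} {p p' N N' : Finset GolayPt}
    (h : ∀ i, σ i ∈ p ↔ i ∈ p') (hN : ∀ i, σ i ∈ N ↔ i ∈ N') :
    (fun i => shapeVec 2 p N (σ i)) = shapeVec 2 p' N' := by
  funext i
  unfold shapeVec
  by_cases hi : i ∈ p'
  · rw [if_pos hi, if_pos ((h i).mpr hi)]
    by_cases hiN : i ∈ N'
    · rw [if_pos hiN, if_pos ((hN i).mpr hiN)]
    · rw [if_neg hiN, if_neg (fun hc => hiN ((hN i).mp hc))]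
  · rw [if_neg hi, if_neg (fun hc => hi ((h i).mp hc))]

theorem exists_notMem_octad {p : Finset GolayPt} (hp : p ∈ octads) (a b : GolayPt) :
    ∃ k, k ∉ p ∧ k ≠ a ∧ k ≠ b := by
  have h8 := octad_card hp
  have hlt : (p ∪ {a, b}).card < (Finset.univ : Finset GolayPt).card := by
    rw [Finset.card_univ, card_golayPt]
    have h1 := Finset.card_union_le p {a, b}
    have h2 : ({a, b} : Finset GolayPt).card ≤ 2 := Finset.card_le_two
    omega
  obtain ⟨k, -, hk⟩ := Finset.exists_mem_notMem_of_card_lt_card hlt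
  rw [Finset.mem_union, Finset.mem_insert, Finset.mem_singleton] at hk
  rw [not_or, not_or] at hk
  exact ⟨k, hk.1, hk.2.1, hk.2.2⟩

/-- A permutation fixing the two base points acts on the base vectors trivially. -/
theorem permG_fix {σ : Equiv.Perm GolayPt} (hσ : σ ∈ M24) (e1 : σ none = none)
    (e2 : σ (some 0) = some 0) : permG σ hσ • U5 = U5 ∧ permG σ hσ • X0 = X0 :=
  ⟨Subtype.ext (u5_comp e1), Subtype.ext (vec44_comp e1 e2 _)⟩

theorem perm_eq_iff {σ : Equiv.Perm GolayPt} {a b : GolayPt} (h : σ a = b) (i : GolayPt) :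
    σ i = b ↔ i = a :=
  ⟨fun hi => σ.injective (hi.trans h.symm), fun hi => hi ▸ h⟩

/-- Conjugacy of two vectors of the first target shape. -/
theorem conj_B2c {z z' : GolayPt → ℤ} (h : TyB2c z) (h' : TyB2c z') :
    ∃ σ ∈ M24, σ none = none ∧ σ (some 0) = some 0 ∧ (fun i => z (σ i)) = z' := by
  obtain ⟨p, hp, hn, h0, m, hm, hmn, hm0, rfl⟩ := h
  obtain ⟨p', hp', hn', h0', m', hm', hmn', hm0', rfl⟩ := h'
  obtain ⟨k, hk, -, -⟩ := exists_notMem_octad hp none none
  obtain ⟨k', hk', -, -⟩ := exists_notMem_octad hp' none none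
  obtain ⟨σ, hσ, e, -, e3⟩ := exists_perm_octad5 hp hp' (L := [none, some 0, m])
    (L' := [none, some 0, m'])
    (by simp [Ne.symm hmn, Ne.symm hm0]) (by simp [Ne.symm hmn', Ne.symm hm0']) rfl (by simp)
    (by intro a ha; simp only [List.mem_cons, List.not_mem_nil, or_false] at ha
        rcases ha with rfl | rfl | rfl
        · exact hn
        · exact h0
        · exact hm)
    (by intro a ha; simp only [List.mem_cons, List.not_mem_nil, or_false] at ha
        rcases ha with rfl | rfl | rfl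
        · exact hn'
        · exact h0'
        · exact hm') hk hk'
  simp only [List.map_cons, List.map_nil, List.cons.injEq, and_true] at e
  refine ⟨σ, hσ, e.1, e.2.1, shapeVec_comp' e3 ?_⟩
  intro i
  rw [Finset.mem_insert, Finset.mem_singleton, Finset.mem_insert, Finset.mem_singleton,
    perm_eq_iff e.2.1, perm_eq_iff e.2.2]

theorem conj_B1b {z z' : GolayPt → ℤ} (h : TyB1b z) (h' : TyB1b z') :
    ∃ σ ∈ M24, σ none = none ∧ σ (some 0) = some 0 ∧ (fun i => z (σ i)) = z' := by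
  obtain ⟨p, hp, hn, h0, rfl⟩ := h
  obtain ⟨p', hp', hn', h0', rfl⟩ := h'
  obtain ⟨σ, hσ, e, e2, e3⟩ := exists_perm_octad5 hp hp' (L := [some 0])
    (L' := [some 0]) (by simp) (by simp) rfl (by simp)
    (by intro a ha; simp only [List.mem_cons, List.not_mem_nil, or_false] at ha
        rw [ha]; exact h0)
    (by intro a ha; simp only [List.mem_cons, List.not_mem_nil, or_false] at ha
        rw [ha]; exact h0') hn hn'
  simp only [List.map_cons, List.map_nil, List.cons.injEq, and_true] at e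
  exact ⟨σ, hσ, e2, e, shapeVec_comp e3⟩

theorem conj_B2b {z z' : GolayPt → ℤ} (h : TyB2b z) (h' : TyB2b z') :
    ∃ σ ∈ M24, σ none = none ∧ σ (some 0) = some 0 ∧ (fun i => z (σ i)) = z' := by
  obtain ⟨p, hp, hn, h0, N, hNp, hN2, hnN, h0N, rfl⟩ := h
  obtain ⟨p', hp', hn', h0', N', hNp', hN2', hnN', h0N', rfl⟩ := h'
  obtain ⟨a, b, hab, rfl⟩ := Finset.card_eq_two.mp hN2
  obtain ⟨a', b', hab', rfl⟩ := Finset.card_eq_two.mp hN2'
  obtain ⟨k, hk, -, -⟩ := exists_notMem_octad hp none none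
  obtain ⟨k', hk', -, -⟩ := exists_notMem_octad hp' none none
  have ha : a ∈ p := hNp (by simp)
  have hb : b ∈ p := hNp (by simp)
  have ha' : a' ∈ p' := hNp' (by simp)
  have hb' : b' ∈ p' := hNp' (by simp)
  rw [Finset.mem_insert, Finset.mem_singleton, not_or] at hnN h0N hnN' h0N'
  obtain ⟨σ, hσ, e, -, e3⟩ := exists_perm_octad5 hp hp' (L := [none, some 0, a, b])
    (L' := [none, some 0, a', b'])
    (by simp [hnN.1, hnN.2, h0N.1, h0N.2, hab])
    (by simp [hnN'.1, hnN'.2, h0N'.1, h0N'.2, hab']) rfl (by simp)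
    (by intro c hc; simp only [List.mem_cons, List.not_mem_nil, or_false] at hc
        rcases hc with rfl | rfl | rfl | rfl
        · exact hn
        · exact h0
        · exact ha
        · exact hb)
    (by intro c hc; simp only [List.mem_cons, List.not_mem_nil, or_false] at hc
        rcases hc with rfl | rfl | rfl | rfl
        · exact hn'
        · exact h0'
        · exact ha'
        · exact hb') hk hk'
  simp only [List.map_cons, List.map_nil, List.cons.injEq, and_true] at e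
  refine ⟨σ, hσ, e.1, e.2.1, shapeVec_comp' e3 ?_⟩
  intro i
  rw [Finset.mem_insert, Finset.mem_singleton, Finset.mem_insert, Finset.mem_singleton,
    perm_eq_iff e.2.2.1, perm_eq_iff e.2.2.2]

theorem conj_B2a {z z' : GolayPt → ℤ} (h : TyB2a z) (h' : TyB2a z') :
    ∃ σ ∈ M24, σ none = none ∧ σ (some 0) = some 0 ∧ (fun i => z (σ i)) = z' := by
  obtain ⟨p, hp, hn, h0, N, hNp, hN2, hnN, rfl⟩ := h
  obtain ⟨p', hp', hn', h0', N', hNp', hN2', hnN', rfl⟩ := h'
  obtain ⟨a, b, hab, rfl⟩ := Finset.card_eq_two.mp hN2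
  obtain ⟨a', b', hab', rfl⟩ := Finset.card_eq_two.mp hN2'
  have ha : a ∈ p := hNp (by simp)
  have hb : b ∈ p := hNp (by simp)
  have ha' : a' ∈ p' := hNp' (by simp)
  have hb' : b' ∈ p' := hNp' (by simp)
  rw [Finset.mem_insert, Finset.mem_singleton, not_or] at hnN hnN'
  obtain ⟨σ, hσ, e, e2, e3⟩ := exists_perm_octad5 hp hp' (L := [none, a, b])
    (L' := [none, a', b'])
    (by simp [hnN.1, hnN.2, hab])
    (by simp [hnN'.1, hnN'.2, hab']) rfl (by simp)
    (by intro c hc; simp only [List.mem_cons, List.not_mem_nil, or_false] at hc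
        rcases hc with rfl | rfl | rfl
        · exact hn
        · exact ha
        · exact hb)
    (by intro c hc; simp only [List.mem_cons, List.not_mem_nil, or_false] at hc
        rcases hc with rfl | rfl | rfl
        · exact hn'
        · exact ha'
        · exact hb') h0 h0'
  simp only [List.map_cons, List.map_nil, List.cons.injEq, and_true] at e
  refine ⟨σ, hσ, e.1, e2, shapeVec_comp' e3 ?_⟩
  intro i
  rw [Finset.mem_insert, Finset.mem_singleton, Finset.mem_insert, Finset.mem_singleton,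
    perm_eq_iff e.2.1, perm_eq_iff e.2.2]




theorem exists_notMem_card {S : Finset GolayPt} (hS : S.card ≤ 21) (a b : GolayPt) :
    ∃ k, k ∉ S ∧ k ≠ a ∧ k ≠ b := by
  have hlt : (S ∪ {a, b}).card < (Finset.univ : Finset GolayPt).card := by
    rw [Finset.card_univ, card_golayPt]
    have h1 := Finset.card_union_le S {a, b}
    have h2 : ({a, b} : Finset GolayPt).card ≤ 2 := Finset.card_le_two
    omega
  obtain ⟨k, -, hk⟩ := Finset.exists_mem_notMem_of_card_lt_card hlt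
  rw [Finset.mem_union, Finset.mem_insert, Finset.mem_singleton, not_or, not_or] at hk
  exact ⟨k, hk.1, hk.2.1, hk.2.2⟩

theorem dotInt_m3_of {z : GolayPt → ℤ} (hP : dotInt u5 z = 16) (k : GolayPt) :
    dotInt (m3 k) z = 16 - 4 * z none - 4 * z k := by
  rw [dotInt_m3]
  rw [dotInt_u5] at hP
  omega

theorem type_of_vals {z : GolayPt → ℤ} (hF : z ∈ F32) (hP : dotInt u5 z = 16) :
    (z none = 2 ∧ z (some 0) = -2 → TyB2c z) ∧ (z none = 0 ∧ z (some 0) = 2 → TyB1b z) ∧
    (z none = 2 ∧ z (some 0) = 2 → TyB2b z) ∧ (z none = 2 ∧ z (some 0) = 0 → TyB2a z) := by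
  rcases Z_types hF hP with h | h | h | h | h | h | h | h | h | h | h | h
  · have h1 : z none = 4 := by rw [h, vec44_apply_left (by decide)]
    refine ⟨?_, ?_, ?_, ?_⟩ <;> intro h' <;> exfalso <;> omega
  · have := h.vals
    refine ⟨?_, ?_, ?_, ?_⟩ <;> intro h' <;> exfalso <;> omega
  · have := h.vals
    refine ⟨?_, ?_, ?_, ?_⟩ <;> intro h' <;> exfalso <;> omega
  · have := h.vals
    refine ⟨?_, fun _ => h, ?_, ?_⟩ <;> intro h' <;> exfalso <;> omega
  · have := h.vals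
    refine ⟨?_, ?_, ?_, fun _ => h⟩ <;> intro h' <;> exfalso <;> omega
  · have := h.vals
    refine ⟨?_, ?_, fun _ => h, ?_⟩ <;> intro h' <;> exfalso <;> omega
  · have := h.vals
    refine ⟨fun _ => h, ?_, ?_, ?_⟩ <;> intro h' <;> exfalso <;> omega
  · have := h.vals
    refine ⟨?_, ?_, ?_, ?_⟩ <;> intro h' <;> exfalso <;> omega
  · have := h.vals
    refine ⟨?_, ?_, ?_, ?_⟩ <;> intro h' <;> exfalso <;> omega
  · have := h.vals
    refine ⟨?_, ?_, ?_, ?_⟩ <;> intro h' <;> exfalso <;> omega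
  · have := h.vals
    refine ⟨?_, ?_, ?_, ?_⟩ <;> intro h' <;> exfalso <;> omega
  · have := h.vals
    refine ⟨?_, ?_, ?_, ?_⟩ <;> intro h' <;> exfalso <;> omega

/-- For each class, either the vector already has the target shape or a suitable vector of the
hundred exists. -/
theorem exists_k {z : GolayPt → ℤ} (hF : z ∈ F32) (hP : dotInt u5 z = 16) :
    (dotInt x0f z = 16 → dotInt v44 z = 0 ∨
      ∃ k, k ≠ none ∧ k ≠ some 0 ∧ dotInt (m3 k) z = 0) ∧
    (dotInt x0f z = -8 → dotInt v44 z = 8 ∨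
      ∃ k, k ≠ none ∧ k ≠ some 0 ∧ dotInt (m3 k) z = 8) ∧
    (dotInt x0f z = 0 → dotInt v44 z = 16 ∨
      ∃ k, k ≠ none ∧ k ≠ some 0 ∧ dotInt (m3 k) z = 16) ∧
    (dotInt x0f z = 8 → dotInt v44 z = 8 ∨
      ∃ k, k ≠ none ∧ k ≠ some 0 ∧ dotInt (m3 k) z = 8) := by
  have hm := dotInt_m3_of hP
  simp only [hm]
  rw [dotInt_x0f, dotInt_v44]
  rcases Z_types hF hP with h | h | h | h | h | h | h | h | h | h | h | h
  · have h1 : z none = 4 := by rw [h, vec44_apply_left (by decide)]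
    have h2 : z (some 0) = -4 := by rw [h, vec44_apply_right (by decide)]; norm_num
    refine ⟨?_, ?_, ?_, ?_⟩ <;> intro h' <;> exfalso <;> omega
  · -- A1
    have hv := h.vals
    refine ⟨?_, ?_, ?_, ?_⟩
    · intro _
      right
      obtain ⟨j, hj, hj0, rfl⟩ := h
      obtain ⟨k, hk1, hk2, hk3⟩ := exists_notMem_card (S := {j}) (by simp) none (some 0)
      rw [Finset.mem_singleton] at hk1
      refine ⟨k, hk2, hk3, ?_⟩
      rw [vec44_apply_other hk2 hk1, hv.1]; norm_num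
    all_goals (intro h'; exfalso; omega)
  · -- B1a
    have hv := h.vals
    refine ⟨?_, ?_, ?_, ?_⟩
    · intro h'; exfalso; omega
    · intro h'; exfalso; omega
    · intro _
      right
      obtain ⟨p, hp, hn, h0, rfl⟩ := h
      obtain ⟨k, hk1, hk2, hk3⟩ := exists_notMem_octad hp none (some 0)
      refine ⟨k, hk2, hk3, ?_⟩
      have : shapeVec 2 p ∅ k = 0 := by unfold shapeVec; rw [if_neg hk1]
      rw [this, hv.1]; norm_num
    · intro h'; exfalso; omega
  · -- B1b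
    have hv := h.vals
    refine ⟨?_, ?_, ?_, ?_⟩
    · intro h'; exfalso; omega
    · intro _; left; omega
    · intro h'; exfalso; omega
    · intro h'; exfalso; omega
  · -- B2a
    have hv := h.vals
    refine ⟨?_, ?_, ?_, ?_⟩
    · intro h'; exfalso; omega
    · intro h'; exfalso; omega
    · intro h'; exfalso; omega
    · intro _; left; omega
  · -- B2b
    have hv := h.vals
    refine ⟨?_, ?_, ?_, ?_⟩
    · intro h'; exfalso; omega
    · intro h'; exfalso; omega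
    · intro _; left; omega
    · intro h'; exfalso; omega
  · -- B2c
    have hv := h.vals
    refine ⟨?_, ?_, ?_, ?_⟩
    · intro _; left; omega
    · intro h'; exfalso; omega
    · intro h'; exfalso; omega
    · intro h'; exfalso; omega
  · -- C1a
    have hv := h.vals
    refine ⟨?_, ?_, ?_, ?_⟩
    · intro _
      right
      obtain ⟨c, hn, h0, h12, rfl⟩ := h
      obtain ⟨k, hk1, hk2, hk3⟩ := exists_notMem_card (S := support₂ c.1) (by rw [h12]; norm_num)
        none (some 0)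
      refine ⟨k, hk2, hk3, ?_⟩
      have hck : c.1 k = 0 := by
        by_contra hc; exact hk1 (mem_support₂.mpr hc)
      rw [fC_apply _ _ k, if_neg hk2, if_pos hck, hv.1]; norm_num
    all_goals (intro h'; exfalso; omega)
  · -- C1b
    have hv := h.vals
    refine ⟨?_, ?_, ?_, ?_⟩
    · intro h'; exfalso; omega
    · intro h'; exfalso; omega
    · intro h'; exfalso; omega
    · intro _
      right
      obtain ⟨c, hn, h0, h12, rfl⟩ := h
      obtain ⟨k, hk1, hk2⟩ := Finset.exists_mem_ne (s := support₂ c.1) (by rw [h12]; norm_num) none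
      have hck : c.1 k ≠ 0 := mem_support₂.mp hk1
      refine ⟨k, hk2, ?_, ?_⟩
      · rintro rfl; exact hck h0
      · rw [fC_apply _ _ k, if_neg hk2, if_neg hck, hv.1]; norm_num
  · -- C2a
    have hv := h.vals
    refine ⟨?_, ?_, ?_, ?_⟩
    · intro h'; exfalso; omega
    · intro _
      right
      obtain ⟨c, hn, h0, h8, rfl⟩ := h
      obtain ⟨k, hk1, hk2, hk3⟩ := exists_notMem_card (S := support₂ c.1) (by rw [h8]; norm_num)
        none (some 0)
      refine ⟨k, hk2, hk3, ?_⟩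
      have hck : c.1 k = 0 := by
        by_contra hc; exact hk1 (mem_support₂.mpr hc)
      rw [fC_apply _ _ k, if_neg hk3, if_pos hck, hv.1]; norm_num
    · intro h'; exfalso; omega
    · intro h'; exfalso; omega
  · -- C2b
    have hv := h.vals
    refine ⟨?_, ?_, ?_, ?_⟩
    · intro h'; exfalso; omega
    · intro h'; exfalso; omega
    · intro _
      right
      obtain ⟨j, hj, hj0, c, hcj, hn, h0, h8, rfl⟩ := h
      obtain ⟨k, hk1, hk2⟩ := Finset.exists_mem_ne (s := support₂ c.1) (by rw [h8]; norm_num) j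
      have hck : c.1 k ≠ 0 := mem_support₂.mp hk1
      refine ⟨k, ?_, ?_, ?_⟩
      · rintro rfl; exact hck hn
      · rintro rfl; exact hck h0
      · rw [fC_apply _ _ k, if_neg hk2, if_neg hck, hv.1]; norm_num
    · intro h'; exfalso; omega
  · -- C2c
    have hv := h.vals
    refine ⟨?_, ?_, ?_, ?_⟩
    · intro h'; exfalso; omega
    · intro h'; exfalso; omega
    · intro h'; exfalso; omega
    · intro _
      right
      obtain ⟨j, hj, hj0, c, hcj, hn, h0, h8, rfl⟩ := h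
      obtain ⟨k, hk1, hk2, hk3⟩ := exists_notMem_card (S := support₂ c.1) (by rw [h8]; norm_num)
        none (some 0)
      have hck : c.1 k = 0 := by
        by_contra hc; exact hk1 (mem_support₂.mpr hc)
      have hkj : k ≠ j := by rintro rfl; exact hcj hck
      refine ⟨k, hk2, hk3, ?_⟩
      rw [fC_apply _ _ k, if_neg hkj, if_pos hck, hv.1]; norm_num




theorem dot_fix {g : Co0} {a : leechLattice} (h : g • a = a) (z : leechLattice) :
    dotInt (a : GolayPt → ℤ) ((g • z : leechLattice) : GolayPt → ℤ) =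
      dotInt (a : GolayPt → ℤ) (z : GolayPt → ℤ) := by
  have : dotInt (a : GolayPt → ℤ) ((g • z : leechLattice) : GolayPt → ℤ) =
      dotInt ((g • a : leechLattice) : GolayPt → ℤ) ((g • z : leechLattice) : GolayPt → ℤ) := by
    rw [h]
  rw [this, smul_dot]

/-- Moving into the target shape by an element fixing the base vectors. -/
theorem nf_aux (z : leechLattice) (hz : sqNorm (z : GolayPt → ℤ) = 32)
    (hu : dotInt u5 (z : GolayPt → ℤ) = 16) (s : ℤ)
    (h : dotInt v44 (z : GolayPt → ℤ) = s ∨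
      ∃ k, k ≠ none ∧ k ≠ some 0 ∧ dotInt (m3 k) (z : GolayPt → ℤ) = s) :
    ∃ g : Co0, g • U5 = U5 ∧ g • X0 = X0 ∧
      ((g • z : leechLattice) : GolayPt → ℤ) ∈ F32 ∧
      dotInt u5 ((g • z : leechLattice) : GolayPt → ℤ) = 16 ∧
      dotInt x0f ((g • z : leechLattice) : GolayPt → ℤ) = dotInt x0f (z : GolayPt → ℤ) ∧
      dotInt v44 ((g • z : leechLattice) : GolayPt → ℤ) = s := by
  have key : ∃ g : Co0, g • U5 = U5 ∧ g • X0 = X0 ∧
      dotInt v44 ((g • z : leechLattice) : GolayPt → ℤ) = s := by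
    rcases h with h | ⟨k, hk, hk0, h⟩
    · exact ⟨1, one_smul _ _, one_smul _ _, by rw [one_smul]; exact h⟩
    · obtain ⟨g, e1, e2, e3⟩ := co3_move z hk hk0
      exact ⟨g, e1, e2, by rw [e3, h]⟩
  obtain ⟨g, e1, e2, e3⟩ := key
  refine ⟨g, e1, e2, mem_F32.mpr ⟨(g • z).2, by rw [smul_norm, hz]⟩, ?_, ?_, e3⟩
  · have := dot_fix e1 z
    exact this.trans hu
  · exact dot_fix e2 z

theorem nf_co3 (z : leechLattice) (hz : sqNorm (z : GolayPt → ℤ) = 32)
    (hu : dotInt u5 (z : GolayPt → ℤ) = 16) :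
    (dotInt x0f (z : GolayPt → ℤ) = 16 → ∃ g : Co0, g • U5 = U5 ∧ g • X0 = X0 ∧
      TyB2c ((g • z : leechLattice) : GolayPt → ℤ)) ∧
    (dotInt x0f (z : GolayPt → ℤ) = -8 → ∃ g : Co0, g • U5 = U5 ∧ g • X0 = X0 ∧
      TyB1b ((g • z : leechLattice) : GolayPt → ℤ)) ∧
    (dotInt x0f (z : GolayPt → ℤ) = 0 → ∃ g : Co0, g • U5 = U5 ∧ g • X0 = X0 ∧
      TyB2b ((g • z : leechLattice) : GolayPt → ℤ)) ∧
    (dotInt x0f (z : GolayPt → ℤ) = 8 → ∃ g : Co0, g • U5 = U5 ∧ g • X0 = X0 ∧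
      TyB2a ((g • z : leechLattice) : GolayPt → ℤ)) := by
  have hF : (z : GolayPt → ℤ) ∈ F32 := mem_F32.mpr ⟨z.2, hz⟩
  obtain ⟨k1, k2, k3, k4⟩ := exists_k hF hu
  refine ⟨?_, ?_, ?_, ?_⟩
  · intro ht
    obtain ⟨g, e1, e2, f1, f2, f3, f4⟩ := nf_aux z hz hu 0 (k1 ht)
    refine ⟨g, e1, e2, (type_of_vals f1 f2).1 ?_⟩
    rw [ht, dotInt_x0f] at f3
    rw [dotInt_v44] at f4
    constructor <;> omega
  · intro ht
    obtain ⟨g, e1, e2, f1, f2, f3, f4⟩ := nf_aux z hz hu 8 (k2 ht)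
    refine ⟨g, e1, e2, (type_of_vals f1 f2).2.1 ?_⟩
    rw [ht, dotInt_x0f] at f3
    rw [dotInt_v44] at f4
    constructor <;> omega
  · intro ht
    obtain ⟨g, e1, e2, f1, f2, f3, f4⟩ := nf_aux z hz hu 16 (k3 ht)
    refine ⟨g, e1, e2, (type_of_vals f1 f2).2.2.1 ?_⟩
    rw [ht, dotInt_x0f] at f3
    rw [dotInt_v44] at f4
    constructor <;> omega
  · intro ht
    obtain ⟨g, e1, e2, f1, f2, f3, f4⟩ := nf_aux z hz hu 8 (k4 ht)
    refine ⟨g, e1, e2, (type_of_vals f1 f2).2.2.2 ?_⟩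
    rw [ht, dotInt_x0f] at f3
    rw [dotInt_v44] at f4
    constructor <;> omega

/-- Transitivity of the joint stabiliser of the base vectors on each class. -/
theorem co3_std_trans {z z' : leechLattice} (hz : sqNorm (z : GolayPt → ℤ) = 32)
    (hz' : sqNorm (z' : GolayPt → ℤ) = 32) (hu : dotInt u5 (z : GolayPt → ℤ) = 16)
    (hu' : dotInt u5 (z' : GolayPt → ℤ) = 16)
    (ht : dotInt x0f (z : GolayPt → ℤ) = dotInt x0f (z' : GolayPt → ℤ)) :
    ∃ g : Co0, g • U5 = U5 ∧ g • X0 = X0 ∧ g • z = z' := by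
  have hF : (z : GolayPt → ℤ) ∈ F32 := mem_F32.mpr ⟨z.2, hz⟩
  have hF' : (z' : GolayPt → ℤ) ∈ F32 := mem_F32.mpr ⟨z'.2, hz'⟩
  obtain ⟨a1, a2, a3, a4⟩ := nf_co3 z hz hu
  obtain ⟨b1, b2, b3, b4⟩ := nf_co3 z' hz' hu'
  have fin : ∀ (g1 g2 : Co0), g1 • U5 = U5 → g1 • X0 = X0 → g2 • U5 = U5 → g2 • X0 = X0 →
      (∃ σ ∈ M24, σ none = none ∧ σ (some 0) = some 0 ∧
        (fun i => ((g1 • z : leechLattice) : GolayPt → ℤ) (σ i)) =
          ((g2 • z' : leechLattice) : GolayPt → ℤ)) →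
      ∃ g : Co0, g • U5 = U5 ∧ g • X0 = X0 ∧ g • z = z' := by
    rintro g1 g2 c1 c2 d1 d2 ⟨σ, hσ, s1, s2, s3⟩
    obtain ⟨p1, p2⟩ := permG_fix hσ s1 s2
    have p3 : permG σ hσ • (g1 • z) = g2 • z' := Subtype.ext s3
    refine ⟨g2⁻¹ * permG σ hσ * g1, ?_, ?_, ?_⟩
    · rw [mul_smul, mul_smul, c1, p1]
      nth_rewrite 1 [← d1]
      rw [inv_smul_smul]
    · rw [mul_smul, mul_smul, c2, p2]
      nth_rewrite 1 [← d2]
      rw [inv_smul_smul]
    · rw [mul_smul, mul_smul, p3, inv_smul_smul]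
  rcases Z_cover hF hu with h | h | h | h | h
  · rcases Z_cover hF' hu' with h' | h' | h' | h' | h'
    · exact ⟨1, one_smul _ _, one_smul _ _, by rw [one_smul]; exact Subtype.ext (h.2.trans h'.2.symm)⟩
    all_goals (exfalso; have := h.1; have := h'.1; omega)
  · obtain ⟨g1, c1, c2, c3⟩ := a1 h.1
    obtain ⟨g2, d1, d2, d3⟩ := b1 (ht ▸ h.1)
    exact fin g1 g2 c1 c2 d1 d2 (conj_B2c c3 d3)
  · obtain ⟨g1, c1, c2, c3⟩ := a2 h.1
    obtain ⟨g2, d1, d2, d3⟩ := b2 (ht ▸ h.1)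
    exact fin g1 g2 c1 c2 d1 d2 (conj_B1b c3 d3)
  · obtain ⟨g1, c1, c2, c3⟩ := a3 h.1
    obtain ⟨g2, d1, d2, d3⟩ := b3 (ht ▸ h.1)
    exact fin g1 g2 c1 c2 d1 d2 (conj_B2b c3 d3)
  · obtain ⟨g1, c1, c2, c3⟩ := a4 h.1
    obtain ⟨g2, d1, d2, d3⟩ := b4 (ht ▸ h.1)
    exact fin g1 g2 c1 c2 d1 d2 (conj_B2a c3 d3)




/-- The set of the 11178 minimal vectors attached to a vector of norm 48. -/
def co3Set (u : leechLattice) : Set leechLattice :=
  {x : leechLattice | sqNorm (x : GolayPt → ℤ) = 32 ∧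
    dotInt (u : GolayPt → ℤ) (x : GolayPt → ℤ) = -16}

/-- A standard frame for a pair `(u, x)`. -/
theorem exists_std_co3 {u x : leechLattice} (hu : sqNorm (u : GolayPt → ℤ) = 48)
    (hx : x ∈ co3Set u) : ∃ g : Co0, g • u = U5 ∧ g • (-x) = X0 := by
  have h1 : dotInt (u : GolayPt → ℤ) ((-x : leechLattice) : GolayPt → ℤ) = 16 := by
    show dotInt (u : GolayPt → ℤ) (-(x : GolayPt → ℤ)) = 16
    rw [dotInt_neg_right', hx.2]; norm_num
  have n1 : sqNorm ((-x : leechLattice) : GolayPt → ℤ) = 32 := by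
    show sqNorm (-(x : GolayPt → ℤ)) = 32
    rw [sqNorm_neg']; exact hx.1
  obtain ⟨g, e1, e2⟩ := (pair_u5 u.2 (-x).2 hu n1 h1).exists_smul
  exact ⟨g, Subtype.ext e1, Subtype.ext e2⟩

theorem co3_transport {u x : leechLattice} {g : Co0} (h1 : g • u = U5) (h2 : g • (-x) = X0)
    (y : leechLattice) :
    sqNorm ((g • (-y) : leechLattice) : GolayPt → ℤ) = sqNorm (y : GolayPt → ℤ) ∧
    dotInt u5 ((g • (-y) : leechLattice) : GolayPt → ℤ) =
      -dotInt (u : GolayPt → ℤ) (y : GolayPt → ℤ) ∧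
    dotInt x0f ((g • (-y) : leechLattice) : GolayPt → ℤ) =
      dotInt (x : GolayPt → ℤ) (y : GolayPt → ℤ) := by
  refine ⟨?_, ?_, ?_⟩
  · rw [smul_norm]
    show sqNorm (-(y : GolayPt → ℤ)) = _
    rw [sqNorm_neg']
  · have : dotInt u5 ((g • (-y) : leechLattice) : GolayPt → ℤ) =
        dotInt ((g • u : leechLattice) : GolayPt → ℤ)
          ((g • (-y) : leechLattice) : GolayPt → ℤ) := by rw [h1]; rfl
    rw [this, smul_dot]
    show dotInt (u : GolayPt → ℤ) (-(y : GolayPt → ℤ)) = _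
    rw [dotInt_neg_right']
  · have : dotInt x0f ((g • (-y) : leechLattice) : GolayPt → ℤ) =
        dotInt ((g • (-x) : leechLattice) : GolayPt → ℤ)
          ((g • (-y) : leechLattice) : GolayPt → ℤ) := by rw [h2]; rfl
    rw [this, smul_dot]
    show dotInt (-(x : GolayPt → ℤ)) (-(y : GolayPt → ℤ)) = _
    rw [dotInt_neg_right', dotInt_neg_left', neg_neg]

theorem co3_values {u x : leechLattice} (hu : sqNorm (u : GolayPt → ℤ) = 48)
    (hx : x ∈ co3Set u) {y : leechLattice} (hy : y ∈ co3Set u) :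
    dotInt (x : GolayPt → ℤ) (y : GolayPt → ℤ) ∈ ({32, 16, -8, 0, 8} : Finset ℤ) := by
  obtain ⟨g, h1, h2⟩ := exists_std_co3 hu hx
  obtain ⟨t1, t2, t3⟩ := co3_transport h1 h2 y
  rw [← t3]
  apply Z_values
  unfold Zf
  rw [Finset.mem_filter, mem_F32]
  exact ⟨⟨(g • (-y)).2, by rw [t1, hy.1]⟩, by rw [t2, hy.2]; norm_num⟩

theorem co3_trans {u x : leechLattice} (hu : sqNorm (u : GolayPt → ℤ) = 48)
    (hx : x ∈ co3Set u) {y y' : leechLattice} (hy : y ∈ co3Set u) (hy' : y' ∈ co3Set u)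
    (h : dotInt (x : GolayPt → ℤ) (y : GolayPt → ℤ) =
      dotInt (x : GolayPt → ℤ) (y' : GolayPt → ℤ)) :
    ∃ g : Co0, g • u = u ∧ g • x = x ∧ g • y = y' := by
  obtain ⟨g, h1, h2⟩ := exists_std_co3 hu hx
  obtain ⟨t1, t2, t3⟩ := co3_transport h1 h2 y
  obtain ⟨t1', t2', t3'⟩ := co3_transport h1 h2 y'
  obtain ⟨k, k1, k2, k3⟩ := co3_std_trans (z := g • (-y)) (z' := g • (-y'))
    (by rw [t1, hy.1]) (by rw [t1', hy'.1]) (by rw [t2, hy.2]; norm_num)
    (by rw [t2', hy'.2]; norm_num) (by rw [t3, t3', h])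
  refine ⟨g⁻¹ * k * g, ?_, ?_, ?_⟩
  · rw [mul_smul, mul_smul, h1, k1, ← h1, inv_smul_smul]
  · have : (g⁻¹ * k * g) • (-x) = -x := by
      rw [mul_smul, mul_smul, h2, k2, ← h2, inv_smul_smul]
    rw [smul_neg'] at this
    exact neg_injective this
  · have : (g⁻¹ * k * g) • (-y) = -y' := by
      rw [mul_smul, mul_smul, k3, inv_smul_smul]
    rw [smul_neg'] at this
    exact neg_injective this

theorem co3_ncard {u x : leechLattice} (hu : sqNorm (u : GolayPt → ℤ) = 48)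
    (hx : x ∈ co3Set u) (t : ℤ) :
    {y : leechLattice | y ∈ co3Set u ∧
      dotInt (x : GolayPt → ℤ) (y : GolayPt → ℤ) = t}.ncard = (Zt t).card := by
  obtain ⟨g, h1, h2⟩ := exists_std_co3 hu hx
  have e : {y : leechLattice | y ∈ co3Set u ∧
      dotInt (x : GolayPt → ℤ) (y : GolayPt → ℤ) = t} = (fun y : leechLattice => g • (-y)) ⁻¹'
      {w : leechLattice | (w : GolayPt → ℤ) ∈ Zt t} := by
    ext y
    obtain ⟨t1, t2, t3⟩ := co3_transport h1 h2 y
    rw [Set.mem_preimage, Set.mem_setOf_eq, Set.mem_setOf_eq, mem_Zt, t1, t2, t3]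
    constructor
    · rintro ⟨⟨a1, a2⟩, a3⟩
      exact ⟨⟨(g • (-y)).2, a1⟩, by rw [a2]; norm_num, a3⟩
    · rintro ⟨⟨-, a1⟩, a2, a3⟩
      exact ⟨⟨a1, by omega⟩, a3⟩
  rw [e, Set.ncard_preimage_of_injective_subset_range]
  · rw [ncard_subtype_eq]
    intro w hw
    exact (mem_Zt.mp hw).1.1
  · intro a b hab
    exact neg_injective (MulAction.injective g hab)
  · intro w _
    exact ⟨-(g⁻¹ • w), by simp only [neg_neg, smul_inv_smul]⟩




/-- The class of vectors of the set having a given inner product with `x`. -/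
def co3Cls (u x : leechLattice) (t : ℤ) : Set leechLattice :=
  {y : leechLattice | y ∈ co3Set u ∧ dotInt (x : GolayPt → ℤ) (y : GolayPt → ℤ) = t}

theorem co3_orbit {u x : leechLattice} (hu : sqNorm (u : GolayPt → ℤ) = 48)
    (hx : x ∈ co3Set u) {y : leechLattice} (hy : y ∈ co3Set u) :
    MulAction.orbit ↥(stabilizer Co0 u ⊓ stabilizer Co0 x) y =
      co3Cls u x (dotInt (x : GolayPt → ℤ) (y : GolayPt → ℤ)) := by
  ext y'
  constructor
  · rintro ⟨⟨g, hg⟩, rfl⟩
    rw [Subgroup.mem_inf, mem_stabilizer_iff, mem_stabilizer_iff] at hg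
    show g • y ∈ co3Cls u x _
    refine ⟨⟨by rw [smul_norm]; exact hy.1, ?_⟩, ?_⟩
    · rw [dot_fix hg.1]; exact hy.2
    · rw [dot_fix hg.2]
  · rintro ⟨h1, h2⟩
    obtain ⟨g, e1, e2, e3⟩ := co3_trans hu hx hy h1 h2.symm
    exact ⟨⟨g, Subgroup.mem_inf.mpr ⟨e1, e2⟩⟩, e3⟩

theorem co3_rank5 (u x : leechLattice) (hu : sqNorm (u : GolayPt → ℤ) = 48)
    (hx : x ∈ co3Set u) :
    ∃ y₁ ∈ co3Set u, ∃ y₂ ∈ co3Set u, ∃ y₃ ∈ co3Set u, ∃ y₄ ∈ co3Set u,
      (MulAction.orbit ↥(stabilizer Co0 u ⊓ stabilizer Co0 x) y₁).ncard = 352 ∧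
      (MulAction.orbit ↥(stabilizer Co0 u ⊓ stabilizer Co0 x) y₂).ncard = 1100 ∧
      (MulAction.orbit ↥(stabilizer Co0 u ⊓ stabilizer Co0 x) y₃).ncard = 4125 ∧
      (MulAction.orbit ↥(stabilizer Co0 u ⊓ stabilizer Co0 x) y₄).ncard = 5600 ∧
      co3Set u = {x} ∪ MulAction.orbit ↥(stabilizer Co0 u ⊓ stabilizer Co0 x) y₁ ∪
        MulAction.orbit ↥(stabilizer Co0 u ⊓ stabilizer Co0 x) y₂ ∪
        MulAction.orbit ↥(stabilizer Co0 u ⊓ stabilizer Co0 x) y₃ ∪
        MulAction.orbit ↥(stabilizer Co0 u ⊓ stabilizer Co0 x) y₄ := by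
  obtain ⟨c32, c16, cm8, c0, c8⟩ := card_Zt
  have n32 : (co3Cls u x 32).ncard = 1 := by
    unfold co3Cls; rw [co3_ncard hu hx, c32]
  have n16 : (co3Cls u x 16).ncard = 1100 := by
    unfold co3Cls; rw [co3_ncard hu hx, c16]
  have nm8 : (co3Cls u x (-8)).ncard = 352 := by
    unfold co3Cls; rw [co3_ncard hu hx, cm8]
  have n0 : (co3Cls u x 0).ncard = 4125 := by
    unfold co3Cls; rw [co3_ncard hu hx, c0]
  have n8 : (co3Cls u x 8).ncard = 5600 := by
    unfold co3Cls; rw [co3_ncard hu hx, c8]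
  have ex : ∀ t : ℤ, (co3Cls u x t).ncard ≠ 0 → ∃ y ∈ co3Set u,
      MulAction.orbit ↥(stabilizer Co0 u ⊓ stabilizer Co0 x) y = co3Cls u x t := by
    intro t ht
    obtain ⟨y, hy⟩ := Set.nonempty_of_ncard_ne_zero ht
    refine ⟨y, hy.1, ?_⟩
    rw [co3_orbit hu hx hy.1, hy.2]
  obtain ⟨y1, hy1, o1⟩ := ex (-8) (by rw [nm8]; norm_num)
  obtain ⟨y2, hy2, o2⟩ := ex 16 (by rw [n16]; norm_num)
  obtain ⟨y3, hy3, o3⟩ := ex 0 (by rw [n0]; norm_num)
  obtain ⟨y4, hy4, o4⟩ := ex 8 (by rw [n8]; norm_num)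
  refine ⟨y1, hy1, y2, hy2, y3, hy3, y4, hy4, by rw [o1, nm8], by rw [o2, n16], by rw [o3, n0],
    by rw [o4, n8], ?_⟩
  rw [o1, o2, o3, o4]
  have hxx : x ∈ co3Cls u x 32 := ⟨hx, by rw [dotInt_self', hx.1]⟩
  obtain ⟨a, ha⟩ := Set.ncard_eq_one.mp n32
  have hxa : x = a := by rw [ha] at hxx; exact hxx
  ext y
  simp only [Set.mem_union, Set.mem_singleton_iff]
  constructor
  · intro hy
    have hv := co3_values hu hx hy
    simp only [Finset.mem_insert, Finset.mem_singleton] at hv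
    rcases hv with h | h | h | h | h
    · left; left; left; left
      have : y ∈ co3Cls u x 32 := ⟨hy, h⟩
      rw [ha] at this
      rw [hxa]; exact this
    · left; left; right; exact ⟨hy, h⟩
    · left; left; left; right; exact ⟨hy, h⟩
    · left; right; exact ⟨hy, h⟩
    · right; exact ⟨hy, h⟩
  · rintro ((((h | h) | h) | h) | h)
    · rw [h]; exact hx
    · exact h.1
    · exact h.1
    · exact h.1
    · exact h.1


end Cfsg.Agent.Helper27
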