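import Mathlib
import Cfsg.Agent.Lib.Helper27.Co3Rank
import Cfsg.Agent.S1640
import Cfsg.Agent.S0144

set_option autoImplicit false
set_option maxRecDepth 8000
open Cfsg

/-! Simplicity of the stabiliser of a vector of norm 48, from its primitive action on 11178 minimal vectors. -/

namespace Cfsg.Agent.Helper27
open MulAction



/-- A group of order `2 · p^a · q^b` with `p, q` odd primes is solvable. -/
theorem isSolvable_of_card_two_mul {N : Type*} [Group N] [Finite N] (p q a b : ℕ)
    (hp : p.Prime) (hq : q.Prime) (hodd : Odd (p ^ a * q ^ b))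
    (hcard : Nat.card N = 2 * (p ^ a * q ^ b)) : Group.IsSolvable N := by
  have : Fact (Nat.Prime 2) := ⟨Nat.prime_two⟩
  set m := p ^ a * q ^ b with hm
  have hm0 : m ≠ 0 := by rintro h; rw [h] at hodd; simp at hodd
  have h2dvd : 2 ∣ Nat.card N := ⟨m, hcard⟩
  have hmin : (Nat.card N).minFac = 2 := (Nat.minFac_eq_two_iff _).mpr h2dvd
  obtain ⟨T⟩ : Nonempty (Sylow 2 N) := inferInstance
  have hT2 : Nat.card T = 2 := by
    rw [Sylow.card_eq_multiplicity, hcard, Nat.factorization_mul (by norm_num) hm0]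
    have : m.factorization 2 = 0 := by
      apply Nat.factorization_eq_zero_of_not_dvd
      rw [← even_iff_two_dvd]
      exact Nat.not_even_iff_odd.mpr hodd
    simp [this, Nat.Prime.factorization_self Nat.prime_two]
  have hTc : IsCyclic T := isCyclic_of_prime_card hT2
  have hNC := IsCyclic.normalizer_le_centralizer hmin hTc
  have hcompl := IsCyclic.isComplement' hmin hTc
  set φ := MonoidHom.transferSylow T hNC with hφ
  have hcm : Nat.card φ.ker * Nat.card (T : Subgroup N) = Nat.card N := hcompl.card_mul_card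
  have hker : Nat.card φ.ker = p ^ a * q ^ b := by
    have : Nat.card (T : Subgroup N) = 2 := hT2
    rw [this, hcard] at hcm
    omega
  have s1 : Group.IsSolvable φ.ker := Cfsg.Agent.S0144.result p q a b hp hq hker
  have s2 : Group.IsSolvable (T : Subgroup N) := by
    have := hTc.commGroup
    infer_instance
  apply Group.isSolvable_of_ker_le_range φ.ker.subtype φ
  rw [Subgroup.range_subtype]




theorem zsmul_cancel14 {v w : leechLattice} (h : (14 : ℤ) • v = (14 : ℤ) • w) : v = w := by
  apply Subtype.ext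
  funext i
  have := congrArg (fun u : leechLattice => u.1 i) h
  simp only [AddSubgroup.coe_zsmul, Pi.smul_apply, smul_eq_mul] at this
  omega

/-- the standard minimal vectors `4e_∞ - 4e_j` -/
def A4 (j : GolayPt) : leechLattice := ⟨vec44 none j (-1), vec44_mem _ _ _ (Or.inr rfl)⟩

theorem e8_none_eq : (14 : ℤ) • e8 none =
    ∑ j ∈ (Finset.univ : Finset GolayPt).erase none, A4 j + (4 : ℤ) • U5 := by
  apply Subtype.ext
  funext i
  rw [AddSubgroup.coe_zsmul, AddSubgroup.coe_add, AddSubgroup.val_finsetSum, Pi.smul_apply,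
    Pi.add_apply, Finset.sum_apply, AddSubgroup.coe_zsmul, Pi.smul_apply]
  show (14 : ℤ) • vec8 none i = ∑ j ∈ (Finset.univ : Finset GolayPt).erase none,
    vec44 none j (-1) i + (4 : ℤ) • u5 i
  rw [u5_apply]
  by_cases hi : i = none
  · subst hi
    have : ∀ j ∈ (Finset.univ : Finset GolayPt).erase none, vec44 none j (-1) none = 4 := by
      intro j hj
      exact vec44_apply_left (Ne.symm (Finset.ne_of_mem_erase hj)) _
    rw [Finset.sum_congr rfl this, Finset.sum_const, Finset.card_erase_of_mem (Finset.mem_univ _),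
      Finset.card_univ, card_golayPt, if_pos rfl]
    unfold vec8
    rw [if_pos rfl]
    norm_num
  · rw [Finset.sum_eq_single i, vec44_apply_right (Ne.symm hi), if_neg hi]
    · unfold vec8
      rw [if_neg hi]; norm_num
    · intro j _ hji
      exact vec44_apply_other hi (Ne.symm hji) _
    · intro h
      exact absurd (Finset.mem_erase.mpr ⟨hi, Finset.mem_univ _⟩) h

theorem e8_some_eq {i : GolayPt} (hi : i ≠ none) :
    (14 : ℤ) • e8 i = (14 : ℤ) • e8 none - (28 : ℤ) • A4 i := by
  apply Subtype.ext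
  funext k
  rw [AddSubgroup.coe_zsmul, AddSubgroup.coe_sub, AddSubgroup.coe_zsmul, AddSubgroup.coe_zsmul,
    Pi.smul_apply, Pi.sub_apply, Pi.smul_apply, Pi.smul_apply]
  show (14 : ℤ) • vec8 i k = (14 : ℤ) • vec8 none k - (28 : ℤ) • vec44 none i (-1) k
  unfold vec8 vec44
  by_cases hk : k = none
  · subst hk
    rw [if_neg (Ne.symm hi), if_pos rfl, if_pos rfl, if_neg (Ne.symm hi)]; norm_num
  · rw [if_neg hk, if_neg hk]
    by_cases hki : k = i
    · rw [if_pos hki, if_pos hki]; norm_num
    · rw [if_neg hki, if_neg hki]; norm_num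

theorem co3_faithful_std (h : Co0) (hU : h • U5 = U5) (hA : ∀ j, j ≠ none → h • A4 j = A4 j) :
    h = 1 := by
  have hz : ∀ (k : Co0) (n : ℤ) (y : leechLattice), k • (n • y) = n • (k • y) :=
    fun k n y => co0_zsmul k.2 n y
  have hs : ∀ (k : Co0) (s : Finset GolayPt) (f : GolayPt → leechLattice),
      k • (∑ j ∈ s, f j) = ∑ j ∈ s, k • f j := fun k s f => co0_sum k.2 s f
  have hn : h • e8 none = e8 none := by
    apply zsmul_cancel14
    rw [← hz, e8_none_eq, smul_add', hs, hz, hU]
    congr 1
    apply Finset.sum_congr rfl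
    intro j hj
    exact hA j (Finset.ne_of_mem_erase hj)
  apply eq_one_of_fix_e8
  intro i
  by_cases hi : i = none
  · subst hi; exact hn
  · apply zsmul_cancel14
    rw [← hz, e8_some_eq hi, smul_sub', hz, hz, hn, hA i hi]

theorem co3_faithful {u : leechLattice} (hu : sqNorm (u : GolayPt → ℤ) = 48) {x : leechLattice}
    (hx : x ∈ co3Set u) (g : Co0) (hgu : g • u = u) (hfix : ∀ y ∈ co3Set u, g • y = y) :
    g = 1 := by
  obtain ⟨g0, h1, h2⟩ := exists_std_co3 hu hx
  have key : g0 * g * g0⁻¹ = 1 := by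
    apply co3_faithful_std
    · rw [mul_smul, mul_smul, ← h1, inv_smul_smul, hgu]
    · intro j hj
      have hy : -(g0⁻¹ • A4 j) ∈ co3Set u := by
        obtain ⟨t1, t2, t3⟩ := co3_transport h1 h2 (-(g0⁻¹ • A4 j))
        rw [neg_neg, smul_inv_smul] at t1 t2
        refine ⟨?_, ?_⟩
        · rw [← t1]
          exact sqNorm_vec44 _ _ (Ne.symm hj) _ (Or.inr rfl)
        · have : dotInt u5 (A4 j : GolayPt → ℤ) = 16 := by
            show dotInt u5 (vec44 none j (-1)) = 16
            rw [dotInt_comm', dotInt_vec44_left, u5_apply, u5_apply, if_pos rfl, if_neg hj]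
            norm_num
          rw [this] at t2
          omega
      have := hfix _ hy
      rw [smul_neg'] at this
      have h3 : g • (g0⁻¹ • A4 j) = g0⁻¹ • A4 j := neg_injective this
      rw [mul_smul, mul_smul, h3, smul_inv_smul]
  have := congrArg (fun z => g0⁻¹ * z * g0) key
  simpa [mul_assoc] using this




theorem ncard_co3Set {u : leechLattice} (hu : sqNorm (u : GolayPt → ℤ) = 48) :
    (co3Set u).ncard = 11178 := (Cfsg.Agent.S1640.result u hu).1

theorem co3Set_trans {u : leechLattice} (hu : sqNorm (u : GolayPt → ℤ) = 48) {x x' : leechLattice}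
    (hx : x ∈ co3Set u) (hx' : x' ∈ co3Set u) : ∃ g : Co0, g • u = u ∧ g • x = x' :=
  (Cfsg.Agent.S1640.result u hu).2 x hx x' hx'

theorem stab_co3_eq (u x : leechLattice) :
    stabilizer Co0 u ⊓ stabilizer Co0 x = stabilizer Co0 u ⊓ stabilizer Co0 (-x - u) := by
  ext g
  rw [Subgroup.mem_inf, Subgroup.mem_inf, mem_stabilizer_iff, mem_stabilizer_iff,
    mem_stabilizer_iff]
  constructor
  · rintro ⟨a1, a2⟩
    exact ⟨a1, by rw [smul_sub', smul_neg', a1, a2]⟩
  · rintro ⟨a1, a2⟩
    refine ⟨a1, ?_⟩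
    rw [smul_sub', smul_neg', a1] at a2
    exact neg_injective (sub_left_injective a2)

theorem co3_stab_simple {u x : leechLattice} (hu : sqNorm (u : GolayPt → ℤ) = 48)
    (hx : x ∈ co3Set u) : IsSimpleGroup ↥(stabilizer Co0 u ⊓ stabilizer Co0 x) := by
  rw [stab_co3_eq]
  apply hs_simple hu
  · show sqNorm (-(x : GolayPt → ℤ) - (u : GolayPt → ℤ)) = 48
    rw [sqNorm_sub', sqNorm_neg', dotInt_neg_left', dotInt_comm', hx.1, hu, hx.2]; norm_num
  · show dotInt (u : GolayPt → ℤ) (-(x : GolayPt → ℤ) - (u : GolayPt → ℤ)) = -32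
    rw [dotInt_sub_right', dotInt_neg_right', dotInt_self', hx.2, hu]; norm_num

theorem co3_simple {u : leechLattice} (hu : sqNorm (u : GolayPt → ℤ) = 48) :
    IsSimpleGroup ↥(stabilizer Co0 u) := by
  have hfinC := finite_co0
  have hcard := ncard_co3Set hu
  have hne : (co3Set u).Nonempty := Set.nonempty_of_ncard_ne_zero (by rw [hcard]; norm_num)
  obtain ⟨x, hx⟩ := hne
  obtain ⟨c32, c16, cm8, c0, c8⟩ := card_Zt
  have hxx : dotInt (x : GolayPt → ℤ) (x : GolayPt → ℤ) = 32 := by
    rw [dotInt_self']; exact hx.1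
  let T : Fin 4 → Set leechLattice := ![co3Cls u x (-8), co3Cls u x 16, co3Cls u x 0, co3Cls u x 8]
  have hc : ∀ i, (T i).ncard = ![352, 1100, 4125, 5600] i := by
    intro i
    fin_cases i
    · show (co3Cls u x (-8)).ncard = 352
      unfold co3Cls; rw [co3_ncard hu hx, cm8]
    · show (co3Cls u x 16).ncard = 1100
      unfold co3Cls; rw [co3_ncard hu hx, c16]
    · show (co3Cls u x 0).ncard = 4125
      unfold co3Cls; rw [co3_ncard hu hx, c0]
    · show (co3Cls u x 8).ncard = 5600
      unfold co3Cls; rw [co3_ncard hu hx, c8]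
  have hTt : ∀ i, T i = co3Cls u x (![(-8 : ℤ), 16, 0, 8] i) := by
    intro i; fin_cases i <;> rfl
  have hinv : ∀ g ∈ stabilizer Co0 u, ∀ y ∈ co3Set u, g • y ∈ co3Set u := by
    intro g hg y hy
    rw [mem_stabilizer_iff] at hg
    exact ⟨by rw [smul_norm]; exact hy.1, by rw [dot_fix hg]; exact hy.2⟩
  apply simple_of_action (stabilizer Co0 u) (co3Set u)
    (Set.finite_of_ncard_ne_zero (by rw [hcard]; norm_num)) hinv x hx ?_ T
  · -- T i ⊆ S
    intro i y hy
    rw [hTt] at hy
    exact hy.1
  · -- cover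
    intro y hy hne
    have hv := co3_values hu hx hy
    simp only [Finset.mem_insert, Finset.mem_singleton] at hv
    rcases hv with h | h | h | h | h
    · exfalso
      apply hne
      have n32 : (co3Cls u x 32).ncard = 1 := by
        unfold co3Cls; rw [co3_ncard hu hx, c32]
      obtain ⟨a, ha⟩ := Set.ncard_eq_one.mp n32
      have h1 : x ∈ co3Cls u x 32 := ⟨hx, hxx⟩
      have h2 : y ∈ co3Cls u x 32 := ⟨hy, h⟩
      rw [ha] at h1 h2
      exact h2.trans h1.symm
    · exact ⟨1, hy, h⟩
    · exact ⟨0, hy, h⟩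
    · exact ⟨2, hy, h⟩
    · exact ⟨3, hy, h⟩
  · -- transitivity on the suborbits
    intro i y hy y' hy'
    rw [hTt] at hy hy'
    obtain ⟨g, e1, e2, e3⟩ := co3_trans hu hx hy.1 hy'.1 (hy.2.trans hy'.2.symm)
    exact ⟨g, e1, e2, e3⟩
  · -- disjointness
    intro i j hij
    rw [hTt, hTt, Set.disjoint_left]
    intro y hy hy'
    have := hy.2.symm.trans hy'.2
    revert this hij
    fin_cases i <;> fin_cases j <;> simp
  · -- the base point
    intro i h
    rw [hTt] at h
    have := h.2
    rw [hxx] at this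
    revert this
    fin_cases i <;> simp
  · -- numerical condition
    intro S' hS'
    rw [hcard, Finset.sum_congr rfl (fun i _ => hc i)] at hS'
    revert S'
    decide
  · -- faithfulness
    intro g hg hfix
    rw [mem_stabilizer_iff] at hg
    exact co3_faithful hu hx g hg hfix
  · exact co3_stab_simple hu hx
  · intro N hN
    rw [hcard] at hN
    exact isSolvable_of_card_two_mul 3 23 5 1 (by norm_num) (by norm_num) (by decide)
      (by rw [hN]; norm_num)
  · rw [hcard]
    exact not_isPrimePow_of_two_primes Nat.prime_two (by norm_num : Nat.Prime 3) (by norm_num)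
      (by norm_num) (by norm_num)
  · -- transitivity
    intro y hy
    obtain ⟨g, e1, e2⟩ := co3Set_trans hu hx hy
    exact ⟨g, e1, e2⟩


end Cfsg.Agent.Helper27
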