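import Mathlib
import Cfsg.Agent.Lib.Helper27.Co3Rank
import Cfsg.Agent.S1605

set_option autoImplicit false
set_option maxRecDepth 8000
open Cfsg

/-! The 2025 minimal vectors attached to a pair of minimal vectors with inner product -8: count, transitivity of the joint stabiliser, and its three further suborbits of sizes 330, 462, 1232. -/

namespace Cfsg.Agent.Helper27
open Cfsg.Agent.S0394 (mem_octads_iff fC)
open Cfsg.Agent.Helper29 Cfsg.Agent.Helper29.M24
open scoped Pointwise
open MulAction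



/-- The sum of two octads meeting in four points is an octad. -/
theorem symmDiff_octad {o o' : Finset GolayPt} (ho : o ∈ octads) (ho' : o' ∈ octads)
    (h4 : (o ∩ o').card = 4) : symmDiff o o' ∈ octads := by
  obtain ⟨v, hv, rfl, h8⟩ := (mem_octads_iff o).mp ho
  obtain ⟨w, hw, rfl, h8'⟩ := (mem_octads_iff o').mp ho'
  rw [mem_octads_iff]
  refine ⟨v + w, golayCode.add_mem hv hw, Cfsg.Agent.S0363.support₂_add v w, ?_⟩
  have := Cfsg.Agent.S0363.card_symmDiff_add (support₂ v) (support₂ w)
  omega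

/-- An octad through `p` and a five-set. -/
theorem exists_octad_five {s : Finset GolayPt} (hs : s.card = 5) :
    ∃ o ∈ octads, s ⊆ o := by
  obtain ⟨o, ⟨ho, hso⟩, -⟩ := Cfsg.Agent.S0363.result.2 s hs
  exact ⟨o, ho, hso⟩

/-- An octad through `p`, avoiding `q`, meeting a given octad (avoiding both) in four points. -/
theorem exists_octad_meet4 {r : Finset GolayPt} (hr : r ∈ octads) {p q : GolayPt} (hp : p ∉ r)
    (hq : q ∉ r) (hpq : p ≠ q) : ∃ o ∈ octads, p ∈ o ∧ q ∉ o ∧ (o ∩ r).card = 4 := by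
  obtain ⟨t, ht, ht5⟩ := Finset.exists_subset_card_eq (s := r) (n := 5)
    (by rw [octad_card hr]; norm_num)
  obtain ⟨e, he⟩ : t.Nonempty := by rw [← Finset.card_pos, ht5]; norm_num
  -- A = t minus e, and a second point d
  set A := t.erase e with hA
  have hA4 : A.card = 4 := by rw [hA, Finset.card_erase_of_mem he, ht5]
  obtain ⟨d, hd⟩ : A.Nonempty := by rw [← Finset.card_pos, hA4]; norm_num
  set A' := t.erase d with hA'
  have hdt : d ∈ t := Finset.mem_of_mem_erase hd
  have hde : d ≠ e := Finset.ne_of_mem_erase hd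
  have hA'4 : A'.card = 4 := by rw [hA', Finset.card_erase_of_mem hdt, ht5]
  have hpA : p ∉ A := fun h => hp (ht (Finset.mem_of_mem_erase h))
  have hpA' : p ∉ A' := fun h => hp (ht (Finset.mem_of_mem_erase h))
  -- general: for a four-subset B of r, the octad through p and B
  have key : ∀ B : Finset GolayPt, B ⊆ r → B.card = 4 →
      ∃ o ∈ octads, p ∈ o ∧ B ⊆ o ∧ (o ∩ r).card = 4 := by
    intro B hB hB4
    have hpB : p ∉ B := fun h => hp (hB h)
    obtain ⟨o, ho, hso⟩ := exists_octad_five (s := insert p B)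
      (by rw [Finset.card_insert_of_notMem hpB, hB4])
    have hpo : p ∈ o := hso (Finset.mem_insert_self _ _)
    have hBo : B ⊆ o := fun i hi => hso (Finset.mem_insert_of_mem hi)
    refine ⟨o, ho, hpo, hBo, ?_⟩
    have hne : o ≠ r := by rintro rfl; exact hp hpo
    have h1 := octad_inter_le ho hr hne
    have h2 : 4 ≤ (o ∩ r).card := by
      rw [← hB4]
      exact Finset.card_le_card (Finset.subset_inter hBo hB)
    omega
  obtain ⟨o1, ho1, hp1, hB1, hc1⟩ := key A (fun i hi => ht (Finset.mem_of_mem_erase hi)) hA4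
  by_cases hq1 : q ∈ o1
  · obtain ⟨o2, ho2, hp2, hB2, hc2⟩ := key A' (fun i hi => ht (Finset.mem_of_mem_erase hi)) hA'4
    refine ⟨o2, ho2, hp2, ?_, hc2⟩
    intro hq2
    -- o1 and o2 share p, q and the three points of t other than d, e
    set C := (t.erase e).erase d with hC
    have hC3 : C.card = 3 := by
      rw [hC, Finset.card_erase_of_mem hd, hA4]
    have hCA : C ⊆ A := Finset.erase_subset _ _
    have hCA' : C ⊆ A' := by
      intro i hi
      rw [hC, Finset.mem_erase, Finset.mem_erase] at hi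
      exact Finset.mem_erase.mpr ⟨hi.1, hi.2.2⟩
    have hpC : p ∉ C := fun h => hpA (hCA h)
    have hqC : q ∉ C := fun h => hq (ht (Finset.mem_of_mem_erase (hCA h)))
    have h5 : (insert p (insert q C)).card = 5 := by
      rw [Finset.card_insert_of_notMem, Finset.card_insert_of_notMem hqC, hC3]
      rw [Finset.mem_insert, not_or]
      exact ⟨hpq, hpC⟩
    have heq : o1 = o2 := by
      apply Cfsg.Agent.S0363.octad_unique ho1 ho2 h5
      · intro i hi
        rw [Finset.mem_insert, Finset.mem_insert] at hi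
        rcases hi with rfl | rfl | hi
        · exact hp1
        · exact hq1
        · exact hB1 (hCA hi)
      · intro i hi
        rw [Finset.mem_insert, Finset.mem_insert] at hi
        rcases hi with rfl | rfl | hi
        · exact hp2
        · exact hq2
        · exact hB2 (hCA' hi)
    -- then o1 contains all of t, five points of r
    have ht1 : t ⊆ o1 := by
      intro i hi
      by_cases hie : i = e
      · subst hie
        rw [heq]
        exact hB2 (Finset.mem_erase.mpr ⟨Ne.symm hde, hi⟩)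
      · exact hB1 (Finset.mem_erase.mpr ⟨hie, hi⟩)
    have : o1 = r := Cfsg.Agent.S0363.octad_unique ho1 hr ht5 ht1 ht
    rw [this] at hp1
    exact hp hp1
  · exact ⟨o1, ho1, hp1, hq1, hc1⟩

/-- The two-point stabiliser in the code's group is transitive on the octads avoiding both
points. -/
theorem m22_trans_330 {p q : GolayPt} (hpq : p ≠ q) {r r' : Finset GolayPt} (hr : r ∈ octads)
    (hr' : r' ∈ octads) (hp : p ∉ r) (hq : q ∉ r) (hp' : p ∉ r') (hq' : q ∉ r') :
    ∃ g ∈ M24, g p = p ∧ g q = q ∧ g • r = r' := by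
  obtain ⟨-, tr1, tr2⟩ := Cfsg.Agent.S1605.result p q hpq
  -- decompose r and r'
  have dec : ∀ s : Finset GolayPt, s ∈ octads → p ∉ s → q ∉ s →
      ∃ o o' : Finset GolayPt, (o ∈ octads ∧ p ∈ o ∧ q ∉ o) ∧ (o' ∈ octads ∧ p ∈ o' ∧ q ∉ o') ∧
        (o ∩ o').card = 4 ∧ symmDiff o o' = s := by
    intro s hs hps hqs
    obtain ⟨o, ho, hpo, hqo, h4⟩ := exists_octad_meet4 hs hps hqs hpq
    have ho' : symmDiff o s ∈ octads := symmDiff_octad ho hs h4
    refine ⟨o, symmDiff o s, ⟨ho, hpo, hqo⟩, ⟨ho', ?_, ?_⟩, ?_, ?_⟩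
    · rw [Finset.mem_symmDiff]; left; exact ⟨hpo, hps⟩
    · rw [Finset.mem_symmDiff, not_or]; exact ⟨fun h => hqo h.1, fun h => hqs h.1⟩
    · have h1 := Cfsg.Agent.S0363.card_symmDiff_add o (symmDiff o s)
      rw [symmDiff_symmDiff_cancel_left, octad_card ho, octad_card hs, octad_card ho'] at h1
      omega
    · rw [symmDiff_symmDiff_cancel_left]
  obtain ⟨o, o', ho, ho', h4, rfl⟩ := dec r hr hp hq
  obtain ⟨o1, o1', ho1, ho1', h41, rfl⟩ := dec r' hr' hp' hq'
  obtain ⟨g1, hg1, a1, a2, a3⟩ := tr1 o o1 ho ho1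
  have hg1o' : (g1 • o' ∈ octads ∧ p ∈ g1 • o' ∧ q ∉ g1 • o') := by
    refine ⟨smul_mem_octads hg1 ho'.1, ?_, ?_⟩
    · rw [← a1]; exact Finset.smul_mem_smul_finset ho'.2.1
    · intro h
      rw [← a2] at h
      obtain ⟨j, hj, hji⟩ := Finset.mem_smul_finset.mp h
      have : j = q := g1.injective hji
      rw [this] at hj; exact ho'.2.2 hj
  have hc : (o1 ∩ g1 • o').card = (o1 ∩ o1').card := by
    rw [h41, ← a3, ← Finset.smul_finset_inter, Finset.card_smul_finset, h4]
  obtain ⟨g2, hg2, b1, b2, b3, b4⟩ := (tr2 o1 ho1).2.2 (g1 • o') o1' hg1o' ho1' hc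
  refine ⟨g2 * g1, Subgroup.mul_mem _ hg2 hg1, ?_, ?_, ?_⟩
  · rw [Equiv.Perm.mul_apply, a1, b1]
  · rw [Equiv.Perm.mul_apply, a2, b2]
  · rw [Finset.smul_finset_symmDiff, mul_smul, mul_smul, a3, b3, b4]




/-- The vectors of the 11178 with prescribed coordinates at the two base points. -/
noncomputable def cell (a b : ℤ) : Finset (GolayPt → ℤ) :=
  Zf.filter (fun z => (z none, z (some 0)) = (a, b))

theorem mem_cell {a b : ℤ} {z : GolayPt → ℤ} : z ∈ cell a b ↔
    (z ∈ F32 ∧ dotInt u5 z = 16) ∧ z none = a ∧ z (some 0) = b := by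
  unfold cell Zf
  rw [Finset.mem_filter, Finset.mem_filter, Prod.mk.injEq]

theorem Z_cell_cover {z : GolayPt → ℤ} (hF : z ∈ F32) (hP : dotInt u5 z = 16) :
    ((z none, z (some 0)) = (4, -4) ∧ z = x0f) ∨ ((z none, z (some 0)) = (4, 0) ∧ z ∈ PA1) ∨
    ((z none, z (some 0)) = (0, 0) ∧ z ∈ PB1a) ∨ ((z none, z (some 0)) = (0, 2) ∧ z ∈ PB1b) ∨
    ((z none, z (some 0)) = (2, 0) ∧ z ∈ PB2a) ∨ ((z none, z (some 0)) = (2, 2) ∧ z ∈ PB2b) ∨
    ((z none, z (some 0)) = (2, -2) ∧ z ∈ PB2c) ∨ ((z none, z (some 0)) = (3, -1) ∧ z ∈ PC1a) ∨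
    ((z none, z (some 0)) = (3, 1) ∧ z ∈ PC1b) ∨ ((z none, z (some 0)) = (1, 3) ∧ z ∈ PC2a) ∨
    ((z none, z (some 0)) = (1, 1) ∧ z ∈ PC2b) ∨ ((z none, z (some 0)) = (1, -1) ∧ z ∈ PC2c) := by
  rcases Z_types hF hP with h | h | h | h | h | h | h | h | h | h | h | h
  · left
    refine ⟨?_, h⟩
    rw [h, vec44_apply_left (by decide), vec44_apply_right (by decide)]; norm_num
  · right; left; exact ⟨by rw [h.vals.1, h.vals.2], h.mem⟩
  · right; right; left; exact ⟨by rw [h.vals.1, h.vals.2], h.mem⟩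
  · right; right; right; left; exact ⟨by rw [h.vals.1, h.vals.2], h.mem⟩
  · right; right; right; right; left; exact ⟨by rw [h.vals.1, h.vals.2], h.mem⟩
  · right; right; right; right; right; left; exact ⟨by rw [h.vals.1, h.vals.2], h.mem⟩
  · right; right; right; right; right; right; left; exact ⟨by rw [h.vals.1, h.vals.2], h.mem⟩
  · right; right; right; right; right; right; right; left
    exact ⟨by rw [h.vals.1, h.vals.2], h.mem⟩
  · right; right; right; right; right; right; right; right; left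
    exact ⟨by rw [h.vals.1, h.vals.2], h.mem⟩
  · right; right; right; right; right; right; right; right; right; left
    exact ⟨by rw [h.vals.1, h.vals.2], h.mem⟩
  · right; right; right; right; right; right; right; right; right; right; left
    exact ⟨by rw [h.vals.1, h.vals.2], h.mem⟩
  · right; right; right; right; right; right; right; right; right; right; right
    exact ⟨by rw [h.vals.1, h.vals.2], h.mem⟩

/-- the twelve pairs of coordinates -/
def cellPairs : Finset (ℤ × ℤ) :=
  {(4, -4), (4, 0), (0, 0), (0, 2), (2, 0), (2, 2), (2, -2), (3, -1), (3, 1), (1, 3), (1, 1), (1, -1)}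

theorem cell_vals {z : GolayPt → ℤ} (hz : z ∈ Zf) : (z none, z (some 0)) ∈ cellPairs := by
  unfold Zf at hz
  rw [Finset.mem_filter] at hz
  unfold cellPairs
  simp only [Finset.mem_insert, Finset.mem_singleton]
  rcases Z_cell_cover hz.1 hz.2 with h | h | h | h | h | h | h | h | h | h | h | h
  · left; exact h.1
  · right; left; exact h.1
  · right; right; left; exact h.1
  · right; right; right; left; exact h.1
  · right; right; right; right; left; exact h.1
  · right; right; right; right; right; left; exact h.1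
  · right; right; right; right; right; right; left; exact h.1
  · right; right; right; right; right; right; right; left; exact h.1
  · right; right; right; right; right; right; right; right; left; exact h.1
  · right; right; right; right; right; right; right; right; right; left; exact h.1
  · right; right; right; right; right; right; right; right; right; right; left; exact h.1
  · right; right; right; right; right; right; right; right; right; right; right; exact h.1

theorem cell_le (a b : ℤ) (W : Finset (GolayPt → ℤ))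
    (h : ∀ z, z ∈ F32 → dotInt u5 z = 16 → (z none, z (some 0)) = (a, b) → z ∈ W) :
    (cell a b).card ≤ W.card := by
  apply Finset.card_le_card
  intro z hz
  unfold cell Zf at hz
  rw [Finset.mem_filter, Finset.mem_filter] at hz
  exact h z hz.1.1 hz.1.2 hz.2

theorem card_cell_le : (cell 4 (-4)).card ≤ 1 ∧ (cell 4 0).card ≤ 22 ∧ (cell 0 0).card ≤ 330 ∧
    (cell 0 2).card ≤ 176 ∧ (cell 2 0).card ≤ 176 * 21 ∧ (cell 2 2).card ≤ 77 * 15 ∧
    (cell 2 (-2)).card ≤ 77 * 6 ∧ (cell 3 (-1)).card ≤ 616 ∧ (cell 3 1).card ≤ 672 ∧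
    (cell 1 3).card ≤ 176 ∧ (cell 1 1).card ≤ 330 * 8 ∧ (cell 1 (-1)).card ≤ 176 * 7 := by
  refine ⟨?_, ?_, ?_, ?_, ?_, ?_, ?_, ?_, ?_, ?_, ?_, ?_⟩
  · refine le_trans (cell_le 4 (-4) {x0f} ?_) (by rw [Finset.card_singleton])
    intro z hF hP ht
    rcases Z_cell_cover hF hP with h | h | h | h | h | h | h | h | h | h | h | h
    · rw [Finset.mem_singleton]; exact h.2
    all_goals (exfalso; have := h.1; rw [ht] at this; revert this; decide)
  · refine le_trans (cell_le 4 0 PA1 ?_) card_PA1
    intro z hF hP ht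
    rcases Z_cell_cover hF hP with h | h | h | h | h | h | h | h | h | h | h | h
    · exfalso; have := h.1; rw [ht] at this; revert this; decide
    · exact h.2
    all_goals (exfalso; have := h.1; rw [ht] at this; revert this; decide)
  · refine le_trans (cell_le 0 0 PB1a ?_) card_PB1a
    intro z hF hP ht
    rcases Z_cell_cover hF hP with h | h | h | h | h | h | h | h | h | h | h | h
    · exfalso; have := h.1; rw [ht] at this; revert this; decide
    · exfalso; have := h.1; rw [ht] at this; revert this; decide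
    · exact h.2
    all_goals (exfalso; have := h.1; rw [ht] at this; revert this; decide)
  · refine le_trans (cell_le 0 2 PB1b ?_) card_PB1b
    intro z hF hP ht
    rcases Z_cell_cover hF hP with h | h | h | h | h | h | h | h | h | h | h | h
    · exfalso; have := h.1; rw [ht] at this; revert this; decide
    · exfalso; have := h.1; rw [ht] at this; revert this; decide
    · exfalso; have := h.1; rw [ht] at this; revert this; decide
    · exact h.2
    all_goals (exfalso; have := h.1; rw [ht] at this; revert this; decide)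
  · refine le_trans (cell_le 2 0 PB2a ?_) card_PB2a
    intro z hF hP ht
    rcases Z_cell_cover hF hP with h | h | h | h | h | h | h | h | h | h | h | h
    · exfalso; have := h.1; rw [ht] at this; revert this; decide
    · exfalso; have := h.1; rw [ht] at this; revert this; decide
    · exfalso; have := h.1; rw [ht] at this; revert this; decide
    · exfalso; have := h.1; rw [ht] at this; revert this; decide
    · exact h.2
    all_goals (exfalso; have := h.1; rw [ht] at this; revert this; decide)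
  · refine le_trans (cell_le 2 2 PB2b ?_) card_PB2b
    intro z hF hP ht
    rcases Z_cell_cover hF hP with h | h | h | h | h | h | h | h | h | h | h | h
    · exfalso; have := h.1; rw [ht] at this; revert this; decide
    · exfalso; have := h.1; rw [ht] at this; revert this; decide
    · exfalso; have := h.1; rw [ht] at this; revert this; decide
    · exfalso; have := h.1; rw [ht] at this; revert this; decide
    · exfalso; have := h.1; rw [ht] at this; revert this; decide
    · exact h.2
    all_goals (exfalso; have := h.1; rw [ht] at this; revert this; decide)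
  · refine le_trans (cell_le 2 (-2) PB2c ?_) card_PB2c
    intro z hF hP ht
    rcases Z_cell_cover hF hP with h | h | h | h | h | h | h | h | h | h | h | h
    · exfalso; have := h.1; rw [ht] at this; revert this; decide
    · exfalso; have := h.1; rw [ht] at this; revert this; decide
    · exfalso; have := h.1; rw [ht] at this; revert this; decide
    · exfalso; have := h.1; rw [ht] at this; revert this; decide
    · exfalso; have := h.1; rw [ht] at this; revert this; decide
    · exfalso; have := h.1; rw [ht] at this; revert this; decide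
    · exact h.2
    all_goals (exfalso; have := h.1; rw [ht] at this; revert this; decide)
  · refine le_trans (cell_le 3 (-1) PC1a ?_) card_PC1a
    intro z hF hP ht
    rcases Z_cell_cover hF hP with h | h | h | h | h | h | h | h | h | h | h | h
    · exfalso; have := h.1; rw [ht] at this; revert this; decide
    · exfalso; have := h.1; rw [ht] at this; revert this; decide
    · exfalso; have := h.1; rw [ht] at this; revert this; decide
    · exfalso; have := h.1; rw [ht] at this; revert this; decide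
    · exfalso; have := h.1; rw [ht] at this; revert this; decide
    · exfalso; have := h.1; rw [ht] at this; revert this; decide
    · exfalso; have := h.1; rw [ht] at this; revert this; decide
    · exact h.2
    all_goals (exfalso; have := h.1; rw [ht] at this; revert this; decide)
  · refine le_trans (cell_le 3 1 PC1b ?_) card_PC1b
    intro z hF hP ht
    rcases Z_cell_cover hF hP with h | h | h | h | h | h | h | h | h | h | h | h
    · exfalso; have := h.1; rw [ht] at this; revert this; decide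
    · exfalso; have := h.1; rw [ht] at this; revert this; decide
    · exfalso; have := h.1; rw [ht] at this; revert this; decide
    · exfalso; have := h.1; rw [ht] at this; revert this; decide
    · exfalso; have := h.1; rw [ht] at this; revert this; decide
    · exfalso; have := h.1; rw [ht] at this; revert this; decide
    · exfalso; have := h.1; rw [ht] at this; revert this; decide
    · exfalso; have := h.1; rw [ht] at this; revert this; decide
    · exact h.2
    all_goals (exfalso; have := h.1; rw [ht] at this; revert this; decide)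
  · refine le_trans (cell_le 1 3 PC2a ?_) card_PC2a
    intro z hF hP ht
    rcases Z_cell_cover hF hP with h | h | h | h | h | h | h | h | h | h | h | h
    · exfalso; have := h.1; rw [ht] at this; revert this; decide
    · exfalso; have := h.1; rw [ht] at this; revert this; decide
    · exfalso; have := h.1; rw [ht] at this; revert this; decide
    · exfalso; have := h.1; rw [ht] at this; revert this; decide
    · exfalso; have := h.1; rw [ht] at this; revert this; decide
    · exfalso; have := h.1; rw [ht] at this; revert this; decide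
    · exfalso; have := h.1; rw [ht] at this; revert this; decide
    · exfalso; have := h.1; rw [ht] at this; revert this; decide
    · exfalso; have := h.1; rw [ht] at this; revert this; decide
    · exact h.2
    all_goals (exfalso; have := h.1; rw [ht] at this; revert this; decide)
  · refine le_trans (cell_le 1 1 PC2b ?_) card_PC2b
    intro z hF hP ht
    rcases Z_cell_cover hF hP with h | h | h | h | h | h | h | h | h | h | h | h
    · exfalso; have := h.1; rw [ht] at this; revert this; decide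
    · exfalso; have := h.1; rw [ht] at this; revert this; decide
    · exfalso; have := h.1; rw [ht] at this; revert this; decide
    · exfalso; have := h.1; rw [ht] at this; revert this; decide
    · exfalso; have := h.1; rw [ht] at this; revert this; decide
    · exfalso; have := h.1; rw [ht] at this; revert this; decide
    · exfalso; have := h.1; rw [ht] at this; revert this; decide
    · exfalso; have := h.1; rw [ht] at this; revert this; decide
    · exfalso; have := h.1; rw [ht] at this; revert this; decide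
    · exfalso; have := h.1; rw [ht] at this; revert this; decide
    · exact h.2
    · exfalso; have := h.1; rw [ht] at this; revert this; decide
  · refine le_trans (cell_le 1 (-1) PC2c ?_) card_PC2c
    intro z hF hP ht
    rcases Z_cell_cover hF hP with h | h | h | h | h | h | h | h | h | h | h | h
    · exfalso; have := h.1; rw [ht] at this; revert this; decide
    · exfalso; have := h.1; rw [ht] at this; revert this; decide
    · exfalso; have := h.1; rw [ht] at this; revert this; decide
    · exfalso; have := h.1; rw [ht] at this; revert this; decide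
    · exfalso; have := h.1; rw [ht] at this; revert this; decide
    · exfalso; have := h.1; rw [ht] at this; revert this; decide
    · exfalso; have := h.1; rw [ht] at this; revert this; decide
    · exfalso; have := h.1; rw [ht] at this; revert this; decide
    · exfalso; have := h.1; rw [ht] at this; revert this; decide
    · exfalso; have := h.1; rw [ht] at this; revert this; decide
    · exfalso; have := h.1; rw [ht] at this; revert this; decide
    · exact h.2

theorem card_cell : (cell 4 (-4)).card = 1 ∧ (cell 4 0).card = 22 ∧ (cell 0 0).card = 330 ∧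
    (cell 0 2).card = 176 ∧ (cell 2 0).card = 3696 ∧ (cell 2 2).card = 1155 ∧
    (cell 2 (-2)).card = 462 ∧ (cell 3 (-1)).card = 616 ∧ (cell 3 1).card = 672 ∧
    (cell 1 3).card = 176 ∧ (cell 1 1).card = 2640 ∧ (cell 1 (-1)).card = 1232 := by
  have h := Finset.card_eq_sum_card_fiberwise (s := Zf) (t := cellPairs)
    (f := fun z => (z none, z (some 0))) (fun z hz => cell_vals hz)
  rw [card_Zf] at h
  unfold cellPairs at h
  rw [Finset.sum_insert (by decide), Finset.sum_insert (by decide), Finset.sum_insert (by decide),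
    Finset.sum_insert (by decide), Finset.sum_insert (by decide), Finset.sum_insert (by decide),
    Finset.sum_insert (by decide), Finset.sum_insert (by decide), Finset.sum_insert (by decide),
    Finset.sum_insert (by decide), Finset.sum_insert (by decide), Finset.sum_singleton] at h
  obtain ⟨h1, h2, h3, h4, h5, h6, h7, h8, h9, h10, h11, h12⟩ := card_cell_le
  unfold cell at h1 h2 h3 h4 h5 h6 h7 h8 h9 h10 h11 h12 ⊢
  omega




theorem type_of_vals' {z : GolayPt → ℤ} (hF : z ∈ F32) (hP : dotInt u5 z = 16) :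
    (z none = 0 ∧ z (some 0) = 0 → TyB1a z) ∧ (z none = 1 ∧ z (some 0) = -1 → TyC2c z) ∧
    (z none = 4 ∧ z (some 0) = -4 → z = x0f) := by
  rcases Z_types hF hP with h | h | h | h | h | h | h | h | h | h | h | h
  · have h1 : z none = 4 := by rw [h, vec44_apply_left (by decide)]
    refine ⟨?_, ?_, fun _ => h⟩ <;> intro h' <;> exfalso <;> omega
  · have := h.vals
    refine ⟨?_, ?_, ?_⟩ <;> intro h' <;> exfalso <;> omega
  · have := h.vals
    refine ⟨fun _ => h, ?_, ?_⟩ <;> intro h' <;> exfalso <;> omega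
  · have := h.vals
    refine ⟨?_, ?_, ?_⟩ <;> intro h' <;> exfalso <;> omega
  · have := h.vals
    refine ⟨?_, ?_, ?_⟩ <;> intro h' <;> exfalso <;> omega
  · have := h.vals
    refine ⟨?_, ?_, ?_⟩ <;> intro h' <;> exfalso <;> omega
  · have := h.vals
    refine ⟨?_, ?_, ?_⟩ <;> intro h' <;> exfalso <;> omega
  · have := h.vals
    refine ⟨?_, ?_, ?_⟩ <;> intro h' <;> exfalso <;> omega
  · have := h.vals
    refine ⟨?_, ?_, ?_⟩ <;> intro h' <;> exfalso <;> omega
  · have := h.vals
    refine ⟨?_, ?_, ?_⟩ <;> intro h' <;> exfalso <;> omega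
  · have := h.vals
    refine ⟨?_, ?_, ?_⟩ <;> intro h' <;> exfalso <;> omega
  · have := h.vals
    refine ⟨?_, fun _ => h, ?_⟩ <;> intro h' <;> exfalso <;> omega

theorem conj_B1a {z z' : GolayPt → ℤ} (h : TyB1a z) (h' : TyB1a z') :
    ∃ σ ∈ M24, σ none = none ∧ σ (some 0) = some 0 ∧ (fun i => z (σ i)) = z' := by
  obtain ⟨p, hp, hn, h0, rfl⟩ := h
  obtain ⟨p', hp', hn', h0', rfl⟩ := h'
  obtain ⟨σ, hσ, e1, e2, e3⟩ := m22_trans_330 (p := none) (q := some 0) (by decide) hp' hp
    hn' h0' hn h0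
  refine ⟨σ, hσ, e1, e2, shapeVec_comp ?_⟩
  intro i
  rw [← e3]
  constructor
  · intro hi
    obtain ⟨k, hk, hki⟩ := Finset.mem_smul_finset.mp hi
    have : k = i := σ.injective hki
    rw [← this]; exact hk
  · intro hi
    exact Finset.smul_mem_smul_finset hi

theorem conj_C2c {z z' : GolayPt → ℤ} (h : TyC2c z) (h' : TyC2c z') :
    ∃ σ ∈ M24, σ none = none ∧ σ (some 0) = some 0 ∧ (fun i => z (σ i)) = z' := by
  obtain ⟨j, hj, hj0, c, hcj, hn, h0, h8, rfl⟩ := h
  obtain ⟨j', hj', hj0', c', hcj', hn', h0', h8', rfl⟩ := h'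
  have hp : support₂ c.1 ∈ octads := (mem_octads_iff _).mpr ⟨c.1, c.2, rfl, h8⟩
  have hp' : support₂ c'.1 ∈ octads := (mem_octads_iff _).mpr ⟨c'.1, c'.2, rfl, h8'⟩
  obtain ⟨σ, hσ, e, e2, e3⟩ := exists_perm_octad5 hp hp' (L := [some 0, j])
    (L' := [some 0, j']) (by simp [Ne.symm hj0]) (by simp [Ne.symm hj0']) rfl (by simp)
    (by intro a ha; simp only [List.mem_cons, List.not_mem_nil, or_false] at ha
        rcases ha with rfl | rfl
        · exact mem_support₂.mpr h0
        · exact mem_support₂.mpr hcj)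
    (by intro a ha; simp only [List.mem_cons, List.not_mem_nil, or_false] at ha
        rcases ha with rfl | rfl
        · exact mem_support₂.mpr h0'
        · exact mem_support₂.mpr hcj')
    (k := none) (k' := none) (fun hm => mem_support₂.mp hm hn) (fun hm => mem_support₂.mp hm hn')
  simp only [List.map_cons, List.map_nil, List.cons.injEq, and_true] at e
  refine ⟨σ, hσ, e2, e.1, ?_⟩
  funext i
  rw [fC_apply, fC_apply]
  by_cases hi : i = j'
  · subst hi
    rw [if_pos e.2, if_pos rfl, if_neg hcj, if_neg hcj']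
  · have hi' : σ i ≠ j := fun hc => hi ((perm_eq_iff e.2 i).mp hc)
    rw [if_neg hi', if_neg hi]
    have := e3 i
    rw [mem_support₂, mem_support₂] at this
    by_cases hci : c'.1 i = 0
    · rw [if_pos hci, if_pos (by by_contra hc; exact (this.mp hc) hci)]
    · rw [if_neg hci, if_neg (this.mpr hci)]

/-- A permutation fixing the two base points fixes the three base vectors. -/
theorem permG_fix3 {σ : Equiv.Perm GolayPt} (hσ : σ ∈ M24) (e1 : σ none = none)
    (e2 : σ (some 0) = some 0) :
    permG σ hσ • U5 = U5 ∧ permG σ hσ • X0 = X0 ∧ permG σ hσ • V44 = V44 :=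
  ⟨Subtype.ext (u5_comp e1), Subtype.ext (vec44_comp e1 e2 _), Subtype.ext (vec44_comp e1 e2 _)⟩

/-- Transitivity of the joint stabiliser of the three base vectors on three of the cells. -/
theorem mcl_std_trans {z z' : leechLattice} (hz : sqNorm (z : GolayPt → ℤ) = 32)
    (hz' : sqNorm (z' : GolayPt → ℤ) = 32) (hu : dotInt u5 (z : GolayPt → ℤ) = 16)
    (hu' : dotInt u5 (z' : GolayPt → ℤ) = 16)
    (hv : dotInt v44 (z : GolayPt → ℤ) = 0) (hv' : dotInt v44 (z' : GolayPt → ℤ) = 0)
    (ht : dotInt x0f (z : GolayPt → ℤ) = dotInt x0f (z' : GolayPt → ℤ)) :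
    ∃ g : Co0, g • U5 = U5 ∧ g • X0 = X0 ∧ g • V44 = V44 ∧ g • z = z' := by
  have hF : (z : GolayPt → ℤ) ∈ F32 := mem_F32.mpr ⟨z.2, hz⟩
  have hF' : (z' : GolayPt → ℤ) ∈ F32 := mem_F32.mpr ⟨z'.2, hz'⟩
  rw [dotInt_v44] at hv hv'
  rw [dotInt_x0f, dotInt_x0f] at ht
  have fin : (∃ σ ∈ M24, σ none = none ∧ σ (some 0) = some 0 ∧
        (fun i => (z : GolayPt → ℤ) (σ i)) = (z' : GolayPt → ℤ)) →
      ∃ g : Co0, g • U5 = U5 ∧ g • X0 = X0 ∧ g • V44 = V44 ∧ g • z = z' := by
    rintro ⟨σ, hσ, s1, s2, s3⟩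
    obtain ⟨p1, p2, p3⟩ := permG_fix3 hσ s1 s2
    exact ⟨permG σ hσ, p1, p2, p3, Subtype.ext s3⟩
  obtain ⟨a1, a2, a3⟩ := type_of_vals' hF hu
  obtain ⟨b1, b2, b3⟩ := type_of_vals' hF' hu'
  obtain ⟨c1, -, -, -⟩ := type_of_vals hF hu
  obtain ⟨d1, -, -, -⟩ := type_of_vals hF' hu'
  have hcv := cell_vals (z := (z : GolayPt → ℤ)) (by unfold Zf; exact Finset.mem_filter.mpr ⟨hF, hu⟩)
  unfold cellPairs at hcv
  simp only [Finset.mem_insert, Finset.mem_singleton, Prod.mk.injEq] at hcv
  rcases hcv with h | h | h | h | h | h | h | h | h | h | h | h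
  · have e1 := a3 h
    have e2 := b3 ⟨by omega, by omega⟩
    exact ⟨1, one_smul _ _, one_smul _ _, one_smul _ _,
      by rw [one_smul]; exact Subtype.ext (e1.trans e2.symm)⟩
  · exfalso; omega
  · exact fin (conj_B1a (a1 h) (b1 ⟨by omega, by omega⟩))
  · exfalso; omega
  · exfalso; omega
  · exfalso; omega
  · exact fin (conj_B2c (c1 h) (d1 ⟨by omega, by omega⟩))
  · exfalso; omega
  · exfalso; omega
  · exfalso; omega
  · exfalso; omega
  · exact fin (conj_C2c (a2 h) (b2 ⟨by omega, by omega⟩))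




/-- The 2025 minimal vectors attached to a pair `(v, w)` of minimal vectors with `v·w = -8`. -/
def mcl2025 (v w : leechLattice) : Set leechLattice :=
  {x : leechLattice | sqNorm (x : GolayPt → ℤ) = 32 ∧
    dotInt (v : GolayPt → ℤ) (x : GolayPt → ℤ) = 0 ∧
    dotInt (w : GolayPt → ℤ) (x : GolayPt → ℤ) = 16}

/-- The standard model of the 2025. -/
noncomputable def Pstd : Finset (GolayPt → ℤ) := Zf.filter (fun z => dotInt v44 z = 0)

theorem mem_Pstd {z : GolayPt → ℤ} : z ∈ Pstd ↔
    (z ∈ leechLattice ∧ sqNorm z = 32) ∧ dotInt u5 z = 16 ∧ dotInt v44 z = 0 := by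
  unfold Pstd Zf
  rw [Finset.mem_filter, Finset.mem_filter, mem_F32, and_assoc]

theorem Pstd_filter (a b : ℤ) (hab : a + b = 0) :
    Pstd.filter (fun z => (z none, z (some 0)) = (a, b)) = cell a b := by
  ext z
  unfold Pstd cell
  rw [Finset.mem_filter, Finset.mem_filter, Finset.mem_filter, dotInt_v44, Prod.mk.injEq]
  constructor
  · rintro ⟨⟨h1, -⟩, h2⟩; exact ⟨h1, h2⟩
  · rintro ⟨h1, h2⟩; exact ⟨⟨h1, by omega⟩, h2⟩

theorem Pstd_vals {z : GolayPt → ℤ} (hz : z ∈ Pstd) :
    (z none, z (some 0)) ∈ ({(4, -4), (0, 0), (2, -2), (1, -1)} : Finset (ℤ × ℤ)) := by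
  unfold Pstd at hz
  rw [Finset.mem_filter, dotInt_v44] at hz
  have hcv := cell_vals hz.1
  unfold cellPairs at hcv
  simp only [Finset.mem_insert, Finset.mem_singleton, Prod.mk.injEq] at hcv ⊢
  omega

theorem card_Pstd : Pstd.card = 2025 := by
  have h := Finset.card_eq_sum_card_fiberwise (s := Pstd)
    (t := ({(4, -4), (0, 0), (2, -2), (1, -1)} : Finset (ℤ × ℤ)))
    (f := fun z => (z none, z (some 0))) (fun z hz => Pstd_vals hz)
  rw [Finset.sum_insert (by decide), Finset.sum_insert (by decide), Finset.sum_insert (by decide),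
    Finset.sum_singleton, Pstd_filter _ _ (by norm_num), Pstd_filter _ _ (by norm_num),
    Pstd_filter _ _ (by norm_num), Pstd_filter _ _ (by norm_num)] at h
  obtain ⟨h1, -, h3, -, -, -, h7, -, -, -, -, h12⟩ := card_cell
  rw [h, h1, h3, h7, h12]; norm_num

theorem Pstd_filter_x0f (a b : ℤ) (hab : a + b = 0) :
    Pstd.filter (fun z => dotInt x0f z = 4 * a - 4 * b) = cell a b := by
  ext z
  unfold Pstd cell
  rw [Finset.mem_filter, Finset.mem_filter, Finset.mem_filter, dotInt_v44, dotInt_x0f,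
    Prod.mk.injEq]
  constructor
  · rintro ⟨⟨h1, h2⟩, h3⟩; exact ⟨h1, by omega, by omega⟩
  · rintro ⟨h1, h2, h3⟩; exact ⟨⟨h1, by omega⟩, by omega⟩

theorem mcl_sum_norm {v w : leechLattice} (hv : sqNorm (v : GolayPt → ℤ) = 32)
    (hw : sqNorm (w : GolayPt → ℤ) = 32)
    (hvw : dotInt (v : GolayPt → ℤ) (w : GolayPt → ℤ) = -8) :
    sqNorm ((v + w : leechLattice) : GolayPt → ℤ) = 48 := by
  show sqNorm ((v : GolayPt → ℤ) + (w : GolayPt → ℤ)) = 48
  rw [sqNorm_add, hv, hw, hvw]; norm_num

/-- A standard frame for `(v, w, x)`. -/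
theorem exists_std_mcl3 {v w x : leechLattice} (hv : sqNorm (v : GolayPt → ℤ) = 32)
    (hw : sqNorm (w : GolayPt → ℤ) = 32)
    (hvw : dotInt (v : GolayPt → ℤ) (w : GolayPt → ℤ) = -8) (hx : x ∈ mcl2025 v w) :
    ∃ g : Co0, g • (v + w) = U5 ∧ g • x = X0 ∧ g • v = V44 := by
  apply nf_hs (mcl_sum_norm hv hw hvw) hx.1 hv
  · exact hx.2.1
  · show dotInt ((v : GolayPt → ℤ) + (w : GolayPt → ℤ)) (x : GolayPt → ℤ) = 16
    rw [dotInt_add_left', hx.2.1, hx.2.2]; norm_num
  · show dotInt ((v : GolayPt → ℤ) + (w : GolayPt → ℤ)) (v : GolayPt → ℤ) = 24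
    rw [dotInt_add_left', dotInt_self', hv, dotInt_comm', hvw]; norm_num

/-- A standard frame for `(v, w)`. -/
theorem exists_std_mcl2 {v w : leechLattice} (hv : sqNorm (v : GolayPt → ℤ) = 32)
    (hw : sqNorm (w : GolayPt → ℤ) = 32)
    (hvw : dotInt (v : GolayPt → ℤ) (w : GolayPt → ℤ) = -8) :
    ∃ g : Co0, g • (v + w) = U5 ∧ g • v = V44 := by
  apply exists_std_mcl (mcl_sum_norm hv hw hvw) hv
  have : v + w - v = w := by abel
  rw [this]; exact hw

theorem mcl_transport {v w : leechLattice} {g : Co0} (h1 : g • (v + w) = U5) (h2 : g • v = V44)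
    (y : leechLattice) :
    sqNorm ((g • y : leechLattice) : GolayPt → ℤ) = sqNorm (y : GolayPt → ℤ) ∧
    dotInt u5 ((g • y : leechLattice) : GolayPt → ℤ) =
      dotInt (v : GolayPt → ℤ) (y : GolayPt → ℤ) + dotInt (w : GolayPt → ℤ) (y : GolayPt → ℤ) ∧
    dotInt v44 ((g • y : leechLattice) : GolayPt → ℤ) =
      dotInt (v : GolayPt → ℤ) (y : GolayPt → ℤ) := by
  refine ⟨smul_norm g y, ?_, ?_⟩
  · have : dotInt u5 ((g • y : leechLattice) : GolayPt → ℤ) =
        dotInt ((g • (v + w) : leechLattice) : GolayPt → ℤ)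
          ((g • y : leechLattice) : GolayPt → ℤ) := by rw [h1]; rfl
    rw [this, smul_dot]
    show dotInt ((v : GolayPt → ℤ) + (w : GolayPt → ℤ)) _ = _
    rw [dotInt_add_left']
  · have : dotInt v44 ((g • y : leechLattice) : GolayPt → ℤ) =
        dotInt ((g • v : leechLattice) : GolayPt → ℤ)
          ((g • y : leechLattice) : GolayPt → ℤ) := by rw [h2]; rfl
    rw [this, smul_dot]

theorem mem_mcl2025_iff {v w : leechLattice} {g : Co0} (h1 : g • (v + w) = U5) (h2 : g • v = V44)
    (y : leechLattice) : y ∈ mcl2025 v w ↔ ((g • y : leechLattice) : GolayPt → ℤ) ∈ Pstd := by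
  obtain ⟨t1, t2, t3⟩ := mcl_transport h1 h2 y
  rw [mem_Pstd, t1, t2, t3]
  constructor
  · rintro ⟨a1, a2, a3⟩
    exact ⟨⟨(g • y).2, a1⟩, by rw [a2, a3]; norm_num, a2⟩
  · rintro ⟨⟨-, a1⟩, a2, a3⟩
    exact ⟨a1, a3, by omega⟩

theorem ncard_mcl2025 {v w : leechLattice} (hv : sqNorm (v : GolayPt → ℤ) = 32)
    (hw : sqNorm (w : GolayPt → ℤ) = 32)
    (hvw : dotInt (v : GolayPt → ℤ) (w : GolayPt → ℤ) = -8) : (mcl2025 v w).ncard = 2025 := by
  obtain ⟨g, h1, h2⟩ := exists_std_mcl2 hv hw hvw
  have e : mcl2025 v w = (fun y : leechLattice => g • y) ⁻¹'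
      {z : leechLattice | (z : GolayPt → ℤ) ∈ Pstd} := by
    ext y
    rw [mem_mcl2025_iff h1 h2]
    rfl
  rw [e, Set.ncard_preimage_of_injective_subset_range (MulAction.injective g)]
  · rw [ncard_subtype_eq, card_Pstd]
    intro z hz
    exact (mem_Pstd.mp hz).1.1
  · intro z _
    exact ⟨g⁻¹ • z, smul_inv_smul g z⟩

theorem stab_of_sum {v w : leechLattice} {k : Co0} (h1 : k • (v + w) = v + w) (h2 : k • v = v) :
    k • w = w := by
  rw [smul_add', h2] at h1
  exact add_left_cancel h1

theorem mcl2025_trans {v w x x' : leechLattice} (hv : sqNorm (v : GolayPt → ℤ) = 32)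
    (hw : sqNorm (w : GolayPt → ℤ) = 32)
    (hvw : dotInt (v : GolayPt → ℤ) (w : GolayPt → ℤ) = -8) (hx : x ∈ mcl2025 v w)
    (hx' : x' ∈ mcl2025 v w) : ∃ g : Co0, g • v = v ∧ g • w = w ∧ g • x = x' := by
  obtain ⟨g, a1, a2, a3⟩ := exists_std_mcl3 hv hw hvw hx
  obtain ⟨g', b1, b2, b3⟩ := exists_std_mcl3 hv hw hvw hx'
  have e1 : (g'⁻¹ * g) • v = v := by rw [mul_smul, a3, ← b3, inv_smul_smul]
  have e2 : (g'⁻¹ * g) • (v + w) = v + w := by rw [mul_smul, a1, ← b1, inv_smul_smul]
  exact ⟨g'⁻¹ * g, e1, stab_of_sum e2 e1, by rw [mul_smul, a2, ← b2, inv_smul_smul]⟩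

/-- The class of points of the 2025 with a given inner product with `x`. -/
def mclCls (v w x : leechLattice) (t : ℤ) : Set leechLattice :=
  {y : leechLattice | y ∈ mcl2025 v w ∧ dotInt (x : GolayPt → ℤ) (y : GolayPt → ℤ) = t}

theorem mcl_x_dot {g : Co0} {x : leechLattice} (h : g • x = X0) (y : leechLattice) :
    dotInt x0f ((g • y : leechLattice) : GolayPt → ℤ) =
      dotInt (x : GolayPt → ℤ) (y : GolayPt → ℤ) := by
  have : dotInt x0f ((g • y : leechLattice) : GolayPt → ℤ) =
      dotInt ((g • x : leechLattice) : GolayPt → ℤ)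
        ((g • y : leechLattice) : GolayPt → ℤ) := by rw [h]; rfl
  rw [this, smul_dot]

theorem ncard_mclCls {v w x : leechLattice} (hv : sqNorm (v : GolayPt → ℤ) = 32)
    (hw : sqNorm (w : GolayPt → ℤ) = 32)
    (hvw : dotInt (v : GolayPt → ℤ) (w : GolayPt → ℤ) = -8) (hx : x ∈ mcl2025 v w) (t : ℤ) :
    (mclCls v w x t).ncard = (Pstd.filter (fun z => dotInt x0f z = t)).card := by
  obtain ⟨g, h1, h3, h2⟩ := exists_std_mcl3 hv hw hvw hx
  have e : mclCls v w x t = (fun y : leechLattice => g • y) ⁻¹'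
      {z : leechLattice | (z : GolayPt → ℤ) ∈ Pstd.filter (fun z => dotInt x0f z = t)} := by
    ext y
    rw [Set.mem_preimage, Set.mem_setOf_eq, Finset.mem_filter, ← mem_mcl2025_iff h1 h2,
      mcl_x_dot h3]
    rfl
  rw [e, Set.ncard_preimage_of_injective_subset_range (MulAction.injective g)]
  · rw [ncard_subtype_eq]
    intro z hz
    exact (mem_Pstd.mp (Finset.mem_filter.mp hz).1).1.1
  · intro z _
    exact ⟨g⁻¹ • z, smul_inv_smul g z⟩

theorem ncard_mclCls_vals {v w x : leechLattice} (hv : sqNorm (v : GolayPt → ℤ) = 32)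
    (hw : sqNorm (w : GolayPt → ℤ) = 32)
    (hvw : dotInt (v : GolayPt → ℤ) (w : GolayPt → ℤ) = -8) (hx : x ∈ mcl2025 v w) :
    (mclCls v w x 32).ncard = 1 ∧ (mclCls v w x 0).ncard = 330 ∧
      (mclCls v w x 16).ncard = 462 ∧ (mclCls v w x 8).ncard = 1232 := by
  obtain ⟨h1, -, h3, -, -, -, h7, -, -, -, -, h12⟩ := card_cell
  refine ⟨?_, ?_, ?_, ?_⟩
  · rw [ncard_mclCls hv hw hvw hx, ← h1, ← Pstd_filter_x0f 4 (-4) (by norm_num)]
    norm_num
  · rw [ncard_mclCls hv hw hvw hx, ← h3, ← Pstd_filter_x0f 0 0 (by norm_num)]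
    norm_num
  · rw [ncard_mclCls hv hw hvw hx, ← h7, ← Pstd_filter_x0f 2 (-2) (by norm_num)]
    norm_num
  · rw [ncard_mclCls hv hw hvw hx, ← h12, ← Pstd_filter_x0f 1 (-1) (by norm_num)]
    norm_num

theorem mcl_values {v w x y : leechLattice} (hv : sqNorm (v : GolayPt → ℤ) = 32)
    (hw : sqNorm (w : GolayPt → ℤ) = 32)
    (hvw : dotInt (v : GolayPt → ℤ) (w : GolayPt → ℤ) = -8) (hx : x ∈ mcl2025 v w)
    (hy : y ∈ mcl2025 v w) :
    dotInt (x : GolayPt → ℤ) (y : GolayPt → ℤ) ∈ ({32, 0, 16, 8} : Finset ℤ) := by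
  obtain ⟨g, h1, h3, h2⟩ := exists_std_mcl3 hv hw hvw hx
  have hz := (mem_mcl2025_iff h1 h2 y).mp hy
  have hvals := Pstd_vals hz
  rw [← mcl_x_dot h3 y, dotInt_x0f]
  simp only [Finset.mem_insert, Finset.mem_singleton, Prod.mk.injEq] at hvals ⊢
  omega

theorem mclCls_trans {v w x y y' : leechLattice} (hv : sqNorm (v : GolayPt → ℤ) = 32)
    (hw : sqNorm (w : GolayPt → ℤ) = 32)
    (hvw : dotInt (v : GolayPt → ℤ) (w : GolayPt → ℤ) = -8) (hx : x ∈ mcl2025 v w)
    (hy : y ∈ mcl2025 v w) (hy' : y' ∈ mcl2025 v w)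
    (h : dotInt (x : GolayPt → ℤ) (y : GolayPt → ℤ) = dotInt (x : GolayPt → ℤ) (y' : GolayPt → ℤ)) :
    ∃ g : Co0, g • v = v ∧ g • w = w ∧ g • x = x ∧ g • y = y' := by
  obtain ⟨g, h1, h3, h2⟩ := exists_std_mcl3 hv hw hvw hx
  have hz := mem_Pstd.mp ((mem_mcl2025_iff h1 h2 y).mp hy)
  have hz' := mem_Pstd.mp ((mem_mcl2025_iff h1 h2 y').mp hy')
  obtain ⟨k, k1, k2, k3, k4⟩ := mcl_std_trans (z := g • y) (z' := g • y') hz.1.2 hz'.1.2 hz.2.1
    hz'.2.1 hz.2.2 hz'.2.2 (by rw [mcl_x_dot h3, mcl_x_dot h3, h])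
  have e1 : (g⁻¹ * k * g) • v = v := by rw [mul_smul, mul_smul, h2, k3, ← h2, inv_smul_smul]
  have e2 : (g⁻¹ * k * g) • (v + w) = v + w := by
    rw [mul_smul, mul_smul, h1, k1, ← h1, inv_smul_smul]
  refine ⟨g⁻¹ * k * g, e1, stab_of_sum e2 e1, ?_, ?_⟩
  · rw [mul_smul, mul_smul, h3, k2, ← h3, inv_smul_smul]
  · rw [mul_smul, mul_smul, k4, inv_smul_smul]




theorem mcl_orbit {v w x y : leechLattice} (hv : sqNorm (v : GolayPt → ℤ) = 32)
    (hw : sqNorm (w : GolayPt → ℤ) = 32)
    (hvw : dotInt (v : GolayPt → ℤ) (w : GolayPt → ℤ) = -8) (hx : x ∈ mcl2025 v w)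
    (hy : y ∈ mcl2025 v w) :
    MulAction.orbit ↥(stabilizer Co0 v ⊓ stabilizer Co0 w ⊓ stabilizer Co0 x) y =
      mclCls v w x (dotInt (x : GolayPt → ℤ) (y : GolayPt → ℤ)) := by
  ext y'
  constructor
  · rintro ⟨⟨g, hg⟩, rfl⟩
    rw [Subgroup.mem_inf, Subgroup.mem_inf, mem_stabilizer_iff, mem_stabilizer_iff,
      mem_stabilizer_iff] at hg
    show g • y ∈ mclCls v w x _
    refine ⟨⟨by rw [smul_norm]; exact hy.1, ?_, ?_⟩, ?_⟩
    · rw [dot_fix hg.1.1]; exact hy.2.1
    · rw [dot_fix hg.1.2]; exact hy.2.2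
    · rw [dot_fix hg.2]
  · rintro ⟨h1, h2⟩
    obtain ⟨g, e1, e2, e3, e4⟩ := mclCls_trans hv hw hvw hx hy h1 h2.symm
    exact ⟨⟨g, Subgroup.mem_inf.mpr ⟨Subgroup.mem_inf.mpr ⟨e1, e2⟩, e3⟩⟩, e4⟩

theorem mcl_rank4 (v w : leechLattice) (hv : sqNorm (v : GolayPt → ℤ) = 32)
    (hw : sqNorm (w : GolayPt → ℤ) = 32)
    (hvw : dotInt (v : GolayPt → ℤ) (w : GolayPt → ℤ) = -8) :
    (mcl2025 v w).ncard = 2025 ∧
    (∀ x ∈ mcl2025 v w, ∀ x' ∈ mcl2025 v w, ∃ g : Co0, g • v = v ∧ g • w = w ∧ g • x = x') ∧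
    ∀ x ∈ mcl2025 v w, ∃ y₁ ∈ mcl2025 v w, ∃ y₂ ∈ mcl2025 v w, ∃ y₃ ∈ mcl2025 v w,
      (MulAction.orbit ↥(stabilizer Co0 v ⊓ stabilizer Co0 w ⊓ stabilizer Co0 x) y₁).ncard = 330 ∧
      (MulAction.orbit ↥(stabilizer Co0 v ⊓ stabilizer Co0 w ⊓ stabilizer Co0 x) y₂).ncard = 462 ∧
      (MulAction.orbit ↥(stabilizer Co0 v ⊓ stabilizer Co0 w ⊓ stabilizer Co0 x) y₃).ncard =
        1232 := by
  refine ⟨ncard_mcl2025 hv hw hvw, fun x hx x' hx' => mcl2025_trans hv hw hvw hx hx', ?_⟩
  intro x hx
  obtain ⟨-, n0, n16, n8⟩ := ncard_mclCls_vals hv hw hvw hx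
  have ex : ∀ t : ℤ, (mclCls v w x t).ncard ≠ 0 → ∃ y ∈ mcl2025 v w,
      MulAction.orbit ↥(stabilizer Co0 v ⊓ stabilizer Co0 w ⊓ stabilizer Co0 x) y =
        mclCls v w x t := by
    intro t ht
    obtain ⟨y, hy⟩ := Set.nonempty_of_ncard_ne_zero ht
    refine ⟨y, hy.1, ?_⟩
    rw [mcl_orbit hv hw hvw hx hy.1, hy.2]
  obtain ⟨y1, hy1, o1⟩ := ex 0 (by rw [n0]; norm_num)
  obtain ⟨y2, hy2, o2⟩ := ex 16 (by rw [n16]; norm_num)
  obtain ⟨y3, hy3, o3⟩ := ex 8 (by rw [n8]; norm_num)
  exact ⟨y1, hy1, y2, hy2, y3, hy3, by rw [o1, n0], by rw [o2, n16], by rw [o3, n8]⟩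


end Cfsg.Agent.Helper27
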