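import Mathlib
import Cfsg.Agent.Lib.Helper27.McLRank
import Cfsg.Agent.Lib.Helper27.Co3Simple

set_option autoImplicit false
set_option maxRecDepth 8000
open Cfsg

/-! Simplicity and order of the joint stabiliser of two minimal vectors with inner product -8, from its primitive action on 2025 minimal vectors. -/

namespace Cfsg.Agent.Helper27
open MulAction



/-- If the point stabiliser is simple and moves something, the action on the invariant set is
faithful. -/
theorem kernel_trivial {G X : Type*} [Group G] [MulAction G X] (H : Subgroup G) (S : Set X)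
    (hinv : ∀ g ∈ H, ∀ x ∈ S, g • x ∈ S) (a : X) (haS : a ∈ S)
    (hstab : IsSimpleGroup ↥(H ⊓ stabilizer G a))
    (hmove : ∃ g ∈ H, g • a = a ∧ ∃ y ∈ S, g • y ≠ y) :
    ∀ g ∈ H, (∀ x ∈ S, g • x = x) → g = 1 := by
  let K : Subgroup ↥(H ⊓ stabilizer G a) :=
    { carrier := {k | ∀ x ∈ S, k.1 • x = x}
      one_mem' := fun x _ => one_smul _ x
      mul_mem' := by
        intro k k' hk hk' x hx
        show (k.1 * k'.1) • x = x
        rw [mul_smul, hk' x hx, hk x hx]
      inv_mem' := by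
        intro k hk x hx
        show (k.1)⁻¹ • x = x
        rw [inv_smul_eq_iff, hk x hx] }
  have hKn : K.Normal := by
    refine ⟨fun k hk n x hx => ?_⟩
    show (n.1 * k.1 * (n.1)⁻¹) • x = x
    have hn : (n.1)⁻¹ ∈ H := Subgroup.inv_mem _ (Subgroup.mem_inf.mp n.2).1
    rw [mul_smul, mul_smul, hk _ (hinv _ hn x hx), smul_inv_smul]
  intro g hg hfix
  rcases hKn.eq_bot_or_eq_top with hK | hK
  · have hga : g ∈ H ⊓ stabilizer G a :=
      Subgroup.mem_inf.mpr ⟨hg, mem_stabilizer_iff.mpr (hfix a haS)⟩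
    have : (⟨g, hga⟩ : ↥(H ⊓ stabilizer G a)) ∈ K := hfix
    rw [hK, Subgroup.mem_bot] at this
    exact congrArg Subtype.val this
  · exfalso
    obtain ⟨k, hk, hka, y, hy, hne⟩ := hmove
    have hk' : k ∈ H ⊓ stabilizer G a := Subgroup.mem_inf.mpr ⟨hk, mem_stabilizer_iff.mpr hka⟩
    have : (⟨k, hk'⟩ : ↥(H ⊓ stabilizer G a)) ∈ K := by rw [hK]; exact Subgroup.mem_top _
    exact hne (this y hy)

theorem mcl_card {v w : leechLattice} (hv : sqNorm (v : GolayPt → ℤ) = 32)
    (hw : sqNorm (w : GolayPt → ℤ) = 32)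
    (hvw : dotInt (v : GolayPt → ℤ) (w : GolayPt → ℤ) = -8) :
    Nat.card ↥(stabilizer Co0 v ⊓ stabilizer Co0 w) = 898128000 := by
  have h := card_stabilizer_inf (G := Co0) v w
  have horb : orbit (stabilizer Co0 v) w = {x : leechLattice | sqNorm (x : GolayPt → ℤ) = 32 ∧
      dotInt (v : GolayPt → ℤ) (x : GolayPt → ℤ) = -8} := by
    ext x
    rw [mem_orbit_iff, Set.mem_setOf_eq]
    constructor
    · rintro ⟨g, rfl⟩
      have hg : g.1 • v = v := g.2
      show sqNorm ((g.1 • w : leechLattice) : GolayPt → ℤ) = 32 ∧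
        dotInt (v : GolayPt → ℤ) ((g.1 • w : leechLattice) : GolayPt → ℤ) = -8
      exact ⟨by rw [smul_norm, hw], by rw [dot_fix hg, hvw]⟩
    · rintro ⟨hx, hvx⟩
      obtain ⟨g, hgv, hgz⟩ := exists_smul_of_coEq2 (pair_m8 v.2 w.2 hv hw hvw)
        (pair_m8 v.2 x.2 hv hx hvx)
      exact ⟨⟨g, hgv⟩, hgz⟩
  rw [horb, ncard_dot, cntDot_neg_eight (mem_F32.mpr ⟨v.2, hv⟩), card_stab32 v hv] at h
  omega

theorem mcl_stab_eq (v w x : leechLattice) :
    stabilizer Co0 v ⊓ stabilizer Co0 w ⊓ stabilizer Co0 x =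
      stabilizer Co0 (v + w) ⊓ stabilizer Co0 (x - (v + w)) ⊓ stabilizer Co0 v := by
  ext g
  simp only [Subgroup.mem_inf, mem_stabilizer_iff]
  constructor
  · rintro ⟨⟨a1, a2⟩, a3⟩
    have : g • (v + w) = v + w := by rw [smul_add', a1, a2]
    exact ⟨⟨this, by rw [smul_sub', a3, this]⟩, a1⟩
  · rintro ⟨⟨a1, a2⟩, a3⟩
    refine ⟨⟨a3, stab_of_sum a1 a3⟩, ?_⟩
    rw [smul_sub', a1] at a2
    exact sub_left_injective a2

theorem mcl_stab_simple {v w x : leechLattice} (hv : sqNorm (v : GolayPt → ℤ) = 32)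
    (hw : sqNorm (w : GolayPt → ℤ) = 32)
    (hvw : dotInt (v : GolayPt → ℤ) (w : GolayPt → ℤ) = -8) (hx : x ∈ mcl2025 v w) :
    IsSimpleGroup ↥(stabilizer Co0 v ⊓ stabilizer Co0 w ⊓ stabilizer Co0 x) := by
  rw [mcl_stab_eq]
  have hu := mcl_sum_norm hv hw hvw
  have hux : dotInt ((v + w : leechLattice) : GolayPt → ℤ) (x : GolayPt → ℤ) = 16 := by
    show dotInt ((v : GolayPt → ℤ) + (w : GolayPt → ℤ)) (x : GolayPt → ℤ) = 16
    rw [dotInt_add_left', hx.2.1, hx.2.2]; norm_num
  have huv : dotInt ((v + w : leechLattice) : GolayPt → ℤ) (v : GolayPt → ℤ) = 24 := by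
    show dotInt ((v : GolayPt → ℤ) + (w : GolayPt → ℤ)) (v : GolayPt → ℤ) = 24
    rw [dotInt_add_left', dotInt_self', hv, dotInt_comm', hvw]; norm_num
  apply hs_stab_simple hu
  · show sqNorm ((x : GolayPt → ℤ) - ((v + w : leechLattice) : GolayPt → ℤ)) = 48
    rw [sqNorm_sub', hx.1, hu, dotInt_comm', hux]; norm_num
  · show dotInt ((v + w : leechLattice) : GolayPt → ℤ)
      ((x : GolayPt → ℤ) - ((v + w : leechLattice) : GolayPt → ℤ)) = -32
    rw [dotInt_sub_right', hux, dotInt_self', hu]; norm_num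
  · refine ⟨hv, huv, ?_⟩
    show dotInt ((x : GolayPt → ℤ) - ((v + w : leechLattice) : GolayPt → ℤ)) (v : GolayPt → ℤ) = -24
    rw [dotInt_sub_left', huv, dotInt_comm', hx.2.1]; norm_num




theorem mcl_simple {v w : leechLattice} (hv : sqNorm (v : GolayPt → ℤ) = 32)
    (hw : sqNorm (w : GolayPt → ℤ) = 32)
    (hvw : dotInt (v : GolayPt → ℤ) (w : GolayPt → ℤ) = -8) :
    IsSimpleGroup ↥(stabilizer Co0 v ⊓ stabilizer Co0 w) := by
  have hfinC := finite_co0
  have hcard := ncard_mcl2025 hv hw hvw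
  have hne : (mcl2025 v w).Nonempty := Set.nonempty_of_ncard_ne_zero (by rw [hcard]; norm_num)
  obtain ⟨x, hx⟩ := hne
  obtain ⟨n32, n0, n16, n8⟩ := ncard_mclCls_vals hv hw hvw hx
  have hxx : dotInt (x : GolayPt → ℤ) (x : GolayPt → ℤ) = 32 := by
    rw [dotInt_self']; exact hx.1
  let T : Fin 3 → Set leechLattice := ![mclCls v w x 0, mclCls v w x 16, mclCls v w x 8]
  have hc : ∀ i, (T i).ncard = ![330, 462, 1232] i := by
    intro i
    fin_cases i
    · exact n0
    · exact n16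
    · exact n8
  have hTt : ∀ i, T i = mclCls v w x (![(0 : ℤ), 16, 8] i) := by
    intro i; fin_cases i <;> rfl
  have hinv : ∀ g ∈ stabilizer Co0 v ⊓ stabilizer Co0 w, ∀ y ∈ mcl2025 v w,
      g • y ∈ mcl2025 v w := by
    intro g hg y hy
    rw [Subgroup.mem_inf, mem_stabilizer_iff, mem_stabilizer_iff] at hg
    exact ⟨by rw [smul_norm]; exact hy.1, by rw [dot_fix hg.1]; exact hy.2.1,
      by rw [dot_fix hg.2]; exact hy.2.2⟩
  have hstab := mcl_stab_simple hv hw hvw hx
  apply simple_of_action (stabilizer Co0 v ⊓ stabilizer Co0 w) (mcl2025 v w)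
    (Set.finite_of_ncard_ne_zero (by rw [hcard]; norm_num)) hinv x hx ?_ T
  · -- T i ⊆ S
    intro i y hy
    rw [hTt] at hy
    exact hy.1
  · -- cover
    intro y hy hne
    have hvl := mcl_values hv hw hvw hx hy
    simp only [Finset.mem_insert, Finset.mem_singleton] at hvl
    rcases hvl with h | h | h | h
    · exfalso
      apply hne
      obtain ⟨a, ha⟩ := Set.ncard_eq_one.mp n32
      have h1 : x ∈ mclCls v w x 32 := ⟨hx, hxx⟩
      have h2 : y ∈ mclCls v w x 32 := ⟨hy, h⟩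
      rw [ha] at h1 h2
      exact h2.trans h1.symm
    · exact ⟨0, hy, h⟩
    · exact ⟨1, hy, h⟩
    · exact ⟨2, hy, h⟩
  · -- transitivity on the suborbits
    intro i y hy y' hy'
    rw [hTt] at hy hy'
    obtain ⟨g, e1, e2, e3, e4⟩ := mclCls_trans hv hw hvw hx hy.1 hy'.1 (hy.2.trans hy'.2.symm)
    exact ⟨g, Subgroup.mem_inf.mpr ⟨e1, e2⟩, e3, e4⟩
  · -- disjointness
    intro i j hij
    rw [hTt, hTt, Set.disjoint_left]
    intro y hy hy'
    have := hy.2.symm.trans hy'.2
    revert this hij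
    fin_cases i <;> fin_cases j <;> simp
  · -- the base point
    intro i h
    rw [hTt] at h
    have := h.2
    rw [hxx] at this
    revert this
    fin_cases i <;> simp
  · -- numerical condition
    intro S' hS'
    rw [hcard, Finset.sum_congr rfl (fun i _ => hc i)] at hS'
    revert S'
    decide
  · -- faithfulness
    apply kernel_trivial _ _ hinv x hx hstab
    -- an element of the point stabiliser moving a point of the first class
    have hne0 : (mclCls v w x 0).ncard ≠ 0 := by rw [n0]; norm_num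
    have h1lt : 1 < (mclCls v w x 0).ncard := by rw [n0]; norm_num
    obtain ⟨y, y', hy, hy', hyy'⟩ := (Set.one_lt_ncard_iff
      (Set.finite_of_ncard_ne_zero hne0)).mp h1lt
    obtain ⟨g, e1, e2, e3, e4⟩ := mclCls_trans hv hw hvw hx hy.1 hy'.1 (hy.2.trans hy'.2.symm)
    exact ⟨g, Subgroup.mem_inf.mpr ⟨e1, e2⟩, e3, y, hy.1, by rw [e4]; exact Ne.symm hyy'⟩
  · exact hstab
  · intro N hN
    rw [hcard] at hN
    exact Cfsg.Agent.S0144.result 3 5 4 2 (by norm_num) (by norm_num) (by rw [hN]; norm_num)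
  · rw [hcard]
    exact not_isPrimePow_of_two_primes (by norm_num : Nat.Prime 3) (by norm_num : Nat.Prime 5)
      (by norm_num) (by norm_num) (by norm_num)
  · -- transitivity
    intro y hy
    obtain ⟨g, e1, e2, e3⟩ := mcl2025_trans hv hw hvw hx hy
    exact ⟨g, Subgroup.mem_inf.mpr ⟨e1, e2⟩, e3⟩


end Cfsg.Agent.Helper27
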