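import Mathlib
import Cfsg.Agent.Lib.Helper27.McLSimple

set_option autoImplicit false
set_option maxRecDepth 8000
open Cfsg

/-! The 47104 minimal vectors having inner product -8 with a fixed minimal vector, and their classes by the inner product with one of them: three of the five classes. -/

namespace Cfsg.Agent.Helper27
open Cfsg.Agent.S0394 (FA FB FC idxA idxB fC mem_idxA mem_idxB mem_octads_iff)
open scoped Pointwise
open MulAction



/-- Orbit-stabiliser for the intersection of a subgroup with a point stabiliser. -/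
theorem card_subgroup_inf_stab {G X : Type*} [Group G] [MulAction G X] (H : Subgroup G) (w : X) :
    (orbit H w).ncard * Nat.card ↥(H ⊓ stabilizer G w) = Nat.card H := by
  have h1 : stabilizer H w = (stabilizer G w).subgroupOf H := by
    ext g; rfl
  have h2 := Subgroup.index_mul_card (stabilizer H w)
  rw [index_stabilizer, h1, ← Subgroup.inf_subgroupOf_left] at h2
  rw [← h2]
  congr 1
  exact (Nat.card_congr (Subgroup.subgroupOfEquivOfLe
    (inf_le_left : H ⊓ stabilizer G w ≤ H)).toEquiv).symm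

/-- The minimal vectors having inner product `-8` with `v`. -/
def co2Set (v : leechLattice) : Set leechLattice :=
  {y : leechLattice | sqNorm (y : GolayPt → ℤ) = 32 ∧
    dotInt (v : GolayPt → ℤ) (y : GolayPt → ℤ) = -8}

/-- The classes by the inner product with a second vector. -/
def co2Cls (v w : leechLattice) (t : ℤ) : Set leechLattice :=
  {y : leechLattice | y ∈ co2Set v ∧ dotInt (w : GolayPt → ℤ) (y : GolayPt → ℤ) = t}

theorem ncard_co2Set {v : leechLattice} (hv : sqNorm (v : GolayPt → ℤ) = 32) :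
    (co2Set v).ncard = 47104 := by
  unfold co2Set
  rw [ncard_dot, cntDot_neg_eight (mem_F32.mpr ⟨v.2, hv⟩)]

theorem co2Set_trans {v w x : leechLattice} (hv : sqNorm (v : GolayPt → ℤ) = 32)
    (hw : w ∈ co2Set v) (hx : x ∈ co2Set v) : ∃ g : Co0, g • v = v ∧ g • w = x :=
  exists_smul_of_coEq2 (pair_m8 v.2 w.2 hv hw.1 hw.2) (pair_m8 v.2 x.2 hv hx.1 hx.2)

theorem co2_values {v w y : leechLattice} (hw : w ∈ co2Set v) (hy : y ∈ co2Set v) :
    (dotInt (w : GolayPt → ℤ) (y : GolayPt → ℤ) = 32 ∧ y = w) ∨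
    dotInt (w : GolayPt → ℤ) (y : GolayPt → ℤ) ∈ ({-16, 16, -8, 0, 8} : Finset ℤ) := by
  have h := dot_values (mem_F32.mpr ⟨w.2, hw.1⟩) (mem_F32.mpr ⟨y.2, hy.1⟩)
  simp only [Finset.mem_insert, Finset.mem_singleton] at h ⊢
  rcases h with h | h | h | h | h | h | h
  · exfalso
    have h1 := sqNorm_add (w : GolayPt → ℤ) (y : GolayPt → ℤ)
    rw [hw.1, hy.1, h] at h1
    have h0 : (w : GolayPt → ℤ) + (y : GolayPt → ℤ) = 0 :=
      (sqNorm_eq_zero_iff' _).mp (by rw [h1]; norm_num)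
    have h2 : (y : GolayPt → ℤ) = -(w : GolayPt → ℤ) := by
      rw [eq_neg_iff_add_eq_zero, add_comm]; exact h0
    have h3 := hy.2
    rw [h2, dotInt_neg_right', hw.2] at h3
    norm_num at h3
  · right; left; exact h
  · right; right; right; left; exact h
  · right; right; right; right; left; exact h
  · right; right; right; right; right; exact h
  · right; right; left; exact h
  · left
    refine ⟨h, ?_⟩
    have h1 := sqNorm_sub' (w : GolayPt → ℤ) (y : GolayPt → ℤ)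
    rw [hw.1, hy.1, h] at h1
    have h0 : (w : GolayPt → ℤ) - (y : GolayPt → ℤ) = 0 :=
      (sqNorm_eq_zero_iff' _).mp (by rw [h1]; norm_num)
    exact Subtype.ext (sub_eq_zero.mp h0).symm

/-! ### The class `-16` -/

theorem mem_cls_m16 {v w : leechLattice} (hv : sqNorm (v : GolayPt → ℤ) = 32)
    (hw : w ∈ co2Set v) (y : leechLattice) :
    y ∈ co2Cls v w (-16) ↔ y + (v + w) ∈ mclSet (v + w) v := by
  have hu := mcl_sum_norm hv hw.1 hw.2
  have e1 : ((v + w - (y + (v + w)) : leechLattice) : GolayPt → ℤ) = -(y : GolayPt → ℤ) := by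
    have : v + w - (y + (v + w)) = -y := by abel
    rw [this]; rfl
  have e2 : dotInt (v : GolayPt → ℤ) ((y + (v + w) : leechLattice) : GolayPt → ℤ) =
      dotInt (v : GolayPt → ℤ) (y : GolayPt → ℤ) + 24 := by
    show dotInt (v : GolayPt → ℤ) ((y : GolayPt → ℤ) + ((v : GolayPt → ℤ) + (w : GolayPt → ℤ))) = _
    rw [dotInt_add_right', dotInt_add_right', dotInt_self', hv, hw.2]; ring
  have e3 : sqNorm ((y + (v + w) : leechLattice) : GolayPt → ℤ) =
      sqNorm (y : GolayPt → ℤ) + 48 + 2 * (dotInt (v : GolayPt → ℤ) (y : GolayPt → ℤ) +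
        dotInt (w : GolayPt → ℤ) (y : GolayPt → ℤ)) := by
    show sqNorm ((y : GolayPt → ℤ) + ((v + w : leechLattice) : GolayPt → ℤ)) = _
    rw [sqNorm_add, hu]
    show _ + 48 + 2 * dotInt (y : GolayPt → ℤ) ((v : GolayPt → ℤ) + (w : GolayPt → ℤ)) = _
    rw [dotInt_add_right', dotInt_comm' _ (v : GolayPt → ℤ), dotInt_comm' _ (w : GolayPt → ℤ)]
  unfold co2Cls co2Set mclSet
  simp only [Set.mem_setOf_eq]
  rw [e1, e2, e3, sqNorm_neg']
  constructor
  · rintro ⟨⟨a1, a2⟩, a3⟩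
    refine ⟨by rw [a1, a2, a3]; norm_num, a1, by rw [a2]; norm_num⟩
  · rintro ⟨a1, a2, a3⟩
    refine ⟨⟨a2, by linarith⟩, by linarith⟩

theorem ncard_cls_m16 {v w : leechLattice} (hv : sqNorm (v : GolayPt → ℤ) = 32)
    (hw : w ∈ co2Set v) : (co2Cls v w (-16)).ncard = 275 := by
  have hu := mcl_sum_norm hv hw.1 hw.2
  have huv : sqNorm ((v + w - v : leechLattice) : GolayPt → ℤ) = 32 := by
    have : v + w - v = w := by abel
    rw [this]; exact hw.1
  have e : co2Cls v w (-16) = (fun y : leechLattice => y + (v + w)) ⁻¹' (mclSet (v + w) v) := by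
    ext y
    rw [mem_cls_m16 hv hw]
    rfl
  rw [e, Set.ncard_preimage_of_injective_subset_range (add_left_injective (v + w)),
    ncard_mclSet hu hv huv]
  intro x _
  exact ⟨x - (v + w), sub_add_cancel x (v + w)⟩

theorem cls_m16_trans {v w y y' : leechLattice} (hv : sqNorm (v : GolayPt → ℤ) = 32)
    (hw : w ∈ co2Set v) (hy : y ∈ co2Cls v w (-16)) (hy' : y' ∈ co2Cls v w (-16)) :
    ∃ g : Co0, g • v = v ∧ g • w = w ∧ g • y = y' := by
  have hu := mcl_sum_norm hv hw.1 hw.2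
  have huv : sqNorm ((v + w - v : leechLattice) : GolayPt → ℤ) = 32 := by
    have : v + w - v = w := by abel
    rw [this]; exact hw.1
  obtain ⟨g, g1, g2, g3⟩ := mcl_trans hu hv huv ((mem_cls_m16 hv hw y).mp hy)
    ((mem_cls_m16 hv hw y').mp hy')
  refine ⟨g, g2, stab_of_sum g1 g2, ?_⟩
  rw [smul_add', g1] at g3
  exact add_right_cancel g3

/-! ### The class `16` -/

theorem mem_cls_16 {v w : leechLattice} (hw : w ∈ co2Set v) (y : leechLattice) :
    y ∈ co2Cls v w 16 ↔ w - y ∈ mcl2025 v w := by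
  have e1 : sqNorm ((w - y : leechLattice) : GolayPt → ℤ) = 32 + sqNorm (y : GolayPt → ℤ) -
      2 * dotInt (w : GolayPt → ℤ) (y : GolayPt → ℤ) := by
    show sqNorm ((w : GolayPt → ℤ) - (y : GolayPt → ℤ)) = _
    rw [sqNorm_sub', hw.1]
  have e2 : dotInt (v : GolayPt → ℤ) ((w - y : leechLattice) : GolayPt → ℤ) =
      -8 - dotInt (v : GolayPt → ℤ) (y : GolayPt → ℤ) := by
    show dotInt (v : GolayPt → ℤ) ((w : GolayPt → ℤ) - (y : GolayPt → ℤ)) = _
    rw [dotInt_sub_right', hw.2]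
  have e3 : dotInt (w : GolayPt → ℤ) ((w - y : leechLattice) : GolayPt → ℤ) =
      32 - dotInt (w : GolayPt → ℤ) (y : GolayPt → ℤ) := by
    show dotInt (w : GolayPt → ℤ) ((w : GolayPt → ℤ) - (y : GolayPt → ℤ)) = _
    rw [dotInt_sub_right', dotInt_self', hw.1]
  unfold co2Cls co2Set mcl2025
  simp only [Set.mem_setOf_eq]
  rw [e1, e2, e3]
  constructor
  · rintro ⟨⟨a1, a2⟩, a3⟩
    refine ⟨by rw [a1, a3]; norm_num, by rw [a2]; norm_num, by rw [a3]; norm_num⟩
  · rintro ⟨a1, a2, a3⟩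
    refine ⟨⟨by linarith, by linarith⟩, by linarith⟩

theorem ncard_cls_16 {v w : leechLattice} (hv : sqNorm (v : GolayPt → ℤ) = 32)
    (hw : w ∈ co2Set v) : (co2Cls v w 16).ncard = 2025 := by
  have e : co2Cls v w 16 = (fun y : leechLattice => w - y) ⁻¹' (mcl2025 v w) := by
    ext y
    rw [mem_cls_16 hw]
    rfl
  rw [e, Set.ncard_preimage_of_injective_subset_range sub_right_injective,
    ncard_mcl2025 hv hw.1 hw.2]
  intro x _
  exact ⟨w - x, sub_sub_cancel w x⟩

theorem cls_16_trans {v w y y' : leechLattice} (hv : sqNorm (v : GolayPt → ℤ) = 32)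
    (hw : w ∈ co2Set v) (hy : y ∈ co2Cls v w 16) (hy' : y' ∈ co2Cls v w 16) :
    ∃ g : Co0, g • v = v ∧ g • w = w ∧ g • y = y' := by
  obtain ⟨g, g1, g2, g3⟩ := mcl2025_trans hv hw.1 hw.2 ((mem_cls_16 hw y).mp hy)
    ((mem_cls_16 hw y').mp hy')
  refine ⟨g, g1, g2, ?_⟩
  rw [smul_sub', g2] at g3
  exact sub_right_injective g3




theorem cls_m8_aux {v w y : leechLattice} (hv : sqNorm (v : GolayPt → ℤ) = 32)
    (hw : w ∈ co2Set v) (hy : y ∈ co2Cls v w (-8)) :
    sqNorm ((-(v + w + y) : leechLattice) : GolayPt → ℤ) = 48 ∧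
    v ∈ co3Set (-(v + w + y)) ∧ w ∈ co3Set (-(v + w + y)) ∧
    dotInt ((-(v + w + y) : leechLattice) : GolayPt → ℤ) ((-v : leechLattice) : GolayPt → ℤ) = 16 := by
  have e : ((-(v + w + y) : leechLattice) : GolayPt → ℤ) =
      -((v : GolayPt → ℤ) + (w : GolayPt → ℤ) + (y : GolayPt → ℤ)) := rfl
  have d1 : dotInt ((-(v + w + y) : leechLattice) : GolayPt → ℤ) (v : GolayPt → ℤ) = -16 := by
    rw [e, dotInt_neg_left', dotInt_add_left', dotInt_add_left', dotInt_self', hv,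
      dotInt_comm' (w : GolayPt → ℤ), hw.2, dotInt_comm' (y : GolayPt → ℤ), hy.1.2]; norm_num
  have d2 : dotInt ((-(v + w + y) : leechLattice) : GolayPt → ℤ) (w : GolayPt → ℤ) = -16 := by
    rw [e, dotInt_neg_left', dotInt_add_left', dotInt_add_left', dotInt_self', hw.1,
      hw.2, dotInt_comm' (y : GolayPt → ℤ), hy.2]; norm_num
  refine ⟨?_, ⟨hv, d1⟩, ⟨hw.1, d2⟩, ?_⟩
  · rw [e, sqNorm_neg', sqNorm_add, sqNorm_add, hv, hw.1, hw.2, hy.1.1, dotInt_add_left',
      hy.1.2, hy.2]; norm_num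
  · show dotInt _ (-(v : GolayPt → ℤ)) = 16
    rw [dotInt_neg_right', d1]; norm_num

theorem cls_m8_trans {v w y y' : leechLattice} (hv : sqNorm (v : GolayPt → ℤ) = 32)
    (hw : w ∈ co2Set v) (hy : y ∈ co2Cls v w (-8)) (hy' : y' ∈ co2Cls v w (-8)) :
    ∃ g : Co0, g • v = v ∧ g • w = w ∧ g • y = y' := by
  obtain ⟨n1, a1, b1, c1⟩ := cls_m8_aux hv hw hy
  obtain ⟨n2, a2, b2, c2⟩ := cls_m8_aux hv hw hy'
  have hnv : sqNorm ((-v : leechLattice) : GolayPt → ℤ) = 32 := by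
    show sqNorm (-(v : GolayPt → ℤ)) = 32
    rw [sqNorm_neg', hv]
  obtain ⟨g, g1, g2⟩ := exists_smul_of_coEq2'
    (pair_u5 (-(v + w + y)).2 (-v).2 n1 hnv c1) (pair_u5 (-(v + w + y')).2 (-v).2 n2 hnv c2)
  have g3 : g • v = v := by
    rw [smul_neg'] at g2
    exact neg_injective g2
  have hgw : g • w ∈ co3Set (-(v + w + y')) := by
    refine ⟨by rw [smul_norm]; exact hw.1, ?_⟩
    rw [← g1, smul_dot]
    exact b1.2
  have hd : dotInt (v : GolayPt → ℤ) ((g • w : leechLattice) : GolayPt → ℤ) =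
      dotInt (v : GolayPt → ℤ) (w : GolayPt → ℤ) := dot_fix g3 w
  obtain ⟨k, k1, k2, k3⟩ := co3_trans n2 a2 hgw b2 hd
  refine ⟨k * g, by rw [mul_smul, g3, k2], by rw [mul_smul, k3], ?_⟩
  have ey : y = -(-(v + w + y)) - v - w := by abel
  have ey' : y' = -(-(v + w + y')) - v - w := by abel
  have key : ∀ (U U' : leechLattice), g • U = U' → k • U' = U' →
      (k * g) • (-U - v - w) = -U' - v - w := by
    intro U U' h1 h2
    simp only [mul_smul, smul_sub', smul_neg']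
    rw [h1, g3, k3, h2, k2]
  rw [ey, key _ _ g1 k1, ← ey']




/-- The standard model of the classes. -/
noncomputable def OmC (c : ℤ) : Finset (GolayPt → ℤ) :=
  F32.filter (fun z => dotInt v44 z = 8 ∧ dotInt u5 z = c)

theorem mem_OmC {c : ℤ} {z : GolayPt → ℤ} : z ∈ OmC c ↔
    z ∈ F32 ∧ dotInt v44 z = 8 ∧ dotInt u5 z = c := by
  unfold OmC
  rw [Finset.mem_filter]

theorem co2_transport {v w : leechLattice} {g : Co0} (h1 : g • (v + w) = U5) (h2 : g • v = V44)
    (y : leechLattice) :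
    sqNorm ((g • (-y) : leechLattice) : GolayPt → ℤ) = sqNorm (y : GolayPt → ℤ) ∧
    dotInt u5 ((g • (-y) : leechLattice) : GolayPt → ℤ) =
      -(dotInt (v : GolayPt → ℤ) (y : GolayPt → ℤ) + dotInt (w : GolayPt → ℤ) (y : GolayPt → ℤ)) ∧
    dotInt v44 ((g • (-y) : leechLattice) : GolayPt → ℤ) =
      -dotInt (v : GolayPt → ℤ) (y : GolayPt → ℤ) := by
  obtain ⟨t1, t2, t3⟩ := mcl_transport h1 h2 (-y)
  have e : ((-y : leechLattice) : GolayPt → ℤ) = -(y : GolayPt → ℤ) := rfl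
  rw [e, sqNorm_neg'] at t1
  rw [e, dotInt_neg_right', dotInt_neg_right'] at t2
  rw [e, dotInt_neg_right'] at t3
  exact ⟨t1, by rw [t2]; ring, t3⟩

theorem mem_co2Cls_iff {v w : leechLattice} {g : Co0} (h1 : g • (v + w) = U5) (h2 : g • v = V44)
    (t : ℤ) (y : leechLattice) :
    y ∈ co2Cls v w t ↔ ((g • (-y) : leechLattice) : GolayPt → ℤ) ∈ OmC (8 - t) := by
  obtain ⟨t1, t2, t3⟩ := co2_transport h1 h2 y
  rw [mem_OmC, mem_F32, t1, t2, t3]
  unfold co2Cls co2Set
  simp only [Set.mem_setOf_eq]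
  constructor
  · rintro ⟨⟨a1, a2⟩, a3⟩
    exact ⟨⟨(g • (-y)).2, a1⟩, by rw [a2]; norm_num, by rw [a2, a3]; ring⟩
  · rintro ⟨⟨-, a1⟩, a2, a3⟩
    exact ⟨⟨a1, by linarith⟩, by linarith⟩

theorem ncard_co2Cls {v w : leechLattice} (hv : sqNorm (v : GolayPt → ℤ) = 32)
    (hw : w ∈ co2Set v) (t : ℤ) : (co2Cls v w t).ncard = (OmC (8 - t)).card := by
  obtain ⟨g, h1, h2⟩ := exists_std_mcl2 hv hw.1 hw.2
  have e : co2Cls v w t = (fun y : leechLattice => g • (-y)) ⁻¹'
      {z : leechLattice | (z : GolayPt → ℤ) ∈ OmC (8 - t)} := by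
    ext y
    rw [mem_co2Cls_iff h1 h2]
    rfl
  have hinj : Function.Injective (fun y : leechLattice => g • (-y)) := by
    intro a b hab
    exact neg_injective (MulAction.injective g hab)
  rw [e, Set.ncard_preimage_of_injective_subset_range hinj]
  · rw [ncard_subtype_eq]
    intro z hz
    exact (mem_F32.mp (mem_OmC.mp hz).1).1
  · intro z _
    exact ⟨-(g⁻¹ • z), by simp⟩

theorem OmC16_sub {z : GolayPt → ℤ} (hz : z ∈ OmC 16) : z ∈ Zf := by
  rw [mem_OmC] at hz
  unfold Zf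
  exact Finset.mem_filter.mpr ⟨hz.1, hz.2.2⟩

theorem OmC16_vals {z : GolayPt → ℤ} (hz : z ∈ OmC 16) :
    (z none, z (some 0)) ∈ ({(0, 2), (2, 0), (3, -1), (1, 1)} : Finset (ℤ × ℤ)) := by
  have hcv := cell_vals (OmC16_sub hz)
  rw [mem_OmC, dotInt_v44] at hz
  unfold cellPairs at hcv
  simp only [Finset.mem_insert, Finset.mem_singleton, Prod.mk.injEq] at hcv ⊢
  omega

theorem OmC16_filter (a b : ℤ) (hab : a + b = 2) :
    (OmC 16).filter (fun z => (z none, z (some 0)) = (a, b)) = cell a b := by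
  ext z
  rw [Finset.mem_filter, mem_OmC, mem_cell, dotInt_v44, Prod.mk.injEq]
  constructor
  · rintro ⟨⟨h1, -, h2⟩, h3⟩; exact ⟨⟨h1, h2⟩, h3⟩
  · rintro ⟨⟨h1, h2⟩, h3⟩; exact ⟨⟨h1, by omega, h2⟩, h3⟩

theorem card_OmC16 : (OmC 16).card = 7128 := by
  have h := Finset.card_eq_sum_card_fiberwise (s := OmC 16)
    (t := ({(0, 2), (2, 0), (3, -1), (1, 1)} : Finset (ℤ × ℤ)))
    (f := fun z => (z none, z (some 0))) (fun z hz => OmC16_vals hz)
  rw [Finset.sum_insert (by decide), Finset.sum_insert (by decide), Finset.sum_insert (by decide),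
    Finset.sum_singleton, OmC16_filter _ _ (by norm_num), OmC16_filter _ _ (by norm_num),
    OmC16_filter _ _ (by norm_num), OmC16_filter _ _ (by norm_num)] at h
  obtain ⟨-, -, -, h4, h5, -, -, h8, -, -, h11, -⟩ := card_cell
  rw [h, h4, h5, h8, h11]; norm_num

theorem ncard_cls_m8 {v w : leechLattice} (hv : sqNorm (v : GolayPt → ℤ) = 32)
    (hw : w ∈ co2Set v) : (co2Cls v w (-8)).ncard = 7128 := by
  rw [ncard_co2Cls hv hw]
  have : (8 : ℤ) - -8 = 16 := by norm_num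
  rw [this, card_OmC16]


end Cfsg.Agent.Helper27
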