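import Mathlib
import Cfsg.Agent.Lib.Helper27.Co2Classes

set_option autoImplicit false
set_option maxRecDepth 8000
open Cfsg

/-! Code words with prescribed intersection with an octad, the monomial stabiliser of two orthogonal minimal vectors, and the class of inner product 0. -/

namespace Cfsg.Agent.Helper27
open Cfsg.Agent.S0394 (FA FB FC idxA idxB fC mem_idxA mem_idxB mem_octads_iff)
open scoped Pointwise
open MulAction



/-- Shapes of the minimal vectors with coordinates `-2` and `0` at the two base points. -/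
theorem mem_D_cases {d : GolayPt → ℤ} (hF : d ∈ F32) (h1 : d none = -2) (h0 : d (some 0) = 0) :
    ∃ p ∈ octads, none ∈ p ∧ some 0 ∉ p ∧ ∃ N : Finset GolayPt, N ⊆ p ∧ Even N.card ∧
      none ∈ N ∧ d = shapeVec 2 p N := by
  unfold F32 at hF
  rw [Finset.mem_union, Finset.mem_union] at hF
  rcases hF with (hA | hB) | hC
  · exfalso
    unfold FA at hA
    rw [Finset.mem_image] at hA
    obtain ⟨q, -, rfl⟩ := hA
    unfold shapeVec at h1
    split_ifs at h1 <;> omega
  · unfold FB at hB
    rw [Finset.mem_image] at hB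
    obtain ⟨q, hq, rfl⟩ := hB
    rw [mem_idxB] at hq
    unfold shapeVec at h1 h0
    have hn : none ∈ q.1 := by
      by_contra h; rw [if_neg h] at h1; omega
    rw [if_pos hn] at h1
    have hnN : none ∈ q.2 := by
      by_contra h; rw [if_neg h] at h1; omega
    have h0' : some 0 ∉ q.1 := by
      intro h; rw [if_pos h] at h0; split_ifs at h0 <;> omega
    exact ⟨q.1, hq.1, hn, h0', q.2, hq.2.1, hq.2.2, hnN, rfl⟩
  · exfalso
    unfold FC at hC
    rw [Finset.mem_image] at hC
    obtain ⟨⟨j, c⟩, -, rfl⟩ := hC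
    rw [fC_apply] at h1
    split_ifs at h1 <;> omega

/-- An octad meeting a given octad in a prescribed pair. -/
theorem exists_octad_inter_pair {p : Finset GolayPt} (hp : p ∈ octads) {a b : GolayPt}
    (ha : a ∈ p) (hb : b ∈ p) (hab : a ≠ b) : ∃ o ∈ octads, o ∩ p = {a, b} := by
  obtain ⟨z, hz, -, -⟩ := exists_notMem_octad hp a b
  obtain ⟨o, ho, hao, hzo, m, hma, hom⟩ := exists_octad_meet_two_a hp ha hz
  have hmp : m ∈ p := by
    have : m ∈ o ∩ p := by rw [hom]; simp
    exact (Finset.mem_inter.mp this).2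
  obtain ⟨σ, hσ, hmap, -, hσp⟩ := exists_perm_octad5 hp hp (L := [a, b]) (L' := [a, m])
    (by simp [hab]) (by simp [Ne.symm hma]) rfl (by simp)
    (by intro i hi; simp only [List.mem_cons, List.not_mem_nil, or_false] at hi
        rcases hi with rfl | rfl
        · exact ha
        · exact hb)
    (by intro i hi; simp only [List.mem_cons, List.not_mem_nil, or_false] at hi
        rcases hi with rfl | rfl
        · exact ha
        · exact hmp) hz hz
  simp only [List.map_cons, List.map_nil, List.cons.injEq, and_true] at hmap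
  refine ⟨σ • o, smul_mem_octads hσ ho, ?_⟩
  ext i
  rw [Finset.mem_inter, Finset.mem_insert, Finset.mem_singleton]
  constructor
  · rintro ⟨hi, hip⟩
    obtain ⟨j, hj, rfl⟩ := Finset.mem_smul_finset.mp hi
    have hjp : j ∈ p := (hσp j).mp hip
    have : j ∈ o ∩ p := Finset.mem_inter.mpr ⟨hj, hjp⟩
    rw [hom, Finset.mem_insert, Finset.mem_singleton] at this
    rcases this with rfl | rfl
    · left; exact hmap.1
    · right; exact hmap.2
  · rintro (rfl | rfl)
    · refine ⟨?_, ha⟩
      rw [← hmap.1]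
      exact Finset.smul_mem_smul_finset hao
    · refine ⟨?_, hb⟩
      rw [← hmap.2]
      apply Finset.smul_mem_smul_finset
      have : m ∈ o ∩ p := by rw [hom]; simp
      exact (Finset.mem_inter.mp this).1

/-- Code words with prescribed even intersection with an octad. -/
theorem exists_code_inter {p : Finset GolayPt} (hp : p ∈ octads) :
    ∀ (n : ℕ) (E : Finset GolayPt), E.card = n → E ⊆ p → Even E.card →
      ∃ c ∈ golayCode, support₂ c ∩ p = E := by
  intro n
  induction n using Nat.strong_induction_on with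
  | _ n ih =>
    intro E hn hE hev
    by_cases h0 : E = ∅
    · subst h0
      refine ⟨0, golayCode.zero_mem, ?_⟩
      ext i
      rw [Finset.mem_inter, mem_support₂]
      simp
    · obtain ⟨a, ha⟩ := Finset.nonempty_iff_ne_empty.mpr h0
      have h2 : 2 ≤ E.card := by
        have : 0 < E.card := Finset.card_pos.mpr ⟨a, ha⟩
        obtain ⟨r, hr⟩ := hev
        omega
      obtain ⟨b, hb, hba⟩ := Finset.exists_mem_ne (by omega : 1 < E.card) a
      set E' := (E.erase a).erase b with hE'
      have hbEa : b ∈ E.erase a := Finset.mem_erase.mpr ⟨hba, hb⟩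
      have hc' : E'.card = n - 2 := by
        rw [hE', Finset.card_erase_of_mem hbEa, Finset.card_erase_of_mem ha, hn]; omega
      have hev' : Even E'.card := by
        rw [hc']
        obtain ⟨r, hr⟩ := hev
        exact ⟨r - 1, by omega⟩
      have hsub' : E' ⊆ p := fun i hi =>
        hE (Finset.mem_of_mem_erase (Finset.mem_of_mem_erase hi))
      obtain ⟨c', hc'm, hc'E⟩ := ih (n - 2) (by omega) E' hc' hsub' hev'
      obtain ⟨o, ho, hop⟩ := exists_octad_inter_pair hp (hE ha) (hE hb) (Ne.symm hba)
      obtain ⟨w, hw, hwo, -⟩ := (mem_octads_iff o).mp ho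
      refine ⟨c' + w, golayCode.add_mem hc'm hw, ?_⟩
      rw [Cfsg.Agent.S0363.support₂_add, hwo]
      ext i
      have e1 : i ∈ support₂ c' ∩ p ↔ i ∈ E' := by rw [hc'E]
      have e2 : i ∈ o ∩ p ↔ i ∈ ({a, b} : Finset GolayPt) := by rw [hop]
      rw [Finset.mem_inter] at e1 e2
      rw [hE', Finset.mem_erase, Finset.mem_erase] at e1
      rw [Finset.mem_insert, Finset.mem_singleton] at e2
      rw [Finset.mem_inter, Finset.mem_symmDiff]
      by_cases hia : i = a
      · subst hia
        have := hE ha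
        tauto
      · by_cases hib : i = b
        · subst hib
          have := hE hb
          tauto
        · tauto

theorem exists_code_inter' {p : Finset GolayPt} (hp : p ∈ octads) {q : GolayPt} (hq : q ∉ p)
    {E : Finset GolayPt} (hE : E ⊆ p) (hev : Even E.card) :
    ∃ c ∈ golayCode, support₂ c ∩ p = E ∧ c q = 0 := by
  obtain ⟨c, hc, hcE⟩ := exists_code_inter hp E.card E rfl hE hev
  by_cases h : c q = 0
  · exact ⟨c, hc, hcE, h⟩
  · obtain ⟨w, hw, hwp, -⟩ := (mem_octads_iff p).mp hp
    have hq1 : c q = 1 := by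
      have : ∀ x : ZMod 2, x ≠ 0 → x = 1 := by decide
      exact this _ h
    have hwq : w q = 0 := by
      by_contra hne
      exact hq (hwp ▸ mem_support₂.mpr hne)
    refine ⟨c + 1 + w, golayCode.add_mem (golayCode.add_mem hc one_mem_golayCode) hw, ?_, ?_⟩
    · rw [← hcE]
      ext i
      rw [Finset.mem_inter, Finset.mem_inter, mem_support₂, mem_support₂]
      constructor
      · rintro ⟨h1, hip⟩
        refine ⟨?_, hip⟩
        have hwi : w i = 1 := by
          have : ∀ x : ZMod 2, x ≠ 0 → x = 1 := by decide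
          exact this _ (mem_support₂.mp (hwp ▸ hip))
        simp only [Pi.add_apply, Pi.one_apply, hwi] at h1
        intro hci
        apply h1
        rw [hci]
        decide
      · rintro ⟨h1, hip⟩
        refine ⟨?_, hip⟩
        have hwi : w i = 1 := by
          have : ∀ x : ZMod 2, x ≠ 0 → x = 1 := by decide
          exact this _ (mem_support₂.mp (hwp ▸ hip))
        have hci : c i = 1 := by
          have : ∀ x : ZMod 2, x ≠ 0 → x = 1 := by decide
          exact this _ h1
        simp only [Pi.add_apply, Pi.one_apply, hwi, hci]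
        decide
    · simp only [Pi.add_apply, Pi.one_apply, hwq, hq1]
      decide

theorem signChange_shapeVec (C p N : Finset GolayPt) :
    signChange C (shapeVec 2 p N) = shapeVec 2 p (symmDiff N (C ∩ p)) := by
  funext i
  unfold signChange shapeVec
  by_cases hp : i ∈ p
  · rw [if_pos hp, if_pos hp]
    by_cases hC : i ∈ C
    · rw [if_pos hC]
      by_cases hN : i ∈ N
      · rw [if_pos hN, if_neg]
        · norm_num
        · rw [Finset.mem_symmDiff, Finset.mem_inter]; tauto
      · rw [if_neg hN, if_pos]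
        rw [Finset.mem_symmDiff, Finset.mem_inter]; tauto
    · rw [if_neg hC]
      by_cases hN : i ∈ N
      · rw [if_pos hN, if_pos]
        rw [Finset.mem_symmDiff, Finset.mem_inter]; tauto
      · rw [if_neg hN, if_neg]
        rw [Finset.mem_symmDiff, Finset.mem_inter]; tauto
  · rw [if_neg hp, if_neg hp]
    split_ifs <;> norm_num




theorem epsG_fix2 {c : GolayPt → ZMod 2} (hc : c ∈ golayCode) (h1 : c none = 0)
    (h2 : c (some 0) = 0) : epsG c hc • V44 = V44 ∧ epsG c hc • X0 = X0 := by
  have hn : none ∉ support₂ c := by rw [mem_support₂, not_not]; exact h1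
  have h0 : some 0 ∉ support₂ c := by rw [mem_support₂, not_not]; exact h2
  constructor
  · apply Subtype.ext
    rw [epsG_smul]
    show signChange (support₂ c) (vec44 none (some 0) 1) = vec44 none (some 0) 1
    rw [signChange_vec44 hn, if_neg h0]
  · apply Subtype.ext
    rw [epsG_smul]
    show signChange (support₂ c) (vec44 none (some 0) (-1)) = vec44 none (some 0) (-1)
    rw [signChange_vec44 hn, if_neg h0]

/-- The joint stabiliser of the two standard orthogonal vectors is transitive on the minimal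
vectors having inner product `-8` with both. -/
theorem D_trans {d d' : leechLattice} (hd : sqNorm (d : GolayPt → ℤ) = 32)
    (hd' : sqNorm (d' : GolayPt → ℤ) = 32)
    (h1 : dotInt v44 (d : GolayPt → ℤ) = -8) (h2 : dotInt x0f (d : GolayPt → ℤ) = -8)
    (h1' : dotInt v44 (d' : GolayPt → ℤ) = -8) (h2' : dotInt x0f (d' : GolayPt → ℤ) = -8) :
    ∃ g : Co0, g • V44 = V44 ∧ g • X0 = X0 ∧ g • d = d' := by
  rw [dotInt_v44] at h1 h1'
  rw [dotInt_x0f] at h2 h2'
  obtain ⟨p, hp, hnp, h0p, N, hNp, hNe, hnN, hdN⟩ := mem_D_cases (mem_F32.mpr ⟨d.2, hd⟩)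
    (by omega) (by omega)
  obtain ⟨p', hp', hnp', h0p', N', hNp', hNe', hnN', hdN'⟩ := mem_D_cases
    (mem_F32.mpr ⟨d'.2, hd'⟩) (by omega) (by omega)
  obtain ⟨σ, hσ, hmap, hσ0, hσp⟩ := exists_perm_octad5 hp hp' (L := [none]) (L' := [none])
    (by simp) (by simp) rfl (by simp)
    (by intro i hi; simp only [List.mem_cons, List.not_mem_nil, or_false] at hi
        rw [hi]; exact hnp)
    (by intro i hi; simp only [List.mem_cons, List.not_mem_nil, or_false] at hi
        rw [hi]; exact hnp') h0p h0p'
  simp only [List.map_cons, List.map_nil, List.cons.injEq, and_true] at hmap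
  obtain ⟨-, q2, q3⟩ := permG_fix3 hσ hmap hσ0
  -- the image of the sign set
  set N'' := N.image σ.symm with hN''
  have hmem : ∀ i, σ i ∈ N ↔ i ∈ N'' := by
    intro i
    rw [hN'', Finset.mem_image]
    constructor
    · intro h; exact ⟨σ i, h, σ.symm_apply_apply i⟩
    · rintro ⟨j, hj, rfl⟩; rw [σ.apply_symm_apply]; exact hj
  have hsub'' : N'' ⊆ p' := fun i hi => (hσp i).mp (hNp ((hmem i).mpr hi))
  have hcard'' : N''.card = N.card := Finset.card_image_of_injective _ σ.symm.injective
  have hn'' : none ∈ N'' := (hmem none).mp (by rw [hmap]; exact hnN)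
  have e1 : ((permG σ hσ • d : leechLattice) : GolayPt → ℤ) = shapeVec 2 p' N'' := by
    rw [permG_smul]
    show (fun i => (d : GolayPt → ℤ) (σ i)) = _
    rw [hdN]
    exact shapeVec_comp' hσp hmem
  -- the sign change
  set E := symmDiff N'' N' with hE
  have hEp : E ⊆ p' := by
    intro i hi
    rw [hE, Finset.mem_symmDiff] at hi
    rcases hi with hi | hi
    · exact hsub'' hi.1
    · exact hNp' hi.1
  have hEe : Even E.card := by
    have := Cfsg.Agent.S0363.card_symmDiff_add N'' N'
    rw [hcard'', ← hE] at this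
    obtain ⟨r, hr⟩ := hNe
    obtain ⟨r', hr'⟩ := hNe'
    exact ⟨r + r' - (N'' ∩ N').card, by omega⟩
  obtain ⟨c, hc, hcE, hc0⟩ := exists_code_inter' hp' h0p' hEp hEe
  have hcn : c none = 0 := by
    by_contra hne
    have : none ∈ support₂ c ∩ p' := Finset.mem_inter.mpr ⟨mem_support₂.mpr hne, hnp'⟩
    rw [hcE, hE, Finset.mem_symmDiff] at this
    tauto
  obtain ⟨r2, r3⟩ := epsG_fix2 hc hcn hc0
  refine ⟨epsG c hc * permG σ hσ, by rw [mul_smul, q3, r2], by rw [mul_smul, q2, r3], ?_⟩
  apply Subtype.ext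
  rw [mul_smul, epsG_smul]
  show signChange (support₂ c) ((permG σ hσ • d : leechLattice) : GolayPt → ℤ) = _
  rw [e1, signChange_shapeVec, hcE, hE, symmDiff_symmDiff_cancel_left, hdN']

theorem cls_0_trans {v w y y' : leechLattice} (hv : sqNorm (v : GolayPt → ℤ) = 32)
    (hw : w ∈ co2Set v) (hy : y ∈ co2Cls v w 0) (hy' : y' ∈ co2Cls v w 0) :
    ∃ g : Co0, g • v = v ∧ g • w = w ∧ g • y = y' := by
  obtain ⟨g1, a1, a2⟩ := (pair_zero w.2 y.2 hw.1 hy.1.1 hy.2).exists_smul
  obtain ⟨g2, b1, b2⟩ := (pair_zero w.2 y'.2 hw.1 hy'.1.1 hy'.2).exists_smul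
  have a1' : g1 • w = V44 := Subtype.ext a1
  have a2' : g1 • y = X0 := Subtype.ext a2
  have b1' : g2 • w = V44 := Subtype.ext b1
  have b2' : g2 • y' = X0 := Subtype.ext b2
  have c1 : dotInt v44 ((g1 • v : leechLattice) : GolayPt → ℤ) = -8 := by
    have : dotInt v44 ((g1 • v : leechLattice) : GolayPt → ℤ) =
        dotInt ((g1 • w : leechLattice) : GolayPt → ℤ)
          ((g1 • v : leechLattice) : GolayPt → ℤ) := by rw [a1']; rfl
    rw [this, smul_dot, dotInt_comm', hw.2]
  have c2 : dotInt x0f ((g1 • v : leechLattice) : GolayPt → ℤ) = -8 := by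
    have : dotInt x0f ((g1 • v : leechLattice) : GolayPt → ℤ) =
        dotInt ((g1 • y : leechLattice) : GolayPt → ℤ)
          ((g1 • v : leechLattice) : GolayPt → ℤ) := by rw [a2']; rfl
    rw [this, smul_dot, dotInt_comm', hy.1.2]
  have c1' : dotInt v44 ((g2 • v : leechLattice) : GolayPt → ℤ) = -8 := by
    have : dotInt v44 ((g2 • v : leechLattice) : GolayPt → ℤ) =
        dotInt ((g2 • w : leechLattice) : GolayPt → ℤ)
          ((g2 • v : leechLattice) : GolayPt → ℤ) := by rw [b1']; rfl
    rw [this, smul_dot, dotInt_comm', hw.2]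
  have c2' : dotInt x0f ((g2 • v : leechLattice) : GolayPt → ℤ) = -8 := by
    have : dotInt x0f ((g2 • v : leechLattice) : GolayPt → ℤ) =
        dotInt ((g2 • y' : leechLattice) : GolayPt → ℤ)
          ((g2 • v : leechLattice) : GolayPt → ℤ) := by rw [b2']; rfl
    rw [this, smul_dot, dotInt_comm', hy'.1.2]
  obtain ⟨h, e1, e2, e3⟩ := D_trans (d := g1 • v) (d' := g2 • v) (by rw [smul_norm, hv])
    (by rw [smul_norm, hv]) c1 c2 c1' c2'
  refine ⟨g2⁻¹ * h * g1, ?_, ?_, ?_⟩
  · rw [mul_smul, mul_smul, e3, inv_smul_smul]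
  · rw [mul_smul, mul_smul, a1', e1, ← b1', inv_smul_smul]
  · rw [mul_smul, mul_smul, a2', e2, ← b2', inv_smul_smul]


end Cfsg.Agent.Helper27
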