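import Mathlib
import Cfsg.Agent.Lib.Helper27.Co2Orth

set_option autoImplicit false
set_option maxRecDepth 8000
open Cfsg

/-! The class of inner product 8: shapes in the standard frame and moves between them. -/

namespace Cfsg.Agent.Helper27
open Cfsg.Agent.S0394 (FA FB FC idxA idxB fC mem_idxA mem_idxB mem_octads_iff)
open scoped Pointwise
open MulAction



theorem card_codeF_12_ff : (codeF 12 false false).card = 616 := by
  rw [card_codeF]; decide +kernel
theorem card_codeF_16_tt : (codeF 16 true true).card = 330 := by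
  rw [card_codeF]; decide +kernel
theorem card_codeF_16_ff : (codeF 16 false false).card = 77 := by
  rw [card_codeF]; decide +kernel

/-- Shapes of the minimal vectors `z` with `z_∞ + z_0 = 2`. -/
theorem mem_Om_cases {z : GolayPt → ℤ} (hF : z ∈ F32) (hv : z none + z (some 0) = 2) :
    (∃ p ∈ octads, none ∈ p ∧ some 0 ∉ p ∧ ∃ N : Finset GolayPt, N ⊆ p ∧ Even N.card ∧
      none ∉ N ∧ z = shapeVec 2 p N) ∨
    (∃ p ∈ octads, none ∉ p ∧ some 0 ∈ p ∧ ∃ N : Finset GolayPt, N ⊆ p ∧ Even N.card ∧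
      some 0 ∉ N ∧ z = shapeVec 2 p N) ∨
    (∃ j, j ≠ none ∧ j ≠ some 0 ∧ ∃ c : golayCode, c.1 none = 0 ∧ c.1 (some 0) = 0 ∧
      z = fC (j, c)) ∨
    (∃ c : golayCode, c.1 none ≠ 0 ∧ c.1 (some 0) ≠ 0 ∧ z = fC (none, c)) ∨
    (∃ c : golayCode, c.1 none ≠ 0 ∧ c.1 (some 0) ≠ 0 ∧ z = fC (some 0, c)) := by
  have hF' := hF
  unfold F32 at hF'
  rw [Finset.mem_union, Finset.mem_union] at hF'
  rcases hF' with (hA | hB) | hC
  · exfalso
    unfold FA at hA
    rw [Finset.mem_image] at hA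
    obtain ⟨q, -, rfl⟩ := hA
    have h4 : ∀ i, shapeVec 4 q.1 q.2 i = 0 ∨ shapeVec 4 q.1 q.2 i = 4 ∨
        shapeVec 4 q.1 q.2 i = -4 := by
      intro i; unfold shapeVec; split_ifs <;> simp
    rcases h4 none with h | h | h <;> rcases h4 (some 0) with h' | h' | h' <;> omega
  · unfold FB at hB
    rw [Finset.mem_image] at hB
    obtain ⟨q, hq, rfl⟩ := hB
    rw [mem_idxB] at hq
    unfold shapeVec at hv
    by_cases hn : none ∈ q.1
    · by_cases h0 : some 0 ∈ q.1
      · exfalso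
        rw [if_pos hn, if_pos h0] at hv
        split_ifs at hv <;> omega
      · left
        rw [if_pos hn, if_neg h0] at hv
        refine ⟨q.1, hq.1, hn, h0, q.2, hq.2.1, hq.2.2, ?_, rfl⟩
        intro hnN
        rw [if_pos hnN] at hv
        omega
    · by_cases h0 : some 0 ∈ q.1
      · right; left
        rw [if_neg hn, if_pos h0] at hv
        refine ⟨q.1, hq.1, hn, h0, q.2, hq.2.1, hq.2.2, ?_, rfl⟩
        intro h0N
        rw [if_pos h0N] at hv
        omega
      · exfalso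
        rw [if_neg hn, if_neg h0] at hv
        omega
  · right; right
    unfold FC at hC
    rw [Finset.mem_image] at hC
    obtain ⟨⟨j, c⟩, -, rfl⟩ := hC
    rw [fC_apply, fC_apply] at hv
    by_cases hjn : j = none
    · subst hjn
      right; left
      rw [if_pos rfl, if_neg (by decide : (some 0 : GolayPt) ≠ none)] at hv
      refine ⟨c, ?_, ?_, rfl⟩
      · intro h; rw [if_pos h] at hv; split_ifs at hv <;> omega
      · intro h; rw [if_pos h] at hv; split_ifs at hv <;> omega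
    · by_cases hj0 : j = some 0
      · subst hj0
        right; right
        rw [if_neg (by decide : (none : GolayPt) ≠ some 0), if_pos rfl] at hv
        refine ⟨c, ?_, ?_, rfl⟩
        · intro h; rw [if_pos h] at hv; split_ifs at hv <;> omega
        · intro h; rw [if_pos h] at hv; split_ifs at hv <;> omega
      · left
        rw [if_neg (Ne.symm hjn), if_neg (Ne.symm hj0)] at hv
        refine ⟨j, hjn, hj0, c, ?_, ?_, rfl⟩
        · by_contra h; rw [if_neg h] at hv; split_ifs at hv <;> omega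
        · by_contra h; rw [if_neg h] at hv; split_ifs at hv <;> omega

/-! ### Sums over subsets -/

theorem sum_shapeVec_on' (k : ℤ) {p N : Finset GolayPt} (hN : N ⊆ p) (S : Finset GolayPt) :
    ∑ i ∈ S, shapeVec k p N i = k * (((S ∩ p).card : ℤ) - 2 * ((S ∩ N).card : ℤ)) := by
  unfold shapeVec
  have : ∀ i, (if i ∈ p then (if i ∈ N then -k else k) else 0) =
      (if i ∈ p then k else 0) - (if i ∈ N then 2 * k else 0) := by
    intro i
    by_cases h' : i ∈ N
    · have h : i ∈ p := hN h'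
      simp [h, h']; ring
    · by_cases h : i ∈ p <;> simp [h, h']
  rw [Finset.sum_congr rfl (fun i _ => this i), Finset.sum_sub_distrib, Finset.sum_ite_mem,
    Finset.sum_ite_mem, Finset.sum_const, Finset.sum_const]
  simp only [nsmul_eq_mul]
  ring

theorem fC_eq' (j : GolayPt) (c : golayCode) (i : GolayPt) :
    fC (j, c) i = 1 - (if i ∈ support₂ c.1 then 2 else 0) +
      (if i = j then (if c.1 j = 0 then -4 else 4) else 0) := by
  rw [fC_apply]
  by_cases hi : i = j
  · subst hi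
    rw [if_pos rfl, if_pos rfl]
    by_cases h : c.1 i = 0
    · have : i ∉ support₂ c.1 := by rw [mem_support₂, not_not]; exact h
      rw [if_pos h, if_neg this, if_pos h]; norm_num
    · have : i ∈ support₂ c.1 := mem_support₂.mpr h
      rw [if_neg h, if_pos this, if_neg h]; norm_num
  · rw [if_neg hi, if_neg hi]
    by_cases h : c.1 i = 0
    · have : i ∉ support₂ c.1 := by rw [mem_support₂, not_not]; exact h
      rw [if_pos h, if_neg this]; norm_num
    · have : i ∈ support₂ c.1 := mem_support₂.mpr h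
      rw [if_neg h, if_pos this]; norm_num

theorem sum_fC_on (j : GolayPt) (c : golayCode) (S : Finset GolayPt) :
    ∑ i ∈ S, fC (j, c) i =
      (S.card : ℤ) - 2 * ((S ∩ support₂ c.1).card : ℤ) +
        (if j ∈ S then (if c.1 j = 0 then -4 else 4) else 0) := by
  rw [Finset.sum_congr rfl (fun i _ => fC_eq' j c i), Finset.sum_add_distrib,
    Finset.sum_sub_distrib, Finset.sum_ite_mem, Finset.sum_const, Finset.sum_const,
    Finset.sum_ite_eq' S j]
  simp only [nsmul_eq_mul, mul_one]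
  ring

/-- An octad meets a dodecad in two, four or six points. -/
theorem octad_inter_dodecad {r : Finset GolayPt} (hr : r ∈ octads) (c : golayCode)
    (h12 : (support₂ c.1).card = 12) :
    (r ∩ support₂ c.1).card = 2 ∨ (r ∩ support₂ c.1).card = 4 ∨ (r ∩ support₂ c.1).card = 6 := by
  obtain ⟨w, hw, rfl, h8⟩ := (mem_octads_iff r).mp hr
  have h1 := Cfsg.Agent.S0363.card_symmDiff_add (support₂ w) (support₂ c.1)
  rw [← Cfsg.Agent.S0363.support₂_add] at h1
  have h2 := golay_weight (golayCode.add_mem hw c.2)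
  have h3 : (support₂ w ∩ support₂ c.1).card ≤ 8 := by
    rw [← h8]; exact Finset.card_le_card Finset.inter_subset_left
  omega

/-- The complement of a code word of weight sixteen is an octad. -/
theorem compl_octad (c : golayCode) (h16 : (support₂ c.1).card = 16) :
    (Finset.univ \ support₂ c.1) ∈ octads := by
  rw [mem_octads_iff]
  refine ⟨c.1 + 1, golayCode.add_mem c.2 one_mem_golayCode, ?_, ?_⟩
  · ext i
    rw [mem_support₂, Finset.mem_sdiff, mem_support₂]
    simp only [Pi.add_apply, Pi.one_apply, Finset.mem_univ, true_and, not_not]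
    have : ∀ x : ZMod 2, x + 1 ≠ 0 ↔ x = 0 := by decide
    exact this _
  · rw [Finset.card_sdiff_of_subset (Finset.subset_univ _), Finset.card_univ, card_golayPt, h16]




def TyS1 (z : GolayPt → ℤ) : Prop :=
  ∃ p ∈ octads, none ∈ p ∧ some 0 ∉ p ∧ ∃ e ∈ p, e ≠ none ∧ z = shapeVec 2 p (p \ {none, e})
def TyS2 (z : GolayPt → ℤ) : Prop :=
  ∃ p ∈ octads, none ∉ p ∧ some 0 ∈ p ∧ ∃ N : Finset GolayPt, N ⊆ p ∧ some 0 ∉ N ∧
    N.card = 4 ∧ z = shapeVec 2 p N
def TyS3 (z : GolayPt → ℤ) : Prop :=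
  ∃ j, j ≠ none ∧ j ≠ some 0 ∧ ∃ c : golayCode, c.1 none = 0 ∧ c.1 (some 0) = 0 ∧
    (support₂ c.1).card = 12 ∧ c.1 j = 0 ∧ z = fC (j, c)
def TyS4 (z : GolayPt → ℤ) : Prop :=
  ∃ j, j ≠ none ∧ j ≠ some 0 ∧ ∃ c : golayCode, c.1 none = 0 ∧ c.1 (some 0) = 0 ∧
    (support₂ c.1).card = 16 ∧ c.1 j ≠ 0 ∧ z = fC (j, c)
def TyS5 (z : GolayPt → ℤ) : Prop :=
  ∃ c : golayCode, c.1 none ≠ 0 ∧ c.1 (some 0) ≠ 0 ∧ (support₂ c.1).card = 12 ∧
    z = fC (some 0, c)

theorem S_types {z : GolayPt → ℤ} (hz : z ∈ OmC 0) :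
    TyS1 z ∨ TyS2 z ∨ TyS3 z ∨ TyS4 z ∨ TyS5 z := by
  rw [mem_OmC, dotInt_v44, dotInt_u5] at hz
  obtain ⟨hF, hv, hu⟩ := hz
  rcases mem_Om_cases hF (by omega) with h | h | h | h | h
  · left
    obtain ⟨p, hp, hn, h0, N, hN, -, hnN, rfl⟩ := h
    have h8 := octad_card hp
    rw [sum_shapeVec 2 hN, h8] at hu
    have e1 : shapeVec 2 p N none = 2 := by
      unfold shapeVec; rw [if_pos hn, if_neg hnN]
    rw [e1] at hu
    have hN6 : N.card = 6 := by push_cast at hu; omega
    have hc2 : (p \ N).card = 2 := by rw [Finset.card_sdiff_of_subset hN, h8, hN6]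
    obtain ⟨x, y, hxy, hpN⟩ := Finset.card_eq_two.mp hc2
    have hnpN : none ∈ p \ N := Finset.mem_sdiff.mpr ⟨hn, hnN⟩
    have hNeq : N = p \ (p \ N) := (Finset.sdiff_sdiff_eq_self hN).symm
    rw [hpN, Finset.mem_insert, Finset.mem_singleton] at hnpN
    rcases hnpN with rfl | rfl
    · have hy : y ∈ p \ N := by rw [hpN]; simp
      refine ⟨p, hp, hn, h0, y, (Finset.mem_sdiff.mp hy).1, Ne.symm hxy, ?_⟩
      rw [← hpN, ← hNeq]
    · have hx : x ∈ p \ N := by rw [hpN]; simp
      refine ⟨p, hp, hn, h0, x, (Finset.mem_sdiff.mp hx).1, hxy, ?_⟩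
      rw [Finset.pair_comm, ← hpN, ← hNeq]
  · right; left
    obtain ⟨p, hp, hn, h0, N, hN, -, h0N, rfl⟩ := h
    have h8 := octad_card hp
    rw [sum_shapeVec 2 hN, h8] at hu
    have e1 : shapeVec 2 p N none = 0 := by
      unfold shapeVec; rw [if_neg hn]
    rw [e1] at hu
    have hN4 : N.card = 4 := by push_cast at hu; omega
    exact ⟨p, hp, hn, h0, N, hN, h0N, hN4, rfl⟩
  · obtain ⟨j, hjn, hj0, c, cn, c0, rfl⟩ := h
    rw [sum_fC, fC_apply, if_neg (Ne.symm hjn), if_pos cn] at hu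
    have hW := golay_weight c.2
    by_cases hcj : c.1 j = 0
    · right; right; left
      simp only [hcj, if_true] at hu
      exact ⟨j, hjn, hj0, c, cn, c0, by omega, hcj, rfl⟩
    · right; right; right; left
      simp only [hcj, if_false] at hu
      exact ⟨j, hjn, hj0, c, cn, c0, by omega, hcj, rfl⟩
  · exfalso
    obtain ⟨c, cn, c0, rfl⟩ := h
    rw [sum_fC, fC_apply, if_pos rfl] at hu
    simp only [cn, if_false] at hu
    have hW := golay_weight c.2
    omega
  · right; right; right; right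
    obtain ⟨c, cn, c0, rfl⟩ := h
    rw [sum_fC, fC_apply, if_neg (by decide : (none : GolayPt) ≠ some 0), if_neg cn] at hu
    simp only [c0, if_false] at hu
    have hW := golay_weight c.2
    exact ⟨c, cn, c0, by omega, rfl⟩

theorem TyS1.vals {z : GolayPt → ℤ} (h : TyS1 z) : z none = 2 := by
  obtain ⟨p, hp, hn, h0, e, he, hen, rfl⟩ := h
  unfold shapeVec
  rw [if_pos hn, if_neg]
  rw [Finset.mem_sdiff]
  simp

theorem TyS2.vals {z : GolayPt → ℤ} (h : TyS2 z) : z none = 0 := by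
  obtain ⟨p, hp, hn, h0, N, hN, h0N, h4, rfl⟩ := h
  unfold shapeVec
  rw [if_neg hn]

theorem TyS3.vals {z : GolayPt → ℤ} (h : TyS3 z) : z none = 1 := by
  obtain ⟨j, hjn, hj0, c, cn, c0, h12, hcj, rfl⟩ := h
  rw [fC_apply, if_neg (Ne.symm hjn), if_pos cn]

theorem TyS4.vals {z : GolayPt → ℤ} (h : TyS4 z) : z none = 1 := by
  obtain ⟨j, hjn, hj0, c, cn, c0, h12, hcj, rfl⟩ := h
  rw [fC_apply, if_neg (Ne.symm hjn), if_pos cn]

theorem TyS5.vals {z : GolayPt → ℤ} (h : TyS5 z) : z none = -1 := by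
  obtain ⟨c, cn, c0, h12, rfl⟩ := h
  rw [fC_apply, if_neg (by decide : (none : GolayPt) ≠ some 0), if_neg cn]

theorem S1_of_vals {z : GolayPt → ℤ} (hz : z ∈ OmC 0) (h : z none = 2) : TyS1 z := by
  rcases S_types hz with h' | h' | h' | h' | h'
  · exact h'
  · have := h'.vals; omega
  · have := h'.vals; omega
  · have := h'.vals; omega
  · have := h'.vals; omega

theorem S2_of_vals {z : GolayPt → ℤ} (hz : z ∈ OmC 0) (h : z none = 0) : TyS2 z := by
  rcases S_types hz with h' | h' | h' | h' | h'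
  · have := h'.vals; omega
  · exact h'
  · have := h'.vals; omega
  · have := h'.vals; omega
  · have := h'.vals; omega

/-- Moving a vector by an element fixing the two base vectors. -/
theorem co2_move (z : leechLattice) {r : Finset GolayPt} (hr : r ∈ octads) (hn : none ∈ r)
    (h0 : some 0 ∈ r) {m : GolayPt} (hm : m ∈ r) (hmn : m ≠ none) (hm0 : m ≠ some 0) :
    ∃ g : Co0, g • U5 = U5 ∧ g • V44 = V44 ∧
      dotInt x0f ((g • z : leechLattice) : GolayPt → ℤ) =
        2 * (∑ i ∈ r, (z : GolayPt → ℤ) i - 2 * ((z : GolayPt → ℤ) (some 0) +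
          (z : GolayPt → ℤ) m)) := by
  obtain ⟨qm, qn, q0, q16⟩ := qvec_props hr hn h0 hm hmn hm0
  set Q : leechLattice := ⟨shapeVec 2 r {some 0, m}, qm⟩ with hQ
  have h24 : dotInt (U5 : GolayPt → ℤ) (V44 : GolayPt → ℤ) = 24 := dotInt_u5_v44
  obtain ⟨g, e1, e2, e3⟩ := nf_hs (v := U5) (x' := Q) (x := V44) U5_norm qn V44_norm q0 q16 h24
  refine ⟨g, e1, e3, ?_⟩
  have : dotInt x0f ((g • z : leechLattice) : GolayPt → ℤ) =
      dotInt ((g • Q : leechLattice) : GolayPt → ℤ)
        ((g • z : leechLattice) : GolayPt → ℤ) := by rw [e2]; rfl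
  rw [this, smul_dot]
  have hN : ({some 0, m} : Finset GolayPt) ⊆ r := by
    rw [Finset.insert_subset_iff, Finset.singleton_subset_iff]; exact ⟨h0, hm⟩
  show dotInt (shapeVec 2 r {some 0, m}) (z : GolayPt → ℤ) = _
  rw [dotInt_shapeVec 2 hN, Finset.sum_pair (Ne.symm hm0)]




theorem card_five {a b c d e : GolayPt} (h : [a, b, c, d, e].Nodup) :
    ({a, b, c, d, e} : Finset GolayPt).card = 5 := by
  have : ({a, b, c, d, e} : Finset GolayPt) = [a, b, c, d, e].toFinset := by
    ext i; simp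
  rw [this, List.toFinset_card_of_nodup h]; rfl

/-- The octad through the two base points and three further points. -/
theorem exists_octad_base {a b c : GolayPt} (h : [none, some 0, a, b, c].Nodup) :
    ∃ r ∈ octads, none ∈ r ∧ some 0 ∈ r ∧ a ∈ r ∧ b ∈ r ∧ c ∈ r := by
  obtain ⟨r, hr, hs⟩ := exists_octad_five (card_five h)
  refine ⟨r, hr, hs (by simp), hs (by simp), hs (by simp), hs (by simp), hs (by simp)⟩

theorem exists_rm_S2 {z : GolayPt → ℤ} (h : TyS2 z) :
    ∃ r ∈ octads, none ∈ r ∧ some 0 ∈ r ∧ ∃ m ∈ r, m ≠ none ∧ m ≠ some 0 ∧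
      ∑ i ∈ r, z i - 2 * (z (some 0) + z m) = 4 := by
  obtain ⟨p, hp, hn, h0, N, hN, h0N, h4, rfl⟩ := h
  have h8 := octad_card hp
  have hins : insert (some 0) N ⊆ p := Finset.insert_subset h0 hN
  have hc5 : (insert (some 0) N).card = 5 := by rw [Finset.card_insert_of_notMem h0N, h4]
  set T := p \ insert (some 0) N with hT
  have hT3 : T.card = 3 := by rw [hT, Finset.card_sdiff_of_subset hins, h8, hc5]
  obtain ⟨a, b, c, hab, hac, hbc, hTe⟩ := Finset.card_eq_three.mp hT3
  have haT : a ∈ T := by rw [hTe]; simp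
  have hbT : b ∈ T := by rw [hTe]; simp
  have hcT : c ∈ T := by rw [hTe]; simp
  have hTp : ∀ i, i ∈ T → i ∈ p ∧ i ≠ some 0 ∧ i ∉ N := by
    intro i hi
    rw [hT, Finset.mem_sdiff, Finset.mem_insert, not_or] at hi
    exact ⟨hi.1, hi.2.1, hi.2.2⟩
  have hane : ∀ i, i ∈ T → i ≠ none := fun i hi h => hn (h ▸ (hTp i hi).1)
  obtain ⟨r, hr, hnr, h0r, har, hbr, hcr⟩ := exists_octad_base (a := a) (b := b) (c := c) (by
    simp only [List.nodup_cons, List.mem_cons, List.not_mem_nil, or_false, not_or,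
      List.nodup_nil, and_true, not_false_eq_true]
    refine ⟨⟨by decide, Ne.symm (hane a haT), Ne.symm (hane b hbT), Ne.symm (hane c hcT)⟩,
      ⟨Ne.symm (hTp a haT).2.1, Ne.symm (hTp b hbT).2.1, Ne.symm (hTp c hcT).2.1⟩,
      ⟨hab, hac⟩, hbc⟩)
  have hne : r ≠ p := fun h => hn (h ▸ hnr)
  have hle := octad_inter_le hr hp hne
  have hA : insert (some 0) T ⊆ r ∩ p := by
    intro i hi
    rw [Finset.mem_insert] at hi
    rcases hi with rfl | hi
    · exact Finset.mem_inter.mpr ⟨h0r, h0⟩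
    · refine Finset.mem_inter.mpr ⟨?_, (hTp i hi).1⟩
      rw [hTe, Finset.mem_insert, Finset.mem_insert, Finset.mem_singleton] at hi
      rcases hi with rfl | rfl | rfl
      · exact har
      · exact hbr
      · exact hcr
  have hA4 : (insert (some 0) T).card = 4 := by
    rw [Finset.card_insert_of_notMem (fun h => (hTp _ h).2.1 rfl), hT3]
  have hAeq : insert (some 0) T = r ∩ p := Finset.eq_of_subset_of_card_le hA (by rw [hA4]; exact hle)
  have hrN : r ∩ N = ∅ := by
    rw [Finset.eq_empty_iff_forall_notMem]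
    intro i hi
    rw [Finset.mem_inter] at hi
    have : i ∈ r ∩ p := Finset.mem_inter.mpr ⟨hi.1, hN hi.2⟩
    rw [← hAeq, Finset.mem_insert] at this
    rcases this with rfl | h
    · exact h0N hi.2
    · exact (hTp i h).2.2 hi.2
  have hsum : ∑ i ∈ r, shapeVec 2 p N i = 8 := by
    rw [sum_shapeVec_on' 2 hN, ← hAeq, hA4, hrN]; norm_num
  -- the point `m`
  have hrp : (r \ p).card = 4 := by
    have := Finset.card_sdiff_add_card_inter r p
    rw [octad_card hr, ← hAeq, hA4] at this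
    omega
  have hpos : 0 < ((r \ p).erase none).card := by
    have := Finset.pred_card_le_card_erase (s := r \ p) (a := none)
    omega
  obtain ⟨m, hm⟩ := Finset.card_pos.mp hpos
  rw [Finset.mem_erase, Finset.mem_sdiff] at hm
  refine ⟨r, hr, hnr, h0r, m, hm.2.1, hm.1, fun h => hm.2.2 (h ▸ h0), ?_⟩
  rw [hsum]
  unfold shapeVec
  rw [if_pos h0, if_neg h0N, if_neg hm.2.2]; norm_num

theorem exists_rm_S4 {z : GolayPt → ℤ} (h : TyS4 z) :
    ∃ r ∈ octads, none ∈ r ∧ some 0 ∈ r ∧ ∃ m ∈ r, m ≠ none ∧ m ≠ some 0 ∧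
      ∑ i ∈ r, z i - 2 * (z (some 0) + z m) = 4 := by
  obtain ⟨j, hjn, hj0, c, cn, c0, h16, hcj, rfl⟩ := h
  have ho := compl_octad c h16
  set o := Finset.univ \ support₂ c.1 with hoe
  have hmem : ∀ i, i ∈ o ↔ c.1 i = 0 := by
    intro i
    rw [hoe, Finset.mem_sdiff, mem_support₂]
    simp
  have hno : none ∈ o := (hmem _).mpr cn
  have h0o : some 0 ∈ o := (hmem _).mpr c0
  have hjo : j ∉ o := fun h => hcj ((hmem _).mp h)
  obtain ⟨m, hm, hmn, hm0, -⟩ := exists_third (octad_card ho) none (some 0) none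
  refine ⟨o, ho, hno, h0o, m, hm, hmn, hm0, ?_⟩
  have hint : o ∩ support₂ c.1 = ∅ := by
    rw [Finset.eq_empty_iff_forall_notMem]
    intro i hi
    rw [Finset.mem_inter, mem_support₂] at hi
    exact hi.2 ((hmem i).mp hi.1)
  have hmj : m ≠ j := fun h => hjo (h ▸ hm)
  rw [sum_fC_on, hint, if_neg hjo, octad_card ho, fC_apply, fC_apply, if_neg (Ne.symm hj0),
    if_pos c0, if_neg hmj, if_pos ((hmem m).mp hm)]
  norm_num

theorem exists_rm_S5 {z : GolayPt → ℤ} (h : TyS5 z) :
    ∃ r ∈ octads, none ∈ r ∧ some 0 ∈ r ∧ ∃ m ∈ r, m ≠ none ∧ m ≠ some 0 ∧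
      ∑ i ∈ r, z i - 2 * (z (some 0) + z m) = -4 := by
  obtain ⟨c, cn, c0, h12, rfl⟩ := h
  have hns : none ∈ support₂ c.1 := mem_support₂.mpr cn
  have h0s : some 0 ∈ support₂ c.1 := mem_support₂.mpr c0
  have hc10 : 1 < (((support₂ c.1).erase none).erase (some 0)).card := by
    have h1 := Finset.pred_card_le_card_erase (s := support₂ c.1) (a := none)
    have h2 := Finset.pred_card_le_card_erase (s := (support₂ c.1).erase none) (a := some 0)
    omega
  obtain ⟨a, ha, b, hb, hab⟩ := Finset.one_lt_card.mp hc10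
  rw [Finset.mem_erase, Finset.mem_erase] at ha hb
  have hcx : 0 < (Finset.univ \ support₂ c.1).card := by
    rw [Finset.card_sdiff_of_subset (Finset.subset_univ _), Finset.card_univ, card_golayPt, h12]
    norm_num
  obtain ⟨x, hx⟩ := Finset.card_pos.mp hcx
  rw [Finset.mem_sdiff] at hx
  have hxs : x ∉ support₂ c.1 := hx.2
  have hxn : x ≠ none := fun h => hxs (h ▸ hns)
  have hx0 : x ≠ some 0 := fun h => hxs (h ▸ h0s)
  have hxa : x ≠ a := fun h => hxs (h ▸ ha.2.2)
  have hxb : x ≠ b := fun h => hxs (h ▸ hb.2.2)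
  obtain ⟨r, hr, hnr, h0r, har, hbr, hxr⟩ := exists_octad_base (a := a) (b := b) (c := x) (by
    simp only [List.nodup_cons, List.mem_cons, List.not_mem_nil, or_false, not_or,
      List.nodup_nil, and_true, not_false_eq_true]
    exact ⟨⟨by decide, Ne.symm ha.2.1, Ne.symm hb.2.1, Ne.symm hxn⟩,
      ⟨Ne.symm ha.1, Ne.symm hb.1, Ne.symm hx0⟩, ⟨hab, Ne.symm hxa⟩, Ne.symm hxb⟩)
  have hk4 : 4 ≤ (r ∩ support₂ c.1).card := by
    have hsub : ({none, some 0, a, b} : Finset GolayPt) ⊆ r ∩ support₂ c.1 := by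
      intro i hi
      rw [Finset.mem_insert, Finset.mem_insert, Finset.mem_insert, Finset.mem_singleton] at hi
      rcases hi with rfl | rfl | rfl | rfl
      · exact Finset.mem_inter.mpr ⟨hnr, hns⟩
      · exact Finset.mem_inter.mpr ⟨h0r, h0s⟩
      · exact Finset.mem_inter.mpr ⟨har, ha.2.2⟩
      · exact Finset.mem_inter.mpr ⟨hbr, hb.2.2⟩
    have hc4 : ({none, some 0, a, b} : Finset GolayPt).card = 4 := by
      rw [Finset.card_insert_of_notMem, Finset.card_insert_of_notMem, Finset.card_pair hab]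
      · rw [Finset.mem_insert, Finset.mem_singleton, not_or]
        exact ⟨Ne.symm ha.1, Ne.symm hb.1⟩
      · rw [Finset.mem_insert, Finset.mem_insert, Finset.mem_singleton, not_or, not_or]
        exact ⟨by decide, Ne.symm ha.2.1, Ne.symm hb.2.1⟩
    rw [← hc4]; exact Finset.card_le_card hsub
  have hsum := sum_fC_on (some 0) c r
  rw [if_pos h0r, if_neg c0, octad_card hr] at hsum
  have hz0 : fC (some 0, c) (some 0) = 3 := by rw [fC_apply, if_pos rfl, if_neg c0]
  rcases octad_inter_dodecad hr c h12 with hk | hk | hk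
  · omega
  · refine ⟨r, hr, hnr, h0r, x, hxr, hxn, hx0, ?_⟩
    have hzx : fC (some 0, c) x = 1 := by
      rw [fC_apply, if_neg hx0, if_pos]
      rw [mem_support₂, not_not] at hxs; exact hxs
    rw [hsum, hk, hz0, hzx]; norm_num
  · refine ⟨r, hr, hnr, h0r, a, har, ha.2.1, ha.1, ?_⟩
    have hza : fC (some 0, c) a = -1 := by
      rw [fC_apply, if_neg ha.1, if_neg (mem_support₂.mp ha.2.2)]
    rw [hsum, hk, hz0, hza]; norm_num

theorem exists_rm_S3 {z : GolayPt → ℤ} (h : TyS3 z) :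
    ∃ r ∈ octads, none ∈ r ∧ some 0 ∈ r ∧ ∃ m ∈ r, m ≠ none ∧ m ≠ some 0 ∧
      ∑ i ∈ r, z i - 2 * (z (some 0) + z m) = -4 := by
  obtain ⟨j, hjn, hj0, c, cn, c0, h12, hcj, rfl⟩ := h
  have hns : none ∉ support₂ c.1 := by rw [mem_support₂, not_not]; exact cn
  have h0s : some 0 ∉ support₂ c.1 := by rw [mem_support₂, not_not]; exact c0
  have hjs : j ∉ support₂ c.1 := by rw [mem_support₂, not_not]; exact hcj
  obtain ⟨a, ha, b, hb, d, hd, hab, had, hbd⟩ := Finset.two_lt_card.mp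
    (by rw [h12]; norm_num : 2 < (support₂ c.1).card)
  have hne : ∀ i, i ∈ support₂ c.1 → i ≠ none ∧ i ≠ some 0 ∧ i ≠ j := fun i hi =>
    ⟨fun h => hns (h ▸ hi), fun h => h0s (h ▸ hi), fun h => hjs (h ▸ hi)⟩
  obtain ⟨r, hr, hnr, h0r, har, hbr, hdr⟩ := exists_octad_base (a := a) (b := b) (c := d) (by
    simp only [List.nodup_cons, List.mem_cons, List.not_mem_nil, or_false, not_or,
      List.nodup_nil, and_true, not_false_eq_true]
    exact ⟨⟨by decide, Ne.symm (hne a ha).1, Ne.symm (hne b hb).1, Ne.symm (hne d hd).1⟩,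
      ⟨Ne.symm (hne a ha).2.1, Ne.symm (hne b hb).2.1, Ne.symm (hne d hd).2.1⟩,
      ⟨hab, had⟩, hbd⟩)
  have hk3 : 3 ≤ (r ∩ support₂ c.1).card := by
    have hsub : ({a, b, d} : Finset GolayPt) ⊆ r ∩ support₂ c.1 := by
      intro i hi
      rw [Finset.mem_insert, Finset.mem_insert, Finset.mem_singleton] at hi
      rcases hi with rfl | rfl | rfl
      · exact Finset.mem_inter.mpr ⟨har, ha⟩
      · exact Finset.mem_inter.mpr ⟨hbr, hb⟩
      · exact Finset.mem_inter.mpr ⟨hdr, hd⟩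
    have hc3 : ({a, b, d} : Finset GolayPt).card = 3 := by
      rw [Finset.card_insert_of_notMem, Finset.card_pair hbd]
      rw [Finset.mem_insert, Finset.mem_singleton, not_or]
      exact ⟨hab, had⟩
    rw [← hc3]; exact Finset.card_le_card hsub
  have hsum := sum_fC_on j c r
  rw [octad_card hr] at hsum
  have hz0 : fC (j, c) (some 0) = 1 := by rw [fC_apply, if_neg (Ne.symm hj0), if_pos c0]
  have hza : fC (j, c) a = -1 := by
    rw [fC_apply, if_neg (hne a ha).2.2, if_neg (mem_support₂.mp ha)]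
  have hdiff := Finset.card_sdiff_add_card_inter r (support₂ c.1)
  rw [octad_card hr] at hdiff
  -- the case where the sum is `-4`
  have caseA : ∑ i ∈ r, fC (j, c) i = -4 →
      ∃ r ∈ octads, none ∈ r ∧ some 0 ∈ r ∧ ∃ m ∈ r, m ≠ none ∧ m ≠ some 0 ∧
      ∑ i ∈ r, fC (j, c) i - 2 * (fC (j, c) (some 0) + fC (j, c) m) = -4 := by
    intro hs
    refine ⟨r, hr, hnr, h0r, a, har, (hne a ha).1, (hne a ha).2.1, ?_⟩
    rw [hs, hz0, hza]; norm_num
  rcases octad_inter_dodecad hr c h12 with hk | hk | hk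
  · omega
  · by_cases hjr : j ∈ r
    · apply caseA
      rw [hsum, hk, if_pos hjr, if_pos hcj]; norm_num
    · -- a point of `r` outside the dodecad
      have hpos : 0 < (((r \ support₂ c.1).erase none).erase (some 0)).card := by
        have h1 := Finset.pred_card_le_card_erase (s := r \ support₂ c.1) (a := none)
        have h2 := Finset.pred_card_le_card_erase (s := (r \ support₂ c.1).erase none)
          (a := some 0)
        omega
      obtain ⟨m, hm⟩ := Finset.card_pos.mp hpos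
      rw [Finset.mem_erase, Finset.mem_erase, Finset.mem_sdiff] at hm
      refine ⟨r, hr, hnr, h0r, m, hm.2.2.1, hm.2.1, hm.1, ?_⟩
      have hmj : m ≠ j := fun h => hjr (h ▸ hm.2.2.1)
      have hzm : fC (j, c) m = 1 := by
        rw [fC_apply, if_neg hmj, if_pos]
        have := hm.2.2.2
        rw [mem_support₂, not_not] at this; exact this
      rw [hsum, hk, if_neg hjr, hz0, hzm]; norm_num
  · apply caseA
    have hjr : j ∉ r := by
      intro hjr
      have h2 : (r \ support₂ c.1).card = 2 := by omega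
      have hsub : ({none, some 0} : Finset GolayPt) ⊆ r \ support₂ c.1 := by
        intro i hi
        rw [Finset.mem_insert, Finset.mem_singleton] at hi
        rcases hi with rfl | rfl
        · exact Finset.mem_sdiff.mpr ⟨hnr, hns⟩
        · exact Finset.mem_sdiff.mpr ⟨h0r, h0s⟩
      have heq : ({none, some 0} : Finset GolayPt) = r \ support₂ c.1 :=
        Finset.eq_of_subset_of_card_le hsub (by rw [h2, Finset.card_pair (by decide)])
      have : j ∈ r \ support₂ c.1 := Finset.mem_sdiff.mpr ⟨hjr, hjs⟩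
      rw [← heq, Finset.mem_insert, Finset.mem_singleton] at this
      rcases this with h | h
      · exact hjn h
      · exact hj0 h
    rw [hsum, hk, if_neg hjr]; norm_num




/-- Equivalence under the joint stabiliser of the two base vectors. -/
def McEq (z z' : leechLattice) : Prop :=
  ∃ g : Co0, g • U5 = U5 ∧ g • V44 = V44 ∧ g • z = z'

theorem McEq.refl (z : leechLattice) : McEq z z := ⟨1, one_smul _ _, one_smul _ _, one_smul _ _⟩

theorem McEq.symm {z z' : leechLattice} (h : McEq z z') : McEq z' z := by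
  obtain ⟨g, h1, h2, h3⟩ := h
  refine ⟨g⁻¹, ?_, ?_, ?_⟩
  · rw [inv_smul_eq_iff, h1]
  · rw [inv_smul_eq_iff, h2]
  · rw [inv_smul_eq_iff, h3]

theorem McEq.trans {z z' z'' : leechLattice} (h : McEq z z') (h' : McEq z' z'') : McEq z z'' := by
  obtain ⟨g, h1, h2, h3⟩ := h
  obtain ⟨g', h1', h2', h3'⟩ := h'
  exact ⟨g' * g, by rw [mul_smul, h1, h1'], by rw [mul_smul, h2, h2'], by rw [mul_smul, h3, h3']⟩

theorem McEq.mem_OmC {z z' : leechLattice} (h : McEq z z') {c : ℤ}
    (hz : (z : GolayPt → ℤ) ∈ OmC c) : (z' : GolayPt → ℤ) ∈ OmC c := by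
  obtain ⟨g, h1, h2, rfl⟩ := h
  rw [Helper27.mem_OmC, mem_F32] at hz ⊢
  refine ⟨⟨(g • z).2, by rw [smul_norm]; exact hz.1.2⟩, ?_, ?_⟩
  · have := dot_fix h2 z
    exact this.trans hz.2.1
  · have := dot_fix h1 z
    exact this.trans hz.2.2

/-- Applying a move. -/
theorem apply_move {z : leechLattice} {c : ℤ} (hz : (z : GolayPt → ℤ) ∈ OmC c) {e : ℤ}
    (h : ∃ r ∈ octads, none ∈ r ∧ some 0 ∈ r ∧ ∃ m ∈ r, m ≠ none ∧ m ≠ some 0 ∧
      ∑ i ∈ r, (z : GolayPt → ℤ) i - 2 * ((z : GolayPt → ℤ) (some 0) + (z : GolayPt → ℤ) m) =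
        e) :
    ∃ z' : leechLattice, McEq z z' ∧ (z' : GolayPt → ℤ) ∈ OmC c ∧
      4 * (z' : GolayPt → ℤ) none = 4 + e := by
  obtain ⟨r, hr, hn, h0, m, hm, hmn, hm0, hs⟩ := h
  obtain ⟨g, g1, g2, g3⟩ := co2_move z hr hn h0 hm hmn hm0
  have hE : McEq z (g • z) := ⟨g, g1, g2, rfl⟩
  have hz' := hE.mem_OmC hz
  refine ⟨g • z, hE, hz', ?_⟩
  rw [hs, dotInt_x0f] at g3
  rw [Helper27.mem_OmC, dotInt_v44] at hz'
  omega

/-- Every vector of the class is equivalent to one of the first shape. -/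
theorem reach_S1 {z : leechLattice} (hz : (z : GolayPt → ℤ) ∈ OmC 0) :
    ∃ z' : leechLattice, McEq z z' ∧ TyS1 (z' : GolayPt → ℤ) := by
  -- from the second shape
  have step2 : ∀ y : leechLattice, (y : GolayPt → ℤ) ∈ OmC 0 → TyS2 (y : GolayPt → ℤ) →
      ∃ z' : leechLattice, McEq y z' ∧ TyS1 (z' : GolayPt → ℤ) := by
    intro y hy h2
    obtain ⟨z', e1, e2, e3⟩ := apply_move hy (exists_rm_S2 h2)
    exact ⟨z', e1, S1_of_vals e2 (by omega)⟩
  rcases S_types hz with h | h | h | h | h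
  · exact ⟨z, McEq.refl z, h⟩
  · exact step2 z hz h
  · obtain ⟨z', e1, e2, e3⟩ := apply_move hz (exists_rm_S3 h)
    obtain ⟨z'', f1, f2⟩ := step2 z' e2 (S2_of_vals e2 (by omega))
    exact ⟨z'', e1.trans f1, f2⟩
  · obtain ⟨z', e1, e2, e3⟩ := apply_move hz (exists_rm_S4 h)
    exact ⟨z', e1, S1_of_vals e2 (by omega)⟩
  · obtain ⟨z', e1, e2, e3⟩ := apply_move hz (exists_rm_S5 h)
    obtain ⟨z'', f1, f2⟩ := step2 z' e2 (S2_of_vals e2 (by omega))
    exact ⟨z'', e1.trans f1, f2⟩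

theorem conj_S1 {z z' : GolayPt → ℤ} (h : TyS1 z) (h' : TyS1 z') :
    ∃ σ ∈ M24, σ none = none ∧ σ (some 0) = some 0 ∧ (fun i => z (σ i)) = z' := by
  obtain ⟨p, hp, hn, h0, a, ha, han, rfl⟩ := h
  obtain ⟨p', hp', hn', h0', a', ha', han', rfl⟩ := h'
  obtain ⟨σ, hσ, e, e2, e3⟩ := exists_perm_octad5 hp hp' (L := [none, a])
    (L' := [none, a'])
    (by simp [Ne.symm han])
    (by simp [Ne.symm han']) rfl (by simp)
    (by intro c hc; simp only [List.mem_cons, List.not_mem_nil, or_false] at hc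
        rcases hc with rfl | rfl
        · exact hn
        · exact ha)
    (by intro c hc; simp only [List.mem_cons, List.not_mem_nil, or_false] at hc
        rcases hc with rfl | rfl
        · exact hn'
        · exact ha') h0 h0'
  simp only [List.map_cons, List.map_nil, List.cons.injEq, and_true] at e
  refine ⟨σ, hσ, e.1, e2, shapeVec_comp' e3 ?_⟩
  intro i
  rw [Finset.mem_sdiff, Finset.mem_sdiff, Finset.mem_insert, Finset.mem_singleton,
    Finset.mem_insert, Finset.mem_singleton, perm_eq_iff e.1, perm_eq_iff e.2, e3 i]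

theorem OmC0_trans {z z' : leechLattice} (hz : (z : GolayPt → ℤ) ∈ OmC 0)
    (hz' : (z' : GolayPt → ℤ) ∈ OmC 0) : McEq z z' := by
  obtain ⟨y, e1, t1⟩ := reach_S1 hz
  obtain ⟨y', e1', t1'⟩ := reach_S1 hz'
  obtain ⟨σ, hσ, s1, s2, s3⟩ := conj_S1 t1 t1'
  obtain ⟨p1, -, p3⟩ := permG_fix3 hσ s1 s2
  have : McEq y y' := ⟨permG σ hσ, p1, p3, Subtype.ext s3⟩
  exact (e1.trans this).trans e1'.symm


end Cfsg.Agent.Helper27
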