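import Mathlib
import Cfsg.Agent.Lib.Helper27.Co2Moves

set_option autoImplicit false
set_option maxRecDepth 8000
open Cfsg

/-! Simplicity of the stabiliser of a minimal vector, from its primitive action of rank 6 on 47104 minimal vectors. -/

namespace Cfsg.Agent.Helper27
open Cfsg.Agent.S0394 (FA FB FC idxA idxB fC mem_idxA mem_idxB mem_octads_iff)
open scoped Pointwise
open MulAction



theorem cls_8_trans {v w y y' : leechLattice} (hv : sqNorm (v : GolayPt → ℤ) = 32)
    (hw : w ∈ co2Set v) (hy : y ∈ co2Cls v w 8) (hy' : y' ∈ co2Cls v w 8) :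
    ∃ g : Co0, g • v = v ∧ g • w = w ∧ g • y = y' := by
  obtain ⟨g, h1, h2⟩ := exists_std_mcl2 hv hw.1 hw.2
  have hz := (mem_co2Cls_iff h1 h2 8 y).mp hy
  have hz' := (mem_co2Cls_iff h1 h2 8 y').mp hy'
  have e0 : (8 : ℤ) - 8 = 0 := by norm_num
  rw [e0] at hz hz'
  obtain ⟨k, k1, k2, k3⟩ := OmC0_trans hz hz'
  have e1 : (g⁻¹ * k * g) • v = v := by rw [mul_smul, mul_smul, h2, k2, ← h2, inv_smul_smul]
  have e2 : (g⁻¹ * k * g) • (v + w) = v + w := by
    rw [mul_smul, mul_smul, h1, k1, ← h1, inv_smul_smul]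
  refine ⟨g⁻¹ * k * g, e1, stab_of_sum e2 e1, ?_⟩
  have e3 : (g⁻¹ * k * g) • (-y) = -y' := by
    rw [mul_smul, mul_smul, k3, inv_smul_smul]
  rw [smul_neg'] at e3
  exact neg_injective e3

/-- The standard second vector. -/
def W0 : leechLattice := ⟨m3 (some 0), m3_mem _⟩

theorem W0_mem : W0 ∈ co2Set V44 := by
  refine ⟨m3_norm _, ?_⟩
  show dotInt v44 (m3 (some 0)) = -8
  rw [dotInt_v44]
  unfold m3
  rw [if_neg (by decide), if_pos rfl]; norm_num

theorem co2Cls_32 {v w : leechLattice} (hw : w ∈ co2Set v) : co2Cls v w 32 = {w} := by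
  ext y
  rw [Set.mem_singleton_iff]
  constructor
  · rintro ⟨hy, h32⟩
    rcases co2_values hw hy with h | h
    · exact h.2
    · exfalso
      rw [h32] at h
      revert h; decide
  · rintro rfl
    exact ⟨hw, by rw [dotInt_self', hw.1]⟩

theorem card_OmC_vals : (OmC (-24)).card = 1 ∧ (OmC (-8)).card = 2025 ∧ (OmC 16).card = 7128 ∧
    (OmC 24).card = 275 := by
  refine ⟨?_, ?_, card_OmC16, ?_⟩
  · have h := ncard_co2Cls V44_norm W0_mem 32
    rw [co2Cls_32 W0_mem, Set.ncard_singleton] at h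
    have e : (8 : ℤ) - 32 = -24 := by norm_num
    rw [e] at h
    exact h.symm
  · have h := ncard_co2Cls V44_norm W0_mem 16
    rw [ncard_cls_16 V44_norm W0_mem] at h
    have e : (8 : ℤ) - 16 = -8 := by norm_num
    rw [e] at h
    exact h.symm
  · have h := ncard_co2Cls V44_norm W0_mem (-16)
    rw [ncard_cls_m16 V44_norm W0_mem] at h
    have e : (8 : ℤ) - -16 = 24 := by norm_num
    rw [e] at h
    exact h.symm

/-- The standard model of all the vectors. -/
noncomputable def Om47 : Finset (GolayPt → ℤ) := F32.filter (fun z => dotInt v44 z = 8)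

theorem card_Om47 : Om47.card = 47104 := by
  have h := cntDot_neg_eight (mem_F32.mpr ⟨v44_mem, v44_norm⟩)
  rw [cntDot_neg] at h
  exact h

theorem Om47_filter (c : ℤ) : Om47.filter (fun z => dotInt u5 z = c) = OmC c := by
  unfold Om47 OmC
  rw [Finset.filter_filter]

theorem Om47_vals {z : GolayPt → ℤ} (hz : z ∈ Om47) :
    dotInt u5 z ∈ ({-24, -8, 0, 8, 16, 24} : Finset ℤ) := by
  unfold Om47 at hz
  rw [Finset.mem_filter, mem_F32] at hz
  obtain ⟨⟨hL, hn⟩, hd⟩ := hz
  have hy : (-⟨z, hL⟩ : leechLattice) ∈ co2Set V44 := by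
    refine ⟨?_, ?_⟩
    · show sqNorm (-z) = 32
      rw [sqNorm_neg', hn]
    · show dotInt v44 (-z) = -8
      rw [dotInt_neg_right', hd]
  have hval := co2_values W0_mem hy
  have e : dotInt (W0 : GolayPt → ℤ) ((-⟨z, hL⟩ : leechLattice) : GolayPt → ℤ) =
      8 - dotInt u5 z := by
    show dotInt (m3 (some 0)) (-z) = 8 - dotInt u5 z
    rw [dotInt_neg_right', ← v44_add_m3, dotInt_add_left', hd]; ring
  rw [e] at hval
  simp only [Finset.mem_insert, Finset.mem_singleton] at hval ⊢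
  omega

theorem card_OmC_sum : (OmC 0).card + (OmC 8).card = 37675 := by
  have h := Finset.card_eq_sum_card_fiberwise (s := Om47)
    (t := ({-24, -8, 0, 8, 16, 24} : Finset ℤ)) (f := fun z => dotInt u5 z)
    (fun z hz => Om47_vals hz)
  rw [Finset.sum_insert (by decide), Finset.sum_insert (by decide), Finset.sum_insert (by decide),
    Finset.sum_insert (by decide), Finset.sum_insert (by decide), Finset.sum_singleton,
    Om47_filter, Om47_filter, Om47_filter, Om47_filter, Om47_filter, Om47_filter, card_Om47] at h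
  obtain ⟨h1, h2, h3, h4⟩ := card_OmC_vals
  omega

/-- The arithmetic behind the last two class sizes. -/
theorem co2_arith (n0 n8 : ℕ) (hsum : n0 + n8 = 37675)
    (h0 : n0 = 0 ∨ ∃ s ob : ℕ, n0 * s = 898128000 ∧ ob * s = 454164480)
    (h8 : n8 = 0 ∨ ∃ s : ℕ, n8 * s = 898128000) : n0 = 22275 ∧ n8 = 15400 := by
  have hm : ∃ m : ℕ, n0 = 2025 * m := by
    rcases h0 with h0 | ⟨s, ob, e1, e2⟩
    · exact ⟨0, by rw [h0]⟩
    · have hs : s ≠ 0 := by rintro rfl; simp at e1
      have e3 : n0 * 1024 * (443520 * s) = ob * 2025 * (443520 * s) := by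
        calc n0 * 1024 * (443520 * s) = (n0 * s) * 454164480 := by ring
          _ = 898128000 * (ob * s) := by rw [e1, e2]
          _ = ob * 2025 * (443520 * s) := by ring
      have e4 : n0 * 1024 = ob * 2025 :=
        Nat.eq_of_mul_eq_mul_right (Nat.pos_of_ne_zero (by positivity)) e3
      have hd : 2025 ∣ n0 * 1024 := ⟨ob, by rw [e4]; ring⟩
      have hcop : Nat.Coprime 2025 1024 := by norm_num
      exact hcop.dvd_of_dvd_mul_right hd
  obtain ⟨m, rfl⟩ := hm
  have hm18 : m ≤ 18 := by omega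
  have hn8 : n8 = 37675 - 2025 * m := by omega
  have hdvd : n8 ∣ 898128000 := by
    rcases h8 with h8 | ⟨s, e⟩
    · exfalso; omega
    · exact ⟨s, e.symm⟩
  rw [hn8] at hdvd
  have key : ∀ k : ℕ, k ≤ 18 → (37675 - 2025 * k) ∣ 898128000 → k = 11 := by decide
  have := key m hm18 hdvd
  subst this
  omega




theorem card_stab_orth {w y : leechLattice} (hw : sqNorm (w : GolayPt → ℤ) = 32)
    (hy : sqNorm (y : GolayPt → ℤ) = 32)
    (h0 : dotInt (w : GolayPt → ℤ) (y : GolayPt → ℤ) = 0) :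
    Nat.card ↥(stabilizer Co0 w ⊓ stabilizer Co0 y) = 454164480 := by
  have h := card_stabilizer_inf (G := Co0) w y
  have horb : orbit (stabilizer Co0 w) y = {x : leechLattice | sqNorm (x : GolayPt → ℤ) = 32 ∧
      dotInt (w : GolayPt → ℤ) (x : GolayPt → ℤ) = 0} := by
    ext x
    rw [mem_orbit_iff, Set.mem_setOf_eq]
    constructor
    · rintro ⟨g, rfl⟩
      have hg : g.1 • w = w := g.2
      show sqNorm ((g.1 • y : leechLattice) : GolayPt → ℤ) = 32 ∧
        dotInt (w : GolayPt → ℤ) ((g.1 • y : leechLattice) : GolayPt → ℤ) = 0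
      exact ⟨by rw [smul_norm, hy], by rw [dot_fix hg, h0]⟩
    · rintro ⟨hx, hwx⟩
      obtain ⟨g, hgv, hgz⟩ := exists_smul_of_coEq2 (pair_zero w.2 y.2 hw hy h0)
        (pair_zero w.2 x.2 hw hx hwx)
      exact ⟨⟨g, hgv⟩, hgz⟩
  rw [horb, ncard_dot, cntDot_zero (mem_F32.mpr ⟨w.2, hw⟩), card_stab32 w hw] at h
  omega

theorem co2_orbit_eq {v w y : leechLattice} {t : ℤ} (hy : y ∈ co2Cls v w t)
    (htr : ∀ y' ∈ co2Cls v w t, ∃ g : Co0, g • v = v ∧ g • w = w ∧ g • y = y') :
    orbit ↥(stabilizer Co0 v ⊓ stabilizer Co0 w) y = co2Cls v w t := by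
  ext y'
  constructor
  · rintro ⟨⟨g, hg⟩, rfl⟩
    rw [Subgroup.mem_inf, mem_stabilizer_iff, mem_stabilizer_iff] at hg
    show g • y ∈ co2Cls v w t
    refine ⟨⟨by rw [smul_norm]; exact hy.1.1, ?_⟩, ?_⟩
    · rw [dot_fix hg.1]; exact hy.1.2
    · rw [dot_fix hg.2]; exact hy.2
  · intro h
    obtain ⟨g, e1, e2, e3⟩ := htr y' h
    exact ⟨⟨g, Subgroup.mem_inf.mpr ⟨e1, e2⟩⟩, e3⟩

theorem ncard_cls_0_8 {v w : leechLattice} (hv : sqNorm (v : GolayPt → ℤ) = 32)
    (hw : w ∈ co2Set v) : (co2Cls v w 0).ncard = 22275 ∧ (co2Cls v w 8).ncard = 15400 := by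
  have hA := mcl_card hv hw.1 hw.2
  apply co2_arith
  · rw [ncard_co2Cls hv hw, ncard_co2Cls hv hw]
    have e1 : (8 : ℤ) - 0 = 8 := by norm_num
    have e2 : (8 : ℤ) - 8 = 0 := by norm_num
    rw [e1, e2, add_comm]
    exact card_OmC_sum
  · by_cases hne : (co2Cls v w 0).Nonempty
    · right
      obtain ⟨y0, hy0⟩ := hne
      have horb := co2_orbit_eq hy0 (fun y' hy' => cls_0_trans hv hw hy0 hy')
      have h1 := card_subgroup_inf_stab (stabilizer Co0 v ⊓ stabilizer Co0 w) y0
      have h2 := card_subgroup_inf_stab (stabilizer Co0 w ⊓ stabilizer Co0 y0) v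
      have hAB : stabilizer Co0 w ⊓ stabilizer Co0 y0 ⊓ stabilizer Co0 v =
          stabilizer Co0 v ⊓ stabilizer Co0 w ⊓ stabilizer Co0 y0 := by
        rw [inf_comm, inf_assoc]
      rw [horb, hA] at h1
      rw [hAB, card_stab_orth hw.1 hy0.1.1 hy0.2] at h2
      exact ⟨_, _, h1, h2⟩
    · left
      rw [Set.not_nonempty_iff_eq_empty] at hne
      rw [hne, Set.ncard_empty]
  · by_cases hne : (co2Cls v w 8).Nonempty
    · right
      obtain ⟨y0, hy0⟩ := hne
      have horb := co2_orbit_eq hy0 (fun y' hy' => cls_8_trans hv hw hy0 hy')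
      have h1 := card_subgroup_inf_stab (stabilizer Co0 v ⊓ stabilizer Co0 w) y0
      rw [horb, hA] at h1
      exact ⟨_, h1⟩
    · left
      rw [Set.not_nonempty_iff_eq_empty] at hne
      rw [hne, Set.ncard_empty]

theorem co2Cls_trans {v w y y' : leechLattice} (hv : sqNorm (v : GolayPt → ℤ) = 32)
    (hw : w ∈ co2Set v) {t : ℤ} (ht : t ∈ ({-16, 16, -8, 0, 8} : Finset ℤ))
    (hy : y ∈ co2Cls v w t) (hy' : y' ∈ co2Cls v w t) :
    ∃ g : Co0, g • v = v ∧ g • w = w ∧ g • y = y' := by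
  simp only [Finset.mem_insert, Finset.mem_singleton] at ht
  rcases ht with rfl | rfl | rfl | rfl | rfl
  · exact cls_m16_trans hv hw hy hy'
  · exact cls_16_trans hv hw hy hy'
  · exact cls_m8_trans hv hw hy hy'
  · exact cls_0_trans hv hw hy hy'
  · exact cls_8_trans hv hw hy hy'

theorem co2_simple {v : leechLattice} (hv : sqNorm (v : GolayPt → ℤ) = 32) :
    IsSimpleGroup ↥(stabilizer Co0 v) := by
  have hfinC := finite_co0
  have hcard := ncard_co2Set hv
  have hne : (co2Set v).Nonempty := Set.nonempty_of_ncard_ne_zero (by rw [hcard]; norm_num)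
  obtain ⟨w, hw⟩ := hne
  have hww : dotInt (w : GolayPt → ℤ) (w : GolayPt → ℤ) = 32 := by
    rw [dotInt_self']; exact hw.1
  obtain ⟨n0, n8⟩ := ncard_cls_0_8 hv hw
  let tv : Fin 5 → ℤ := ![-16, 16, -8, 0, 8]
  let T : Fin 5 → Set leechLattice := fun i => co2Cls v w (tv i)
  have htv : ∀ i, tv i ∈ ({-16, 16, -8, 0, 8} : Finset ℤ) := by
    intro i; fin_cases i <;> simp [tv]
  have hc : ∀ i, (T i).ncard = ![275, 2025, 7128, 22275, 15400] i := by
    intro i
    fin_cases i
    · exact ncard_cls_m16 hv hw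
    · exact ncard_cls_16 hv hw
    · exact ncard_cls_m8 hv hw
    · exact n0
    · exact n8
  have hinv : ∀ g ∈ stabilizer Co0 v, ∀ y ∈ co2Set v, g • y ∈ co2Set v := by
    intro g hg y hy
    rw [mem_stabilizer_iff] at hg
    exact ⟨by rw [smul_norm]; exact hy.1, by rw [dot_fix hg]; exact hy.2⟩
  have hstab := mcl_simple hv hw.1 hw.2
  apply simple_of_action (stabilizer Co0 v) (co2Set v)
    (Set.finite_of_ncard_ne_zero (by rw [hcard]; norm_num)) hinv w hw ?_ T
  · -- T i ⊆ S
    intro i y hy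
    exact hy.1
  · -- cover
    intro y hy hne
    rcases co2_values hw hy with h | h
    · exact absurd h.2 hne
    · simp only [Finset.mem_insert, Finset.mem_singleton] at h
      rcases h with h | h | h | h | h
      · exact ⟨0, hy, h⟩
      · exact ⟨1, hy, h⟩
      · exact ⟨2, hy, h⟩
      · exact ⟨3, hy, h⟩
      · exact ⟨4, hy, h⟩
  · -- transitivity on the suborbits
    intro i y hy y' hy'
    obtain ⟨g, e1, e2, e3⟩ := co2Cls_trans hv hw (htv i) hy hy'
    exact ⟨g, e1, e2, e3⟩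
  · -- disjointness
    intro i j hij
    rw [Set.disjoint_left]
    intro y hy hy'
    have := hy.2.symm.trans hy'.2
    revert this hij
    fin_cases i <;> fin_cases j <;> simp [tv]
  · -- the base point
    intro i h
    have := h.2
    rw [hww] at this
    revert this
    fin_cases i <;> simp [tv]
  · -- numerical condition
    intro S' hS'
    rw [hcard, Finset.sum_congr rfl (fun i _ => hc i)] at hS'
    revert S'
    decide
  · -- faithfulness
    apply kernel_trivial _ _ hinv w hw hstab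
    have h1lt : 1 < (co2Cls v w (-16)).ncard := by rw [ncard_cls_m16 hv hw]; norm_num
    have hne0 : (co2Cls v w (-16)).ncard ≠ 0 := by omega
    obtain ⟨y, y', hy, hy', hyy'⟩ := (Set.one_lt_ncard_iff
      (Set.finite_of_ncard_ne_zero hne0)).mp h1lt
    obtain ⟨g, e1, e2, e3⟩ := cls_m16_trans hv hw hy hy'
    exact ⟨g, e1, e2, y, hy.1, by rw [e3]; exact Ne.symm hyy'⟩
  · exact hstab
  · intro N hN
    rw [hcard] at hN
    exact Cfsg.Agent.S0144.result 2 23 11 1 (by norm_num) (by norm_num) (by rw [hN]; norm_num)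
  · rw [hcard]
    exact not_isPrimePow_of_two_primes (by norm_num : Nat.Prime 2) (by norm_num : Nat.Prime 23)
      (by norm_num) (by norm_num) (by norm_num)
  · -- transitivity
    intro y hy
    obtain ⟨g, e1, e2⟩ := co2Set_trans hv hw hy
    exact ⟨g, e1, e2⟩


end Cfsg.Agent.Helper27
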