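import Mathlib
import Cfsg.Agent.Lib.Helper27.Co2Simple

set_option autoImplicit false
set_option maxRecDepth 8000
open Cfsg

/-! The centre of the automorphism group of the lattice is generated by -1, and the quotient by it is simple. -/

namespace Cfsg.Agent.Helper27
open MulAction



/-- The central involution `-1`. -/
def negG : Co0 := epsG 1 one_mem_golayCode

theorem negG_smul (v : leechLattice) : negG • v = -v := by
  apply Subtype.ext
  show signChange (support₂ (1 : GolayPt → ZMod 2)) v.1 = -v.1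
  funext i
  unfold signChange
  rw [if_pos]
  · rfl
  · rw [mem_support₂]; simp

theorem negG_comm (g : Co0) : negG * g = g * negG := by
  apply Subtype.ext
  apply Equiv.ext
  intro v
  show negG • (g • v) = g • (negG • v)
  rw [negG_smul, negG_smul, smul_neg']

theorem negG_mem_center : negG ∈ Subgroup.center Co0 := by
  rw [Subgroup.mem_center_iff]
  intro g
  exact (negG_comm g).symm

theorem negG_ne_one : negG ≠ 1 := by
  intro h
  have h1 := negG_smul V44
  rw [h, one_smul] at h1
  have h2 : (V44 : GolayPt → ℤ) none = ((-V44 : leechLattice) : GolayPt → ℤ) none := by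
    rw [← h1]
  have h3 : ((-V44 : leechLattice) : GolayPt → ℤ) none = -((V44 : GolayPt → ℤ) none) := rfl
  have h4 : (V44 : GolayPt → ℤ) none = 4 := by
    show v44 none = 4
    unfold v44
    rw [vec44_apply_left (by decide)]
  rw [h3, h4] at h2
  norm_num at h2

theorem negG_mul_self : negG * negG = 1 := by
  apply Subtype.ext
  apply Equiv.ext
  intro v
  show negG • (negG • v) = v
  rw [negG_smul, negG_smul, neg_neg]

/-- The minimal vectors with a given inner product with `v`. -/
def minCls (v : leechLattice) (t : ℤ) : Set leechLattice :=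
  {y : leechLattice | sqNorm (y : GolayPt → ℤ) = 32 ∧
    dotInt (v : GolayPt → ℤ) (y : GolayPt → ℤ) = t}

theorem ncard_minCls (v : leechLattice) (t : ℤ) : (minCls v t).ncard = cntDot v.1 t :=
  ncard_dot v t

theorem neg_mem_minCls {v y : leechLattice} {t : ℤ} (hy : y ∈ minCls v t) :
    -y ∈ minCls v (-t) := by
  refine ⟨?_, ?_⟩
  · show sqNorm (-(y : GolayPt → ℤ)) = 32
    rw [sqNorm_neg', hy.1]
  · show dotInt (v : GolayPt → ℤ) (-(y : GolayPt → ℤ)) = -t
    rw [dotInt_neg_right', hy.2]

theorem minCls_trans_neg {v y y' : leechLattice} (hv : sqNorm (v : GolayPt → ℤ) = 32) {t : ℤ}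
    (ht : t ∈ ({-16, -8, 0} : Finset ℤ)) (hy : y ∈ minCls v t) (hy' : y' ∈ minCls v t) :
    ∃ g : Co0, g • v = v ∧ g • y = y' := by
  simp only [Finset.mem_insert, Finset.mem_singleton] at ht
  rcases ht with rfl | rfl | rfl
  · exact exists_smul_of_coEq2 (pair_m16 v.2 y.2 hv hy.1 hy.2) (pair_m16 v.2 y'.2 hv hy'.1 hy'.2)
  · exact exists_smul_of_coEq2 (pair_m8 v.2 y.2 hv hy.1 hy.2) (pair_m8 v.2 y'.2 hv hy'.1 hy'.2)
  · exact exists_smul_of_coEq2 (pair_zero v.2 y.2 hv hy.1 hy.2) (pair_zero v.2 y'.2 hv hy'.1 hy'.2)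

theorem minCls_trans {v y y' : leechLattice} (hv : sqNorm (v : GolayPt → ℤ) = 32) {t : ℤ}
    (ht : t ∈ ({16, -16, 8, -8, 0} : Finset ℤ)) (hy : y ∈ minCls v t) (hy' : y' ∈ minCls v t) :
    ∃ g : Co0, g • v = v ∧ g • y = y' := by
  simp only [Finset.mem_insert, Finset.mem_singleton] at ht
  have pos : ∀ s : ℤ, s ∈ ({-16, -8, 0} : Finset ℤ) → t = -s →
      ∃ g : Co0, g • v = v ∧ g • y = y' := by
    intro s hs hts
    have h1 := neg_mem_minCls hy
    have h2 := neg_mem_minCls hy'
    rw [hts, neg_neg] at h1 h2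
    obtain ⟨g, g1, g2⟩ := minCls_trans_neg hv hs h1 h2
    refine ⟨g, g1, ?_⟩
    rw [smul_neg'] at g2
    exact neg_injective g2
  rcases ht with rfl | rfl | rfl | rfl | rfl
  · exact pos (-16) (by simp) (by norm_num)
  · exact minCls_trans_neg hv (by simp) hy hy'
  · exact pos (-8) (by simp) (by norm_num)
  · exact minCls_trans_neg hv (by simp) hy hy'
  · exact minCls_trans_neg hv (by simp) hy hy'

theorem ncard_minCls_vals {v : leechLattice} (hv : sqNorm (v : GolayPt → ℤ) = 32) :
    (minCls v 16).ncard = 4600 ∧ (minCls v (-16)).ncard = 4600 ∧ (minCls v 8).ncard = 47104 ∧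
    (minCls v (-8)).ncard = 47104 ∧ (minCls v 0).ncard = 93150 := by
  have hF := mem_F32.mpr ⟨v.2, hv⟩
  refine ⟨?_, ?_, ?_, ?_, ?_⟩
  · rw [ncard_minCls, ← cntDot_neg, cntDot_neg_sixteen hF]
  · rw [ncard_minCls, cntDot_neg_sixteen hF]
  · rw [ncard_minCls, ← cntDot_neg, cntDot_neg_eight hF]
  · rw [ncard_minCls, cntDot_neg_eight hF]
  · rw [ncard_minCls, cntDot_zero hF]

theorem minCls_32 {v : leechLattice} (hv : sqNorm (v : GolayPt → ℤ) = 32) : minCls v 32 = {v} := by
  ext y
  rw [Set.mem_singleton_iff]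
  constructor
  · rintro ⟨hy, h32⟩
    have h1 := sqNorm_sub' (v : GolayPt → ℤ) (y : GolayPt → ℤ)
    rw [hv, hy, h32] at h1
    have h0 : (v : GolayPt → ℤ) - (y : GolayPt → ℤ) = 0 :=
      (sqNorm_eq_zero_iff' _).mp (by rw [h1]; norm_num)
    exact Subtype.ext (sub_eq_zero.mp h0).symm
  · rintro rfl
    exact ⟨hv, by rw [dotInt_self', hv]⟩

theorem minCls_m32 {v : leechLattice} (hv : sqNorm (v : GolayPt → ℤ) = 32) :
    minCls v (-32) = {-v} := by
  ext y
  rw [Set.mem_singleton_iff]
  constructor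
  · intro hy
    have h1 := neg_mem_minCls hy
    rw [neg_neg, minCls_32 hv, Set.mem_singleton_iff] at h1
    rw [← h1, neg_neg]
  · rintro rfl
    have : v ∈ minCls v 32 := by rw [minCls_32 hv]; rfl
    exact neg_mem_minCls this

theorem minCls_values {v y : leechLattice} (hv : sqNorm (v : GolayPt → ℤ) = 32)
    (hy : sqNorm (y : GolayPt → ℤ) = 32) :
    dotInt (v : GolayPt → ℤ) (y : GolayPt → ℤ) ∈ ({32, -32, 16, -16, 8, -8, 0} : Finset ℤ) := by
  have h := dot_values (mem_F32.mpr ⟨v.2, hv⟩) (mem_F32.mpr ⟨y.2, hy⟩)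
  simp only [Finset.mem_insert, Finset.mem_singleton] at h ⊢
  omega




/-- A minimal vector fixed by the whole stabiliser of `v` is `±v`. -/
theorem fixed_of_stab {v x : leechLattice} (hv : sqNorm (v : GolayPt → ℤ) = 32)
    (hx : sqNorm (x : GolayPt → ℤ) = 32) (h : ∀ g : Co0, g • v = v → g • x = x) :
    x = v ∨ x = -v := by
  have hval := minCls_values hv hx
  have hxc : x ∈ minCls v (dotInt (v : GolayPt → ℤ) (x : GolayPt → ℤ)) := ⟨hx, rfl⟩
  obtain ⟨c1, c2, c3, c4, c5⟩ := ncard_minCls_vals hv
  simp only [Finset.mem_insert, Finset.mem_singleton] at hval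
  have big : ∀ t : ℤ, t ∈ ({16, -16, 8, -8, 0} : Finset ℤ) → 1 < (minCls v t).ncard →
      dotInt (v : GolayPt → ℤ) (x : GolayPt → ℤ) = t → False := by
    intro t ht hlt hxt
    rw [hxt] at hxc
    obtain ⟨y, hy, hyx⟩ := Set.exists_ne_of_one_lt_ncard hlt x
    obtain ⟨g, g1, g2⟩ := minCls_trans hv ht hxc hy
    exact hyx (g2.symm.trans (h g g1))
  rcases hval with h32 | h32 | ht | ht | ht | ht | ht
  · left
    rw [h32, minCls_32 hv] at hxc
    exact hxc
  · right
    rw [h32, minCls_m32 hv] at hxc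
    exact hxc
  · exact (big 16 (by simp) (by rw [c1]; norm_num) ht).elim
  · exact (big (-16) (by simp) (by rw [c2]; norm_num) ht).elim
  · exact (big 8 (by simp) (by rw [c3]; norm_num) ht).elim
  · exact (big (-8) (by simp) (by rw [c4]; norm_num) ht).elim
  · exact (big 0 (by simp) (by rw [c5]; norm_num) ht).elim

theorem central_smul {g : Co0} (hg : g ∈ Subgroup.center Co0) {v : leechLattice}
    (hv : sqNorm (v : GolayPt → ℤ) = 32) : g • v = v ∨ g • v = -v := by
  apply fixed_of_stab hv (by rw [smul_norm, hv])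
  intro k hk
  rw [← mul_smul, Subgroup.mem_center_iff.mp hg k, mul_smul, hk]

/-- The standard vectors `4 e_∞ ± 4 e_j`. -/
def A4s (j : GolayPt) (s : ℤ) (hs : s = 1 ∨ s = -1) : leechLattice :=
  ⟨vec44 none j s, vec44_mem _ _ _ hs⟩

theorem vec8_none_eq {j : GolayPt} (hj : j ≠ none) :
    vec8 none = vec44 none j 1 + vec44 none j (-1) := by
  funext k
  rw [Pi.add_apply]
  unfold vec8 vec44
  by_cases hk : k = none
  · subst hk
    simp [Ne.symm hj]
  · by_cases hkj : k = j
    · subst hkj; simp [hk]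
    · simp [hk, hkj]

theorem vec8_some_eq {j : GolayPt} (hj : j ≠ none) :
    vec8 j = vec44 none j 1 - vec44 none j (-1) := by
  funext k
  rw [Pi.sub_apply]
  unfold vec8 vec44
  by_cases hk : k = j
  · subst hk
    simp [hj]
  · by_cases hkn : k = none
    · subst hkn; simp [Ne.symm hj]
    · simp [hk, hkn]

theorem e8_none_eq' {j : GolayPt} (hj : j ≠ none) :
    e8 none = A4s j 1 (Or.inl rfl) + A4s j (-1) (Or.inr rfl) :=
  Subtype.ext (vec8_none_eq hj)

theorem e8_some_eq' {j : GolayPt} (hj : j ≠ none) :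
    e8 j = A4s j 1 (Or.inl rfl) - A4s j (-1) (Or.inr rfl) :=
  Subtype.ext (vec8_some_eq hj)

theorem eq_one_of_fix_A4s (g : Co0)
    (h : ∀ j, j ≠ none → ∀ s hs, g • A4s j s hs = A4s j s hs) : g = 1 := by
  apply eq_one_of_fix_e8
  intro i
  by_cases hi : i = none
  · subst hi
    rw [e8_none_eq' (j := some 0) (by decide), smul_add', h _ (by decide), h _ (by decide)]
  · rw [e8_some_eq' hi, smul_sub', h _ hi, h _ hi]

theorem A4s_norm (j : GolayPt) (hj : j ≠ none) (s : ℤ) (hs : s = 1 ∨ s = -1) :
    sqNorm (A4s j s hs : GolayPt → ℤ) = 32 := sqNorm_vec44 _ _ (Ne.symm hj) _ hs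

theorem A4s_dot {j k : GolayPt} (hj : j ≠ none) (hk : k ≠ none) (hjk : j ≠ k) (s t : ℤ)
    (hs : s = 1 ∨ s = -1) (ht : t = 1 ∨ t = -1) :
    dotInt (A4s j s hs : GolayPt → ℤ) (A4s k t ht : GolayPt → ℤ) = 16 := by
  show dotInt (vec44 none j s) (vec44 none k t) = 16
  rw [dotInt_vec44_vec44 hj hk, if_neg hjk]; norm_num

/-- The centre consists of `±1`. -/
theorem center_cases {g : Co0} (hg : g ∈ Subgroup.center Co0) : g = 1 ∨ g = negG := by
  -- the sign is constant along non-orthogonal pairs
  have hsame : ∀ a b : leechLattice, sqNorm (a : GolayPt → ℤ) = 32 →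
      sqNorm (b : GolayPt → ℤ) = 32 → dotInt (a : GolayPt → ℤ) (b : GolayPt → ℤ) ≠ 0 →
      (g • a = a ↔ g • b = b) := by
    intro a b ha hb hab
    have key : ∀ a b : leechLattice, sqNorm (a : GolayPt → ℤ) = 32 →
        sqNorm (b : GolayPt → ℤ) = 32 → dotInt (a : GolayPt → ℤ) (b : GolayPt → ℤ) ≠ 0 →
        g • a = a → g • b = b := by
      intro a b ha hb hab h1
      rcases central_smul hg hb with h2 | h2
      · exact h2
      · exfalso
        have h3 := smul_dot g a b
        rw [h1, h2] at h3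
        have h4 : dotInt (a : GolayPt → ℤ) ((-b : leechLattice) : GolayPt → ℤ) =
            -dotInt (a : GolayPt → ℤ) (b : GolayPt → ℤ) := dotInt_neg_right' _ _
        rw [h4] at h3
        apply hab
        omega
    exact ⟨key a b ha hb hab, key b a hb ha (by rw [dotInt_comm']; exact hab)⟩
  have hne16 : (16 : ℤ) ≠ 0 := by norm_num
  have h01 : (some 0 : GolayPt) ≠ some 1 := by decide
  have hn0 : (some 0 : GolayPt) ≠ none := by decide
  have hn1 : (some 1 : GolayPt) ≠ none := by decide
  -- every standard vector has the same sign as the reference vector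
  have hall : ∀ j, j ≠ none → ∀ s hs,
      (g • A4s (some 0) 1 (Or.inl rfl) = A4s (some 0) 1 (Or.inl rfl) ↔
        g • A4s j s hs = A4s j s hs) := by
    intro j hj s hs
    by_cases hj0 : j = some 0
    · subst hj0
      have e1 := hsame (A4s (some 0) 1 (Or.inl rfl)) (A4s (some 1) 1 (Or.inl rfl))
        (A4s_norm _ hn0 _ _) (A4s_norm _ hn1 _ _) (by rw [A4s_dot hn0 hn1 h01]; exact hne16)
      have e2 := hsame (A4s (some 1) 1 (Or.inl rfl)) (A4s (some 0) s hs)
        (A4s_norm _ hn1 _ _) (A4s_norm _ hn0 _ _)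
        (by rw [A4s_dot hn1 hn0 (Ne.symm h01)]; exact hne16)
      exact e1.trans e2
    · exact hsame _ _ (A4s_norm _ hn0 _ _) (A4s_norm _ hj _ _)
        (by rw [A4s_dot hn0 hj (Ne.symm hj0)]; exact hne16)
  rcases central_smul hg (A4s_norm (some 0) hn0 1 (Or.inl rfl)) with h0 | h0
  · left
    apply eq_one_of_fix_A4s
    intro j hj s hs
    exact (hall j hj s hs).mp h0
  · right
    have hnot : ¬ g • A4s (some 0) 1 (Or.inl rfl) = A4s (some 0) 1 (Or.inl rfl) := by
      intro h1
      rw [h1] at h0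
      have h2 : (A4s (some 0) 1 (Or.inl rfl) : GolayPt → ℤ) none =
          ((-A4s (some 0) 1 (Or.inl rfl) : leechLattice) : GolayPt → ℤ) none := by rw [← h0]
      have h3 : ((-A4s (some 0) 1 (Or.inl rfl) : leechLattice) : GolayPt → ℤ) none =
          -((A4s (some 0) 1 (Or.inl rfl) : GolayPt → ℤ) none) := rfl
      have h4 : (A4s (some 0) 1 (Or.inl rfl) : GolayPt → ℤ) none = 4 := by
        show vec44 none (some 0) 1 none = 4
        rw [vec44_apply_left (by decide)]
      rw [h3, h4] at h2
      norm_num at h2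
    have hone : negG * g = 1 := by
      apply eq_one_of_fix_A4s
      intro j hj s hs
      rcases central_smul hg (A4s_norm j hj s hs) with h1 | h1
      · exact absurd ((hall j hj s hs).mpr h1) hnot
      · rw [mul_smul, h1, negG_smul, neg_neg]
    calc g = negG * (negG * g) := by rw [← mul_assoc, negG_mul_self, one_mul]
      _ = negG := by rw [hone, mul_one]

theorem card_center : Nat.card ↥(Subgroup.center Co0) = 2 := by
  have h : (Subgroup.center Co0 : Set Co0) = {1, negG} := by
    ext g
    rw [Set.mem_insert_iff, Set.mem_singleton_iff]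
    constructor
    · intro hg; exact center_cases hg
    · rintro (rfl | rfl)
      · exact Subgroup.one_mem _
      · exact negG_mem_center
  rw [← SetLike.coe_sort_coe, h, Nat.card_coe_set_eq, Set.ncard_pair (Ne.symm negG_ne_one)]




theorem ncard_eq_sum_fiber {α : Type*} (B : Set α) (hB : B.Finite) (f : α → ℤ) (T : Finset ℤ)
    (hT : ∀ y ∈ B, f y ∈ T) : B.ncard = ∑ t ∈ T, (B ∩ {y | f y = t}).ncard := by
  classical
  rw [Set.ncard_eq_toFinset_card B hB]
  rw [Finset.card_eq_sum_card_fiberwise (f := f) (t := T)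
    (fun y hy => hT y (hB.mem_toFinset.mp hy))]
  apply Finset.sum_congr rfl
  intro t _
  rw [← Set.ncard_coe_finset]
  congr 1
  ext y
  simp [Set.Finite.mem_toFinset]

theorem co1_arith (x1 x2 x3 x4 x5 : ℕ) (h1 : x1 = 0 ∨ x1 = 4600) (h2 : x2 = 0 ∨ x2 = 4600)
    (h3 : x3 = 0 ∨ x3 = 47104) (h4 : x4 = 0 ∨ x4 = 47104) (h5 : x5 = 0 ∨ x5 = 93150)
    (hd : (1 + 1 + x1 + x2 + x3 + x4 + x5) ∣ 8315553613086720000) :
    1 + 1 + x1 + x2 + x3 + x4 + x5 = 2 ∨ 1 + 1 + x1 + x2 + x3 + x4 + x5 = 196560 := by
  rcases h1 with rfl | rfl <;> rcases h2 with rfl | rfl <;> rcases h3 with rfl | rfl <;>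
    rcases h4 with rfl | rfl <;> rcases h5 with rfl | rfl <;>
    first
      | (left; rfl)
      | (right; rfl)
      | (exfalso; revert hd; norm_num)

theorem minimal_finite : {x : leechLattice | sqNorm (x : GolayPt → ℤ) = 32}.Finite :=
  Set.finite_of_ncard_ne_zero (by rw [ncard_norm32]; norm_num)

/-- The orbit of a normal subgroup containing `-1` on a minimal vector has 2 or 196560
elements, as soon as its size divides the group order. -/
theorem orbit_normal_card {M : Subgroup Co0} (hM : M.Normal) (hneg : negG ∈ M) {v : leechLattice}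
    (hv : sqNorm (v : GolayPt → ℤ) = 32)
    (hd : (orbit M v).ncard ∣ 8315553613086720000) :
    (orbit M v).ncard = 2 ∨ (orbit M v).ncard = 196560 := by
  set B := orbit M v with hB
  have hnorm : ∀ y ∈ B, sqNorm (y : GolayPt → ℤ) = 32 := by
    rintro y ⟨m, rfl⟩
    show sqNorm ((m.1 • v : leechLattice) : GolayPt → ℤ) = 32
    rw [smul_norm, hv]
  have hfin : B.Finite := minimal_finite.subset hnorm
  have hinv : ∀ h : Co0, h • v = v → ∀ y ∈ B, h • y ∈ B := by
    rintro h hh y ⟨m, rfl⟩
    refine ⟨⟨h * m.1 * h⁻¹, hM.conj_mem m.1 m.2 h⟩, ?_⟩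
    show (h * m.1 * h⁻¹) • v = h • (m.1 • v)
    rw [mul_smul, mul_smul]
    congr 2
    rw [inv_smul_eq_iff, hh]
  have hvB : v ∈ B := mem_orbit_self v
  have hnvB : -v ∈ B := ⟨⟨negG, hneg⟩, negG_smul v⟩
  have hsum := ncard_eq_sum_fiber B hfin (fun y => dotInt (v : GolayPt → ℤ) (y : GolayPt → ℤ))
    ({32, -32, 16, -16, 8, -8, 0} : Finset ℤ) (fun y hy => minCls_values hv (hnorm y hy))
  have hfib : ∀ t : ℤ, B ∩ {y | dotInt (v : GolayPt → ℤ) (y : GolayPt → ℤ) = t} =
      B ∩ minCls v t := by
    intro t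
    ext y
    constructor
    · rintro ⟨h1, h2⟩; exact ⟨h1, hnorm y h1, h2⟩
    · rintro ⟨h1, h2⟩; exact ⟨h1, h2.2⟩
  rw [Finset.sum_insert (by decide), Finset.sum_insert (by decide), Finset.sum_insert (by decide),
    Finset.sum_insert (by decide), Finset.sum_insert (by decide), Finset.sum_insert (by decide),
    Finset.sum_singleton, hfib, hfib, hfib, hfib, hfib, hfib, hfib] at hsum
  have e32 : (B ∩ minCls v 32).ncard = 1 := by
    rw [minCls_32 hv, Set.inter_eq_right.mpr (Set.singleton_subset_iff.mpr hvB), Set.ncard_singleton]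
  have em32 : (B ∩ minCls v (-32)).ncard = 1 := by
    rw [minCls_m32 hv, Set.inter_eq_right.mpr (Set.singleton_subset_iff.mpr hnvB), Set.ncard_singleton]
  have hcls : ∀ t : ℤ, t ∈ ({16, -16, 8, -8, 0} : Finset ℤ) →
      (B ∩ minCls v t).ncard = 0 ∨ (B ∩ minCls v t).ncard = (minCls v t).ncard := by
    intro t ht
    by_cases hne : (B ∩ minCls v t).Nonempty
    · right
      obtain ⟨y, hyB, hyc⟩ := hne
      have : minCls v t ⊆ B := by
        intro y' hy'
        obtain ⟨g, g1, g2⟩ := minCls_trans hv ht hyc hy'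
        rw [← g2]
        exact hinv g g1 y hyB
      rw [Set.inter_eq_right.mpr this]
    · left
      rw [Set.not_nonempty_iff_eq_empty] at hne
      rw [hne, Set.ncard_empty]
  obtain ⟨c1, c2, c3, c4, c5⟩ := ncard_minCls_vals hv
  have k1 := hcls 16 (by simp)
  have k2 := hcls (-16) (by simp)
  have k3 := hcls 8 (by simp)
  have k4 := hcls (-8) (by simp)
  have k5 := hcls 0 (by simp)
  rw [c1] at k1
  rw [c2] at k2
  rw [c3] at k3
  rw [c4] at k4
  rw [c5] at k5
  rw [e32, em32] at hsum
  have hd' := hd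
  rw [hsum] at hd' ⊢
  have := co1_arith _ _ _ _ _ k1 k2 k3 k4 k5 (by
    have e : 1 + 1 + (B ∩ minCls v 16).ncard + (B ∩ minCls v (-16)).ncard +
        (B ∩ minCls v 8).ncard + (B ∩ minCls v (-8)).ncard + (B ∩ minCls v 0).ncard =
        1 + (1 + ((B ∩ minCls v 16).ncard + ((B ∩ minCls v (-16)).ncard +
        ((B ∩ minCls v 8).ncard + ((B ∩ minCls v (-8)).ncard + (B ∩ minCls v 0).ncard))))) := by
      ring
    rw [e]; exact hd')
  omega




theorem orderOf_negG : orderOf negG = 2 := by
  haveI : Fact (Nat.Prime 2) := ⟨Nat.prime_two⟩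
  apply orderOf_eq_prime
  · rw [pow_two, negG_mul_self]
  · exact negG_ne_one

/-- A normal subgroup containing `-1` cannot act regularly on the minimal vectors. -/
theorem no_regular {M : Subgroup Co0} (hM : M.Normal) (hneg : negG ∈ M) {v : leechLattice}
    (hv : sqNorm (v : GolayPt → ℤ) = 32) (hdisj : M ⊓ stabilizer Co0 v = ⊥)
    (hcard : Nat.card M = 196560) : False := by
  haveI hfin := finite_co0
  have hone : ∀ m : Co0, m ∈ M → m • v = v → m = 1 := by
    intro m hm hmv
    have : m ∈ M ⊓ stabilizer Co0 v := Subgroup.mem_inf.mpr ⟨hm, hmv⟩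
    rw [hdisj, Subgroup.mem_bot] at this
    exact this
  -- the class of an element
  have hT : ∀ m : Co0, m ∈ M → m ≠ 1 → m ≠ negG →
      dotInt (v : GolayPt → ℤ) ((m • v : leechLattice) : GolayPt → ℤ) ∈
        ({16, -16, 8, -8, 0} : Finset ℤ) := by
    intro m hm h1 h2
    have hmv : sqNorm ((m • v : leechLattice) : GolayPt → ℤ) = 32 := by rw [smul_norm, hv]
    have hval := minCls_values hv hmv
    have hc : m • v ∈ minCls v (dotInt (v : GolayPt → ℤ) ((m • v : leechLattice) : GolayPt → ℤ)) :=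
      ⟨hmv, rfl⟩
    simp only [Finset.mem_insert, Finset.mem_singleton] at hval ⊢
    rcases hval with h | h | h | h | h | h | h
    · exfalso
      rw [h, minCls_32 hv, Set.mem_singleton_iff] at hc
      exact h1 (hone m hm hc)
    · exfalso
      rw [h, minCls_m32 hv, Set.mem_singleton_iff] at hc
      have : (negG * m) • v = v := by rw [mul_smul, hc, negG_smul, neg_neg]
      have h3 := hone (negG * m) (M.mul_mem hneg hm) this
      apply h2
      calc m = negG * (negG * m) := by rw [← mul_assoc, negG_mul_self, one_mul]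
        _ = negG := by rw [h3, mul_one]
    · left; exact h
    · right; left; exact h
    · right; right; left; exact h
    · right; right; right; left; exact h
    · right; right; right; right; exact h
  -- elements in the same class have the same order
  have hord : ∀ m m' : Co0, m ∈ M → m' ∈ M →
      dotInt (v : GolayPt → ℤ) ((m • v : leechLattice) : GolayPt → ℤ) ∈
        ({16, -16, 8, -8, 0} : Finset ℤ) →
      dotInt (v : GolayPt → ℤ) ((m • v : leechLattice) : GolayPt → ℤ) =
        dotInt (v : GolayPt → ℤ) ((m' • v : leechLattice) : GolayPt → ℤ) →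
      orderOf m = orderOf m' := by
    intro m m' hm hm' ht hEq
    have c1 : m • v ∈ minCls v (dotInt (v : GolayPt → ℤ) ((m • v : leechLattice) : GolayPt → ℤ)) :=
      ⟨by rw [smul_norm, hv], rfl⟩
    have c2 : m' • v ∈ minCls v (dotInt (v : GolayPt → ℤ) ((m • v : leechLattice) : GolayPt → ℤ)) :=
      ⟨by rw [smul_norm, hv], hEq.symm⟩
    obtain ⟨h, h1, h2⟩ := minCls_trans hv ht c1 c2
    have h3 : (m'⁻¹ * (h * m * h⁻¹)) • v = v := by
      rw [mul_smul, mul_smul, mul_smul, inv_smul_eq_iff.mpr h1.symm, h2, inv_smul_smul]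
    have h4 := hone _ (M.mul_mem (M.inv_mem hm') (hM.conj_mem m hm h)) h3
    have h5 : h * m * h⁻¹ = m' := by
      have := congrArg (fun x => m' * x) h4
      simpa using this
    rw [← h5, ← MulAut.conj_apply, MulEquiv.orderOf_eq]
  -- elements of prime order
  have hex : ∀ p : ℕ, p.Prime → p ∣ 196560 → ∃ a : Co0, a ∈ M ∧ orderOf a = p := by
    intro p hp hdvd
    haveI : Fact p.Prime := ⟨hp⟩
    obtain ⟨a, ha⟩ := exists_prime_orderOf_dvd_card' (G := M) p (by rw [hcard]; exact hdvd)
    exact ⟨a.1, a.2, by rw [Subgroup.orderOf_coe, ha]⟩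
  obtain ⟨a3, m3, o3⟩ := hex 3 (by norm_num) (by norm_num)
  obtain ⟨a5, m5, o5⟩ := hex 5 (by norm_num) (by norm_num)
  obtain ⟨a7, m7, o7⟩ := hex 7 (by norm_num) (by norm_num)
  obtain ⟨a13, m13, o13⟩ := hex 13 (by norm_num) (by norm_num)
  have o6 : orderOf (negG * a3) = 6 := by
    rw [Commute.orderOf_mul_eq_mul_orderOf_of_coprime (negG_comm a3) (by
      rw [orderOf_negG, o3]; norm_num), orderOf_negG, o3]
  have o10 : orderOf (negG * a5) = 10 := by
    rw [Commute.orderOf_mul_eq_mul_orderOf_of_coprime (negG_comm a5) (by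
      rw [orderOf_negG, o5]; norm_num), orderOf_negG, o5]
  let f : Fin 6 → Co0 := ![a3, a5, a7, a13, negG * a3, negG * a5]
  let ords : Fin 6 → ℕ := ![3, 5, 7, 13, 6, 10]
  have hfM : ∀ i, f i ∈ M := by
    intro i
    fin_cases i
    · exact m3
    · exact m5
    · exact m7
    · exact m13
    · exact M.mul_mem hneg m3
    · exact M.mul_mem hneg m5
  have hford : ∀ i, orderOf (f i) = ords i := by
    intro i
    fin_cases i
    · exact o3
    · exact o5
    · exact o7
    · exact o13
    · exact o6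
    · exact o10
  have hf1 : ∀ i, f i ≠ 1 := by
    intro i h
    have := hford i
    rw [h, orderOf_one] at this
    revert this
    fin_cases i <;> simp [ords]
  have hfn : ∀ i, f i ≠ negG := by
    intro i h
    have := hford i
    rw [h, orderOf_negG] at this
    revert this
    fin_cases i <;> simp [ords]
  obtain ⟨x, -, y, -, hxy, hfxy⟩ := Finset.exists_ne_map_eq_of_card_lt_of_maps_to
    (s := (Finset.univ : Finset (Fin 6))) (t := ({16, -16, 8, -8, 0} : Finset ℤ))
    (f := fun i => dotInt (v : GolayPt → ℤ) ((f i • v : leechLattice) : GolayPt → ℤ))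
    (by decide) (fun i _ => hT (f i) (hfM i) (hf1 i) (hfn i))
  have := hord (f x) (f y) (hfM x) (hfM y) (hT (f x) (hfM x) (hf1 x) (hfn x)) hfxy
  rw [hford, hford] at this
  revert this hxy
  fin_cases x <;> fin_cases y <;> simp [ords]




theorem orbit_finite' (M : Subgroup Co0) {v : leechLattice}
    (hv : sqNorm (v : GolayPt → ℤ) = 32) : (orbit M v).Finite := by
  apply minimal_finite.subset
  rintro y ⟨m, rfl⟩
  show sqNorm ((m.1 • v : leechLattice) : GolayPt → ℤ) = 32
  rw [smul_norm, hv]

/-- The normal subgroups of the automorphism group containing the centre. -/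
theorem co0_normal_cases {M : Subgroup Co0} (hM : M.Normal)
    (hZ : Subgroup.center Co0 ≤ M) : M = Subgroup.center Co0 ∨ M = ⊤ := by
  have hfin := finite_co0
  have hv := V44_norm
  have hneg : negG ∈ M := hZ negG_mem_center
  have hsimple := co2_simple hv
  have hH := card_stab32 V44 hv
  have hMd : Nat.card M ∣ 8315553613086720000 := by
    rw [← card_co0]; exact Subgroup.card_subgroup_dvd_card M
  have hos := card_subgroup_inf_stab M V44
  rcases (hM.subgroupOf (stabilizer Co0 V44)).eq_bot_or_eq_top with hbot | htop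
  · -- trivial intersection with the stabiliser
    rw [Subgroup.subgroupOf_eq_bot, disjoint_iff] at hbot
    rw [hbot, Subgroup.card_bot, mul_one] at hos
    rcases orbit_normal_card hM hneg hv (by rw [hos]; exact hMd) with h2 | h2
    · left
      symm
      apply Subgroup.eq_of_le_of_card_ge hZ
      rw [card_center, ← hos, h2]
    · exfalso
      exact no_regular hM hneg hv hbot (by rw [← hos, h2])
  · -- the stabiliser is contained in `M`
    rw [Subgroup.subgroupOf_eq_top] at htop
    rw [inf_eq_right.mpr htop, hH] at hos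
    have hd : (orbit M V44).ncard ∣ 8315553613086720000 := by
      have h1 : (orbit M V44).ncard * 42305421312000 ∣ 196560 * 42305421312000 := by
        rw [hos]; exact hMd
      exact Dvd.dvd.trans (Nat.dvd_of_mul_dvd_mul_right (by norm_num) h1) (by norm_num)
    rcases orbit_normal_card hM hneg hv hd with h2 | h2
    · exfalso
      -- a conjugate of the stabiliser moves `V44` too far
      have hc := ncard_co2Set hv
      obtain ⟨w, hw⟩ : (co2Set V44).Nonempty :=
        Set.nonempty_of_ncard_ne_zero (by rw [hc]; norm_num)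
      have hVw : V44 ∈ co2Set w := ⟨hv, by rw [dotInt_comm']; exact hw.2⟩
      obtain ⟨g, hg⟩ : ∃ g : Co0, g • V44 = w := by
        have : w ∈ orbit Co0 V44 := by rw [orbit_norm32 V44 hv]; exact hw.1
        exact this
      have hstabw : ∀ k : Co0, k • w = w → k ∈ M := by
        intro k hk
        have h1 : g⁻¹ * k * g ∈ stabilizer Co0 V44 := by
          rw [mem_stabilizer_iff, mul_smul, mul_smul, hg, hk, ← hg, inv_smul_smul]
        have h2 := hM.conj_mem _ (htop h1) g
        have e : g * (g⁻¹ * k * g) * g⁻¹ = k := by group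
        rw [e] at h2
        exact h2
      have hsub : co2Set w ⊆ orbit M V44 := by
        intro x hx
        obtain ⟨k, k1, k2⟩ := co2Set_trans hw.1 hVw hx
        exact ⟨⟨k, hstabw k k1⟩, k2⟩
      have := Set.ncard_le_ncard hsub (orbit_finite' M hv)
      rw [ncard_co2Set hw.1, h2] at this
      omega
    · right
      apply Subgroup.eq_top_of_card_eq
      rw [card_co0, ← hos, h2]

theorem card_co1 : Nat.card (Co0 ⧸ Subgroup.center Co0) = 4157776806543360000 := by
  have h := Subgroup.card_eq_card_quotient_mul_card_subgroup (Subgroup.center Co0)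
  rw [card_co0, card_center] at h
  omega

theorem co1_simple : IsSimpleGroup (Co0 ⧸ Subgroup.center Co0) := by
  have hnt : Nontrivial (Co0 ⧸ Subgroup.center Co0) := by
    have : Finite (Co0 ⧸ Subgroup.center Co0) :=
      Nat.finite_of_card_ne_zero (by rw [card_co1]; norm_num)
    rw [← Finite.one_lt_card_iff_nontrivial, card_co1]
    norm_num
  refine ⟨fun N hN => ?_⟩
  have hsurj : Function.Surjective (QuotientGroup.mk' (Subgroup.center Co0)) :=
    QuotientGroup.mk'_surjective _
  have hker : Subgroup.center Co0 ≤ N.comap (QuotientGroup.mk' (Subgroup.center Co0)) := by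
    intro z hz
    rw [Subgroup.mem_comap]
    have : QuotientGroup.mk' (Subgroup.center Co0) z = 1 := by
      rw [← MonoidHom.mem_ker, QuotientGroup.ker_mk']; exact hz
    rw [this]; exact N.one_mem
  have hnorm : (N.comap (QuotientGroup.mk' (Subgroup.center Co0))).Normal := hN.comap _
  have hmap := Subgroup.map_comap_eq_self_of_surjective hsurj N
  rcases co0_normal_cases hnorm hker with h | h
  · left
    rw [← hmap, h, QuotientGroup.map_mk'_self]
  · right
    rw [← hmap, h, ← MonoidHom.range_eq_map, MonoidHom.range_eq_top]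
    exact hsurj


end Cfsg.Agent.Helper27
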