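import Mathlib
import Cfsg.Prelude.Def_Transfer
import Cfsg.Agent.Lib.Helper21.PGroupFrattini
import Cfsg.Agent.Lib.Helper9.FrattiniElem
import Cfsg.Agent.Lib.Helper9.Extraspecial

set_option autoImplicit false
open Cfsg
open scoped commutatorElement

/-! A criterion for a finite 2-group to be extraspecial, and the converse data. -/

namespace Cfsg.Agent.Helper27

/-- A finite 2-group whose centre is `{1, z}`, all of whose commutators and squares lie in
`{1, z}`, and which is not abelian, is extraspecial. -/
theorem isExtraspecial_two_of_data {P : Type*} [Group P] [Finite P] (hP : IsPGroup 2 P) (z : P)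
    (hz1 : z ≠ 1) (hzc : ∀ a : P, a * z = z * a)
    (hcen : ∀ c : P, (∀ a : P, a * c = c * a) → c = 1 ∨ c = z)
    (hcomm : ∀ a b : P, ⁅a, b⁆ = 1 ∨ ⁅a, b⁆ = z)
    (hsq : ∀ a : P, a ^ 2 = 1 ∨ a ^ 2 = z)
    (hna : ∃ a b : P, ⁅a, b⁆ ≠ 1) : IsExtraspecial 2 P := by
  haveI : Fact (Nat.Prime 2) := ⟨Nat.prime_two⟩
  have hzmem : z ∈ Subgroup.center P := Subgroup.mem_center_iff.mpr hzc
  have hcenter : ∀ c : P, c ∈ Subgroup.center P ↔ c = 1 ∨ c = z := by
    intro c
    constructor
    · intro hc
      exact hcen c (Subgroup.mem_center_iff.mp hc)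
    · rintro (rfl | rfl)
      · exact Subgroup.one_mem _
      · exact hzmem
  obtain ⟨a, b, hab⟩ := hna
  have habz : ⁅a, b⁆ = z := (hcomm a b).resolve_left hab
  have hcomm_eq : commutator P = Subgroup.center P := by
    apply le_antisymm
    · rw [commutator_def, Subgroup.commutator_le]
      intro x _ y _
      rw [hcenter]
      exact hcomm x y
    · intro c hc
      rcases (hcenter c).mp hc with rfl | rfl
      · exact Subgroup.one_mem _
      · rw [← habz, commutator_def]
        exact Subgroup.commutator_mem_commutator (Subgroup.mem_top a) (Subgroup.mem_top b)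
  have hfrat : frattini P = Subgroup.center P := by
    apply le_antisymm
    · have h := Cfsg.Agent.Helper9.frattini_le_ker_of_elementary (p := 2)
        (QuotientGroup.mk' (Subgroup.center P))
        (by
          intro x y
          obtain ⟨x, rfl⟩ := QuotientGroup.mk'_surjective _ x
          obtain ⟨y, rfl⟩ := QuotientGroup.mk'_surjective _ y
          rw [← map_mul, ← map_mul]
          apply (QuotientGroup.eq).mpr
          have : (x * y)⁻¹ * (y * x) = ⁅y⁻¹, x⁻¹⁆ := by
            rw [commutatorElement_def]; group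
          rw [this, hcenter]
          exact hcomm _ _)
        (by
          intro x
          obtain ⟨x, rfl⟩ := QuotientGroup.mk'_surjective _ x
          rw [← map_pow]
          apply (QuotientGroup.eq_one_iff _).mpr
          rw [hcenter]
          exact hsq x)
      rwa [QuotientGroup.ker_mk'] at h
    · rw [← hcomm_eq]
      intro c hc
      rw [hcomm_eq, hcenter] at hc
      rcases hc with rfl | rfl
      · exact Subgroup.one_mem _
      · rw [← habz, commutatorElement_def]
        exact Cfsg.Agent.Helper21.commutator_mem_frattini_of_isPGroup hP a b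
  refine ⟨⟨hP, hfrat, hcomm_eq⟩, ?_⟩
  rw [Nat.card_eq_two_iff' (1 : Subgroup.center P)]
  refine ⟨⟨z, hzmem⟩, fun h => hz1 (congrArg Subtype.val h), ?_⟩
  rintro ⟨c, hc⟩ hne
  rcases (hcenter c).mp hc with rfl | rfl
  · exact absurd rfl hne
  · rfl

/-- In a finite extraspecial 2-group squares lie in `{1, z}`. -/
theorem extraspecial_sq {P : Type*} [Group P] [Finite P] (hP : IsExtraspecial 2 P) (z : P)
    (hcen : ∀ c : P, (∀ a : P, a * c = c * a) → c = 1 ∨ c = z) (a : P) :
    a ^ 2 = 1 ∨ a ^ 2 = z := by
  haveI : Fact (Nat.Prime 2) := ⟨Nat.prime_two⟩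
  have h := Cfsg.Agent.Helper21.pow_mem_frattini_of_isPGroup hP.1.1 a
  rw [hP.1.2.1] at h
  exact hcen _ (Subgroup.mem_center_iff.mp h)

end Cfsg.Agent.Helper27
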