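import Mathlib
import Cfsg.Prelude.Def_MonsterType
import Cfsg.Agent.Lib.Helper27.ExtraCrit

set_option autoImplicit false
set_option linter.unusedSectionVars false
set_option linter.style.haveILetI false
open Cfsg
open scoped commutatorElement

/-! Extraspecial 2-groups through their elementwise data `XS`: the commutator pairing and the squaring map with values `±1`, the Gauss sum identity (`XS.gauss`), the number of solutions of `x * x = 1` in a group of order `2 ^ 25` (`XS.card_sq_one`), orders of centralizers of elements, the bound `|A|² ≤ 2 |P|` for abelian subgroups (`XS.card_abelian_le`), and an abstract argument with two homomorphisms (`two_homs`). -/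

namespace Cfsg.Agent.Helper27.Mon

/-- The elementwise data of an extraspecial 2-group with central involution `z`. -/
structure XS (P : Type*) [Group P] (z : P) : Prop where
  z_ne : z ≠ 1
  z_sq : z * z = 1
  z_comm : ∀ a : P, a * z = z * a
  cen : ∀ c : P, (∀ a : P, a * c = c * a) → c = 1 ∨ c = z
  comm : ∀ a b : P, ⁅a, b⁆ = 1 ∨ ⁅a, b⁆ = z
  sq : ∀ a : P, a * a = 1 ∨ a * a = z

theorem exists_XS {P : Type*} [Group P] [Finite P] (hP : IsExtraspecial 2 P) : ∃ z : P, XS P z := by
  have hcard : Nat.card (Subgroup.center P) = 2 := hP.2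
  obtain ⟨z0, hz0, hz0u⟩ := (Nat.card_eq_two_iff' (1 : Subgroup.center P)).mp hcard
  have hcen : ∀ c : P, (∀ a : P, a * c = c * a) → c = 1 ∨ c = (z0 : P) := by
    intro c hc
    have hcm : c ∈ Subgroup.center P := Subgroup.mem_center_iff.mpr hc
    by_cases h : (⟨c, hcm⟩ : Subgroup.center P) = 1
    · left; exact congrArg Subtype.val h
    · right; exact congrArg Subtype.val (hz0u ⟨c, hcm⟩ h)
  have hzc : ∀ a : P, a * (z0 : P) = (z0 : P) * a := fun a => Subgroup.mem_center_iff.mp z0.2 a
  have hz1 : (z0 : P) ≠ 1 := fun h => hz0 (Subtype.ext h)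
  have hsq : ∀ a : P, a * a = 1 ∨ a * a = (z0 : P) := by
    intro a
    have := extraspecial_sq hP (z0 : P) hcen a
    rwa [pow_two] at this
  refine ⟨(z0 : P), hz1, ?_, hzc, hcen, ?_, hsq⟩
  · rcases hsq (z0 : P) with h | h
    · exact h
    · exfalso; apply hz1
      have : (z0 : P) * (z0 : P) = (z0 : P) * 1 := by rw [mul_one]; exact h
      exact mul_left_cancel this
  · intro a b
    apply hcen
    have hmem : ⁅a, b⁆ ∈ Subgroup.center P := by
      rw [← hP.1.2.2]
      exact Subgroup.commutator_mem_commutator (Subgroup.mem_top a) (Subgroup.mem_top b)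
    exact Subgroup.mem_center_iff.mp hmem

/-- The sign of an element of `{1, z}`. -/
noncomputable def sg {P : Type*} [Group P] (c : P) : ℤ := by
  classical exact if c = 1 then 1 else -1

theorem sg_one {P : Type*} [Group P] : sg (1 : P) = 1 := by
  unfold sg; simp

theorem sg_of_ne {P : Type*} [Group P] {c : P} (h : c ≠ 1) : sg c = -1 := by
  unfold sg; simp [h]

theorem sg_eq_one_iff {P : Type*} [Group P] {c : P} : sg c = 1 ↔ c = 1 := by
  constructor
  · intro h
    by_contra hc
    rw [sg_of_ne hc] at h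
    omega
  · rintro rfl; exact sg_one

theorem sg_mul_self {P : Type*} [Group P] (c : P) : sg c * sg c = 1 := by
  by_cases h : c = 1
  · rw [h, sg_one]; norm_num
  · rw [sg_of_ne h]; norm_num

namespace XS

variable {P : Type*} [Group P] {z : P} (h : XS P z)
include h

theorem sg_z : sg z = -1 := sg_of_ne h.z_ne

theorem z_inv : z⁻¹ = z := by
  have := h.z_sq
  exact inv_eq_of_mul_eq_one_left this

theorem sg_mul {a b : P} (ha : a = 1 ∨ a = z) (hb : b = 1 ∨ b = z) : sg (a * b) = sg a * sg b := by
  rcases ha with rfl | rfl <;> rcases hb with rfl | rfl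
  · rw [one_mul, sg_one]; norm_num
  · rw [one_mul, sg_one]; norm_num
  · rw [mul_one, sg_one]; norm_num
  · rw [h.z_sq, sg_one, h.sg_z]; norm_num

theorem central {c : P} (hc : c = 1 ∨ c = z) (a : P) : a * c = c * a := by
  rcases hc with rfl | rfl
  · rw [mul_one, one_mul]
  · exact h.z_comm a

theorem comm_central (u x a : P) : a * ⁅u, x⁆ = ⁅u, x⁆ * a := h.central (h.comm u x) a

theorem comm_mul_right (u x y : P) : ⁅u, x * y⁆ = ⁅u, x⁆ * ⁅u, y⁆ := by
  have h1 : ⁅u, x * y⁆ = ⁅u, x⁆ * (x * ⁅u, y⁆ * x⁻¹) := by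
    simp only [commutatorElement_def]; group
  rw [h1, h.comm_central u y x, mul_inv_cancel_right]

theorem comm_symm (u x : P) : ⁅u, x⁆ = ⁅x, u⁆ := by
  have h1 : ⁅u, x⁆ = ⁅x, u⁆⁻¹ := by simp only [commutatorElement_def]; group
  rw [h1]
  rcases h.comm x u with h2 | h2
  · rw [h2, inv_one]
  · rw [h2, h.z_inv]

theorem comm_mul_left (u v x : P) : ⁅u * v, x⁆ = ⁅u, x⁆ * ⁅v, x⁆ := by
  rw [h.comm_symm (u * v) x, h.comm_mul_right, h.comm_symm x u, h.comm_symm x v]

/-- The commutator pairing with values `±1`. -/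
noncomputable def bet (_h : XS P z) (u x : P) : ℤ := sg ⁅u, x⁆

/-- The squaring map with values `±1`. -/
noncomputable def qd (_h : XS P z) (x : P) : ℤ := sg (x * x)

theorem bet_mul_right (u x y : P) : h.bet u (x * y) = h.bet u x * h.bet u y := by
  unfold bet
  rw [h.comm_mul_right, h.sg_mul (h.comm u x) (h.comm u y)]

theorem bet_mul_left (u v x : P) : h.bet (u * v) x = h.bet u x * h.bet v x := by
  unfold bet
  rw [h.comm_mul_left, h.sg_mul (h.comm u x) (h.comm v x)]

theorem bet_symm (u x : P) : h.bet u x = h.bet x u := by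
  unfold bet
  rw [h.comm_symm]

theorem bet_mul_self (u x : P) : h.bet u x * h.bet u x = 1 := sg_mul_self _

theorem qd_mul_self (x : P) : h.qd x * h.qd x = 1 := sg_mul_self _

theorem bet_eq_one_iff (u x : P) : h.bet u x = 1 ↔ u * x = x * u := by
  unfold bet
  rw [sg_eq_one_iff, commutatorElement_eq_one_iff_mul_comm]

theorem bet_cases (u x : P) : h.bet u x = 1 ∨ h.bet u x = -1 := by
  unfold bet
  by_cases hc : ⁅u, x⁆ = 1
  · left; rw [hc, sg_one]
  · right; exact sg_of_ne hc

theorem qd_mul (x u : P) : h.qd (x * u) = h.qd x * h.qd u * h.bet u x := by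
  unfold qd bet
  have h1 : x * u * (x * u) = (x * x) * ⁅x⁻¹, u⁆ * (u * u) := by
    simp only [commutatorElement_def]; group
  have h2 : ⁅x⁻¹, u⁆ = ⁅u, x⁆ := by
    have h3 : ⁅x⁻¹, u⁆ = x⁻¹ * ⁅u, x⁆ * x := by simp only [commutatorElement_def]; group
    rw [h3, mul_assoc, ← h.comm_central u x x, ← mul_assoc, inv_mul_cancel, one_mul]
  rw [h1, h2]
  have hc := h.comm u x
  have hx := h.sq x
  have hu := h.sq u
  have hxc : x * x * ⁅u, x⁆ = 1 ∨ x * x * ⁅u, x⁆ = z := by
    rcases hx with e1 | e1 <;> rcases hc with e2 | e2 <;> rw [e1, e2]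
    · left; rw [mul_one]
    · right; rw [one_mul]
    · right; rw [mul_one]
    · left; exact h.z_sq
  rw [h.sg_mul hxc hu, h.sg_mul hx hc]
  ring

theorem qd_one : h.qd 1 = 1 := by
  unfold qd; rw [mul_one, sg_one]

theorem qd_z : h.qd z = 1 := by
  unfold qd; rw [h.z_sq, sg_one]

theorem bet_trivial_iff (u : P) : (∀ x, h.bet u x = 1) ↔ (u = 1 ∨ u = z) := by
  constructor
  · intro hx
    apply h.cen
    intro a
    exact ((h.bet_eq_one_iff u a).mp (hx a)).symm
  · intro hu x
    rw [h.bet_eq_one_iff]
    exact (h.central hu x).symm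

end XS

/-- Sum of a sign-valued multiplicative function which takes the value `-1`. -/
theorem sum_sign_hom {K : Type*} [Group K] [Fintype K] (f : K → ℤ)
    (hmul : ∀ x y, f (x * y) = f x * f y) (x0 : K) (hx0 : f x0 = -1) : ∑ x, f x = 0 := by
  have h1 : ∑ x, f x = ∑ x, f (x0 * x) := by
    rw [← Equiv.sum_comp (Equiv.mulLeft x0) f]
    rfl
  have h2 : ∑ x, f (x0 * x) = - ∑ x, f x := by
    rw [← Finset.sum_neg_distrib]
    apply Finset.sum_congr rfl
    intro x _
    rw [hmul, hx0]; ring
  rw [h2] at h1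
  omega

theorem sum_sign_trivial {K : Type*} [Fintype K] (f : K → ℤ) (h1 : ∀ x, f x = 1) :
    ∑ x, f x = Fintype.card K := by
  rw [Finset.sum_congr rfl (fun x _ => h1 x)]
  simp

namespace XS

variable {P : Type*} [Group P] [Fintype P] {z : P} (h : XS P z)
include h

open Classical in
theorem sum_bet (u : P) : ∑ x, h.bet u x = if (u = 1 ∨ u = z) then (Fintype.card P : ℤ) else 0 := by
  split_ifs with hu
  · exact sum_sign_trivial _ ((h.bet_trivial_iff u).mpr hu)
  · have : ¬ ∀ x, h.bet u x = 1 := fun hx => hu ((h.bet_trivial_iff u).mp hx)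
    push Not at this
    obtain ⟨x0, hx0⟩ := this
    exact sum_sign_hom _ (h.bet_mul_right u) x0 ((h.bet_cases u x0).resolve_left hx0)

/-- The Gauss sum identity. -/
theorem gauss : (∑ x, h.qd x) * (∑ x, h.qd x) = 2 * (Fintype.card P : ℤ) := by
  classical
  have h1 : (∑ x, h.qd x) * (∑ x, h.qd x) = ∑ x, ∑ u, h.qd x * h.qd (x * u) := by
    rw [Finset.sum_mul]
    apply Finset.sum_congr rfl
    intro x _
    rw [Finset.mul_sum]
    rw [← Equiv.sum_comp (Equiv.mulLeft x) (fun y => h.qd x * h.qd y)]
    rfl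
  have h2 : ∀ x u, h.qd x * h.qd (x * u) = h.qd u * h.bet u x := by
    intro x u
    rw [h.qd_mul]
    have := h.qd_mul_self x
    calc h.qd x * (h.qd x * h.qd u * h.bet u x) = (h.qd x * h.qd x) * (h.qd u * h.bet u x) := by ring
      _ = h.qd u * h.bet u x := by rw [this, one_mul]
  rw [h1, Finset.sum_comm]
  have h3 : ∀ u, ∑ x, h.qd x * h.qd (x * u) = h.qd u * (if (u = 1 ∨ u = z) then (Fintype.card P : ℤ) else 0) := by
    intro u
    rw [← h.sum_bet u, Finset.mul_sum]
    apply Finset.sum_congr rfl
    intro x _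
    exact h2 x u
  rw [Finset.sum_congr rfl (fun u _ => h3 u)]
  have h4 : ∀ u, h.qd u * (if (u = 1 ∨ u = z) then (Fintype.card P : ℤ) else 0)
      = (if u = 1 then (Fintype.card P : ℤ) else 0) + (if u = z then (Fintype.card P : ℤ) else 0) := by
    intro u
    by_cases h1 : u = 1
    · have hz : ¬ (1 : P) = z := fun e => h.z_ne e.symm
      rw [h1, if_pos (Or.inl rfl), if_pos rfl, if_neg hz, h.qd_one]; ring
    · by_cases hz : u = z
      · rw [if_pos (Or.inr hz), if_neg h1, if_pos hz, hz, h.qd_z]; ring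
      · rw [if_neg (by tauto), if_neg h1, if_neg hz]; ring
  rw [Finset.sum_congr rfl (fun u _ => h4 u), Finset.sum_add_distrib, Finset.sum_ite_eq', Finset.sum_ite_eq']
  simp
  ring

end XS

end Cfsg.Agent.Helper27.Mon

namespace Cfsg.Agent.Helper27.Mon

namespace XS

variable {P : Type*} [Group P] [Finite P] {z : P} (h : XS P z)
include h

/-- The number of solutions of `x * x = 1` in an extraspecial group of order `2 ^ 25`. -/
theorem card_sq_one (hc : Nat.card P = 2 ^ 25) :
    Nat.card {x : P // x * x = 1} = 16781312 ∨ Nat.card {x : P // x * x = 1} = 16773120 := by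
  classical
  have : Fintype P := Fintype.ofFinite P
  have hg := h.gauss
  rw [Nat.card_eq_fintype_card] at hc
  rw [hc] at hg
  have hq : ∀ x : P, h.qd x = if x * x = 1 then 1 else -1 := by
    intro x
    unfold XS.qd
    split_ifs with hx
    · rw [hx, sg_one]
    · exact sg_of_ne hx
  have hsum : ∑ x : P, h.qd x = 2 * ((Finset.univ.filter (fun x : P => x * x = 1)).card : ℤ) - (2 ^ 25 : ℕ) := by
    rw [Finset.sum_congr rfl (fun x _ => hq x), Finset.sum_ite, Finset.sum_const, Finset.sum_const]
    have h1 := Finset.card_filter_add_card_filter_not (s := (Finset.univ : Finset P)) (fun x : P => x * x = 1)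
    rw [Finset.card_univ, hc] at h1
    have h2 : ((Finset.univ.filter (fun x : P => ¬ x * x = 1)).card : ℤ) = (2 ^ 25 : ℕ) - ((Finset.univ.filter (fun x : P => x * x = 1)).card : ℤ) := by
      rw [← h1]; push_cast; ring
    rw [nsmul_eq_mul, nsmul_eq_mul, h2]
    ring
  rw [Nat.card_eq_fintype_card, Fintype.card_subtype]
  set N := (Finset.univ.filter (fun x : P => x * x = 1)).card with hN
  rw [hsum] at hg
  have h3 : (2 * (N : ℤ) - (2 ^ 25 : ℕ)) * (2 * (N : ℤ) - (2 ^ 25 : ℕ)) = 8192 * 8192 := by
    rw [hg]; norm_num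
  rcases mul_self_eq_mul_self_iff.mp h3 with h4 | h4
  · left; push_cast at h4; omega
  · right; push_cast at h4; omega

/-- The centralizer of an element has order `|P|` or `|P| / 2`. -/
theorem card_centralizer (a : P) :
    Nat.card (Subgroup.centralizer ({a} : Set P)) = Nat.card P ∨
    2 * Nat.card (Subgroup.centralizer ({a} : Set P)) = Nat.card P := by
  classical
  have : Fintype P := Fintype.ofFinite P
  have hs := h.sum_bet a
  have hq : ∀ x : P, h.bet a x = if x ∈ Subgroup.centralizer ({a} : Set P) then 1 else -1 := by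
    intro x
    rw [Subgroup.mem_centralizer_singleton_iff]
    split_ifs with hx
    · rw [h.bet_eq_one_iff]; exact hx.symm
    · rcases h.bet_cases a x with h1 | h1
      · exact absurd ((h.bet_eq_one_iff a x).mp h1).symm hx
      · exact h1
  have hsum : ∑ x : P, h.bet a x = 2 * ((Finset.univ.filter (fun x : P => x ∈ Subgroup.centralizer ({a} : Set P))).card : ℤ) - (Fintype.card P : ℤ) := by
    rw [Finset.sum_congr rfl (fun x _ => hq x), Finset.sum_ite, Finset.sum_const, Finset.sum_const]
    have h1 := Finset.card_filter_add_card_filter_not (s := (Finset.univ : Finset P)) (fun x : P => x ∈ Subgroup.centralizer ({a} : Set P))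
    rw [Finset.card_univ] at h1
    have h2 : ((Finset.univ.filter (fun x : P => ¬ x ∈ Subgroup.centralizer ({a} : Set P))).card : ℤ) = (Fintype.card P : ℤ) - ((Finset.univ.filter (fun x : P => x ∈ Subgroup.centralizer ({a} : Set P))).card : ℤ) := by
      rw [← h1]; push_cast; ring
    rw [nsmul_eq_mul, nsmul_eq_mul, h2]
    ring
  have hcard : Nat.card (Subgroup.centralizer ({a} : Set P)) = (Finset.univ.filter (fun x : P => x ∈ Subgroup.centralizer ({a} : Set P))).card := by
    rw [Nat.card_eq_fintype_card, Fintype.card_subtype]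
  rw [hcard, Nat.card_eq_fintype_card]
  rw [hsum] at hs
  split_ifs at hs with hu
  · left; omega
  · right; omega

/-- An abelian subgroup `A` satisfies `|A|² ≤ 2 |P|`. -/
theorem card_abelian_le (A : Subgroup P) (hA : ∀ a ∈ A, ∀ b ∈ A, a * b = b * a) :
    Nat.card A * Nat.card A ≤ 2 * Nat.card P := by
  classical
  have : Fintype P := Fintype.ofFinite P
  have : Fintype A := Fintype.ofFinite A
  -- the double sum
  have hT1 : ∑ a : A, ∑ x : P, h.bet (a : P) x ≤ 2 * (Fintype.card P : ℤ) := by
    have h1 : ∀ a : A, ∑ x : P, h.bet (a : P) x = (if (a : P) = 1 then (Fintype.card P : ℤ) else 0) + (if (a : P) = z then (Fintype.card P : ℤ) else 0) := by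
      intro a
      rw [h.sum_bet]
      by_cases h1 : (a : P) = 1
      · have hz : ¬ (1 : P) = z := fun e => h.z_ne e.symm
        rw [h1, if_pos (Or.inl rfl), if_pos rfl, if_neg hz]; ring
      · by_cases hz : (a : P) = z
        · rw [if_pos (Or.inr hz), if_neg h1, if_pos hz]; ring
        · rw [if_neg (by tauto), if_neg h1, if_neg hz]; ring
    rw [Finset.sum_congr rfl (fun a _ => h1 a), Finset.sum_add_distrib]
    have h2 : ∀ c : P, ∑ a : A, (if (a : P) = c then (Fintype.card P : ℤ) else 0) ≤ (Fintype.card P : ℤ) := by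
      intro c
      by_cases hc : c ∈ A
      · have : ∀ a : A, ((a : P) = c) ↔ a = ⟨c, hc⟩ := by
          intro a; constructor
          · intro e; exact Subtype.ext e
          · intro e; rw [e]
        simp only [this]
        rw [Finset.sum_ite_eq']
        simp
      · have : ∀ a : A, ¬ ((a : P) = c) := by
          intro a e; apply hc; rw [← e]; exact a.2
        simp only [this, if_false, Finset.sum_const_zero]
        positivity
    have := h2 1
    have := h2 z
    linarith
  have hT2 : (Fintype.card A : ℤ) * (Fintype.card A : ℤ) ≤ ∑ a : A, ∑ x : P, h.bet (a : P) x := by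
    rw [Finset.sum_comm]
    have h1 : ∀ x : P, (if x ∈ A then (Fintype.card A : ℤ) else 0) ≤ ∑ a : A, h.bet (a : P) x := by
      intro x
      by_cases hx : ∀ a : A, h.bet (a : P) x = 1
      · rw [sum_sign_trivial _ hx]
        split_ifs
        · exact le_refl _
        · positivity
      · push Not at hx
        obtain ⟨a0, ha0⟩ := hx
        have hxA : x ∉ A := by
          intro hxA
          apply ha0
          rw [h.bet_eq_one_iff]
          exact hA _ a0.2 _ hxA
        rw [if_neg hxA]
        rw [sum_sign_hom (fun a : A => h.bet (a : P) x) (fun a b => by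
          show h.bet ((a * b : A) : P) x = _
          rw [Subgroup.coe_mul, h.bet_mul_left]) a0 ((h.bet_cases _ _).resolve_left ha0)]
    calc (Fintype.card A : ℤ) * (Fintype.card A : ℤ)
        = ∑ x : P, (if x ∈ A then (Fintype.card A : ℤ) else 0) := by
          rw [Finset.sum_ite, Finset.sum_const_zero, add_zero, Finset.sum_const, nsmul_eq_mul]
          congr 1
          rw [← Fintype.card_subtype]
      _ ≤ ∑ x : P, ∑ a : A, h.bet (a : P) x := Finset.sum_le_sum (fun x _ => h1 x)
  rw [Nat.card_eq_fintype_card, Nat.card_eq_fintype_card]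
  have := le_trans hT2 hT1
  exact_mod_cast this

omit [Finite P] in
/-- A noncentral element `b` is conjugate to `b * z`. -/
theorem exists_conj_mul_z (b : P) (hb : ¬ (b = 1 ∨ b = z)) : ∃ q : P, q * b * q⁻¹ = b * z := by
  have : ¬ ∀ x, h.bet b x = 1 := fun hx => hb ((h.bet_trivial_iff b).mp hx)
  push Not at this
  obtain ⟨q, hq⟩ := this
  refine ⟨q, ?_⟩
  have hc : ⁅q, b⁆ = z := by
    rcases h.comm q b with h1 | h1
    · exfalso; apply hq
      rw [h.bet_symm]
      unfold XS.bet
      rw [h1, sg_one]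
    · exact h1
  calc q * b * q⁻¹ = ⁅q, b⁆ * b := by simp only [commutatorElement_def]; group
    _ = b * z := by rw [hc, h.z_comm]

end XS

end Cfsg.Agent.Helper27.Mon

namespace Cfsg.Agent.Helper27.Mon

theorem odd_of_dvd_two_pow {m k : ℕ} (hm : Odd m) (hd : m ∣ 2 ^ k) : m = 1 := by
  obtain ⟨j, _, rfl⟩ := (Nat.dvd_prime_pow Nat.prime_two).mp hd
  rcases Nat.eq_zero_or_pos j with rfl | hj
  · rfl
  · exfalso
    have : Even (2 ^ j) := (Nat.even_pow' (by omega)).mpr even_two
    exact (Nat.not_odd_iff_even.mpr this) hm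

/-- The abstract two-homomorphism argument. -/
theorem two_homs {H L1 L2 : Type*} [Group H] [Group L1] [Group L2] [Finite H] [Finite L2]
    (φ : H →* L1) (θ : H →* L2)
    (hsimple : IsSimpleGroup φ.range)
    (m1 : ℕ) (hm1 : Odd m1) (hm1' : m1 ≠ 1) (hcard1 : Nat.card φ.range = 2 ^ 18 * m1)
    (hker : 2 ^ 24 ∣ Nat.card φ.ker)
    (m2 : ℕ) (hm2 : Odd m2) (hcard2 : Nat.card L2 = 2 ^ 21 * m2)
    (hθ : IsPGroup 2 θ.ker) :
    θ.ker ≤ φ.ker ∧ 2 ^ 21 ∣ Nat.card θ.ker := by
  have : Fact (Nat.Prime 2) := ⟨Nat.prime_two⟩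
  have hfr : Finite φ.range := Finite.of_surjective _ φ.rangeRestrict_surjective
  constructor
  · -- normal 2-subgroup of the simple image
    set N : Subgroup φ.range := (θ.ker).map φ.rangeRestrict with hN
    have hNn : N.Normal := Subgroup.Normal.map inferInstance _ φ.rangeRestrict_surjective
    have hNp : IsPGroup 2 N := IsPGroup.map hθ _
    rcases hsimple.eq_bot_or_eq_top_of_normal N hNn with h1 | h1
    · intro x hx
      have : φ.rangeRestrict x ∈ N := Subgroup.mem_map_of_mem _ hx
      rw [h1, Subgroup.mem_bot] at this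
      rw [MonoidHom.mem_ker]
      have h2 := congrArg Subtype.val this
      simpa using h2
    · exfalso
      have hp : IsPGroup 2 φ.range := by
        rw [h1] at hNp
        exact hNp.of_equiv Subgroup.topEquiv
      obtain ⟨k, hk⟩ := IsPGroup.iff_card.mp hp
      rw [hcard1] at hk
      apply hm1'
      apply odd_of_dvd_two_pow hm1 (k := k)
      rw [← hk]
      exact Dvd.intro_left _ rfl
  · obtain ⟨a, ha⟩ := IsPGroup.iff_card.mp hθ
    rw [ha]
    by_contra hcon
    have ha20 : a ≤ 20 := by
      by_contra h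
      apply hcon
      exact pow_dvd_pow 2 (by omega)
    have hH1 : Nat.card φ.ker * Nat.card φ.range = Nat.card H := by
      rw [← Subgroup.index_ker]; exact Subgroup.card_mul_index _
    have hH2 : Nat.card θ.ker * Nat.card θ.range = Nat.card H := by
      rw [← Subgroup.index_ker]; exact Subgroup.card_mul_index _
    have hr : Nat.card θ.range ∣ 2 ^ 21 * m2 := by
      rw [← hcard2]; exact Subgroup.card_subgroup_dvd_card _
    have h42 : 2 ^ 42 ∣ Nat.card H := by
      rw [← hH1, hcard1]
      obtain ⟨c, hc⟩ := hker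
      rw [hc]
      exact ⟨c * m1, by ring⟩
    rw [← hH2, ha] at h42
    have h22 : 2 ^ 22 ∣ Nat.card θ.range := by
      have e : 2 ^ 42 = 2 ^ a * 2 ^ (42 - a) := by rw [← pow_add]; congr 1; omega
      rw [e] at h42
      have h3 := (Nat.mul_dvd_mul_iff_left (by positivity)).mp h42
      exact dvd_trans (pow_dvd_pow 2 (by omega)) h3
    have h4 := dvd_trans h22 hr
    have e : (2 : ℕ) ^ 22 = 2 ^ 21 * 2 := by norm_num
    rw [e] at h4
    have h5 := (Nat.mul_dvd_mul_iff_left (by positivity)).mp h4
    exact (Nat.not_even_iff_odd.mpr hm2) (even_iff_two_dvd.mpr h5)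

end Cfsg.Agent.Helper27.Mon
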