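import Mathlib
import Cfsg.Prelude.Def_MonsterType
import Cfsg.Agent.Lib.Helper27.LeechMod2c
import Cfsg.Agent.Lib.Helper27.LeechTrans2
import Cfsg.Agent.Lib.Helper27.Co2Simple
import Cfsg.Agent.Lib.Helper27.MonA

set_option autoImplicit false
set_option linter.unusedSectionVars false
set_option linter.style.haveILetI false
open Cfsg
open scoped commutatorElement

/-! Groups of Monster type: the central involution lies in `Q` (`zC_mem_of_fstar`), the bundled `Setting`, basic properties of a module isomorphism of `Q / Z(Q)` with the lattice modulo 2, short representatives (`exists_short`), and transitivity of the centralizer on the elements of `Q` of a given type (`trans_type`). -/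

namespace Cfsg.Agent.Helper27.Mon

section Setting

variable {G : Type*} [Group G] {z : G}

theorem z_mem_cent (z : G) : z ∈ Subgroup.centralizer ({z} : Set G) := by
  rw [Subgroup.mem_centralizer_iff]
  intro h hh
  rw [Set.mem_singleton_iff] at hh
  rw [hh]

/-- `z` as an element of its centralizer. -/
def zC (z : G) : Subgroup.centralizer ({z} : Set G) := ⟨z, z_mem_cent z⟩

theorem zC_comm (c : Subgroup.centralizer ({z} : Set G)) : c * zC z = zC z * c := by
  apply Subtype.ext
  have := Subgroup.mem_centralizer_iff.mp c.2 z rfl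
  exact this.symm

theorem zC_mem_center : zC z ∈ Subgroup.center (Subgroup.centralizer ({z} : Set G)) := by
  rw [Subgroup.mem_center_iff]
  intro c
  exact zC_comm c

theorem zC_mem_of_fstar (Q : Subgroup (Subgroup.centralizer ({z} : Set G)))
    (hF : generalizedFittingSubgroup (Subgroup.centralizer ({z} : Set G)) = Q) : zC z ∈ Q := by
  rw [← hF]
  unfold generalizedFittingSubgroup
  apply (le_sup_right : fittingSubgroup _ ≤ _)
  unfold fittingSubgroup
  have hmem : Subgroup.center (Subgroup.centralizer ({z} : Set G)) ∈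
      {N : Subgroup (Subgroup.centralizer ({z} : Set G)) | N.Normal ∧ Group.IsNilpotent N} := by
    refine ⟨inferInstance, ⟨⟨1, Subgroup.upperCentralSeries_one_eq_top_iff.mpr inferInstance⟩⟩⟩
  exact (le_sSup hmem) zC_mem_center

variable (Q : Subgroup (Subgroup.centralizer ({z} : Set G)))

/-- The bundled consequences of the extraspecial-centralizer setting that we use. -/
structure Setting (z : G) (Q : Subgroup (Subgroup.centralizer ({z} : Set G))) : Prop where
  hz : zC z ∈ Q
  xs : XS Q ⟨zC z, hz⟩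
  ord : orderOf z = 2

theorem setting_of [Finite G] {w : ℕ} (hS : IsExtraspecialCentralizerSetting z Q w) : Setting z Q := by
  obtain ⟨hord, hF, hE, hcard, -⟩ := hS
  have hz := zC_mem_of_fstar Q hF
  obtain ⟨z', hz'⟩ := exists_XS hE
  have hzc : ∀ a : Q, a * (⟨zC z, hz⟩ : Q) = ⟨zC z, hz⟩ * a := by
    intro a
    apply Subtype.ext
    exact zC_comm (a : Subgroup.centralizer ({z} : Set G))
  have hne : (⟨zC z, hz⟩ : Q) ≠ 1 := by
    intro h
    have h1 : z = 1 := by
      have := congrArg (fun x : Q => ((x : Subgroup.centralizer ({z} : Set G)) : G)) h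
      simpa [zC] using this
    rw [h1, orderOf_one] at hord
    omega
  have heq : (⟨zC z, hz⟩ : Q) = z' := (hz'.cen _ hzc).resolve_left hne
  refine ⟨hz, ?_, hord⟩
  rw [heq]
  exact hz'

end Setting

end Cfsg.Agent.Helper27.Mon

namespace Cfsg.Agent.Helper27.Mon

section Psi

variable {G : Type*} [Group G] {z : G} {Q : Subgroup (Subgroup.centralizer ({z} : Set G))}

/-- The central involution as an element of `Q`. -/
def Setting.zQ (hS : Setting z Q) : Q := ⟨zC z, hS.hz⟩

theorem Setting.mem_center_iff (hS : Setting z Q) (c : Q) :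
    c ∈ Subgroup.center Q ↔ c = 1 ∨ c = hS.zQ := by
  constructor
  · intro hc
    exact hS.xs.cen c (Subgroup.mem_center_iff.mp hc)
  · intro hc
    rw [Subgroup.mem_center_iff]
    intro a
    exact hS.xs.central hc a

theorem Setting.mk_eq_iff (hS : Setting z Q) (a b : Q) :
    (QuotientGroup.mk a : Q ⧸ Subgroup.center Q) = QuotientGroup.mk b ↔ b = a ∨ b = a * hS.zQ := by
  rw [QuotientGroup.eq, hS.mem_center_iff]
  constructor
  · rintro (h | h)
    · left; exact (inv_mul_eq_one.mp h).symm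
    · right; rw [← h]; group
  · rintro (h | h)
    · left; rw [h]; group
    · right; rw [h]; group

theorem Setting.mk_eq_one_iff (hS : Setting z Q) (a : Q) :
    (QuotientGroup.mk a : Q ⧸ Subgroup.center Q) = 1 ↔ a = 1 ∨ a = hS.zQ := by
  rw [QuotientGroup.eq_one_iff, hS.mem_center_iff]

variable [Q.Normal]

/-- Conjugation by an element of the centralizer, on `Q`. -/
def conjQ (h : Subgroup.centralizer ({z} : Set G)) (q : Q) : Q :=
  ⟨h * q * h⁻¹, (inferInstance : Q.Normal).conj_mem (q : Subgroup.centralizer ({z} : Set G)) q.2 h⟩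

theorem conjQ_coe (h : Subgroup.centralizer ({z} : Set G)) (q : Q) :
    ((conjQ h q : Q) : Subgroup.centralizer ({z} : Set G)) = h * q * h⁻¹ := rfl

variable {e : (Subgroup.centralizer ({z} : Set G)) ⧸ Q ≃* Spor.Co1}
  {ψ : leechLattice → Q ⧸ Subgroup.center Q}

theorem psi_zero (hψ : IsLeechModTwoIso Q e ψ) : ψ 0 = 1 := by
  have := hψ.1 0 0
  rw [add_zero] at this
  exact (mul_eq_left).mp this.symm

theorem psi_double (hψ : IsLeechModTwoIso Q e ψ) (w : leechLattice) : ψ (w + w) = 1 :=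
  (hψ.2.2.1 _).mpr ⟨w, rfl⟩

theorem psi_cong (hψ : IsLeechModTwoIso Q e ψ) {v w : leechLattice}
    (h : Cong (v : GolayPt → ℤ) (w : GolayPt → ℤ)) : ψ v = ψ w := by
  obtain ⟨u, hu, hvw⟩ := h
  have : v = w + ((⟨u, hu⟩ : leechLattice) + ⟨u, hu⟩) := by
    apply Subtype.ext
    show (v : GolayPt → ℤ) = (w : GolayPt → ℤ) + (u + u)
    rw [two_smul] at hvw
    rw [← hvw]; abel
  rw [this, hψ.1, psi_double hψ, mul_one]

theorem cong_of_psi_eq (hψ : IsLeechModTwoIso Q e ψ) {v w : leechLattice} (h : ψ v = ψ w) :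
    Cong (v : GolayPt → ℤ) (w : GolayPt → ℤ) := by
  have h1 : ψ (v - w) * ψ w = ψ v := by
    rw [← hψ.1, sub_add_cancel]
  have h2 : ψ (v - w) = 1 := by
    rw [h] at h1
    exact (mul_eq_right).mp h1
  obtain ⟨u, hu⟩ := (hψ.2.2.1 _).mp h2
  refine ⟨(u : GolayPt → ℤ), u.2, ?_⟩
  have := congrArg (fun x : leechLattice => (x : GolayPt → ℤ)) hu
  simp only [AddSubgroup.coe_sub, AddSubgroup.coe_add] at this
  rw [this, two_smul]

theorem psi_ne_one (hψ : IsLeechModTwoIso Q e ψ) {v : leechLattice}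
    (h0 : 0 < sqNorm (v : GolayPt → ℤ)) (h64 : sqNorm (v : GolayPt → ℤ) ≤ 64) : ψ v ≠ 1 := by
  intro h
  obtain ⟨w, hw⟩ := (hψ.2.2.1 _).mp h
  have h1 : (v : GolayPt → ℤ) = 2 • (w : GolayPt → ℤ) := by
    rw [hw, two_smul]; rfl
  rw [h1, sqNorm_two_nsmul] at h0 h64
  by_cases hw0 : (w : GolayPt → ℤ) = 0
  · rw [hw0, sqNorm_zero'] at h0; omega
  · have := leech_min_norm w.2 hw0
    omega

theorem exists_lift (e : (Subgroup.centralizer ({z} : Set G)) ⧸ Q ≃* Spor.Co1) (g0 : Co0) :
    ∃ h : Subgroup.centralizer ({z} : Set G),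
      (QuotientGroup.mk g0 : Spor.Co1) = e (QuotientGroup.mk h) := by
  obtain ⟨h, hh⟩ := QuotientGroup.mk_surjective (e.symm (QuotientGroup.mk g0))
  exact ⟨h, by rw [hh, MulEquiv.apply_symm_apply]⟩

theorem short_cases {y : GolayPt → ℤ} (hy : y ∈ leechLattice) (h64 : sqNorm y ≤ 64) :
    sqNorm y = 0 ∨ sqNorm y = 32 ∨ sqNorm y = 48 ∨ sqNorm y = 64 := by
  obtain ⟨k, hk⟩ := sqNorm_dvd_of_mem hy
  by_cases h0 : y = 0
  · left; rw [h0, sqNorm_zero']
  · have := leech_min_norm hy h0
    omega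

/-- Every element of `Q` is represented by a short vector. -/
theorem exists_short (hψ : IsLeechModTwoIso Q e ψ) (x : Q) :
    ∃ v : leechLattice, (sqNorm (v : GolayPt → ℤ) = 0 ∨ sqNorm (v : GolayPt → ℤ) = 32 ∨
      sqNorm (v : GolayPt → ℤ) = 48 ∨ sqNorm (v : GolayPt → ℤ) = 64) ∧ ψ v = QuotientGroup.mk x := by
  obtain ⟨v0, hv0⟩ := hψ.2.1 (QuotientGroup.mk x)
  obtain ⟨y, hyL, hy64, hc⟩ := exists_short_rep v0.2
  refine ⟨⟨y, hyL⟩, short_cases hyL hy64, ?_⟩
  rw [← hv0]
  exact psi_cong hψ hc.symm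

/-- Transitivity of the centralizer on the elements of `Q` of a given type. -/
theorem trans_type (hS : Setting z Q) (hψ : IsLeechModTwoIso Q e ψ) {v v' : leechLattice} {n : ℤ}
    (hn : n = 32 ∨ n = 48 ∨ n = 64)
    (hv : sqNorm (v : GolayPt → ℤ) = n) (hv' : sqNorm (v' : GolayPt → ℤ) = n) {q q' : Q}
    (hq : ψ v = QuotientGroup.mk q) (hq' : ψ v' = QuotientGroup.mk q') :
    ∃ h : Subgroup.centralizer ({z} : Set G), conjQ h q = q' := by
  have hco : CoEq (v : GolayPt → ℤ) (v' : GolayPt → ℤ) := by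
    rcases hn with rfl | rfl | rfl
    · exact trans_norm32 v.2 v'.2 hv hv'
    · exact trans_norm48 v.2 v'.2 hv hv'
    · exact trans_norm64 v.2 v'.2 hv hv'
  obtain ⟨g0, hg0⟩ := coEq_iff_smul.mp hco
  obtain ⟨h, hh⟩ := exists_lift e g0
  have h1 := hψ.2.2.2 h g0 hh v q hq
  rw [hg0, hq'] at h1
  rcases (hS.mk_eq_iff q' _).mp h1 with h2 | h2
  · exact ⟨h, h2⟩
  · have hnc : ¬ (q' = 1 ∨ q' = hS.zQ) := by
      intro hc
      have : ψ v' = 1 := by rw [hq']; exact (hS.mk_eq_one_iff q').mpr hc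
      refine psi_ne_one hψ ?_ ?_ this
      · rw [hv']; rcases hn with rfl | rfl | rfl <;> norm_num
      · rw [hv']; rcases hn with rfl | rfl | rfl <;> norm_num
    obtain ⟨q1, hq1⟩ := hS.xs.exists_conj_mul_z q' hnc
    refine ⟨(q1 : Subgroup.centralizer ({z} : Set G))⁻¹ * h, ?_⟩
    apply Subtype.ext
    rw [conjQ_coe]
    have h3 : (h * (q : Subgroup.centralizer ({z} : Set G)) * h⁻¹) = (q1 : Subgroup.centralizer ({z} : Set G)) * q' * (q1 : Subgroup.centralizer ({z} : Set G))⁻¹ := by
      have e1 := congrArg (fun x : Q => (x : Subgroup.centralizer ({z} : Set G))) h2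
      have e2 := congrArg (fun x : Q => (x : Subgroup.centralizer ({z} : Set G))) hq1
      simp only [Subgroup.coe_mul, Subgroup.coe_inv] at e1 e2
      rw [e1, e2]; rfl
    calc (q1 : Subgroup.centralizer ({z} : Set G))⁻¹ * h * q * ((q1 : Subgroup.centralizer ({z} : Set G))⁻¹ * h)⁻¹
        = (q1 : Subgroup.centralizer ({z} : Set G))⁻¹ * (h * q * h⁻¹) * q1 := by group
      _ = q' := by rw [h3]; group

end Psi

end Cfsg.Agent.Helper27.Mon
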