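import Mathlib
import Cfsg.Agent.Lib.Helper27.MonB

set_option autoImplicit false
set_option linter.unusedSectionVars false
set_option linter.style.haveILetI false
open Cfsg
open scoped commutatorElement

/-! Groups of Monster type: singular vectors (`SingV`) and the weighted double count over the short vectors showing that the singular types are exactly `32` and `64` (`sing_types`). -/

namespace Cfsg.Agent.Helper27.Mon

attribute [local irreducible] Sh F32 F48 F64

/-- Sum over the short vectors of a function depending only on the type. -/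
theorem sum_Sh_by_type (f : (GolayPt → ℤ) → ℕ) (a0 a32 a48 a64 : ℕ) (h0 : f 0 = a0)
    (h32 : ∀ y ∈ leechLattice, sqNorm y = 32 → f y = a32)
    (h48 : ∀ y ∈ leechLattice, sqNorm y = 48 → f y = a48)
    (h64 : ∀ y ∈ leechLattice, sqNorm y = 64 → f y = a64) :
    ∑ y ∈ Sh, f y = a0 + 196560 * a32 + 16773120 * a48 + 398034000 * a64 := by
  have hSh : Sh = {0} ∪ F32 ∪ F48 ∪ F64 := by
    ext x
    rw [mem_Sh, Finset.mem_union, Finset.mem_union, Finset.mem_union, Finset.mem_singleton, mem_F32,
      mem_F48', mem_F64']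
    constructor
    · rintro ⟨h1, h | h | h | h⟩
      · left; left; left; exact (sqNorm_eq_zero_iff' x).mp h
      · left; left; right; exact ⟨h1, h⟩
      · left; right; exact ⟨h1, h⟩
      · right; exact ⟨h1, h⟩
    · rintro (((h | h) | h) | h)
      · rw [h]; exact ⟨zero_mem _, Or.inl sqNorm_zero'⟩
      · exact ⟨h.1, Or.inr (Or.inl h.2)⟩
      · exact ⟨h.1, Or.inr (Or.inr (Or.inl h.2))⟩
      · exact ⟨h.1, Or.inr (Or.inr (Or.inr h.2))⟩
  rw [hSh, Finset.sum_union, Finset.sum_union, Finset.sum_union, Finset.sum_singleton]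
  · have e1 : ∑ x ∈ F32, f x = 196560 * a32 := by
      rw [Finset.sum_congr rfl (g := fun _ => a32)]
      · rw [Finset.sum_const, card_F32, smul_eq_mul]
      · intro x hx
        rw [mem_F32] at hx
        exact h32 x hx.1 hx.2
    have e2 : ∑ x ∈ F48, f x = 16773120 * a48 := by
      rw [Finset.sum_congr rfl (g := fun _ => a48)]
      · rw [Finset.sum_const, card_F48, smul_eq_mul]
      · intro x hx
        rw [mem_F48'] at hx
        exact h48 x hx.1 hx.2
    have e3 : ∑ x ∈ F64, f x = 398034000 * a64 := by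
      rw [Finset.sum_congr rfl (g := fun _ => a64)]
      · rw [Finset.sum_const, card_F64, smul_eq_mul]
      · intro x hx
        rw [mem_F64'] at hx
        exact h64 x hx.1 hx.2
    rw [h0, e1, e2, e3]
  · rw [Finset.disjoint_left]
    intro x hx hx'
    rw [Finset.mem_singleton] at hx
    rw [mem_F32] at hx'
    have := hx'.2
    rw [hx, sqNorm_zero'] at this
    norm_num at this
  · rw [Finset.disjoint_left]
    intro x hx hx'
    rw [mem_F48'] at hx'
    have h48' := hx'.2
    rw [Finset.mem_union, Finset.mem_singleton, mem_F32] at hx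
    rcases hx with hx | hx
    · rw [hx, sqNorm_zero'] at h48'
      norm_num at h48'
    · have := hx.2
      omega
  · rw [Finset.disjoint_left]
    intro x hx hx'
    rw [mem_F64'] at hx'
    have h64' := hx'.2
    rw [Finset.mem_union, Finset.mem_union, Finset.mem_singleton, mem_F32, mem_F48'] at hx
    rcases hx with (hx | hx) | hx
    · rw [hx, sqNorm_zero'] at h64'
      norm_num at h64'
    · have := hx.2
      omega
    · have := hx.2
      omega

end Cfsg.Agent.Helper27.Mon

namespace Cfsg.Agent.Helper27.Mon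

attribute [local irreducible] Sh F32 F48 F64

section Count

variable {G : Type*} [Group G] {z : G} {Q : Subgroup (Subgroup.centralizer ({z} : Set G))}

/-- Singular vectors: the corresponding elements of `Q` square to `1`. -/
def SingV (ψ : leechLattice → Q ⧸ Subgroup.center Q) (v : leechLattice) : Prop :=
  ∀ x : Q, ψ v = QuotientGroup.mk x → x * x = 1

theorem Setting.sq_mul_zQ (hS : Setting z Q) (x : Q) : (x * hS.zQ) * (x * hS.zQ) = x * x := by
  have h1 : x * hS.zQ = hS.zQ * x := hS.xs.z_comm x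
  have h2 : hS.zQ * hS.zQ = 1 := hS.xs.z_sq
  calc (x * hS.zQ) * (x * hS.zQ) = x * (hS.zQ * x) * hS.zQ := by group
    _ = x * (x * hS.zQ) * hS.zQ := by rw [h1]
    _ = x * x * (hS.zQ * hS.zQ) := by group
    _ = x * x := by rw [h2, mul_one]

theorem singV_iff (hS : Setting z Q) {ψ : leechLattice → Q ⧸ Subgroup.center Q} {v : leechLattice}
    {x : Q} (hx : ψ v = QuotientGroup.mk x) : SingV ψ v ↔ x * x = 1 := by
  constructor
  · intro h; exact h x hx
  · intro h x' hx'
    rw [hx] at hx'
    rcases (hS.mk_eq_iff x x').mp hx' with e1 | e1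
    · rw [e1]; exact h
    · rw [e1, hS.sq_mul_zQ]; exact h

theorem exists_rep (ψ : leechLattice → Q ⧸ Subgroup.center Q) (v : leechLattice) :
    ∃ x : Q, ψ v = QuotientGroup.mk x := by
  obtain ⟨x, hx⟩ := QuotientGroup.mk_surjective (ψ v)
  exact ⟨x, hx.symm⟩

variable [Q.Normal] {e : (Subgroup.centralizer ({z} : Set G)) ⧸ Q ≃* Spor.Co1}
  {ψ : leechLattice → Q ⧸ Subgroup.center Q}

theorem conjQ_mul (h : Subgroup.centralizer ({z} : Set G)) (a b : Q) :
    conjQ h (a * b) = conjQ h a * conjQ h b := by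
  apply Subtype.ext
  show h * (a * b : Subgroup.centralizer ({z} : Set G)) * h⁻¹ = (h * a * h⁻¹) * (h * b * h⁻¹)
  group

theorem conjQ_one (h : Subgroup.centralizer ({z} : Set G)) : conjQ h (1 : Q) = 1 := by
  apply Subtype.ext
  show h * (1 : Subgroup.centralizer ({z} : Set G)) * h⁻¹ = 1
  group

theorem singV_const (hS : Setting z Q) (hψ : IsLeechModTwoIso Q e ψ) {n : ℤ}
    (hn : n = 32 ∨ n = 48 ∨ n = 64) {v v' : leechLattice}
    (hv : sqNorm (v : GolayPt → ℤ) = n) (hv' : sqNorm (v' : GolayPt → ℤ) = n)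
    (h : SingV ψ v) : SingV ψ v' := by
  obtain ⟨x, hx⟩ := exists_rep ψ v
  obtain ⟨x', hx'⟩ := exists_rep ψ v'
  rw [singV_iff hS hx'] 
  have hxx := (singV_iff hS hx).mp h
  obtain ⟨c, hc⟩ := trans_type hS hψ hn hv hv' hx hx'
  rw [← hc, ← conjQ_mul, hxx, conjQ_one]

theorem singV_dichotomy (hS : Setting z Q) (hψ : IsLeechModTwoIso Q e ψ) {n : ℤ}
    (hn : n = 32 ∨ n = 48 ∨ n = 64) :
    (∀ v : leechLattice, sqNorm (v : GolayPt → ℤ) = n → SingV ψ v) ∨
    (∀ v : leechLattice, sqNorm (v : GolayPt → ℤ) = n → ¬ SingV ψ v) := by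
  by_cases h : ∀ v : leechLattice, sqNorm (v : GolayPt → ℤ) = n → SingV ψ v
  · left; exact h
  · right
    push Not at h
    obtain ⟨v0, hv0, hs0⟩ := h
    intro v hv hs
    exact hs0 (singV_const hS hψ hn hv hv0 hs)

theorem singV_zero (hS : Setting z Q) (hψ : IsLeechModTwoIso Q e ψ) : SingV ψ 0 := by
  have h1 : ψ 0 = QuotientGroup.mk (1 : Q) := by rw [psi_zero hψ]; rfl
  rw [singV_iff hS h1, mul_one]

open Classical in
/-- The number of preimages of `ψ v` in `Q` squaring to `1`. -/
theorem count_fiber (hS : Setting z Q) [Fintype Q] (v : leechLattice) :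
    (Finset.univ.filter (fun x : Q => ψ v = QuotientGroup.mk x ∧ x * x = 1)).card =
      if SingV ψ v then 2 else 0 := by
  obtain ⟨x0, hx0⟩ := exists_rep ψ v
  split_ifs with hs
  · have hxx := (singV_iff hS hx0).mp hs
    have : Finset.univ.filter (fun x : Q => ψ v = QuotientGroup.mk x ∧ x * x = 1) = {x0, x0 * hS.zQ} := by
      ext x
      rw [Finset.mem_filter, Finset.mem_insert, Finset.mem_singleton, hx0, hS.mk_eq_iff]
      constructor
      · rintro ⟨-, h1, -⟩; exact h1
      · intro h1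
        refine ⟨Finset.mem_univ _, h1, ?_⟩
        rcases h1 with e1 | e1
        · rw [e1]; exact hxx
        · rw [e1, hS.sq_mul_zQ]; exact hxx
    rw [this, Finset.card_pair]
    intro h
    have h2 : hS.zQ = 1 := by
      have := mul_left_cancel (a := x0) (b := 1) (c := hS.zQ) (by rw [mul_one]; exact h)
      exact this.symm
    exact hS.xs.z_ne h2
  · rw [Finset.card_eq_zero, Finset.filter_eq_empty_iff]
    intro x _ hx
    apply hs
    rw [singV_iff hS hx.1]
    exact hx.2

end Count

end Cfsg.Agent.Helper27.Mon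

namespace Cfsg.Agent.Helper27.Mon

attribute [local irreducible] Sh F32 F48 F64

section Count2

variable {G : Type*} [Group G] {z : G} {Q : Subgroup (Subgroup.centralizer ({z} : Set G))}

open Classical in
/-- Extension of `ψ` to all integer vectors. -/
noncomputable def psiX (ψ : leechLattice → Q ⧸ Subgroup.center Q) (y : GolayPt → ℤ) :
    Q ⧸ Subgroup.center Q :=
  if hy : y ∈ leechLattice then ψ ⟨y, hy⟩ else 1

theorem psiX_of_mem (ψ : leechLattice → Q ⧸ Subgroup.center Q) {y : GolayPt → ℤ}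
    (hy : y ∈ leechLattice) : psiX ψ y = ψ ⟨y, hy⟩ := by
  unfold psiX
  rw [dif_pos hy]

variable [Q.Normal] {e : (Subgroup.centralizer ({z} : Set G)) ⧸ Q ≃* Spor.Co1}
  {ψ : leechLattice → Q ⧸ Subgroup.center Q}

open Classical in
theorem fiber_sum (hψ : IsLeechModTwoIso Q e ψ) (x : Q) :
    ∑ y ∈ Sh, (if psiX ψ y = QuotientGroup.mk x then wt y else 0) = 48 := by
  obtain ⟨v, hv⟩ := hψ.2.1 (QuotientGroup.mk x)
  rw [← Finset.sum_filter]
  have : Sh.filter (fun y => psiX ψ y = QuotientGroup.mk x) =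
      Sh.filter (fun y => cls y = cls (v : GolayPt → ℤ)) := by
    apply Finset.filter_congr
    intro y hy
    rw [mem_Sh] at hy
    rw [psiX_of_mem ψ hy.1, cls_eq_iff hy.1 v.2, ← hv]
    constructor
    · intro h; exact cong_of_psi_eq hψ h
    · intro h; exact psi_cong hψ (v := ⟨y, hy.1⟩) (w := v) h
  rw [this]
  exact fiber_wt_eq _

open Classical in
/-- The weighted double count. -/
theorem double_count (hS : Setting z Q) (hψ : IsLeechModTwoIso Q e ψ) [Fintype Q]
    (a32 a48 a64 : ℕ)
    (h32 : ∀ v : leechLattice, sqNorm (v : GolayPt → ℤ) = 32 → (if SingV ψ v then 2 else 0) = a32)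
    (h48 : ∀ v : leechLattice, sqNorm (v : GolayPt → ℤ) = 48 → (if SingV ψ v then 2 else 0) = a48)
    (h64 : ∀ v : leechLattice, sqNorm (v : GolayPt → ℤ) = 64 → (if SingV ψ v then 2 else 0) = a64) :
    48 * (Finset.univ.filter (fun x : Q => x * x = 1)).card =
      96 + 196560 * (24 * a32) + 16773120 * (24 * a48) + 398034000 * a64 := by
  set F : (GolayPt → ℤ) → Q → ℕ := fun y x =>
    if (psiX ψ y = QuotientGroup.mk x ∧ x * x = 1) then wt y else 0 with hF
  have side2 : ∑ y ∈ Sh, ∑ x : Q, F y x = 48 * (Finset.univ.filter (fun x : Q => x * x = 1)).card := by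
    rw [Finset.sum_comm]
    have h1 : ∀ x : Q, ∑ y ∈ Sh, F y x = if x * x = 1 then 48 else 0 := by
      intro x
      split_ifs with hx
      · rw [← fiber_sum hψ x]
        apply Finset.sum_congr rfl
        intro y _
        rw [hF]
        by_cases hp : psiX ψ y = QuotientGroup.mk x
        · rw [if_pos hp]
          show (if (psiX ψ y = QuotientGroup.mk x ∧ x * x = 1) then wt y else 0) = wt y
          rw [if_pos ⟨hp, hx⟩]
        · rw [if_neg hp]
          show (if (psiX ψ y = QuotientGroup.mk x ∧ x * x = 1) then wt y else 0) = 0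
          rw [if_neg (fun h => hp h.1)]
      · apply Finset.sum_eq_zero
        intro y _
        show (if (psiX ψ y = QuotientGroup.mk x ∧ x * x = 1) then wt y else 0) = 0
        rw [if_neg (fun h => hx h.2)]
    rw [Finset.sum_congr rfl (fun x _ => h1 x), Finset.sum_ite, Finset.sum_const_zero, add_zero,
      Finset.sum_const, smul_eq_mul, mul_comm]
  have hg : ∀ y (hy : y ∈ leechLattice), ∑ x : Q, F y x = wt y * (if SingV ψ ⟨y, hy⟩ then 2 else 0) := by
    intro y hy
    rw [← count_fiber hS ⟨y, hy⟩, Finset.card_filter, Finset.mul_sum]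
    apply Finset.sum_congr rfl
    intro x _
    show (if (psiX ψ y = QuotientGroup.mk x ∧ x * x = 1) then wt y else 0) = _
    rw [psiX_of_mem ψ hy]
    by_cases hp : (ψ ⟨y, hy⟩ = QuotientGroup.mk x ∧ x * x = 1)
    · rw [if_pos hp, if_pos hp, mul_one]
    · rw [if_neg hp, if_neg hp, mul_zero]
  have side1 := sum_Sh_by_type (fun y => ∑ x : Q, F y x) 96 (24 * a32) (24 * a48) a64
    (by
      show ∑ x : Q, F 0 x = 96
      rw [hg 0 (zero_mem _)]
      have : (⟨0, zero_mem _⟩ : leechLattice) = 0 := rfl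
      rw [this, if_pos (singV_zero hS hψ)]
      unfold wt
      rw [if_pos sqNorm_zero'])
    (by
      intro y hy hn
      show ∑ x : Q, F y x = 24 * a32
      rw [hg y hy, h32 ⟨y, hy⟩ hn]
      unfold wt
      rw [hn]; norm_num)
    (by
      intro y hy hn
      show ∑ x : Q, F y x = 24 * a48
      rw [hg y hy, h48 ⟨y, hy⟩ hn]
      unfold wt
      rw [hn]; norm_num)
    (by
      intro y hy hn
      show ∑ x : Q, F y x = a64
      rw [hg y hy, h64 ⟨y, hy⟩ hn]
      unfold wt
      rw [hn]; norm_num)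
  rw [← side2]
  exact side1

end Count2

end Cfsg.Agent.Helper27.Mon

namespace Cfsg.Agent.Helper27.Mon

section Count3

variable {G : Type*} [Group G] [Finite G] {z : G} {Q : Subgroup (Subgroup.centralizer ({z} : Set G))}
  [Q.Normal] {e : (Subgroup.centralizer ({z} : Set G)) ⧸ Q ≃* Spor.Co1}
  {ψ : leechLattice → Q ⧸ Subgroup.center Q}

open Classical in
theorem dich_val (hS : Setting z Q) (hψ : IsLeechModTwoIso Q e ψ) {n : ℤ}
    (hn : n = 32 ∨ n = 48 ∨ n = 64) :
    ∃ a : ℕ, ((a = 2 ∧ ∀ v : leechLattice, sqNorm (v : GolayPt → ℤ) = n → SingV ψ v) ∨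
      (a = 0 ∧ ∀ v : leechLattice, sqNorm (v : GolayPt → ℤ) = n → ¬ SingV ψ v)) ∧
      ∀ v : leechLattice, sqNorm (v : GolayPt → ℤ) = n → (if SingV ψ v then 2 else 0) = a := by
  rcases singV_dichotomy hS hψ hn with h | h
  · exact ⟨2, Or.inl ⟨rfl, h⟩, fun v hv => if_pos (h v hv)⟩
  · exact ⟨0, Or.inr ⟨rfl, h⟩, fun v hv => if_neg (h v hv)⟩

/-- The singular types are `32` and `64`. -/
theorem sing_types (hS : Setting z Q) (hψ : IsLeechModTwoIso Q e ψ) (hcard : Nat.card Q = 2 ^ 25) :
    (∀ v : leechLattice, sqNorm (v : GolayPt → ℤ) = 32 → SingV ψ v) ∧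
    (∀ v : leechLattice, sqNorm (v : GolayPt → ℤ) = 48 → ¬ SingV ψ v) ∧
    (∀ v : leechLattice, sqNorm (v : GolayPt → ℤ) = 64 → SingV ψ v) := by
  classical
  have : Fintype Q := Fintype.ofFinite Q
  obtain ⟨a32, h32, h32'⟩ := dich_val hS hψ (n := 32) (Or.inl rfl)
  obtain ⟨a48, h48, h48'⟩ := dich_val hS hψ (n := 48) (Or.inr (Or.inl rfl))
  obtain ⟨a64, h64, h64'⟩ := dich_val hS hψ (n := 64) (Or.inr (Or.inr rfl))
  have hdc := double_count hS hψ a32 a48 a64 (fun v hv => by convert h32' v hv)
    (fun v hv => by convert h48' v hv) (fun v hv => by convert h64' v hv)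
  have hN := hS.xs.card_sq_one hcard
  rw [Nat.card_eq_fintype_card, Fintype.card_subtype] at hN
  have hNeq : (Finset.univ.filter (fun x : Q => x * x = 1)).card =
      (Finset.univ.filter (fun x : Q => x * x = 1)).card := rfl
  rcases h32 with ⟨e32, k32⟩ | ⟨e32, k32⟩ <;> rcases h48 with ⟨e48, k48⟩ | ⟨e48, k48⟩ <;>
    rcases h64 with ⟨e64, k64⟩ | ⟨e64, k64⟩ <;> rcases hN with hN | hN <;>
    first
    | exact ⟨k32, k48, k64⟩
    | (exfalso; rw [e32, e48, e64] at hdc; convert_to 48 * _ = _ at hdc; omega)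
    | (exfalso; rw [e32, e48, e64] at hdc; omega)

end Count3

end Cfsg.Agent.Helper27.Mon
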