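import Mathlib
import Cfsg.Agent.Lib.Helper27.MonC
import Cfsg.Agent.Lib.Helper27.Co1Simple
import Cfsg.Agent.Lib.Helper27.CoOrders

set_option autoImplicit false
set_option linter.unusedSectionVars false
set_option linter.style.haveILetI false
open Cfsg
open scoped commutatorElement

/-! Groups of Monster type: a conjugate of the central involution in `Q` is not of type `32` (`no_type32`), via the order of the first Conway group, the simplicity of the stabilizer of a minimal vector, and the bound for abelian subgroups of an extraspecial group. -/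

namespace Cfsg.Agent.Helper27.Mon

theorem card_co1 : Nat.card Spor.Co1 = 2 ^ 21 * 1982582476875 := by
  have h1 := Subgroup.card_mul_index (Subgroup.center Co0)
  rw [card_center, card_co0, Subgroup.index_eq_card] at h1
  show Nat.card (Co0 ⧸ Subgroup.center Co0) = _
  omega

theorem finite_co1 : Finite Spor.Co1 :=
  Nat.finite_of_card_ne_zero (by rw [card_co1]; norm_num)

/-- The stabilizer of a vector, mapped to the quotient by the centre. -/
def rho (v : leechLattice) : MulAction.stabilizer Co0 v →* Spor.Co1 :=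
  (QuotientGroup.mk' (Subgroup.center Co0)).comp (MulAction.stabilizer Co0 v).subtype

theorem rho_apply (v : leechLattice) (a : MulAction.stabilizer Co0 v) :
    rho v a = (QuotientGroup.mk (a : Co0) : Spor.Co1) := rfl

theorem rho_injective {v : leechLattice} (hv : sqNorm (v : GolayPt → ℤ) = 32) :
    Function.Injective (rho v) := by
  rw [injective_iff_map_eq_one]
  intro a ha
  rw [rho_apply, QuotientGroup.eq_one_iff] at ha
  rcases center_cases ha with h | h
  · exact Subtype.ext h
  · exfalso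
    have h1 : (a : Co0) • v = v := a.2
    rw [h, negG_smul] at h1
    have h2 : (v : GolayPt → ℤ) = 0 := by
      have := congrArg (fun x : leechLattice => (x : GolayPt → ℤ)) h1
      simp only [AddSubgroup.coe_neg] at this
      funext i
      have := congrFun this i
      simp only [Pi.neg_apply, Pi.zero_apply] at this ⊢
      omega
    rw [h2, sqNorm_zero'] at hv
    norm_num at hv

theorem rho_range_simple {v : leechLattice} (hv : sqNorm (v : GolayPt → ℤ) = 32) :
    IsSimpleGroup (rho v).range := by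
  have := co2_simple hv
  exact (MonoidHom.ofInjective (rho_injective hv)).symm.isSimpleGroup

theorem rho_range_card {v : leechLattice} (hv : sqNorm (v : GolayPt → ℤ) = 32) :
    Nat.card (rho v).range = 2 ^ 18 * 161382375 := by
  rw [← Nat.card_congr (MonoidHom.ofInjective (rho_injective hv)).toEquiv, card_stab32 v hv]
  norm_num

theorem mem_rho_range {v : leechLattice} (g0 : Co0) (h : g0 • v = v ∨ g0 • v = -v) :
    (QuotientGroup.mk g0 : Spor.Co1) ∈ (rho v).range := by
  rcases h with h | h
  · exact ⟨⟨g0, h⟩, rfl⟩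
  · have h1 : (negG * g0) • v = v := by
      rw [mul_smul, h, negG_smul, neg_neg]
    refine ⟨⟨negG * g0, h1⟩, ?_⟩
    rw [rho_apply]
    show (QuotientGroup.mk (negG * g0) : Spor.Co1) = QuotientGroup.mk g0
    rw [QuotientGroup.eq]
    have : (negG * g0)⁻¹ * g0 = negG⁻¹ := by
      rw [negG_comm g0]; group
    rw [this]
    exact Subgroup.inv_mem _ negG_mem_center

end Cfsg.Agent.Helper27.Mon

namespace Cfsg.Agent.Helper27.Mon

section E

variable {G : Type*} [Group G] {z : G} {Q : Subgroup (Subgroup.centralizer ({z} : Set G))}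
  [Q.Normal] {e : (Subgroup.centralizer ({z} : Set G)) ⧸ Q ≃* Spor.Co1}
  {ψ : leechLattice → Q ⧸ Subgroup.center Q}

local notation "CC" => Subgroup.centralizer (singleton z : Set G)

/-- A lattice automorphism carrying `v` to a vector representing a noncentral `q'` lifts to an
element of the centralizer conjugating `q` to `q'`. -/
theorem lift_conj (hS : Setting z Q) (hψ : IsLeechModTwoIso Q e ψ) (g0 : Co0) {v : leechLattice}
    {q q' : Q} (hq : ψ v = QuotientGroup.mk q) (hq' : ψ (g0 • v) = QuotientGroup.mk q')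
    (hnc : ¬ (q' = 1 ∨ q' = hS.zQ)) :
    ∃ h : CC, (QuotientGroup.mk g0 : Spor.Co1) = e (QuotientGroup.mk h) ∧ conjQ h q = q' := by
  obtain ⟨h, hh⟩ := exists_lift e g0
  have h1 := hψ.2.2.2 h g0 hh v q hq
  rw [hq'] at h1
  rcases (hS.mk_eq_iff q' _).mp h1 with h2 | h2
  · exact ⟨h, hh, h2⟩
  · obtain ⟨q1, hq1⟩ := hS.xs.exists_conj_mul_z q' hnc
    refine ⟨(q1 : CC)⁻¹ * h, ?_, ?_⟩
    · rw [hh]
      congr 1
      rw [QuotientGroup.eq]
      have : h⁻¹ * ((q1 : CC)⁻¹ * h) = h⁻¹ * (q1 : CC)⁻¹ * h⁻¹⁻¹ := by group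
      rw [this]
      exact (inferInstance : Q.Normal).conj_mem _ (Q.inv_mem q1.2) _
    · apply Subtype.ext
      rw [conjQ_coe]
      have h3 : (h * (q : CC) * h⁻¹) = (q1 : CC) * q' * (q1 : CC)⁻¹ := by
        have e1 := congrArg (fun x : Q => (x : CC)) h2
        have e2 := congrArg (fun x : Q => (x : CC)) hq1
        simp only [Subgroup.coe_mul, Subgroup.coe_inv] at e1 e2
        rw [e1, e2]; rfl
      calc (q1 : CC)⁻¹ * h * q * ((q1 : CC)⁻¹ * h)⁻¹
          = (q1 : CC)⁻¹ * (h * q * h⁻¹) * q1 := by group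
        _ = q' := by rw [h3]; group

/-- The map from the centralizer to the Conway group. -/
def phi (e : CC ⧸ Q ≃* Spor.Co1) : CC →* Spor.Co1 := e.toMonoidHom.comp (QuotientGroup.mk' Q)

theorem phi_apply (h : CC) : phi e h = e (QuotientGroup.mk h) := rfl

theorem phi_eq_one_iff (h : CC) : phi e h = 1 ↔ h ∈ Q := by
  rw [phi_apply, MulEquiv.map_eq_one_iff, QuotientGroup.eq_one_iff]

/-- The image of the centralizer of `t` in the Conway group is the image of the vector stabilizer. -/
theorem phiH_range (hS : Setting z Q) (hψ : IsLeechModTwoIso Q e ψ) {v : leechLattice}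
    (hv : sqNorm (v : GolayPt → ℤ) = 32) (tQ : Q) (ht : ψ v = QuotientGroup.mk tQ) :
    ((phi e).comp (Subgroup.centralizer ({(tQ : CC)} : Set CC)).subtype).range = (rho v).range := by
  have hnc : ¬ (tQ = 1 ∨ tQ = hS.zQ) := by
    intro hc
    have : ψ v = 1 := by rw [ht]; exact (hS.mk_eq_one_iff tQ).mpr hc
    exact psi_ne_one hψ (by rw [hv]; norm_num) (by rw [hv]; norm_num) this
  apply le_antisymm
  · rintro _ ⟨h, rfl⟩
    show phi e (h : CC) ∈ (rho v).range
    obtain ⟨g0, hg0⟩ := QuotientGroup.mk_surjective (phi e (h : CC))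
    rw [← hg0]
    apply mem_rho_range
    have h1 := hψ.2.2.2 (h : CC) g0 (by rw [hg0]; rfl) v tQ ht
    have h2 : (⟨(h : CC) * tQ * (h : CC)⁻¹, (inferInstance : Q.Normal).conj_mem (tQ : CC) tQ.2 (h : CC)⟩ : Q) = tQ := by
      apply Subtype.ext
      have := Subgroup.mem_centralizer_iff.mp h.2 (tQ : CC) rfl
      show (h : CC) * tQ * (h : CC)⁻¹ = tQ
      rw [← this]; group
    rw [h2, ← ht] at h1
    have h3 := cong_of_psi_eq hψ h1
    have hn : sqNorm ((g0 • v : leechLattice) : GolayPt → ℤ) = 32 := by rw [smul_norm, hv]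
    rcases short_cong (g0 • v).2 v.2 (by rw [hn]; norm_num) (by rw [hv]; norm_num) h3 with h4 | h4 | h4
    · left; exact Subtype.ext h4
    · right; exact Subtype.ext h4
    · rw [hv] at h4; omega
  · rintro _ ⟨a, rfl⟩
    rw [rho_apply]
    have h1 : ψ ((a : Co0) • v) = QuotientGroup.mk tQ := by
      have : (a : Co0) • v = v := a.2
      rw [this, ht]
    obtain ⟨h, hh, hc⟩ := lift_conj hS hψ (a : Co0) ht h1 hnc
    have hmem : h ∈ Subgroup.centralizer ({(tQ : CC)} : Set CC) := by
      rw [Subgroup.mem_centralizer_iff]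
      intro x hx
      rw [Set.mem_singleton_iff] at hx
      rw [hx]
      have := congrArg (fun x : Q => (x : CC)) hc
      simp only [conjQ_coe] at this
      calc (tQ : CC) * h = (h * tQ * h⁻¹) * h := by rw [this]
        _ = h * tQ := by group
    exact ⟨⟨h, hmem⟩, hh.symm⟩

end E

end Cfsg.Agent.Helper27.Mon

namespace Cfsg.Agent.Helper27.Mon

section E2

variable {G : Type*} [Group G] {z : G}

local notation "CC" => Subgroup.centralizer (singleton z : Set G)

/-- Conjugation by `g⁻¹` carries the centralizer of `t = g z g⁻¹` (inside `C(z)`) into `C(z)`. -/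
def kappa (g : G) (t : CC) (htg : (t : G) = g * z * g⁻¹) :
    Subgroup.centralizer ({t} : Set CC) →* CC where
  toFun h := ⟨g⁻¹ * ((h : CC) : G) * g, by
    rw [Subgroup.mem_centralizer_iff]
    intro x hx
    rw [Set.mem_singleton_iff] at hx
    have h1 : t * (h : CC) = (h : CC) * t := Subgroup.mem_centralizer_iff.mp h.2 t rfl
    have h2 : (t : G) * ((h : CC) : G) = ((h : CC) : G) * (t : G) := congrArg Subtype.val h1
    have hz : g⁻¹ * (t : G) * g = z := by rw [htg]; group
    rw [hx]
    calc z * (g⁻¹ * ((h : CC) : G) * g) = g⁻¹ * (t : G) * g * (g⁻¹ * ((h : CC) : G) * g) := by rw [hz]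
      _ = g⁻¹ * ((t : G) * ((h : CC) : G)) * g := by group
      _ = g⁻¹ * (((h : CC) : G) * (t : G)) * g := by rw [h2]
      _ = g⁻¹ * ((h : CC) : G) * g * (g⁻¹ * (t : G) * g) := by group
      _ = g⁻¹ * ((h : CC) : G) * g * z := by rw [hz]⟩
  map_one' := by
    apply Subtype.ext
    show g⁻¹ * (((1 : Subgroup.centralizer ({t} : Set CC)) : CC) : G) * g = 1
    simp
  map_mul' a b := by
    apply Subtype.ext
    show g⁻¹ * (((a * b : Subgroup.centralizer ({t} : Set CC)) : CC) : G) * g =
      (g⁻¹ * ((a : CC) : G) * g) * (g⁻¹ * ((b : CC) : G) * g)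
    simp only [Subgroup.coe_mul]
    group

theorem kappa_coe (g : G) (t : CC) (htg : (t : G) = g * z * g⁻¹)
    (h : Subgroup.centralizer ({t} : Set CC)) :
    ((kappa g t htg h : CC) : G) = g⁻¹ * ((h : CC) : G) * g := rfl

theorem kappa_injective (g : G) (t : CC) (htg : (t : G) = g * z * g⁻¹) :
    Function.Injective (kappa g t htg) := by
  intro a b hab
  have h1 := congrArg (fun x : CC => (x : G)) hab
  simp only [kappa_coe] at h1
  apply Subtype.ext
  apply Subtype.ext
  have h2 : g⁻¹ * ((a : CC) : G) = g⁻¹ * ((b : CC) : G) := mul_right_cancel h1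
  exact mul_left_cancel h2

end E2

end Cfsg.Agent.Helper27.Mon

namespace Cfsg.Agent.Helper27.Mon

section E3

variable {G : Type*} [Group G] {z : G} {Q : Subgroup (Subgroup.centralizer ({z} : Set G))}
  [Q.Normal] {e : (Subgroup.centralizer ({z} : Set G)) ⧸ Q ≃* Spor.Co1}
  {ψ : leechLattice → Q ⧸ Subgroup.center Q}

local notation "CC" => Subgroup.centralizer (singleton z : Set G)

theorem coe_comm_cases (hS : Setting z Q) (a b : Q) :
    (((a : CC) : G) * ((b : CC) : G) * ((a : CC) : G)⁻¹ * ((b : CC) : G)⁻¹ = 1) ∨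
    (((a : CC) : G) * ((b : CC) : G) * ((a : CC) : G)⁻¹ * ((b : CC) : G)⁻¹ = z) := by
  rcases hS.xs.comm a b with h | h
  · left
    have := congrArg (fun x : Q => ((x : CC) : G)) h
    simpa [commutatorElement_def] using this
  · right
    have := congrArg (fun x : Q => ((x : CC) : G)) h
    simpa [commutatorElement_def, zC] using this

/-- A conjugate `t ≠ z` of `z` lying in `Q` is not of type `32`. -/
theorem no_type32 [Finite G] (hS : Setting z Q) (hψ : IsLeechModTwoIso Q e ψ)
    (hcard : Nat.card Q = 2 ^ 25) (g : G) (tQ : Q) (htg : ((tQ : CC) : G) = g * z * g⁻¹)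
    (htz : ((tQ : CC) : G) ≠ z) {v : leechLattice} (hv : sqNorm (v : GolayPt → ℤ) = 32)
    (ht : ψ v = QuotientGroup.mk tQ) : False := by
  have hp2 : Fact (Nat.Prime 2) := ⟨Nat.prime_two⟩
  have hz1 : z ≠ 1 := by
    intro h
    have := hS.ord
    rw [h, orderOf_one] at this
    omega
  -- the two homomorphisms
  set H := Subgroup.centralizer ({(tQ : CC)} : Set CC) with hH
  set φH : H →* Spor.Co1 := (phi e).comp H.subtype with hφH
  set κ : H →* CC := kappa g (tQ : CC) htg with hκ
  set θ : H →* CC ⧸ Q := (QuotientGroup.mk' Q).comp κ with hθ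
  have hrange : φH.range = (rho v).range := phiH_range hS hψ hv tQ ht
  have hfin1 := finite_co1
  have hQp : IsPGroup 2 Q := IsPGroup.of_card hcard
  -- kernel of θ is a 2-group
  have hθp : IsPGroup 2 θ.ker := by
    have hmem : ∀ a : θ.ker, κ (a : H) ∈ Q := by
      intro a
      have h0 : θ (a : H) = 1 := MonoidHom.mem_ker.mp a.2
      change (QuotientGroup.mk (κ (a : H)) : CC ⧸ Q) = 1 at h0
      exact (QuotientGroup.eq_one_iff _).mp h0
    let f : θ.ker →* Q := MonoidHom.codRestrict (κ.comp θ.ker.subtype) Q hmem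
    apply hQp.of_injective f
    intro a b hab
    have h1 := congrArg (fun x : Q => (x : CC)) hab
    apply Subtype.ext
    exact kappa_injective g (tQ : CC) htg h1
  -- the kernel of φH contains the centralizer of t in Q
  have hker : 2 ^ 24 ∣ Nat.card φH.ker := by
    set cQ := Subgroup.centralizer ({tQ} : Set Q) with hcQ
    have hm1 : ∀ q : cQ, ((q : Q) : CC) ∈ H := by
      intro q
      rw [hH, Subgroup.mem_centralizer_iff]
      intro x hx
      rw [Set.mem_singleton_iff] at hx
      rw [hx]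
      have := Subgroup.mem_centralizer_iff.mp q.2 tQ rfl
      exact congrArg (fun x : Q => (x : CC)) this
    let f1 : cQ →* H := MonoidHom.codRestrict (Q.subtype.comp cQ.subtype) H hm1
    have hm2 : ∀ q : cQ, f1 q ∈ φH.ker := by
      intro q
      rw [MonoidHom.mem_ker]
      show phi e ((q : Q) : CC) = 1
      rw [phi_eq_one_iff]
      exact (q : Q).2
    let f2 : cQ →* φH.ker := MonoidHom.codRestrict f1 φH.ker hm2
    have hinj : Function.Injective f2 := by
      intro a b hab
      have h1 := congrArg (fun x : φH.ker => ((x : H) : CC)) hab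
      apply Subtype.ext
      apply Subtype.ext
      exact h1
    have hdvd := Subgroup.card_dvd_of_injective f2 hinj
    refine dvd_trans ?_ hdvd
    have hcc : Nat.card cQ = Nat.card Q ∨ 2 * Nat.card cQ = Nat.card Q := hS.xs.card_centralizer tQ
    rcases hcc with h1 | h1
    · rw [h1, hcard]; exact pow_dvd_pow 2 (by norm_num)
    · rw [hcard] at h1
      have : Nat.card cQ = 2 ^ 24 := by omega
      rw [this]
  have hsimple : IsSimpleGroup φH.range := by rw [hrange]; exact rho_range_simple hv
  have hc1 : Nat.card φH.range = 2 ^ 18 * 161382375 := by rw [hrange]; exact rho_range_card hv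
  have hc2 : Nat.card (CC ⧸ Q) = 2 ^ 21 * 1982582476875 := by
    rw [Nat.card_congr e.toEquiv, card_co1]
  obtain ⟨hle, h21⟩ := two_homs φH θ hsimple 161382375 (by decide) (by norm_num) hc1 hker
    1982582476875 (by decide) hc2 hθp
  -- the kernel of θ inside Q
  have hmemQ : ∀ a : θ.ker, ((a : H) : CC) ∈ Q := by
    intro a
    have := hle a.2
    rw [MonoidHom.mem_ker] at this
    exact (phi_eq_one_iff _).mp this
  let ι : θ.ker →* Q := MonoidHom.codRestrict (H.subtype.comp θ.ker.subtype) Q hmemQ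
  have hιinj : Function.Injective ι := by
    intro a b hab
    have h1 := congrArg (fun x : Q => (x : CC)) hab
    apply Subtype.ext
    apply Subtype.ext
    exact h1
  have hmemκ : ∀ a : θ.ker, κ (a : H) ∈ Q := by
    intro a
    have h0 : θ (a : H) = 1 := MonoidHom.mem_ker.mp a.2
    change (QuotientGroup.mk (κ (a : H)) : CC ⧸ Q) = 1 at h0
    exact (QuotientGroup.eq_one_iff _).mp h0
  have hab : ∀ x ∈ ι.range, ∀ y ∈ ι.range, x * y = y * x := by
    rintro _ ⟨a, rfl⟩ _ ⟨b, rfl⟩
    apply Subtype.ext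
    apply Subtype.ext
    show (((a : H) : CC) : G) * (((b : H) : CC) : G) = (((b : H) : CC) : G) * (((a : H) : CC) : G)
    set a' := (((a : H) : CC) : G) with ha'
    set b' := (((b : H) : CC) : G) with hb'
    have c1 := coe_comm_cases hS ⟨_, hmemQ a⟩ ⟨_, hmemQ b⟩
    have c2 := coe_comm_cases hS ⟨_, hmemκ a⟩ ⟨_, hmemκ b⟩
    change (a' * b' * a'⁻¹ * b'⁻¹ = 1) ∨ (a' * b' * a'⁻¹ * b'⁻¹ = z) at c1
    change ((g⁻¹ * a' * g) * (g⁻¹ * b' * g) * (g⁻¹ * a' * g)⁻¹ * (g⁻¹ * b' * g)⁻¹ = 1) ∨
      ((g⁻¹ * a' * g) * (g⁻¹ * b' * g) * (g⁻¹ * a' * g)⁻¹ * (g⁻¹ * b' * g)⁻¹ = z) at c2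
    have e2 : (g⁻¹ * a' * g) * (g⁻¹ * b' * g) * (g⁻¹ * a' * g)⁻¹ * (g⁻¹ * b' * g)⁻¹ =
        g⁻¹ * (a' * b' * a'⁻¹ * b'⁻¹) * g := by group
    rw [e2] at c2
    rcases c1 with c1 | c1
    · calc a' * b' = (a' * b' * a'⁻¹ * b'⁻¹) * (b' * a') := by group
        _ = b' * a' := by rw [c1, one_mul]
    · exfalso
      rw [c1] at c2
      rcases c2 with c2 | c2
      · apply hz1
        calc z = g * (g⁻¹ * z * g) * g⁻¹ := by group
          _ = 1 := by rw [c2]; group
      · apply htz
        rw [htg]
        calc g * z * g⁻¹ = g * (g⁻¹ * z * g) * g⁻¹ := by rw [c2]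
          _ = z := by group
  have hbound := hS.xs.card_abelian_le ι.range hab
  have hcardA : Nat.card ι.range = Nat.card θ.ker :=
    (Nat.card_congr (MonoidHom.ofInjective hιinj).toEquiv).symm
  rw [hcardA, hcard] at hbound
  have hpos : 0 < Nat.card θ.ker := Nat.card_pos
  have hge : 2 ^ 21 ≤ Nat.card θ.ker := Nat.le_of_dvd hpos h21
  have : 2 ^ 21 * 2 ^ 21 ≤ Nat.card θ.ker * Nat.card θ.ker := Nat.mul_le_mul hge hge
  norm_num at this hbound
  omega

end E3

end Cfsg.Agent.Helper27.Mon
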