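import Mathlib
import Cfsg.Agent.Lib.Helper27.MonD

set_option autoImplicit false
set_option linter.unusedSectionVars false
set_option linter.style.haveILetI false
open Cfsg
open scoped commutatorElement

/-! Groups of Monster type: the conjugates of `z` in `Q` other than `z` are the elements of type `64` (`conj_iff_type64`), the other noncentral involutions are of type `32` (`type32_of_invol`), and the centralizer is transitive on each (`trans_G`). -/

namespace Cfsg.Agent.Helper27.Mon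

section Final

variable {G : Type*} [Group G] [Finite G] {z : G} {Q : Subgroup (Subgroup.centralizer ({z} : Set G))}
  [Q.Normal] {e : (Subgroup.centralizer ({z} : Set G)) ⧸ Q ≃* Spor.Co1}
  {ψ : leechLattice → Q ⧸ Subgroup.center Q}

local notation "CC" => Subgroup.centralizer (singleton z : Set G)

omit [Finite G] [Q.Normal] in
theorem coe_zQ (hS : Setting z Q) : ((hS.zQ : CC) : G) = z := rfl

omit [Finite G] [Q.Normal] in
theorem eq_zQ_of_coe (hS : Setting z Q) {x : Q} (h : ((x : CC) : G) = z) : x = hS.zQ := by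
  apply Subtype.ext
  apply Subtype.ext
  exact h

omit [Finite G] [Q.Normal] in
theorem z_ne_one (hS : Setting z Q) : z ≠ 1 := by
  intro h
  have := hS.ord
  rw [h, orderOf_one] at this
  omega

omit [Finite G] [Q.Normal] in
theorem z_mul_self (hS : Setting z Q) : z * z = 1 := by
  have := pow_orderOf_eq_one z
  rw [hS.ord, pow_two] at this
  exact this

/-- Conjugates of `z` in `Q` other than `z` are of type `64`. -/
theorem type64_of_conj (hS : Setting z Q) (hψ : IsLeechModTwoIso Q e ψ) (hcard : Nat.card Q = 2 ^ 25)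
    (x : Q) (hc : IsConj z ((x : CC) : G)) (hne : ((x : CC) : G) ≠ z) :
    ∃ v : leechLattice, sqNorm (v : GolayPt → ℤ) = 64 ∧ ψ v = QuotientGroup.mk x := by
  obtain ⟨g, hg⟩ := isConj_iff.mp hc
  have hxx : x * x = 1 := by
    apply Subtype.ext
    apply Subtype.ext
    show ((x : CC) : G) * ((x : CC) : G) = 1
    rw [← hg]
    calc g * z * g⁻¹ * (g * z * g⁻¹) = g * (z * z) * g⁻¹ := by group
      _ = 1 := by rw [z_mul_self hS]; group
  have hx1 : x ≠ 1 := by
    intro h
    apply z_ne_one hS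
    have h1 : ((x : CC) : G) = 1 := by rw [h]; rfl
    rw [← hg] at h1
    calc z = g⁻¹ * (g * z * g⁻¹) * g := by group
      _ = 1 := by rw [h1]; group
  obtain ⟨v, hvn, hv⟩ := exists_short hψ x
  obtain ⟨s32, s48, s64⟩ := sing_types hS hψ hcard
  rcases hvn with h | h | h | h
  · exfalso
    have hv0 : v = 0 := Subtype.ext ((sqNorm_eq_zero_iff' _).mp h)
    rw [hv0, psi_zero hψ] at hv
    rcases (hS.mk_eq_one_iff x).mp hv.symm with h1 | h1
    · exact hx1 h1
    · apply hne; rw [h1]; rfl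
  · exfalso
    exact no_type32 hS hψ hcard g x hg.symm hne h hv
  · exfalso
    exact s48 v h ((singV_iff hS hv).mpr hxx)
  · exact ⟨v, h, hv⟩

/-- The characterisation of the conjugates of `z` in `Q`. -/
theorem conj_iff_type64 (hS : Setting z Q) (hψ : IsLeechModTwoIso Q e ψ) (hcard : Nat.card Q = 2 ^ 25)
    (hwc : ∃ g : G, (∃ hq : g * z * g⁻¹ ∈ Subgroup.centralizer ({z} : Set G),
      (⟨g * z * g⁻¹, hq⟩ : Subgroup.centralizer ({z} : Set G)) ∈ Q) ∧ g * z * g⁻¹ ≠ z) (x : Q) :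
    (IsConj z ((x : CC) : G) ∧ ((x : CC) : G) ≠ z) ↔
      ∃ v : leechLattice, sqNorm (v : GolayPt → ℤ) = 64 ∧ ψ v = QuotientGroup.mk x := by
  constructor
  · rintro ⟨hc, hne⟩
    exact type64_of_conj hS hψ hcard x hc hne
  · rintro ⟨v, hvn, hv⟩
    obtain ⟨g, ⟨hq, hqQ⟩, hgz⟩ := hwc
    obtain ⟨v0, hv0n, hv0⟩ := type64_of_conj hS hψ hcard ⟨⟨g * z * g⁻¹, hq⟩, hqQ⟩
      (isConj_iff.mpr ⟨g, rfl⟩) hgz
    obtain ⟨h, hh⟩ := trans_type hS hψ (n := 64) (Or.inr (Or.inr rfl)) hv0n hvn hv0 hv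
    have hh' : (h : G) * (g * z * g⁻¹) * (h : G)⁻¹ = ((x : CC) : G) := by
      have := congrArg (fun y : Q => ((y : CC) : G)) hh
      simpa [conjQ] using this
    constructor
    · rw [isConj_iff]
      refine ⟨(h : G) * g, ?_⟩
      rw [← hh']; group
    · intro hxz
      have h1 := eq_zQ_of_coe hS hxz
      have h2 : ψ v = 1 := by rw [hv]; exact (hS.mk_eq_one_iff x).mpr (Or.inr h1)
      exact psi_ne_one hψ (by rw [hvn]; norm_num) (by rw [hvn]) h2

/-- Involutions of `Q` not conjugate to `z` are of type `32`. -/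
theorem type32_of_invol (hS : Setting z Q) (hψ : IsLeechModTwoIso Q e ψ) (hcard : Nat.card Q = 2 ^ 25)
    (hwc : ∃ g : G, (∃ hq : g * z * g⁻¹ ∈ Subgroup.centralizer ({z} : Set G),
      (⟨g * z * g⁻¹, hq⟩ : Subgroup.centralizer ({z} : Set G)) ∈ Q) ∧ g * z * g⁻¹ ≠ z) (x : Q)
    (h2 : orderOf ((x : CC) : G) = 2) (hnc : ¬ IsConj z ((x : CC) : G)) :
    ∃ v : leechLattice, sqNorm (v : GolayPt → ℤ) = 32 ∧ ψ v = QuotientGroup.mk x := by
  have hxx : x * x = 1 := by
    apply Subtype.ext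
    apply Subtype.ext
    show ((x : CC) : G) * ((x : CC) : G) = 1
    have := pow_orderOf_eq_one ((x : CC) : G)
    rw [h2, pow_two] at this
    exact this
  have hx1 : x ≠ 1 := by
    intro h
    have h1 : ((x : CC) : G) = 1 := by rw [h]; rfl
    rw [h1, orderOf_one] at h2
    omega
  obtain ⟨v, hvn, hv⟩ := exists_short hψ x
  obtain ⟨s32, s48, s64⟩ := sing_types hS hψ hcard
  rcases hvn with h | h | h | h
  · exfalso
    have hv0 : v = 0 := Subtype.ext ((sqNorm_eq_zero_iff' _).mp h)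
    rw [hv0, psi_zero hψ] at hv
    rcases (hS.mk_eq_one_iff x).mp hv.symm with h1 | h1
    · exact hx1 h1
    · apply hnc; rw [h1]; exact IsConj.refl _
  · exact ⟨v, h, hv⟩
  · exfalso
    exact s48 v h ((singV_iff hS hv).mpr hxx)
  · exfalso
    exact hnc ((conj_iff_type64 hS hψ hcard hwc x).mpr ⟨v, h, hv⟩).1

/-- Transitivity statement in terms of elements of `G`. -/
theorem trans_G (hS : Setting z Q) (hψ : IsLeechModTwoIso Q e ψ) {n : ℤ}
    (hn : n = 32 ∨ n = 48 ∨ n = 64) (s t : Q)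
    (hs : ∃ v : leechLattice, sqNorm (v : GolayPt → ℤ) = n ∧ ψ v = QuotientGroup.mk s)
    (ht : ∃ v : leechLattice, sqNorm (v : GolayPt → ℤ) = n ∧ ψ v = QuotientGroup.mk t) :
    ∃ h ∈ Subgroup.centralizer ({z} : Set G), h * ((s : CC) : G) * h⁻¹ = ((t : CC) : G) := by
  obtain ⟨v, hvn, hv⟩ := hs
  obtain ⟨v', hvn', hv'⟩ := ht
  obtain ⟨h, hh⟩ := trans_type hS hψ hn hvn hvn' hv hv'
  refine ⟨(h : G), h.2, ?_⟩
  have := congrArg (fun y : Q => ((y : CC) : G)) hh
  simpa [conjQ] using this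

end Final

end Cfsg.Agent.Helper27.Mon
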