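import Mathlib
import Cfsg.Agent.Lib.Helper27.MonA

set_option autoImplicit false
set_option linter.unusedSectionVars false
set_option linter.style.haveILetI false
open Cfsg
open scoped commutatorElement

/-! Extraspecial 2-groups, continued: adjoining a commuting involution to a subgroup of exponent two (`adjoin`), character sums over a subgroup (`XS.sum_bet_subgroup`), the two counting identities for the centralizer of a subgroup of exponent two (`XS.count_centralizer`), and the existence of a subgroup of exponent two and order `2 ^ 13` in an extraspecial group of order `2 ^ 25` of plus type (`XS.exists_elem_abelian`). -/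

namespace Cfsg.Agent.Helper27.Mon

/-- Adjoining a commuting involution to a subgroup of exponent two. -/
def adjoin {P : Type*} [Group P] (E : Subgroup P) (x : P) (hxx : x * x = 1)
    (hxE : ∀ a ∈ E, a * x = x * a) : Subgroup P where
  carrier := {y | y ∈ E ∨ x * y ∈ E}
  one_mem' := Or.inl E.one_mem
  mul_mem' := by
    rintro a b (ha | ha) (hb | hb)
    · exact Or.inl (E.mul_mem ha hb)
    · right
      have : x * (a * b) = a * (x * b) := by rw [← mul_assoc, ← hxE a ha, mul_assoc]
      rw [this]
      exact E.mul_mem ha hb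
    · right
      rw [← mul_assoc]
      exact E.mul_mem ha hb
    · left
      have h1 : (x * a) * x = x * (x * a) := hxE _ ha
      have h2 : a * x = x * a := by
        have : x * (a * x) = x * (x * a) := by rw [← mul_assoc]; exact h1
        exact mul_left_cancel this
      have : a * b = (x * a) * (x * b) := by
        calc a * b = (x * x) * (a * b) := by rw [hxx, one_mul]
          _ = x * (x * a) * b := by group
          _ = x * (a * x) * b := by rw [h2]
          _ = (x * a) * (x * b) := by group
      rw [this]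
      exact E.mul_mem ha hb
  inv_mem' := by
    rintro a (ha | ha)
    · exact Or.inl (E.inv_mem ha)
    · right
      have h1 : (x * a) * x = x * (x * a) := hxE _ ha
      have h2 : a * x = x * a := by
        have : x * (a * x) = x * (x * a) := by rw [← mul_assoc]; exact h1
        exact mul_left_cancel this
      have hxi : x⁻¹ = x := inv_eq_of_mul_eq_one_left hxx
      have : x * a⁻¹ = (x * a)⁻¹ := by
        rw [mul_inv_rev, hxi]
        have : a⁻¹ * x = x * a⁻¹ := by
          calc a⁻¹ * x = a⁻¹ * (x * a) * a⁻¹ := by group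
            _ = a⁻¹ * (a * x) * a⁻¹ := by rw [h2]
            _ = x * a⁻¹ := by group
        exact this.symm
      rw [this]
      exact E.inv_mem ha

theorem mem_adjoin {P : Type*} [Group P] (E : Subgroup P) (x : P) (hxx : x * x = 1)
    (hxE : ∀ a ∈ E, a * x = x * a) (y : P) : y ∈ adjoin E x hxx hxE ↔ y ∈ E ∨ x * y ∈ E := Iff.rfl

theorem le_adjoin {P : Type*} [Group P] (E : Subgroup P) (x : P) (hxx : x * x = 1)
    (hxE : ∀ a ∈ E, a * x = x * a) : E ≤ adjoin E x hxx hxE := fun _ hy => Or.inl hy

theorem self_mem_adjoin {P : Type*} [Group P] (E : Subgroup P) (x : P) (hxx : x * x = 1)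
    (hxE : ∀ a ∈ E, a * x = x * a) : x ∈ adjoin E x hxx hxE := Or.inr (by rw [hxx]; exact E.one_mem)

theorem sq_adjoin {P : Type*} [Group P] (E : Subgroup P) (hE : ∀ a ∈ E, a * a = 1) (x : P)
    (hxx : x * x = 1) (hxE : ∀ a ∈ E, a * x = x * a) :
    ∀ y ∈ adjoin E x hxx hxE, y * y = 1 := by
  rintro y (hy | hy)
  · exact hE y hy
  · have h1 : (x * y) * x = x * (x * y) := hxE _ hy
    have h2 : y * x = x * y := by
      have : x * (y * x) = x * (x * y) := by rw [← mul_assoc]; exact h1
      exact mul_left_cancel this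
    have h3 := hE _ hy
    calc y * y = (x * x) * (y * y) := by rw [hxx, one_mul]
      _ = x * (x * y) * y := by group
      _ = x * (y * x) * y := by rw [h2]
      _ = (x * y) * (x * y) := by group
      _ = 1 := h3

/-- In a group of exponent two elements commute. -/
theorem comm_of_sq {P : Type*} [Group P] (E : Subgroup P) (hE : ∀ a ∈ E, a * a = 1) :
    ∀ a ∈ E, ∀ b ∈ E, a * b = b * a := by
  intro a ha b hb
  have h1 := hE a ha
  have h2 := hE b hb
  have h3 := hE _ (E.mul_mem ha hb)
  have e1 : a⁻¹ = a := inv_eq_of_mul_eq_one_left h1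
  have e2 : b⁻¹ = b := inv_eq_of_mul_eq_one_left h2
  have e3 : (a * b)⁻¹ = a * b := inv_eq_of_mul_eq_one_left h3
  calc a * b = (a * b)⁻¹ := e3.symm
    _ = b⁻¹ * a⁻¹ := mul_inv_rev a b
    _ = b * a := by rw [e1, e2]

end Cfsg.Agent.Helper27.Mon

namespace Cfsg.Agent.Helper27.Mon

namespace XS

variable {P : Type*} [Group P] {z : P} (h : XS P z)
include h

theorem qd_eq_one_of_sq {a : P} (ha : a * a = 1) : h.qd a = 1 := by
  unfold XS.qd; rw [ha, sg_one]

theorem bet_mul_qd (a x : P) : h.bet a x * h.qd x = h.qd (x * a) * h.qd a := by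
  rw [h.qd_mul]
  have := h.qd_mul_self a
  calc h.bet a x * h.qd x = h.qd x * h.bet a x * (h.qd a * h.qd a) := by rw [this]; ring
    _ = h.qd x * h.qd a * h.bet a x * h.qd a := by ring

variable [Fintype P]

open Classical in
/-- Character sum over a subgroup: it detects the centralizer. -/
theorem sum_bet_subgroup (E : Subgroup P) [Fintype E] (x : P) :
    ∑ a : E, h.bet (a : P) x = if (∀ a ∈ E, a * x = x * a) then (Fintype.card E : ℤ) else 0 := by
  split_ifs with hx
  · apply sum_sign_trivial
    intro a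
    rw [h.bet_eq_one_iff]
    exact hx a a.2
  · push Not at hx
    obtain ⟨a0, ha0, hne⟩ := hx
    apply sum_sign_hom (fun a : E => h.bet (a : P) x) (fun a b => by
      show h.bet ((a * b : E) : P) x = _
      rw [Subgroup.coe_mul, h.bet_mul_left]) ⟨a0, ha0⟩
    rcases h.bet_cases a0 x with h1 | h1
    · exact absurd ((h.bet_eq_one_iff a0 x).mp h1) hne
    · exact h1

open Classical in
theorem sum_qd : ∑ x : P, h.qd x =
    2 * ((Finset.univ.filter (fun x : P => x * x = 1)).card : ℤ) - (Fintype.card P : ℤ) := by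
  have hq : ∀ x : P, h.qd x = if x * x = 1 then 1 else -1 := by
    intro x
    unfold XS.qd
    split_ifs with hx
    · rw [hx, sg_one]
    · exact sg_of_ne hx
  rw [Finset.sum_congr rfl (fun x _ => hq x), Finset.sum_ite, Finset.sum_const, Finset.sum_const]
  have h1 := Finset.card_filter_add_card_filter_not (s := (Finset.univ : Finset P)) (fun x : P => x * x = 1)
  rw [Finset.card_univ] at h1
  have h2 : ((Finset.univ.filter (fun x : P => ¬ x * x = 1)).card : ℤ) =
      (Fintype.card P : ℤ) - ((Finset.univ.filter (fun x : P => x * x = 1)).card : ℤ) := by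
    rw [← h1]; push_cast; ring
  rw [nsmul_eq_mul, nsmul_eq_mul, h2]
  ring

open Classical in
/-- The two counting identities for a subgroup `E` of exponent two containing `z`. -/
theorem count_centralizer (E : Subgroup P) [Fintype E] (hzE : z ∈ E) (hE : ∀ a ∈ E, a * a = 1) :
    (Fintype.card E : ℤ) * ((Finset.univ.filter (fun x : P => ∀ a ∈ E, a * x = x * a)).card : ℤ) =
      2 * (Fintype.card P : ℤ) ∧
    (Fintype.card E : ℤ) * (2 * ((Finset.univ.filter (fun x : P => (∀ a ∈ E, a * x = x * a) ∧ x * x = 1)).card : ℤ)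
      - ((Finset.univ.filter (fun x : P => ∀ a ∈ E, a * x = x * a)).card : ℤ)) =
      (Fintype.card E : ℤ) * ∑ x : P, h.qd x := by
  constructor
  · -- first identity
    have h1 : ∑ x : P, ∑ a : E, h.bet (a : P) x =
        (Fintype.card E : ℤ) * ((Finset.univ.filter (fun x : P => ∀ a ∈ E, a * x = x * a)).card : ℤ) := by
      rw [Finset.sum_congr rfl (fun x _ => h.sum_bet_subgroup E x), Finset.sum_ite, Finset.sum_const_zero,
        add_zero, Finset.sum_const, nsmul_eq_mul, mul_comm]
    rw [← h1, Finset.sum_comm]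
    have h2 : ∀ a : E, ∑ x : P, h.bet (a : P) x =
        (if a = ⟨1, E.one_mem⟩ then (Fintype.card P : ℤ) else 0) + (if a = ⟨z, hzE⟩ then (Fintype.card P : ℤ) else 0) := by
      intro a
      rw [h.sum_bet]
      by_cases h1 : (a : P) = 1
      · have hz : ¬ (1 : P) = z := fun e => h.z_ne e.symm
        have e1 : a = ⟨1, E.one_mem⟩ := Subtype.ext h1
        have e2 : ¬ a = ⟨z, hzE⟩ := by
          intro e; apply hz; rw [← h1, e]
        rw [if_pos (Or.inl h1), if_pos e1, if_neg e2, add_zero]
      · by_cases hz : (a : P) = z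
        · have e1 : ¬ a = ⟨1, E.one_mem⟩ := fun e => h1 (by rw [e])
          have e2 : a = ⟨z, hzE⟩ := Subtype.ext hz
          rw [if_pos (Or.inr hz), if_neg e1, if_pos e2, zero_add]
        · have e1 : ¬ a = ⟨1, E.one_mem⟩ := fun e => h1 (by rw [e])
          have e2 : ¬ a = ⟨z, hzE⟩ := fun e => hz (by rw [e])
          rw [if_neg (by tauto), if_neg e1, if_neg e2, add_zero]
    rw [Finset.sum_congr rfl (fun a _ => h2 a), Finset.sum_add_distrib, Finset.sum_ite_eq',
      Finset.sum_ite_eq']
    simp
    ring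
  · -- second identity
    have h1 : ∑ x : P, (∑ a : E, h.bet (a : P) x) * h.qd x =
        (Fintype.card E : ℤ) * (2 * ((Finset.univ.filter (fun x : P => (∀ a ∈ E, a * x = x * a) ∧ x * x = 1)).card : ℤ)
      - ((Finset.univ.filter (fun x : P => ∀ a ∈ E, a * x = x * a)).card : ℤ)) := by
      have hq : ∀ x : P, h.qd x = if x * x = 1 then 1 else -1 := by
        intro x
        unfold XS.qd
        split_ifs with hx
        · rw [hx, sg_one]
        · exact sg_of_ne hx
      have h3 : ∀ x : P, (∑ a : E, h.bet (a : P) x) * h.qd x =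
          (if ((∀ a ∈ E, a * x = x * a) ∧ x * x = 1) then 2 * (Fintype.card E : ℤ) else 0) -
          (if (∀ a ∈ E, a * x = x * a) then (Fintype.card E : ℤ) else 0) := by
        intro x
        rw [h.sum_bet_subgroup E x, hq x]
        by_cases c1 : (∀ a ∈ E, a * x = x * a)
        · by_cases c2 : x * x = 1
          · rw [if_pos c1, if_pos c2, if_pos ⟨c1, c2⟩]; ring
          · rw [if_pos c1, if_neg c2,
              if_neg (show ¬ ((∀ a ∈ E, a * x = x * a) ∧ x * x = 1) from fun hh => c2 hh.2)]; ring
        · rw [if_neg c1,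
            if_neg (show ¬ ((∀ a ∈ E, a * x = x * a) ∧ x * x = 1) from fun hh => c1 hh.1)]; ring
      rw [Finset.sum_congr rfl (fun x _ => h3 x), Finset.sum_sub_distrib, Finset.sum_ite, Finset.sum_ite,
        Finset.sum_const_zero, Finset.sum_const_zero, add_zero, add_zero, Finset.sum_const, Finset.sum_const,
        nsmul_eq_mul, nsmul_eq_mul]
      ring
    rw [← h1]
    have h4 : ∀ x : P, (∑ a : E, h.bet (a : P) x) * h.qd x = ∑ a : E, h.qd (x * (a : P)) := by
      intro x
      rw [Finset.sum_mul]
      apply Finset.sum_congr rfl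
      intro a _
      rw [h.bet_mul_qd, h.qd_eq_one_of_sq (hE a a.2), mul_one]
    rw [Finset.sum_congr rfl (fun x _ => h4 x), Finset.sum_comm]
    have h5 : ∀ a : E, ∑ x : P, h.qd (x * (a : P)) = ∑ x : P, h.qd x := by
      intro a
      exact Equiv.sum_comp (Equiv.mulRight (a : P)) (fun y => h.qd y)
    rw [Finset.sum_congr rfl (fun a _ => h5 a), Finset.sum_const, Finset.card_univ, nsmul_eq_mul]

end XS

end Cfsg.Agent.Helper27.Mon

namespace Cfsg.Agent.Helper27.Mon

namespace XS

variable {P : Type*} [Group P] [Finite P] {z : P} (h : XS P z)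
include h

/-- An extraspecial group of order `2 ^ 25` with `2 ^ 24 + 2 ^ 12` solutions of `x * x = 1` has a
subgroup of exponent two and order `2 ^ 13`. -/
theorem exists_elem_abelian (hc : Nat.card P = 2 ^ 25)
    (hN : Nat.card {x : P // x * x = 1} = 16781312) :
    ∃ E : Subgroup P, (∀ a ∈ E, a * a = 1) ∧ Nat.card E = 2 ^ 13 := by
  classical
  have : Fintype P := Fintype.ofFinite P
  have hcF : Fintype.card P = 2 ^ 25 := by rw [← Nat.card_eq_fintype_card]; exact hc
  have hS : ∑ x : P, h.qd x = 8192 := by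
    rw [h.sum_qd, hcF]
    rw [Nat.card_eq_fintype_card, Fintype.card_subtype] at hN
    rw [hN]; norm_num
  -- a subgroup of exponent two containing z, of largest order
  let 𝓔 : Set (Subgroup P) := {E | z ∈ E ∧ ∀ a ∈ E, a * a = 1}
  have hne : 𝓔.Nonempty := by
    refine ⟨Subgroup.zpowers z, Subgroup.mem_zpowers z, ?_⟩
    intro a ha
    obtain ⟨k, rfl⟩ := Subgroup.mem_zpowers_iff.mp ha
    rw [← zpow_add, ← two_mul, zpow_mul, zpow_two, h.z_sq, one_zpow]
  obtain ⟨E, ⟨hzE, hE⟩, hmax⟩ := Set.exists_max_image 𝓔 (fun E => Nat.card E) (Set.toFinite _) hne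
  refine ⟨E, hE, ?_⟩
  have hmaxx : ∀ x : P, (∀ a ∈ E, a * x = x * a) → x * x = 1 → x ∈ E := by
    intro x hx hxx
    by_contra hxE
    have hmem : adjoin E x hxx hx ∈ 𝓔 := ⟨le_adjoin E x hxx hx hzE, sq_adjoin E hE x hxx hx⟩
    have h1 := hmax _ hmem
    have h2 : Nat.card E < Nat.card (adjoin E x hxx hx) := by
      show Nat.card (E : Set P) < Nat.card ((adjoin E x hxx hx : Subgroup P) : Set P)
      rw [Nat.card_coe_set_eq, Nat.card_coe_set_eq]
      apply Set.ncard_lt_ncard _ (Set.toFinite _)
      refine ⟨le_adjoin E x hxx hx, ?_⟩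
      intro hsub
      exact hxE (hsub (self_mem_adjoin E x hxx hx))
    exact absurd h1 (not_le.mpr h2)
  have : Fintype E := Fintype.ofFinite E
  obtain ⟨id1, id2⟩ := h.count_centralizer E hzE hE
  set c := (Finset.univ.filter (fun x : P => ∀ a ∈ E, a * x = x * a)).card with hcdef
  set n := (Finset.univ.filter (fun x : P => (∀ a ∈ E, a * x = x * a) ∧ x * x = 1)).card with hndef
  have hEpos : 0 < Fintype.card E := Fintype.card_pos
  have id2' : 2 * (n : ℤ) - (c : ℤ) = 8192 := by
    rw [hS] at id2
    have hne0 : (Fintype.card E : ℤ) ≠ 0 := by exact_mod_cast hEpos.ne'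
    exact mul_left_cancel₀ hne0 id2
  -- n ≤ |E|
  have hnE : n ≤ Fintype.card E := by
    rw [hndef, ← Fintype.card_coe]
    apply Fintype.card_le_of_injective (fun x => (⟨x.1, hmaxx x.1 (Finset.mem_filter.mp x.2).2.1 (Finset.mem_filter.mp x.2).2.2⟩ : E))
    intro x y hxy
    apply Subtype.ext
    have h3 : (x : P) = (y : P) := congrArg (fun e : E => (e : P)) hxy
    exact h3
  -- |E| is a power of two with |E|² ≤ 2^26
  have hab := h.card_abelian_le E (comm_of_sq E hE)
  rw [hc] at hab
  have hdvd : Nat.card E ∣ 2 ^ 25 := by rw [← hc]; exact Subgroup.card_subgroup_dvd_card E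
  obtain ⟨j, hj, hEj⟩ := (Nat.dvd_prime_pow Nat.prime_two).mp hdvd
  rw [Nat.card_eq_fintype_card] at hab hEj ⊢
  rw [hcF] at id1
  rw [hEj] at id1 hnE hab ⊢
  have hj13 : j ≤ 13 := by
    by_contra hcon
    have : 2 ^ 14 ≤ 2 ^ j := Nat.pow_le_pow_right (by norm_num) (by omega)
    have h2 : 2 ^ 14 * 2 ^ 14 ≤ 2 ^ j * 2 ^ j := Nat.mul_le_mul this this
    norm_num at h2 hab
    omega
  interval_cases j <;> first | rfl | (exfalso; push_cast at id1; omega)

end XS

end Cfsg.Agent.Helper27.Mon
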