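import Mathlib
import Cfsg.Agent.Lib.Helper27.MonE
import Cfsg.Agent.Lib.Helper27.MonF

set_option autoImplicit false
set_option linter.unusedSectionVars false
set_option linter.style.haveILetI false
open Cfsg
open scoped commutatorElement

/-! Groups of Monster type: the number of solutions of `x * x = 1` in `Q` (`card_sq_one_eq`) and an elementary abelian subgroup of order `2 ^ 13` (`exists_elementary`). -/

namespace Cfsg.Agent.Helper27.Mon

section S5408

variable {G : Type*} [Group G] [Finite G] {z : G} {Q : Subgroup (Subgroup.centralizer ({z} : Set G))}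
  [Q.Normal] {e : (Subgroup.centralizer ({z} : Set G)) ⧸ Q ≃* Spor.Co1}
  {ψ : leechLattice → Q ⧸ Subgroup.center Q}

theorem card_sq_one_eq (hS : Setting z Q) (hψ : IsLeechModTwoIso Q e ψ) (hcard : Nat.card Q = 2 ^ 25) :
    Nat.card {x : Q // x * x = 1} = 16781312 := by
  classical
  have : Fintype Q := Fintype.ofFinite Q
  obtain ⟨s32, s48, s64⟩ := sing_types hS hψ hcard
  have hdc := double_count hS hψ 2 0 2 (fun v hv => by rw [if_pos (s32 v hv)])
    (fun v hv => by rw [if_neg (s48 v hv)]) (fun v hv => by rw [if_pos (s64 v hv)])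
  rw [Nat.card_eq_fintype_card, Fintype.card_subtype]
  convert_to (Finset.univ.filter (fun x : Q => x * x = 1)).card = 16781312
  omega

/-- The core of the statement on elementary abelian subgroups of order `2 ^ 13`. -/
theorem exists_elementary (hS : Setting z Q) (hψ : IsLeechModTwoIso Q e ψ) (hcard : Nat.card Q = 2 ^ 25) :
    ∃ E : Subgroup Q, IsElementaryAbelian 2 E ∧ Nat.card E = 2 ^ 13 := by
  obtain ⟨E, hE, hEc⟩ := hS.xs.exists_elem_abelian hcard (card_sq_one_eq hS hψ hcard)
  refine ⟨E, ⟨⟨⟨fun a b => ?_⟩⟩, ?_⟩, hEc⟩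
  · apply Subtype.ext
    exact comm_of_sq E hE a a.2 b b.2
  · intro a ha
    rw [pow_two]
    exact hE a ha

end S5408

end Cfsg.Agent.Helper27.Mon
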