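import Mathlib
import Cfsg.Agent.Lib.Helper27.MonG
import Cfsg.Agent.Lib.Helper27.LeechOrder3
import Cfsg.Agent.Lib.Helper29.M24Simple

set_option autoImplicit false
set_option linter.unusedSectionVars false
set_option linter.style.haveILetI false
open Cfsg
open scoped commutatorElement

/-! The stabiliser of the standard cross in the automorphism group of the lattice: the permutation part as a surjective homomorphism onto the group of the code (`piHom`), with kernel the sign changes, of order `4096` and exponent two, and a section (`iotaHom`); the images `X0`, `T0`, `K0` in the first Conway group, with `T0` of order `2048`, normal, complemented by `K0` (isomorphic to the group of the code), and containing every normal 2-subgroup of `X0` (`normal_two_le`). -/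

namespace Cfsg.Agent.Helper27.Mon

open Cfsg.Agent.S1571 (Stab monoP monoP_mem monoP_apply monoP_presCross signedPerm_single smul_eq
  Psi Psi_injective Psi_surjective vec8_eq_single)

/-- The monomial elements of the stabiliser of the standard cross. -/
def monoC (σ : M24) (w : golayCode) : crossStab :=
  ⟨⟨monoP σ w, monoP_mem σ w⟩, monoP_mem_crossStab σ w⟩

theorem monoC_smul (σ : M24) (w : golayCode) (v : leechLattice) :
    ((((monoC σ w : crossStab) : Co0) • v : leechLattice) : GolayPt → ℤ) =
      signedPerm σ.1 (support₂ w.1) v := monoP_apply σ w v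

theorem monoC_surj (g : crossStab) : ∃ (σ : M24) (w : golayCode), g = monoC σ w := by
  obtain ⟨⟨σ, w⟩, h⟩ := Psi_surjective ⟨g.1, mem_crossStab.mp g.2⟩
  refine ⟨σ, w, ?_⟩
  apply Subtype.ext
  have := congrArg (fun x : Stab => (x.1 : Co0)) h
  exact this.symm

theorem monoC_inj {σ σ' : M24} {w w' : golayCode} (h : monoC σ w = monoC σ' w') :
    σ = σ' ∧ w = w' := by
  have h1 : Psi (σ, w) = Psi (σ', w') := by
    apply Subtype.ext
    exact congrArg (fun x : crossStab => (x : Co0)) h
  have := Psi_injective h1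
  exact ⟨congrArg Prod.fst this, congrArg Prod.snd this⟩

theorem single_inj {j j' : GolayPt} {a a' : ℤ} (ha : a ≠ 0)
    (h : (Pi.single j a : GolayPt → ℤ) = Pi.single j' a') : j = j' := by
  by_contra hne
  have := congrFun h j
  rw [Pi.single_eq_same, Pi.single_eq_of_ne hne] at this
  exact ha this

theorem monoC_mul_perm (σ σ' σ'' : M24) (w w' w'' : golayCode)
    (h : monoC σ w * monoC σ' w' = monoC σ'' w'') : σ'' = σ * σ' := by
  apply Subtype.ext
  apply Equiv.ext
  intro i
  have h1 := congrArg (fun g : crossStab => (((g : Co0) • e8 i : leechLattice) : GolayPt → ℤ)) h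
  simp only [Subgroup.coe_mul, mul_smul] at h1
  rw [monoC_smul, monoC_smul, monoC_smul] at h1
  have he : ((e8 i : leechLattice) : GolayPt → ℤ) = Pi.single i 8 := vec8_eq_single i
  rw [he, signedPerm_single, signedPerm_single, signedPerm_single] at h1
  have hne : (if (σ.1 (σ'.1 i)) ∈ support₂ w.1 then
      -(if σ'.1 i ∈ support₂ w'.1 then -(8 : ℤ) else 8) else
      (if σ'.1 i ∈ support₂ w'.1 then -(8 : ℤ) else 8)) ≠ 0 := by
    split_ifs <;> norm_num
  exact (single_inj hne h1).symm

/-- The permutation part of an element of the stabiliser of the standard cross. -/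
noncomputable def piFun (g : crossStab) : M24 := (monoC_surj g).choose

theorem piFun_spec (g : crossStab) : ∃ w : golayCode, g = monoC (piFun g) w :=
  (monoC_surj g).choose_spec

theorem piFun_monoC (σ : M24) (w : golayCode) : piFun (monoC σ w) = σ := by
  obtain ⟨w', hw'⟩ := piFun_spec (monoC σ w)
  exact (monoC_inj hw').1.symm

theorem piFun_mul (g g' : crossStab) : piFun (g * g') = piFun g * piFun g' := by
  obtain ⟨w, hw⟩ := piFun_spec g
  obtain ⟨w', hw'⟩ := piFun_spec g'
  obtain ⟨w'', hw''⟩ := piFun_spec (g * g')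
  have h : monoC (piFun g) w * monoC (piFun g') w' = monoC (piFun (g * g')) w'' := by
    rw [← hw, ← hw', ← hw'']
  exact monoC_mul_perm _ _ _ _ _ _ h

/-- The permutation part as a homomorphism. -/
noncomputable def piHom : crossStab →* M24 := MonoidHom.mk' piFun piFun_mul

theorem piHom_monoC (σ : M24) (w : golayCode) : piHom (monoC σ w) = σ := piFun_monoC σ w

theorem piHom_surjective : Function.Surjective piHom := fun σ => ⟨monoC σ 0, piHom_monoC σ 0⟩

theorem mem_ker_piHom (g : crossStab) : g ∈ piHom.ker ↔ ∃ w : golayCode, g = monoC 1 w := by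
  rw [MonoidHom.mem_ker]
  constructor
  · intro h
    obtain ⟨w, hw⟩ := piFun_spec g
    have : piFun g = 1 := h
    rw [this] at hw
    exact ⟨w, hw⟩
  · rintro ⟨w, rfl⟩
    exact piHom_monoC 1 w

theorem card_ker_piHom : Nat.card piHom.ker = 4096 := by
  have h1 := Subgroup.card_mul_index piHom.ker
  rw [Subgroup.index_ker, MonoidHom.range_eq_top.mpr piHom_surjective, card_crossStab] at h1
  have h2 : Nat.card (⊤ : Subgroup M24) = 244823040 := by
    rw [Nat.card_congr (Subgroup.topEquiv (G := M24)).toEquiv]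
    exact Cfsg.Agent.Helper29.M24.card_M24
  rw [h2] at h1
  exact Nat.eq_of_mul_eq_mul_right (by norm_num) h1

end Cfsg.Agent.Helper27.Mon

namespace Cfsg.Agent.Helper27.Mon

open Cfsg.Agent.S1571 (Stab monoP monoP_mem monoP_apply monoP_presCross signedPerm_single smul_eq
  Psi Psi_injective Psi_surjective vec8_eq_single)

theorem crossStab_ext {g g' : crossStab}
    (h : ∀ v : leechLattice, ((((g : Co0) • v : leechLattice)) : GolayPt → ℤ) =
      (((g' : Co0) • v : leechLattice) : GolayPt → ℤ)) : g = g' := by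
  apply Subtype.ext
  apply Subtype.ext
  apply Equiv.ext
  intro v
  apply Subtype.ext
  exact h v

theorem monoC_one_sq (w : golayCode) : monoC 1 w * monoC 1 w = 1 := by
  apply crossStab_ext
  intro v
  have h1 : (((1 : crossStab) : Co0) • v) = v := one_smul _ _
  rw [Subgroup.coe_mul, mul_smul, monoC_smul, monoC_smul, h1]
  funext i
  unfold signedPerm
  have e1 : ((1 : M24) : Equiv.Perm GolayPt).symm i = i := rfl
  rw [e1]
  split_ifs
  · rw [neg_neg, e1]
  · rw [e1]

theorem ker_sq (t : crossStab) (ht : t ∈ piHom.ker) : t * t = 1 := by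
  obtain ⟨w, rfl⟩ := (mem_ker_piHom t).mp ht
  exact monoC_one_sq w

/-- `-1` as an element of the stabiliser of the standard cross. -/
def negC : crossStab := monoC 1 ⟨1, one_mem_golayCode⟩

theorem negC_coe : (negC : Co0) = negG := by
  apply Subtype.ext
  apply Equiv.ext
  intro v
  apply Subtype.ext
  have h1 : ((((negC : crossStab) : Co0) • v : leechLattice) : GolayPt → ℤ) = -(v : GolayPt → ℤ) := by
    unfold negC
    rw [monoC_smul]
    funext i
    unfold signedPerm
    have : i ∈ support₂ (1 : GolayPt → ZMod 2) := by rw [mem_support₂]; simp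
    have e1 : ((1 : M24) : Equiv.Perm GolayPt).symm i = i := rfl
    rw [e1, if_pos this]
    rfl
  have h2 : ((negG • v : leechLattice) : GolayPt → ℤ) = -(v : GolayPt → ℤ) := by
    rw [negG_smul]; rfl
  exact h1.trans h2.symm

theorem negC_mem_ker : negC ∈ piHom.ker := (mem_ker_piHom negC).mpr ⟨_, rfl⟩

theorem negC_ne_one : negC ≠ 1 := by
  intro h
  have := congrArg (fun g : crossStab => (g : Co0)) h
  simp only [negC_coe, Subgroup.coe_one] at this
  exact negG_ne_one this

/-- The map of the stabiliser of the standard cross to the quotient by the centre. -/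
def muHom : crossStab →* Spor.Co1 :=
  (QuotientGroup.mk' (Subgroup.center Co0)).comp crossStab.subtype

theorem muHom_apply (n : crossStab) : muHom n = (QuotientGroup.mk (n : Co0) : Spor.Co1) := rfl

theorem mem_ker_muHom (n : crossStab) : n ∈ muHom.ker ↔ n = 1 ∨ n = negC := by
  rw [MonoidHom.mem_ker, muHom_apply, QuotientGroup.eq_one_iff]
  constructor
  · intro h
    rcases center_cases h with h1 | h1
    · left; exact Subtype.ext h1
    · right; apply Subtype.ext; rw [h1, negC_coe]
  · rintro (rfl | rfl)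
    · exact Subgroup.one_mem _
    · rw [negC_coe]; exact negG_mem_center

theorem ker_muHom_le : muHom.ker ≤ piHom.ker := by
  intro n hn
  rcases (mem_ker_muHom n).mp hn with rfl | rfl
  · exact Subgroup.one_mem _
  · exact negC_mem_ker

/-- The section of the permutation part. -/
noncomputable def iotaHom : M24 →* crossStab := MonoidHom.mk' (fun σ => monoC σ 0) (by
  intro σ τ
  apply crossStab_ext
  intro v
  rw [Subgroup.coe_mul, mul_smul, monoC_smul, monoC_smul, monoC_smul]
  funext i
  unfold signedPerm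
  have h0 : ∀ j, j ∉ support₂ ((0 : golayCode) : GolayPt → ZMod 2) := by
    intro j; rw [mem_support₂]; simp
  rw [if_neg (h0 _), if_neg (h0 _), if_neg (h0 _)]
  rfl)

theorem iotaHom_apply (σ : M24) : iotaHom σ = monoC σ 0 := rfl

theorem piHom_iotaHom (σ : M24) : piHom (iotaHom σ) = σ := piHom_monoC σ 0

theorem mul_iota_mem_ker (n : crossStab) : n * (iotaHom (piHom n))⁻¹ ∈ piHom.ker := by
  rw [MonoidHom.mem_ker, map_mul, map_inv, piHom_iotaHom, mul_inv_cancel]

end Cfsg.Agent.Helper27.Mon

namespace Cfsg.Agent.Helper27.Mon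

/-- The image of the stabiliser of the standard cross in the first Conway group. -/
def X0 : Subgroup Spor.Co1 := muHom.range

/-- The image of the sign changes. -/
noncomputable def T0 : Subgroup Spor.Co1 := piHom.ker.map muHom

/-- The image of the coordinate permutations. -/
noncomputable def K0 : Subgroup Spor.Co1 := (muHom.comp iotaHom).range

theorem T0_le : T0 ≤ X0 := by
  rintro _ ⟨t, -, rfl⟩
  exact ⟨t, rfl⟩

theorem K0_le : K0 ≤ X0 := by
  rintro _ ⟨σ, rfl⟩
  exact ⟨iotaHom σ, rfl⟩

theorem T0_sq : ∀ t ∈ T0, t * t = 1 := by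
  rintro _ ⟨t, ht, rfl⟩
  rw [← map_mul, ker_sq t ht, map_one]

theorem T0_normal : ∀ x ∈ X0, ∀ t ∈ T0, x * t * x⁻¹ ∈ T0 := by
  rintro _ ⟨n, rfl⟩ _ ⟨t, ht, rfl⟩
  refine ⟨n * t * n⁻¹, ?_, ?_⟩
  · exact (inferInstance : piHom.ker.Normal).conj_mem t ht n
  · rw [map_mul, map_mul, map_inv]

theorem card_T0 : Nat.card T0 = 2048 := by
  -- the restriction of `muHom` to the kernel of `piHom`
  set f : piHom.ker →* Spor.Co1 := muHom.comp piHom.ker.subtype with hf
  have hrange : f.range = T0 := by
    ext x
    constructor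
    · rintro ⟨t, rfl⟩; exact ⟨t.1, t.2, rfl⟩
    · rintro ⟨t, ht, rfl⟩; exact ⟨⟨t, ht⟩, rfl⟩
  have hker : Nat.card f.ker = 2 := by
    rw [Nat.card_eq_two_iff]
    refine ⟨⟨1, Subgroup.one_mem _⟩, ⟨⟨negC, negC_mem_ker⟩, ?_⟩, ?_, ?_⟩
    · rw [MonoidHom.mem_ker]
      show muHom negC = 1
      exact (mem_ker_muHom negC).mpr (Or.inr rfl)
    · intro h
      have := congrArg (fun x : f.ker => ((x : piHom.ker) : crossStab)) h
      exact negC_ne_one this.symm
    · ext x
      simp only [Set.mem_insert_iff, Set.mem_singleton_iff, Set.mem_univ, iff_true]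
      have hx : ((x : piHom.ker) : crossStab) ∈ muHom.ker := x.2
      rcases (mem_ker_muHom _).mp hx with h | h
      · left; apply Subtype.ext; apply Subtype.ext; exact h
      · right; apply Subtype.ext; apply Subtype.ext; exact h
  have h1 := Subgroup.card_mul_index f.ker
  rw [Subgroup.index_ker, hrange, hker, card_ker_piHom] at h1
  omega

theorem T0_inf_K0 : T0 ⊓ K0 = ⊥ := by
  rw [eq_bot_iff]
  rintro x ⟨⟨t, ht, rfl⟩, ⟨σ, hσ⟩⟩
  rw [Subgroup.mem_bot]
  change muHom (iotaHom σ) = muHom t at hσ
  have h1 : t⁻¹ * iotaHom σ ∈ muHom.ker := by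
    rw [MonoidHom.mem_ker, map_mul, map_inv, hσ, inv_mul_cancel]
  have h2 : t⁻¹ * iotaHom σ ∈ piHom.ker := ker_muHom_le h1
  have h3 : iotaHom σ ∈ piHom.ker := by
    have := Subgroup.mul_mem _ ht h2
    rwa [mul_inv_cancel_left] at this
  rw [MonoidHom.mem_ker, piHom_iotaHom] at h3
  rw [← hσ, h3, map_one, map_one]

theorem T0_sup_K0 : T0 ⊔ K0 = X0 := by
  apply le_antisymm (sup_le T0_le K0_le)
  rintro _ ⟨n, rfl⟩
  have h1 : n = (n * (iotaHom (piHom n))⁻¹) * iotaHom (piHom n) := by group
  rw [h1, map_mul]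
  apply Subgroup.mul_mem
  · exact (le_sup_left : T0 ≤ T0 ⊔ K0) ⟨_, mul_iota_mem_ker n, rfl⟩
  · exact (le_sup_right : K0 ≤ T0 ⊔ K0) ⟨piHom n, rfl⟩

theorem K0_equiv : Nonempty (K0 ≃* M24) := by
  have hinj : Function.Injective (muHom.comp iotaHom) := by
    rw [injective_iff_map_eq_one]
    intro σ hσ
    have h1 : iotaHom σ ∈ muHom.ker := hσ
    have h2 := ker_muHom_le h1
    rw [MonoidHom.mem_ker, piHom_iotaHom] at h2
    exact h2
  exact ⟨(MonoidHom.ofInjective hinj).symm⟩

/-- A normal 2-subgroup of the image of the stabiliser of the standard cross lies in the image of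
the sign changes. -/
theorem normal_two_le (D : Subgroup Spor.Co1) (hD : D ≤ X0)
    (hn : ∀ x ∈ X0, ∀ d ∈ D, x * d * x⁻¹ ∈ D) (hp : IsPGroup 2 D) : D ≤ T0 := by
  have hfin := finite_co0
  have hp2 : Fact (Nat.Prime 2) := ⟨Nat.prime_two⟩
  set D1 : Subgroup crossStab := D.comap muHom with hD1
  have hD1n : D1.Normal := by
    constructor
    intro d hd n
    show muHom (n * d * n⁻¹) ∈ D
    rw [map_mul, map_mul, map_inv]
    exact hn _ ⟨n, rfl⟩ _ hd
  have hD1p : IsPGroup 2 D1 := by
    intro d
    obtain ⟨k, hk⟩ := hp ⟨muHom d.1, d.2⟩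
    have hk' : muHom (d.1 ^ 2 ^ k) = 1 := by
      rw [map_pow]
      have := congrArg Subtype.val hk
      simpa using this
    have h1 : d.1 ^ 2 ^ k ∈ piHom.ker := ker_muHom_le hk'
    refine ⟨k + 1, ?_⟩
    apply Subtype.ext
    rw [pow_succ, pow_mul, pow_two]
    show (d.1 ^ 2 ^ k) * (d.1 ^ 2 ^ k) = 1
    exact ker_sq _ h1
  have hmap_n : (D1.map piHom).Normal := Subgroup.Normal.map hD1n _ piHom_surjective
  have hmap_p : IsPGroup 2 (D1.map piHom) := hD1p.map _
  have hsimple := Cfsg.Agent.Helper29.M24.M24_simple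
  rcases hsimple.eq_bot_or_eq_top_of_normal _ hmap_n with h1 | h1
  · rintro d hd
    obtain ⟨n, rfl⟩ := hD hd
    refine ⟨n, ?_, rfl⟩
    have : piHom n ∈ D1.map piHom := ⟨n, hd, rfl⟩
    rw [h1, Subgroup.mem_bot] at this
    exact this
  · exfalso
    have hp' : IsPGroup 2 M24 := by
      rw [h1] at hmap_p
      exact hmap_p.of_equiv Subgroup.topEquiv
    haveI : Finite M24 := Nat.finite_of_card_ne_zero (by rw [Cfsg.Agent.Helper29.M24.card_M24]; norm_num)
    obtain ⟨k, hk⟩ := IsPGroup.iff_card.mp hp'
    rw [Cfsg.Agent.Helper29.M24.card_M24] at hk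
    have h3 : 3 ∣ 2 ^ k := by rw [← hk]; norm_num
    have := Nat.Prime.dvd_of_dvd_pow Nat.prime_three h3
    omega

end Cfsg.Agent.Helper27.Mon
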