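import Mathlib
import Cfsg.Agent.Lib.Helper27.MonH

set_option autoImplicit false
set_option linter.unusedSectionVars false
set_option linter.style.haveILetI false
open Cfsg
open scoped commutatorElement

/-! Groups of Monster type: twisting a module isomorphism by a lattice automorphism (`twist_iso`, `exists_iso_v0`), the image in the Conway group of the centralizer of a conjugate `s` of `z` in `Q` (`phiH_range64`), the conjugation map `thetaH`, and the main count `core64`. -/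

namespace Cfsg.Agent.Helper27.Mon

section Twist

variable {G : Type*} [Group G] {z : G} {Q : Subgroup (Subgroup.centralizer ({z} : Set G))}
  [Q.Normal] {e : (Subgroup.centralizer ({z} : Set G)) ⧸ Q ≃* Spor.Co1}
  {ψ : leechLattice → Q ⧸ Subgroup.center Q}

/-- Twisting a module isomorphism by a lattice automorphism. -/
theorem twist_iso (hψ : IsLeechModTwoIso Q e ψ) (g0 : Co0) :
    IsLeechModTwoIso Q (e.trans (MulAut.conj ((QuotientGroup.mk g0 : Spor.Co1))⁻¹))
      (fun v => ψ (g0 • v)) := by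
  refine ⟨?_, ?_, ?_, ?_⟩
  · intro v w
    show ψ (g0 • (v + w)) = ψ (g0 • v) * ψ (g0 • w)
    rw [smul_add', hψ.1]
  · intro c
    obtain ⟨u, hu⟩ := hψ.2.1 c
    refine ⟨g0⁻¹ • u, ?_⟩
    show ψ (g0 • g0⁻¹ • u) = c
    rw [smul_inv_smul, hu]
  · intro v
    show ψ (g0 • v) = 1 ↔ _
    rw [hψ.2.2.1]
    constructor
    · rintro ⟨w, hw⟩
      refine ⟨g0⁻¹ • w, ?_⟩
      rw [← smul_add', ← hw, inv_smul_smul]
    · rintro ⟨w, hw⟩
      refine ⟨g0 • w, ?_⟩
      rw [hw, smul_add']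
  · intro h g' hg' v q hq
    show ψ (g0 • g' • v) = _
    have h1 : (QuotientGroup.mk (g0 * g' * g0⁻¹) : Spor.Co1) = e (QuotientGroup.mk h) := by
      have h2 : (QuotientGroup.mk g' : Spor.Co1) =
          (QuotientGroup.mk g0 : Spor.Co1)⁻¹ * e (QuotientGroup.mk h) * ((QuotientGroup.mk g0 : Spor.Co1)⁻¹)⁻¹ := hg'
      have h3 : (QuotientGroup.mk (g0 * g' * g0⁻¹) : Spor.Co1) =
          (QuotientGroup.mk g0 : Spor.Co1) * QuotientGroup.mk g' * (QuotientGroup.mk g0 : Spor.Co1)⁻¹ := rfl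
      rw [h3, h2]; group
    have h4 := hψ.2.2.2 h (g0 * g' * g0⁻¹) h1 (g0 • v) q hq
    rw [← h4, mul_smul, mul_smul, inv_smul_smul]

/-- After twisting, a given element of type `64` is represented by the standard vector. -/
theorem exists_iso_v0 (hψ : IsLeechModTwoIso Q e ψ) (x : Q)
    (hx : ∃ v : leechLattice, sqNorm (v : GolayPt → ℤ) = 64 ∧ ψ v = QuotientGroup.mk x) :
    ∃ (e' : (Subgroup.centralizer ({z} : Set G)) ⧸ Q ≃* Spor.Co1)
      (ψ' : leechLattice → Q ⧸ Subgroup.center Q),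
      IsLeechModTwoIso Q e' ψ' ∧ ψ' v0 = QuotientGroup.mk x := by
  obtain ⟨v, hvn, hv⟩ := hx
  have hmem : v ∈ MulAction.orbit Co0 v0 := by rw [orbit_co0]; exact hvn
  obtain ⟨g0, hg0⟩ := MulAction.mem_orbit_iff.mp hmem
  refine ⟨_, _, twist_iso hψ g0, ?_⟩
  show ψ (g0 • v0) = _
  rw [hg0, hv]

end Twist

end Cfsg.Agent.Helper27.Mon

namespace Cfsg.Agent.Helper27.Mon

theorem cong_smul (g0 : Co0) {u w : leechLattice}
    (h : Cong (u : GolayPt → ℤ) (w : GolayPt → ℤ)) :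
    Cong ((g0 • u : leechLattice) : GolayPt → ℤ) ((g0 • w : leechLattice) : GolayPt → ℤ) := by
  obtain ⟨x, hx, hxy⟩ := h
  have h1 : u = w + ((⟨x, hx⟩ : leechLattice) + ⟨x, hx⟩) := by
    apply Subtype.ext
    show (u : GolayPt → ℤ) = (w : GolayPt → ℤ) + (x + x)
    rw [two_smul] at hxy
    rw [← hxy]; abel
  refine ⟨((g0 • (⟨x, hx⟩ : leechLattice) : leechLattice) : GolayPt → ℤ), (g0 • (⟨x, hx⟩ : leechLattice)).2, ?_⟩
  rw [h1, smul_add', smul_add', two_smul]
  simp only [AddSubgroup.coe_add]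
  abel

theorem mem_S0_iff (v : leechLattice) :
    v ∈ S0 ↔ sqNorm (v : GolayPt → ℤ) = 64 ∧ Cong v0raw (v : GolayPt → ℤ) := by
  show (v : GolayPt → ℤ) ∈ stdCross ↔ _
  rw [← cross_v0]
  constructor
  · rintro ⟨-, h2, h3⟩
    exact ⟨by rw [h2, v0raw_norm], h3⟩
  · rintro ⟨h2, h3⟩
    exact ⟨v.2, by rw [h2, v0raw_norm], h3⟩

theorem mem_crossStab_iff_cong (g0 : Co0) :
    g0 ∈ crossStab ↔ Cong ((g0 • v0 : leechLattice) : GolayPt → ℤ) v0raw := by
  constructor
  · intro h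
    have := (mem_crossStab.mp h) v0 v0_mem_S0
    exact ((mem_S0_iff _).mp this).2.symm
  · intro h
    rw [mem_crossStab]
    intro u hu
    rw [mem_S0_iff] at hu ⊢
    refine ⟨by rw [smul_norm]; exact hu.1, ?_⟩
    have h1 : Cong ((g0 • v0 : leechLattice) : GolayPt → ℤ) ((g0 • u : leechLattice) : GolayPt → ℤ) :=
      cong_smul g0 (u := v0) (w := u) hu.2
    exact h.symm.trans h1

section E64

variable {G : Type*} [Group G] {z : G} {Q : Subgroup (Subgroup.centralizer ({z} : Set G))}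
  [Q.Normal] {e : (Subgroup.centralizer ({z} : Set G)) ⧸ Q ≃* Spor.Co1}
  {ψ : leechLattice → Q ⧸ Subgroup.center Q}

local notation "CC" => Subgroup.centralizer (singleton z : Set G)

/-- The centralizer in `C(z)` of an element of `Q`. -/
abbrev HH (sQ : Q) : Subgroup CC := Subgroup.centralizer ({(sQ : CC)} : Set CC)

theorem mem_HH (sQ : Q) (h : CC) : h ∈ HH sQ ↔ h * (sQ : CC) = (sQ : CC) * h := by
  unfold HH
  rw [Subgroup.mem_centralizer_iff]
  constructor
  · intro hh; exact (hh _ rfl).symm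
  · intro hh x hx
    rw [Set.mem_singleton_iff] at hx
    rw [hx]; exact hh.symm

theorem mem_HH_of_conjQ {sQ : Q} {h : CC} (hc : conjQ h sQ = sQ) : h ∈ HH sQ := by
  rw [mem_HH]
  have := congrArg (fun x : Q => (x : CC)) hc
  simp only [conjQ_coe] at this
  calc h * (sQ : CC) = (h * sQ * h⁻¹) * h := by group
    _ = sQ * h := by rw [this]

theorem conjQ_of_mem_HH {sQ : Q} {h : CC} (hh : h ∈ HH sQ) : conjQ h sQ = sQ := by
  rw [mem_HH] at hh
  apply Subtype.ext
  rw [conjQ_coe, hh]; group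

/-- The restriction of the map to the Conway group. -/
def phiH (e : CC ⧸ Q ≃* Spor.Co1) (sQ : Q) : HH sQ →* Spor.Co1 := (phi e).comp (HH sQ).subtype

theorem phiH_apply (sQ : Q) (h : HH sQ) : phiH e sQ h = e (QuotientGroup.mk (h : CC)) := rfl

/-- The image of the centralizer of an element of type `64` represented by the standard vector. -/
theorem phiH_range64 (hS : Setting z Q) (hψ : IsLeechModTwoIso Q e ψ) (sQ : Q)
    (ht : ψ v0 = QuotientGroup.mk sQ) : (phiH e sQ).range = X0 := by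
  have hnc : ¬ (sQ = 1 ∨ sQ = hS.zQ) := by
    intro hc
    have : ψ v0 = 1 := by rw [ht]; exact (hS.mk_eq_one_iff sQ).mpr hc
    have hn : sqNorm ((v0 : leechLattice) : GolayPt → ℤ) = 64 := v0raw_norm
    exact psi_ne_one hψ (by rw [hn]; norm_num) (by rw [hn]) this
  apply le_antisymm
  · rintro _ ⟨h, rfl⟩
    rw [phiH_apply]
    obtain ⟨g0, hg0⟩ := QuotientGroup.mk_surjective (e (QuotientGroup.mk (h : CC)))
    rw [← hg0]
    have h1 := hψ.2.2.2 (h : CC) g0 hg0 v0 sQ ht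
    have h2 : (⟨(h : CC) * sQ * (h : CC)⁻¹, (inferInstance : Q.Normal).conj_mem (sQ : CC) sQ.2 (h : CC)⟩ : Q) = sQ :=
      conjQ_of_mem_HH h.2
    rw [h2, ← ht] at h1
    have h3 := cong_of_psi_eq hψ h1
    exact ⟨⟨g0, (mem_crossStab_iff_cong g0).mpr h3⟩, rfl⟩
  · rintro _ ⟨n, rfl⟩
    rw [muHom_apply]
    have h1 : ψ ((n : Co0) • v0) = QuotientGroup.mk sQ := by
      rw [← ht]
      exact psi_cong hψ ((mem_crossStab_iff_cong (n : Co0)).mp n.2)
    obtain ⟨h, hh, hc⟩ := lift_conj hS hψ (n : Co0) ht h1 hnc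
    exact ⟨⟨h, mem_HH_of_conjQ hc⟩, hh.symm⟩

end E64

end Cfsg.Agent.Helper27.Mon

namespace Cfsg.Agent.Helper27.Mon

section E64b

variable {G : Type*} [Group G] {z : G} {Q : Subgroup (Subgroup.centralizer ({z} : Set G))}
  [Q.Normal] {e : (Subgroup.centralizer ({z} : Set G)) ⧸ Q ≃* Spor.Co1}
  {ψ : leechLattice → Q ⧸ Subgroup.center Q}

local notation "CC" => Subgroup.centralizer (singleton z : Set G)

/-- Conjugation by `g⁻¹` followed by the projection modulo `Q`. -/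
def thetaH (g : G) (sQ : Q) (htg : ((sQ : CC) : G) = g * z * g⁻¹) : HH sQ →* CC ⧸ Q :=
  (QuotientGroup.mk' Q).comp (kappa g (sQ : CC) htg)

theorem mem_ker_thetaH (g : G) (sQ : Q) (htg : ((sQ : CC) : G) = g * z * g⁻¹) (a : HH sQ) :
    a ∈ (thetaH g sQ htg).ker ↔ kappa g (sQ : CC) htg a ∈ Q := by
  rw [MonoidHom.mem_ker]
  show (QuotientGroup.mk (kappa g (sQ : CC) htg a) : CC ⧸ Q) = 1 ↔ _
  rw [QuotientGroup.eq_one_iff]

theorem isPGroup_ker_thetaH [Finite G] (hcard : Nat.card Q = 2 ^ 25) (g : G) (sQ : Q)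
    (htg : ((sQ : CC) : G) = g * z * g⁻¹) : IsPGroup 2 (thetaH g sQ htg).ker := by
  have hp2 : Fact (Nat.Prime 2) := ⟨Nat.prime_two⟩
  have hQp : IsPGroup 2 Q := IsPGroup.of_card hcard
  let f : (thetaH g sQ htg).ker →* Q :=
    MonoidHom.codRestrict ((kappa g (sQ : CC) htg).comp (thetaH g sQ htg).ker.subtype) Q
      (fun a => (mem_ker_thetaH g sQ htg a.1).mp a.2)
  apply hQp.of_injective f
  intro a b hab
  have h1 := congrArg (fun x : Q => (x : CC)) hab
  apply Subtype.ext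
  exact kappa_injective g (sQ : CC) htg h1

/-- The embedding of the centralizer in `Q` of `g⁻¹ z g` into the kernel. -/
theorem dvd_card_ker_thetaH [Finite G] (hS : Setting z Q) (hcard : Nat.card Q = 2 ^ 25) (g : G) (sQ : Q)
    (htg : ((sQ : CC) : G) = g * z * g⁻¹) (z'Q : Q) (hz' : ((z'Q : CC) : G) = g⁻¹ * z * g) :
    2 ^ 24 ∣ Nat.card (thetaH g sQ htg).ker := by
  set cQ := Subgroup.centralizer ({z'Q} : Set Q) with hcQ
  -- conjugation by g, into C(z)
  have hcomm : ∀ q : cQ, (((q : Q) : CC) : G) * (g⁻¹ * z * g) = (g⁻¹ * z * g) * (((q : Q) : CC) : G) := by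
    intro q
    have h1 : z'Q * (q : Q) = (q : Q) * z'Q := Subgroup.mem_centralizer_iff.mp q.2 z'Q rfl
    have h2 := congrArg (fun x : Q => ((x : CC) : G)) h1
    simp only [Subgroup.coe_mul] at h2
    rw [hz'] at h2
    exact h2.symm
  have hqz : ∀ q : cQ, (((q : Q) : CC) : G) * z = z * (((q : Q) : CC) : G) := by
    intro q
    have := Subgroup.mem_centralizer_iff.mp ((q : Q) : CC).2 z rfl
    exact this.symm
  have hm0 : ∀ q : cQ, g * (((q : Q) : CC) : G) * g⁻¹ ∈ Subgroup.centralizer ({z} : Set G) := by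
    intro q
    rw [Subgroup.mem_centralizer_iff]
    intro x hx
    rw [Set.mem_singleton_iff] at hx
    rw [hx]
    calc z * (g * (((q : Q) : CC) : G) * g⁻¹) = g * ((g⁻¹ * z * g) * (((q : Q) : CC) : G)) * g⁻¹ := by group
      _ = g * ((((q : Q) : CC) : G) * (g⁻¹ * z * g)) * g⁻¹ := by rw [hcomm q]
      _ = g * (((q : Q) : CC) : G) * g⁻¹ * z := by group
  let f0 : cQ →* CC := MonoidHom.mk' (fun q => ⟨g * (((q : Q) : CC) : G) * g⁻¹, hm0 q⟩) (by
    intro a b
    apply Subtype.ext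
    show g * ((((a * b : cQ) : Q) : CC) : G) * g⁻¹ = (g * (((a : Q) : CC) : G) * g⁻¹) * (g * (((b : Q) : CC) : G) * g⁻¹)
    simp only [Subgroup.coe_mul]
    group)
  have hm1 : ∀ q : cQ, f0 q ∈ HH sQ := by
    intro q
    rw [mem_HH]
    apply Subtype.ext
    show g * (((q : Q) : CC) : G) * g⁻¹ * ((sQ : CC) : G) = ((sQ : CC) : G) * (g * (((q : Q) : CC) : G) * g⁻¹)
    rw [htg]
    calc g * (((q : Q) : CC) : G) * g⁻¹ * (g * z * g⁻¹) = g * ((((q : Q) : CC) : G) * z) * g⁻¹ := by group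
      _ = g * (z * (((q : Q) : CC) : G)) * g⁻¹ := by rw [hqz q]
      _ = g * z * g⁻¹ * (g * (((q : Q) : CC) : G) * g⁻¹) := by group
  let f1 : cQ →* HH sQ := MonoidHom.codRestrict f0 (HH sQ) hm1
  have hm2 : ∀ q : cQ, f1 q ∈ (thetaH g sQ htg).ker := by
    intro q
    rw [mem_ker_thetaH]
    have : kappa g (sQ : CC) htg (f1 q) = ((q : Q) : CC) := by
      apply Subtype.ext
      rw [kappa_coe]
      show g⁻¹ * (g * (((q : Q) : CC) : G) * g⁻¹) * g = _
      group
    rw [this]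
    exact (q : Q).2
  let f2 : cQ →* (thetaH g sQ htg).ker := MonoidHom.codRestrict f1 _ hm2
  have hinj : Function.Injective f2 := by
    intro a b hab
    have h1 := congrArg (fun x : (thetaH g sQ htg).ker => (((x : HH sQ) : CC) : G)) hab
    have h2 : g * (((a : Q) : CC) : G) * g⁻¹ = g * (((b : Q) : CC) : G) * g⁻¹ := h1
    apply Subtype.ext
    apply Subtype.ext
    apply Subtype.ext
    have h3 := mul_right_cancel h2
    exact mul_left_cancel h3
  have hdvd := Subgroup.card_dvd_of_injective f2 hinj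
  refine dvd_trans ?_ hdvd
  have hcc : Nat.card cQ = Nat.card Q ∨ 2 * Nat.card cQ = Nat.card Q := hS.xs.card_centralizer z'Q
  rcases hcc with h1 | h1
  · rw [h1, hcard]; exact pow_dvd_pow 2 (by norm_num)
  · rw [hcard] at h1
    have : Nat.card cQ = 2 ^ 24 := by omega
    rw [this]

end E64b

end Cfsg.Agent.Helper27.Mon

namespace Cfsg.Agent.Helper27.Mon

section E64c

variable {G : Type*} [Group G] {z : G} {Q : Subgroup (Subgroup.centralizer ({z} : Set G))}
  [Q.Normal] {e : (Subgroup.centralizer ({z} : Set G)) ⧸ Q ≃* Spor.Co1}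
  {ψ : leechLattice → Q ⧸ Subgroup.center Q}

local notation "CC" => Subgroup.centralizer (singleton z : Set G)

theorem phiH_eq_one_iff (sQ : Q) (h : HH sQ) : phiH e sQ h = 1 ↔ (h : CC) ∈ Q :=
  phi_eq_one_iff (h : CC)

/-- The main count for an element of type `64` represented by the standard vector. -/
theorem core64 [Finite G] (hS : Setting z Q) (hψ : IsLeechModTwoIso Q e ψ)
    (hcard : Nat.card Q = 2 ^ 25) (g : G) (sQ : Q) (htg : ((sQ : CC) : G) = g * z * g⁻¹)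
    (htz : ((sQ : CC) : G) ≠ z) (ht : ψ v0 = QuotientGroup.mk sQ)
    (z'Q : Q) (hz' : ((z'Q : CC) : G) = g⁻¹ * z * g) :
    Nat.card ((phiH e sQ).comp (thetaH g sQ htg).ker.subtype).ker = 2 ^ 13 ∧
      (thetaH g sQ htg).ker.map (phiH e sQ) = T0 := by
  have hp2 : Fact (Nat.Prime 2) := ⟨Nat.prime_two⟩
  have hfin1 := finite_co1
  have hz1 : z ≠ 1 := z_ne_one hS
  set θ := thetaH g sQ htg with hθ
  set φH := phiH e sQ with hφH
  have hrange : φH.range = X0 := phiH_range64 hS hψ sQ ht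
  have hθp : IsPGroup 2 θ.ker := isPGroup_ker_thetaH hcard g sQ htg
  have h24 : 2 ^ 24 ∣ Nat.card θ.ker := dvd_card_ker_thetaH hS hcard g sQ htg z'Q hz'
  -- the image of the kernel
  have hE1 : θ.ker.map φH ≤ X0 := by
    rw [← hrange]
    rintro _ ⟨a, -, rfl⟩
    exact ⟨a, rfl⟩
  have hE2 : ∀ x ∈ X0, ∀ d ∈ θ.ker.map φH, x * d * x⁻¹ ∈ θ.ker.map φH := by
    intro x hx d hd
    rw [← hrange] at hx
    obtain ⟨h, rfl⟩ := hx
    obtain ⟨a, ha, rfl⟩ := hd
    refine ⟨h * a * h⁻¹, (inferInstance : θ.ker.Normal).conj_mem a ha h, ?_⟩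
    rw [map_mul, map_mul, map_inv]
  have hE3 : IsPGroup 2 (θ.ker.map φH) := hθp.map _
  have hET : θ.ker.map φH ≤ T0 := normal_two_le _ hE1 hE2 hE3
  -- restriction of φH to the kernel of θ
  set ρ : θ.ker →* Spor.Co1 := φH.comp θ.ker.subtype with hρ
  have hρrange : ρ.range = θ.ker.map φH := by
    ext x
    constructor
    · rintro ⟨a, rfl⟩; exact ⟨a.1, a.2, rfl⟩
    · rintro ⟨a, ha, rfl⟩; exact ⟨⟨a, ha⟩, rfl⟩
  have hmul : Nat.card ρ.ker * Nat.card (θ.ker.map φH) = Nat.card θ.ker := by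
    rw [← hρrange, ← Subgroup.index_ker]; exact Subgroup.card_mul_index _
  -- the kernel of ρ embeds in Q with abelian image
  have hmemQ : ∀ a : ρ.ker, (((a : θ.ker) : HH sQ) : CC) ∈ Q := by
    intro a
    have : φH ((a : θ.ker) : HH sQ) = 1 := a.2
    exact (phiH_eq_one_iff sQ _).mp this
  have hmemκ : ∀ a : ρ.ker, kappa g (sQ : CC) htg ((a : θ.ker) : HH sQ) ∈ Q := by
    intro a
    exact (mem_ker_thetaH g sQ htg _).mp (a : θ.ker).2
  let ι : ρ.ker →* Q := MonoidHom.codRestrict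
    ((HH sQ).subtype.comp (θ.ker.subtype.comp ρ.ker.subtype)) Q hmemQ
  have hιinj : Function.Injective ι := by
    intro a b hab
    have h1 := congrArg (fun x : Q => (x : CC)) hab
    apply Subtype.ext
    apply Subtype.ext
    apply Subtype.ext
    exact h1
  have hab : ∀ x ∈ ι.range, ∀ y ∈ ι.range, x * y = y * x := by
    rintro _ ⟨a, rfl⟩ _ ⟨b, rfl⟩
    apply Subtype.ext
    apply Subtype.ext
    show ((((a : θ.ker) : HH sQ) : CC) : G) * ((((b : θ.ker) : HH sQ) : CC) : G) =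
      ((((b : θ.ker) : HH sQ) : CC) : G) * ((((a : θ.ker) : HH sQ) : CC) : G)
    set a' := ((((a : θ.ker) : HH sQ) : CC) : G) with ha'
    set b' := ((((b : θ.ker) : HH sQ) : CC) : G) with hb'
    have c1 := coe_comm_cases hS ⟨_, hmemQ a⟩ ⟨_, hmemQ b⟩
    have c2 := coe_comm_cases hS ⟨_, hmemκ a⟩ ⟨_, hmemκ b⟩
    change (a' * b' * a'⁻¹ * b'⁻¹ = 1) ∨ (a' * b' * a'⁻¹ * b'⁻¹ = z) at c1
    change ((g⁻¹ * a' * g) * (g⁻¹ * b' * g) * (g⁻¹ * a' * g)⁻¹ * (g⁻¹ * b' * g)⁻¹ = 1) ∨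
      ((g⁻¹ * a' * g) * (g⁻¹ * b' * g) * (g⁻¹ * a' * g)⁻¹ * (g⁻¹ * b' * g)⁻¹ = z) at c2
    have e2 : (g⁻¹ * a' * g) * (g⁻¹ * b' * g) * (g⁻¹ * a' * g)⁻¹ * (g⁻¹ * b' * g)⁻¹ =
        g⁻¹ * (a' * b' * a'⁻¹ * b'⁻¹) * g := by group
    rw [e2] at c2
    rcases c1 with c1 | c1
    · calc a' * b' = (a' * b' * a'⁻¹ * b'⁻¹) * (b' * a') := by group
        _ = b' * a' := by rw [c1, one_mul]
    · exfalso
      rw [c1] at c2
      rcases c2 with c2 | c2
      · apply hz1
        calc z = g * (g⁻¹ * z * g) * g⁻¹ := by group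
          _ = 1 := by rw [c2]; group
      · apply htz
        rw [htg]
        calc g * z * g⁻¹ = g * (g⁻¹ * z * g) * g⁻¹ := by rw [c2]
          _ = z := by group
  have hbound := hS.xs.card_abelian_le ι.range hab
  have hcardB : Nat.card ι.range = Nat.card ρ.ker :=
    (Nat.card_congr (MonoidHom.ofInjective hιinj).toEquiv).symm
  rw [hcardB, hcard] at hbound
  -- orders
  have hT : Nat.card (θ.ker.map φH) ∣ 2048 := by
    rw [← card_T0]; exact Subgroup.card_dvd_of_le hET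
  have hB : Nat.card ρ.ker ∣ 2 ^ 25 := by
    rw [← hcard]; exact Subgroup.card_dvd_of_injective ι hιinj
  obtain ⟨j, hj, hBj⟩ := (Nat.dvd_prime_pow Nat.prime_two).mp hB
  obtain ⟨k, hk, hTk⟩ := (Nat.dvd_prime_pow Nat.prime_two).mp (show Nat.card (θ.ker.map φH) ∣ 2 ^ 11 from hT)
  rw [hBj] at hbound hmul ⊢
  rw [hTk] at hmul
  have hj13 : j ≤ 13 := by
    by_contra hcon
    have : 2 ^ 14 ≤ 2 ^ j := Nat.pow_le_pow_right (by norm_num) (by omega)
    have h2 : 2 ^ 14 * 2 ^ 14 ≤ 2 ^ j * 2 ^ j := Nat.mul_le_mul this this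
    norm_num at h2 hbound
    omega
  rw [← hmul, ← pow_add] at h24
  have hjk : 24 ≤ j + k := (Nat.pow_dvd_pow_iff_le_right (by norm_num)).mp h24
  have hj' : j = 13 := by omega
  have hk' : k = 11 := by omega
  refine ⟨by rw [hj'], ?_⟩
  have hfinT : Finite T0 := Nat.finite_of_card_ne_zero (by rw [card_T0]; norm_num)
  apply Subgroup.eq_of_le_of_card_ge hET
  rw [card_T0, hTk, hk']
  norm_num

end E64c

end Cfsg.Agent.Helper27.Mon
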