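import Mathlib
import Cfsg.Prelude.Def_Blocks
import Cfsg.Agent.Lib.Helper24.CharLinear
import Cfsg.Agent.Lib.Helper24.CharComplete
import Cfsg.Agent.Lib.Helper17.M11Defs
import Cfsg.Agent.Lib.Helper5.BRP0
import Cfsg.Agent.Lib.Helper12.ITOPDVD

/-!
# Simple groups of order 7920, piece S7 (helper27): case (II) is impossible

Also the uniform form of helper5's `brauer_interface` for `p = 5`, `w = 4` (one exceptional character),
used again in piece S8.
-/

set_option autoImplicit false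
set_option linter.unusedSectionVars false
set_option linter.unusedVariables false

namespace Cfsg.Agent.Helper17.M11

open scoped ComplexConjugate
open Cfsg Cfsg.Agent.Helper24

universe u

variable {G : Type u} [Group G] [Fintype G]

namespace S7

/-- `brauer_interface` for `p = 5`, `w = 4`: the five characters of degree prime to `5`, with one sign each. -/
theorem five_interface (Q : Sylow 5 G) (hQ : Nat.card (Q : Subgroup G) = 5)
    (hCQ : Subgroup.centralizer ((Q : Subgroup G) : Set G) = (Q : Subgroup G))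
    (hwQ : (Subgroup.centralizer ((Q : Subgroup G) : Set G)).relIndex
      (Subgroup.normalizer ((Q : Subgroup G) : Set G)) = 4) :
    ∃ (Z : Finset (IrrCharacter G)) (σ : IrrCharacter G → ℤ), Z.card = 5 ∧
      (∀ χ ∈ Z, (σ χ = 1 ∨ σ χ = -1) ∧
        (∀ a : G, a ∈ (Q : Subgroup G) → a ≠ 1 → (χ : G → ℂ) a = (σ χ : ℂ)) ∧
        ((charDegree (χ : G → ℂ) : ℤ) ≡ σ χ [ZMOD 5])) ∧
      (∀ χ : IrrCharacter G, χ ∉ Z →
        ∀ a : G, a ∈ (Q : Subgroup G) → a ≠ 1 → (χ : G → ℂ) a = 0) ∧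
      (∀ g : G, ¬ 5 ∣ orderOf g → ∑ χ ∈ Z, (σ χ : ℂ) * (χ : G → ℂ) g = 0) := by
  classical
  obtain ⟨-, -, X, Y, δ, δ₀, O, hdisj, hX, hY, hXval, -, hvan, hδ₀, hYval, -, -, hYsum, -, hrel⟩ :=
    Cfsg.Agent.Helper5.BRP0.brauer_interface 5 Q hQ hCQ 4 hwQ
  have hY1 : Y.card = 1 := by rw [hY]
  obtain ⟨θ₅, hθ₅⟩ := Finset.card_eq_one.1 hY1
  have hθY : θ₅ ∈ Y := by rw [hθ₅]; exact Finset.mem_singleton_self _
  refine ⟨X ∪ Y, fun χ => if χ ∈ Y then δ₀ else δ χ, ?_, ?_, ?_, ?_⟩
  · rw [Finset.card_union_of_disjoint hdisj, hX, hY1]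
  · intro χ hχ
    rcases Finset.mem_union.1 hχ with h | h
    · have hnY : χ ∉ Y := fun h' => (Finset.disjoint_left.1 hdisj h) h'
      simp only [hnY, if_false]
      exact hXval χ h
    · simp only [h, if_true]
      have hχθ : χ = θ₅ := by rw [hθ₅] at h; exact Finset.mem_singleton.1 h
      refine ⟨hδ₀, ?_, ?_⟩
      · intro a ha ha1
        have := hYsum a ha ha1
        rw [hθ₅, Finset.sum_singleton] at this
        rw [hχθ]; exact this
      · have := (hYval χ h).2.2.2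
        have h5 : (-δ₀ * ((4 : ℕ) : ℤ)) ≡ δ₀ [ZMOD 5] := by
          rw [Int.modEq_iff_dvd]
          exact ⟨δ₀, by push_cast; ring⟩
        exact this.trans h5
  · intro χ hχ a ha ha1
    have hX' : χ ∉ X := fun h => hχ (Finset.mem_union_left _ h)
    have hY' : χ ∉ Y := fun h => hχ (Finset.mem_union_right _ h)
    exact hvan χ hX' hY' a ha ha1
  · intro g hg
    rw [Finset.sum_union hdisj]
    have h1 : ∑ χ ∈ X, (((if χ ∈ Y then δ₀ else δ χ : ℤ)) : ℂ) * (χ : G → ℂ) g =
        ∑ χ ∈ X, (δ χ : ℂ) * (χ : G → ℂ) g := by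
      refine Finset.sum_congr rfl fun χ h => ?_
      have hnY : χ ∉ Y := fun h' => (Finset.disjoint_left.1 hdisj h) h'
      simp only [hnY, if_false]
    have h2 : ∑ χ ∈ Y, (((if χ ∈ Y then δ₀ else δ χ : ℤ)) : ℂ) * (χ : G → ℂ) g =
        (δ₀ : ℂ) * (θ₅ : G → ℂ) g := by
      rw [hθ₅, Finset.sum_singleton]
      simp
    rw [h1, h2]
    have := hrel g hg θ₅ hθY
    linear_combination this

/-- members of `Z` have degree prime to `5`. -/
theorem not_dvd_of_modEq {d : ℕ} {s : ℤ} (hs : s = 1 ∨ s = -1) (h : (d : ℤ) ≡ s [ZMOD 5]) :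
    ¬ 5 ∣ d := by
  intro hd
  have h5 : (5 : ℤ) ∣ (d : ℤ) := by exact_mod_cast hd
  have h' := (Int.modEq_iff_dvd.1 h)
  rcases hs with rfl | rfl
  · have : (5 : ℤ) ∣ 1 := by
      have := dvd_add h' h5
      simpa using this
    norm_num at this
  · have : (5 : ℤ) ∣ -1 := by
      have := dvd_add h' h5
      simpa using this
    norm_num at this

/-- characters vanishing on `Q ∖ 1` have degree divisible by `5`. -/
theorem dvd_of_vanish (Q : Subgroup G) (hQ : Nat.card Q = 5) (χ : IrrCharacter G)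
    (h : ∀ a : G, a ∈ Q → a ≠ 1 → (χ : G → ℂ) a = 0) : 5 ∣ charDegree (χ : G → ℂ) := by
  obtain ⟨m, hm⟩ := Cfsg.Agent.Helper16.ITO.dvd_degree_of_vanish 5 Q hQ
    (isCharacter_of_isIrrCharacter χ.2) h
  rw [irr_one_eq_charDegree χ.2] at hm
  have : charDegree (χ : G → ℂ) = 5 * m := by exact_mod_cast hm
  exact ⟨m, this⟩

end S7

/-- PIECE S7: case (II) is impossible. -/
theorem not_b11II (P : Subgroup G) (B : B11II P) (Q : Sylow 5 G)
    (hQ : Nat.card (Q : Subgroup G) = 5)
    (hCQ : Subgroup.centralizer ((Q : Subgroup G) : Set G) = (Q : Subgroup G))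
    (hwQ : (Subgroup.centralizer ((Q : Subgroup G) : Set G)).relIndex
      (Subgroup.normalizer ((Q : Subgroup G) : Set G)) = 4) : False := by
  classical
  obtain ⟨Z, σ, -, hZ, hvan, -⟩ := S7.five_interface Q hQ hCQ hwQ
  by_cases h : B.χ1 ∈ Z
  · have h1 := S7.not_dvd_of_modEq (hZ _ h).1 (hZ _ h).2.2
    have h2 := (hZ _ h).2.2
    rw [B.deg1] at h2
    rcases (hZ _ h).1 with hs | hs
    · rw [hs] at h2
      have := Int.modEq_iff_dvd.1 h2
      norm_num at this
    · rw [hs] at h2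
      have := Int.modEq_iff_dvd.1 h2
      norm_num at this
  · have := S7.dvd_of_vanish (Q : Subgroup G) hQ B.χ1 (hvan _ h)
    rw [B.deg1] at this
    norm_num at this

end Cfsg.Agent.Helper17.M11
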