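import Mathlib
import Cfsg.Prelude.Def_Blocks
import Cfsg.Agent.Lib.Helper24.CharLinear
import Cfsg.Agent.Lib.Helper24.CharComplete
import Cfsg.Agent.Lib.Helper17.M11Defs
import Cfsg.Agent.Lib.Helper27.M11S7

/-!
# Simple groups of order 7920, piece S8 (helper27): the complete list of characters in case (I)
-/

set_option autoImplicit false
set_option linter.unusedSectionVars false
set_option linter.unusedVariables false

namespace Cfsg.Agent.Helper17.M11

open scoped ComplexConjugate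
open Cfsg Cfsg.Agent.Helper24

universe u

variable {G : Type u} [Group G] [Fintype G]

namespace S8

theorem arith {a b : ℕ} {sa sb : ℤ} (ha : 0 < a) (hb : 0 < b) (hsa : sa = 1 ∨ sa = -1)
    (hsb : sb = 1 ∨ sb = -1) (h5a : ((11 * a : ℕ) : ℤ) ≡ sa [ZMOD 5])
    (h5b : ((11 * b : ℕ) : ℤ) ≡ sb [ZMOD 5])
    (hrel : (1 : ℤ) + 16 + 16 + sa * ((11 * a : ℕ) : ℤ) + sb * ((11 * b : ℕ) : ℤ) = 0)
    (hsq : a ^ 2 + b ^ 2 ≤ 42) : (a = 1 ∧ b = 4) ∨ (a = 4 ∧ b = 1) := by
  have ha6 : a ≤ 6 := by nlinarith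
  have hb6 : b ≤ 6 := by nlinarith
  rw [Int.modEq_iff_dvd] at h5a h5b
  push_cast at h5a h5b hrel
  rcases hsa with rfl | rfl <;> rcases hsb with rfl | rfl <;>
    interval_cases a <;> interval_cases b <;> omega

theorem sign_pos {d : ℕ} {s : ℤ} (hs : s = 1 ∨ s = -1) (h : (d : ℤ) ≡ s [ZMOD 5])
    (hd : d % 5 = 1) : s = 1 := by
  rw [Int.modEq_iff_dvd] at h
  rcases hs with rfl | rfl
  · rfl
  · omega

theorem sign_neg {d : ℕ} {s : ℤ} (hs : s = 1 ∨ s = -1) (h : (d : ℤ) ≡ s [ZMOD 5])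
    (hd : d % 5 = 4) : s = -1 := by
  rw [Int.modEq_iff_dvd] at h
  rcases hs with rfl | rfl
  · omega
  · rfl

theorem dvd11 {P : Subgroup G} (hP : Nat.card P = 11) (B : B11I P) (χ : IrrCharacter G)
    (h : χ ∉ [principalChar G, B.χ1, B.χ2, B.χ3, B.χ4, B.θ, B.θ']) :
    11 ∣ charDegree (χ : G → ℂ) := by
  obtain ⟨m, hm⟩ := Cfsg.Agent.Helper16.ITO.dvd_degree_of_vanish 11 P hP
    (isCharacter_of_isIrrCharacter χ.2) (B.rest χ h)
  rw [irr_one_eq_charDegree χ.2] at hm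
  have : charDegree (χ : G → ℂ) = 11 * m := by exact_mod_cast hm
  exact ⟨m, this⟩

/-- the sum of the squares of the degrees over the nine known characters. -/
theorem sum_nine {P : Subgroup G} (B : B11I P) (α β : IrrCharacter G)
    (hnd : [principalChar G, B.χ1, B.χ2, B.χ3, B.χ4, B.θ, B.θ', α, β].Nodup) :
    ∑ χ ∈ [principalChar G, B.χ1, B.χ2, B.χ3, B.χ4, B.θ, B.θ', α, β].toFinset,
      charDegree (χ : G → ℂ) ^ 2 =
      2838 + charDegree (α : G → ℂ) ^ 2 + charDegree (β : G → ℂ) ^ 2 := by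
  classical
  have hd1 : charDegree ((principalChar G : IrrCharacter G) : G → ℂ) = 1 :=
    charDegree_natCast 1 (by simp [principalChar])
  rw [List.sum_toFinset _ hnd]
  simp only [List.map_cons, List.map_nil, List.sum_cons, List.sum_nil, hd1, B.deg1, B.deg2,
    B.deg3, B.deg4, B.degθ, B.degθ']
  ring

/-- a sum over five distinct elements. -/
theorem sum_five {ι M : Type*} [DecidableEq ι] [AddCommMonoid M] (F : ι → M) {a b c d e : ι}
    (hnd : [a, b, c, d, e].Nodup) :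
    ∑ x ∈ ({a, b, c, d, e} : Finset ι), F x = F a + (F b + (F c + (F d + F e))) := by
  have h : ({a, b, c, d, e} : Finset ι) = [a, b, c, d, e].toFinset := by simp
  rw [h, List.sum_toFinset _ hnd]
  simp

theorem finish (hG : Nat.card G = 7920) {P : Subgroup G} (hP : Nat.card P = 11) (B : B11I P)
    (Q : Subgroup G) (hQ : Nat.card Q = 5) (Z : Finset (IrrCharacter G))
    (σ : IrrCharacter G → ℤ)
    (hZ : ∀ χ ∈ Z, (σ χ = 1 ∨ σ χ = -1) ∧
        (∀ a : G, a ∈ Q → a ≠ 1 → (χ : G → ℂ) a = (σ χ : ℂ)) ∧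
        ((charDegree (χ : G → ℂ) : ℤ) ≡ σ χ [ZMOD 5]))
    (hvan : ∀ χ : IrrCharacter G, χ ∉ Z → ∀ a : G, a ∈ Q → a ≠ 1 → (χ : G → ℂ) a = 0)
    (hrel : ∀ g : G, ¬ 5 ∣ orderOf g → ∑ χ ∈ Z, (σ χ : ℂ) * (χ : G → ℂ) g = 0)
    (α β : IrrCharacter G)
    (hnd : [principalChar G, B.χ1, B.χ2, B.χ3, B.χ4, B.θ, B.θ', α, β].Nodup)
    (hZeq : Z = {principalChar G, B.θ, B.θ', α, β})
    (hdα : charDegree (α : G → ℂ) = 11) (hdβ : charDegree (β : G → ℂ) = 44) :
    Nonempty (CT P Q) := by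
  classical
  let _ : Fintype (IrrCharacter G) := irrFintype
  have hd1 : charDegree ((principalChar G : IrrCharacter G) : G → ℂ) = 1 :=
    charDegree_natCast 1 (by simp [principalChar])
  -- memberships
  have h1Z : principalChar G ∈ Z := by rw [hZeq]; simp
  have hθZ : B.θ ∈ Z := by rw [hZeq]; simp
  have hθ'Z : B.θ' ∈ Z := by rw [hZeq]; simp
  have hαZ : α ∈ Z := by rw [hZeq]; simp
  have hβZ : β ∈ Z := by rw [hZeq]; simp
  have hnotZ : ∀ χ ∈ Z, ¬ 5 ∣ charDegree (χ : G → ℂ) :=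
    fun χ h => S7.not_dvd_of_modEq (hZ χ h).1 (hZ χ h).2.2
  -- signs
  have hs1 : σ (principalChar G) = 1 :=
    sign_pos (hZ _ h1Z).1 (hZ _ h1Z).2.2 (by rw [hd1])
  have hsθ : σ B.θ = 1 := sign_pos (hZ _ hθZ).1 (hZ _ hθZ).2.2 (by rw [B.degθ])
  have hsθ' : σ B.θ' = 1 := sign_pos (hZ _ hθ'Z).1 (hZ _ hθ'Z).2.2 (by rw [B.degθ'])
  have hsα : σ α = 1 := sign_pos (hZ _ hαZ).1 (hZ _ hαZ).2.2 (by rw [hdα])
  have hsβ : σ β = -1 := sign_neg (hZ _ hβZ).1 (hZ _ hβZ).2.2 (by rw [hdβ])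
  -- the five-list
  have hnd5 : [principalChar G, B.θ, B.θ', α, β].Nodup :=
    hnd.sublist (List.Sublist.cons_cons _ (List.Sublist.cons _ (List.Sublist.cons _
      (List.Sublist.cons _ (List.Sublist.cons _ (List.Sublist.refl _))))))
  -- the relation
  have hrel5 : ∀ g : G, ¬ 5 ∣ orderOf g →
      1 + (B.θ : G → ℂ) g + (B.θ' : G → ℂ) g + (α : G → ℂ) g - (β : G → ℂ) g = 0 := by
    intro g hg
    have h := hrel g hg
    rw [hZeq, sum_five _ hnd5, hs1, hsθ, hsθ', hsα, hsβ] at h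
    have hp : ((principalChar G : IrrCharacter G) : G → ℂ) g = 1 := rfl
    rw [hp] at h
    push_cast at h
    linear_combination h
  -- sum of squares
  have hsum := sum_charDegree_sq (G := G)
  rw [hG] at hsum
  set S9 : Finset (IrrCharacter G) :=
    [principalChar G, B.χ1, B.χ2, B.χ3, B.χ4, B.θ, B.θ', α, β].toFinset with hS9
  have h9 := sum_nine B α β hnd
  rw [hdα, hdβ] at h9
  have hsplit := Finset.sum_add_sum_compl S9 (fun χ : IrrCharacter G => charDegree (χ : G → ℂ) ^ 2)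
  rw [hsum, h9] at hsplit
  have hR : ∑ χ ∈ S9ᶜ, charDegree (χ : G → ℂ) ^ 2 = 3025 := by omega
  -- members of the complement have degree divisible by 55
  have hmem9 : ∀ χ : IrrCharacter G, χ ∈ S9 ↔
      χ ∈ [principalChar G, B.χ1, B.χ2, B.χ3, B.χ4, B.θ, B.θ', α, β] := fun χ => List.mem_toFinset
  have h55 : ∀ χ ∈ S9ᶜ, 55 ∣ charDegree (χ : G → ℂ) := by
    intro χ hχ
    have hχ9 : χ ∉ [principalChar G, B.χ1, B.χ2, B.χ3, B.χ4, B.θ, B.θ', α, β] := by
      rw [← hmem9]; exact Finset.mem_compl.1 hχ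
    have h11 : 11 ∣ charDegree (χ : G → ℂ) := by
      apply dvd11 hP B χ
      intro h
      apply hχ9
      show χ ∈ [principalChar G, B.χ1, B.χ2, B.χ3, B.χ4, B.θ, B.θ'] ++ [α, β]
      exact List.mem_append_left _ h
    have h5 : 5 ∣ charDegree (χ : G → ℂ) := by
      apply S7.dvd_of_vanish Q hQ χ
      apply hvan
      intro h
      apply hχ9
      rw [hZeq] at h
      simp only [Finset.mem_insert, Finset.mem_singleton] at h
      rcases h with rfl | rfl | rfl | rfl | rfl <;> simp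
    exact Nat.Coprime.mul_dvd_of_dvd_of_dvd (by norm_num : Nat.Coprime 5 11) h5 h11
  have hge : ∀ χ ∈ S9ᶜ, 3025 ≤ charDegree (χ : G → ℂ) ^ 2 := by
    intro χ hχ
    have hpos := charDegree_pos χ.2
    have := Nat.le_of_dvd hpos (h55 χ hχ)
    nlinarith
  have hcard := Finset.card_nsmul_le_sum S9ᶜ _ 3025 hge
  rw [hR, smul_eq_mul] at hcard
  have hcard1 : S9ᶜ.card = 1 := by
    have h0 : S9ᶜ.card ≠ 0 := by
      intro h0
      rw [Finset.card_eq_zero] at h0
      rw [h0, Finset.sum_empty] at hR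
      omega
    omega
  obtain ⟨γ, hγ⟩ := Finset.card_eq_one.1 hcard1
  have hγmem : γ ∈ S9ᶜ := by rw [hγ]; exact Finset.mem_singleton_self _
  have hdγ : charDegree (γ : G → ℂ) = 55 := by
    rw [hγ, Finset.sum_singleton] at hR
    exact Nat.pow_left_injective (by norm_num : 2 ≠ 0) (by simpa using hR)
  have hγ9 : γ ∉ [principalChar G, B.χ1, B.χ2, B.χ3, B.χ4, B.θ, B.θ', α, β] := by
    rw [← hmem9]; exact Finset.mem_compl.1 hγmem
  -- vanishing on `Q`
  have hvan' : ∀ χ : IrrCharacter G, 5 ∣ charDegree (χ : G → ℂ) →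
      ∀ a : G, a ∈ Q → a ≠ 1 → (χ : G → ℂ) a = 0 :=
    fun χ h => hvan χ (fun hZ' => hnotZ χ hZ' h)
  refine ⟨{ b := B, α := α, β := β, γ := γ, nodup := ?_, all := ?_, degα := hdα, degβ := hdβ,
            degγ := hdγ, valθ := ?_, valθ' := ?_, valα := ?_, valβ := ?_, val0 := ?_,
            rel5 := hrel5 }⟩
  · have : [principalChar G, B.χ1, B.χ2, B.χ3, B.χ4, B.θ, B.θ', α, β, γ] =
        [principalChar G, B.χ1, B.χ2, B.χ3, B.χ4, B.θ, B.θ', α, β] ++ [γ] := rfl
    rw [this]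
    refine List.Nodup.append hnd (List.nodup_singleton γ) ?_
    intro x hx hx'
    rw [List.mem_singleton] at hx'
    rw [hx'] at hx
    exact hγ9 hx
  · intro χ
    by_cases h : χ ∈ S9
    · have := (hmem9 χ).1 h
      show χ ∈ [principalChar G, B.χ1, B.χ2, B.χ3, B.χ4, B.θ, B.θ', α, β] ++ [γ]
      exact List.mem_append_left _ this
    · have : χ ∈ S9ᶜ := Finset.mem_compl.2 h
      rw [hγ, Finset.mem_singleton] at this
      rw [this]
      simp
  · intro a ha ha1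
    have := (hZ _ hθZ).2.1 a ha ha1
    rw [this, hsθ]; simp
  · intro a ha ha1
    have := (hZ _ hθ'Z).2.1 a ha ha1
    rw [this, hsθ']; simp
  · intro a ha ha1
    have := (hZ _ hαZ).2.1 a ha ha1
    rw [this, hsα]; simp
  · intro a ha ha1
    have := (hZ _ hβZ).2.1 a ha ha1
    rw [this, hsβ]; simp
  · intro χ hχ
    simp only [List.mem_cons, List.mem_nil_iff, or_false] at hχ
    rcases hχ with rfl | rfl | rfl | rfl | rfl
    · exact hvan' _ (by rw [B.deg1]; norm_num)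
    · exact hvan' _ (by rw [B.deg2]; norm_num)
    · exact hvan' _ (by rw [B.deg3]; norm_num)
    · exact hvan' _ (by rw [B.deg4]; norm_num)
    · exact hvan' _ (by rw [hdγ]; norm_num)

end S8

/-- PIECE S8: in case (I) the character table data is complete. -/
theorem exists_ct (hG : Nat.card G = 7920) (P : Subgroup G) (hP : Nat.card P = 11) (B : B11I P)
    (Q : Sylow 5 G) (hQ : Nat.card (Q : Subgroup G) = 5)
    (hCQ : Subgroup.centralizer ((Q : Subgroup G) : Set G) = (Q : Subgroup G))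
    (hwQ : (Subgroup.centralizer ((Q : Subgroup G) : Set G)).relIndex
      (Subgroup.normalizer ((Q : Subgroup G) : Set G)) = 4) :
    Nonempty (CT P (Q : Subgroup G)) := by
  classical
  let _ : Fintype (IrrCharacter G) := irrFintype
  obtain ⟨Z, σ, hZcard, hZ, hvan, hrel⟩ := S7.five_interface Q hQ hCQ hwQ
  have hd1 : charDegree ((principalChar G : IrrCharacter G) : G → ℂ) = 1 :=
    charDegree_natCast 1 (by simp [principalChar])
  have hmemZ : ∀ χ : IrrCharacter G, ¬ 5 ∣ charDegree (χ : G → ℂ) → χ ∈ Z := by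
    intro χ h
    by_contra hc
    exact h (S7.dvd_of_vanish _ hQ χ (hvan χ hc))
  have hnotZ : ∀ χ ∈ Z, ¬ 5 ∣ charDegree (χ : G → ℂ) :=
    fun χ h => S7.not_dvd_of_modEq (hZ χ h).1 (hZ χ h).2.2
  have h1Z : principalChar G ∈ Z := hmemZ _ (by rw [hd1]; norm_num)
  have hθZ : B.θ ∈ Z := hmemZ _ (by rw [B.degθ]; norm_num)
  have hθ'Z : B.θ' ∈ Z := hmemZ _ (by rw [B.degθ']; norm_num)
  have hχ1Z : B.χ1 ∉ Z := fun h => hnotZ _ h (by rw [B.deg1]; norm_num)
  have hχ2Z : B.χ2 ∉ Z := fun h => hnotZ _ h (by rw [B.deg2]; norm_num)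
  have hχ3Z : B.χ3 ∉ Z := fun h => hnotZ _ h (by rw [B.deg3]; norm_num)
  have hχ4Z : B.χ4 ∉ Z := fun h => hnotZ _ h (by rw [B.deg4]; norm_num)
  -- distinctness of `1, θ, θ'`
  have hnd3 : [principalChar G, B.θ, B.θ'].Nodup :=
    B.nodup.sublist (List.Sublist.cons_cons _ (List.Sublist.cons _ (List.Sublist.cons _
      (List.Sublist.cons _ (List.Sublist.cons _ (List.Sublist.refl _))))))
  have h1θ : principalChar G ≠ B.θ := by
    intro h; rw [h] at hnd3; simp at hnd3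
  have h1θ' : principalChar G ≠ B.θ' := by
    intro h; rw [h] at hnd3; simp at hnd3
  have hθθ' : B.θ ≠ B.θ' := by
    intro h; rw [h] at hnd3; simp at hnd3
  -- the two remaining members of `Z`
  have hc1 : (Z.erase (principalChar G)).card = 4 := by
    rw [Finset.card_erase_of_mem h1Z, hZcard]
  have hθ1 : B.θ ∈ Z.erase (principalChar G) := Finset.mem_erase.2 ⟨fun h => h1θ h.symm, hθZ⟩
  have hc2 : ((Z.erase (principalChar G)).erase B.θ).card = 3 := by
    rw [Finset.card_erase_of_mem hθ1, hc1]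
  have hθ'2 : B.θ' ∈ (Z.erase (principalChar G)).erase B.θ :=
    Finset.mem_erase.2 ⟨fun h => hθθ' h.symm, Finset.mem_erase.2 ⟨fun h => h1θ' h.symm, hθ'Z⟩⟩
  have hc3 : (((Z.erase (principalChar G)).erase B.θ).erase B.θ').card = 2 := by
    rw [Finset.card_erase_of_mem hθ'2, hc2]
  obtain ⟨α, β, hαβ, hZ'⟩ := Finset.card_eq_two.1 hc3
  have hmemZ' : ∀ χ : IrrCharacter G,
      χ ∈ ((Z.erase (principalChar G)).erase B.θ).erase B.θ' ↔
        χ ≠ B.θ' ∧ χ ≠ B.θ ∧ χ ≠ principalChar G ∧ χ ∈ Z := by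
    intro χ
    simp only [Finset.mem_erase]
  have hα' := (hmemZ' α).1 (by rw [hZ']; simp)
  have hβ' := (hmemZ' β).1 (by rw [hZ']; simp)
  have hZeq : Z = {principalChar G, B.θ, B.θ', α, β} := by
    ext χ
    simp only [Finset.mem_insert, Finset.mem_singleton]
    constructor
    · intro h
      by_cases h1 : χ = principalChar G
      · exact Or.inl h1
      by_cases h2 : χ = B.θ
      · exact Or.inr (Or.inl h2)
      by_cases h3 : χ = B.θ'
      · exact Or.inr (Or.inr (Or.inl h3))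
      have := (hmemZ' χ).2 ⟨h3, h2, h1, h⟩
      rw [hZ'] at this
      simp only [Finset.mem_insert, Finset.mem_singleton] at this
      exact Or.inr (Or.inr (Or.inr this))
    · rintro (rfl | rfl | rfl | rfl | rfl)
      · exact h1Z
      · exact hθZ
      · exact hθ'Z
      · exact hα'.2.2.2
      · exact hβ'.2.2.2
  -- `α, β` are not in the list of `B`
  have hαL : α ∉ [principalChar G, B.χ1, B.χ2, B.χ3, B.χ4, B.θ, B.θ'] := by
    intro h
    simp only [List.mem_cons, List.mem_nil_iff, or_false] at h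
    rcases h with h | h | h | h | h | h | h
    · exact hα'.2.2.1 h
    · exact hχ1Z (h ▸ hα'.2.2.2)
    · exact hχ2Z (h ▸ hα'.2.2.2)
    · exact hχ3Z (h ▸ hα'.2.2.2)
    · exact hχ4Z (h ▸ hα'.2.2.2)
    · exact hα'.2.1 h
    · exact hα'.1 h
  have hβL : β ∉ [principalChar G, B.χ1, B.χ2, B.χ3, B.χ4, B.θ, B.θ'] := by
    intro h
    simp only [List.mem_cons, List.mem_nil_iff, or_false] at h
    rcases h with h | h | h | h | h | h | h
    · exact hβ'.2.2.1 h
    · exact hχ1Z (h ▸ hβ'.2.2.2)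
    · exact hχ2Z (h ▸ hβ'.2.2.2)
    · exact hχ3Z (h ▸ hβ'.2.2.2)
    · exact hχ4Z (h ▸ hβ'.2.2.2)
    · exact hβ'.2.1 h
    · exact hβ'.1 h
  have hnd : [principalChar G, B.χ1, B.χ2, B.χ3, B.χ4, B.θ, B.θ', α, β].Nodup := by
    have : [principalChar G, B.χ1, B.χ2, B.χ3, B.χ4, B.θ, B.θ', α, β] =
        [principalChar G, B.χ1, B.χ2, B.χ3, B.χ4, B.θ, B.θ'] ++ [α, β] := rfl
    rw [this]
    refine List.Nodup.append B.nodup (by simp [hαβ]) ?_
    intro x hx hx'
    simp only [List.mem_cons, List.mem_nil_iff, or_false] at hx'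
    rcases hx' with rfl | rfl
    · exact hαL hx
    · exact hβL hx
  have hnd' : [principalChar G, B.χ1, B.χ2, B.χ3, B.χ4, B.θ, B.θ', β, α].Nodup := by
    have : [principalChar G, B.χ1, B.χ2, B.χ3, B.χ4, B.θ, B.θ', β, α] =
        [principalChar G, B.χ1, B.χ2, B.χ3, B.χ4, B.θ, B.θ'] ++ [β, α] := rfl
    rw [this]
    refine List.Nodup.append B.nodup (by simp [hαβ.symm]) ?_
    intro x hx hx'
    simp only [List.mem_cons, List.mem_nil_iff, or_false] at hx'
    rcases hx' with rfl | rfl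
    · exact hβL hx
    · exact hαL hx
  have hZeq' : Z = {principalChar G, B.θ, B.θ', β, α} := by
    rw [hZeq]
    ext χ
    simp only [Finset.mem_insert, Finset.mem_singleton]
    constructor
    · rintro (h | h | h | h | h)
      · exact Or.inl h
      · exact Or.inr (Or.inl h)
      · exact Or.inr (Or.inr (Or.inl h))
      · exact Or.inr (Or.inr (Or.inr (Or.inr h)))
      · exact Or.inr (Or.inr (Or.inr (Or.inl h)))
    · rintro (h | h | h | h | h)
      · exact Or.inl h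
      · exact Or.inr (Or.inl h)
      · exact Or.inr (Or.inr (Or.inl h))
      · exact Or.inr (Or.inr (Or.inr (Or.inr h)))
      · exact Or.inr (Or.inr (Or.inr (Or.inl h)))
  -- degrees `11 a`, `11 b`
  obtain ⟨a, ha⟩ := S8.dvd11 hP B α hαL
  obtain ⟨b, hb⟩ := S8.dvd11 hP B β hβL
  have hapos : 0 < a := by
    have := charDegree_pos α.2
    rw [ha] at this
    omega
  have hbpos : 0 < b := by
    have := charDegree_pos β.2
    rw [hb] at this
    omega
  have h5a := (hZ α hα'.2.2.2).2.2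
  have h5b := (hZ β hβ'.2.2.2).2.2
  rw [ha] at h5a
  rw [hb] at h5b
  -- signs of `1, θ, θ'`
  have hs1 : σ (principalChar G) = 1 :=
    S8.sign_pos (hZ _ h1Z).1 (hZ _ h1Z).2.2 (by rw [hd1])
  have hsθ : σ B.θ = 1 := S8.sign_pos (hZ _ hθZ).1 (hZ _ hθZ).2.2 (by rw [B.degθ])
  have hsθ' : σ B.θ' = 1 := S8.sign_pos (hZ _ hθ'Z).1 (hZ _ hθ'Z).2.2 (by rw [B.degθ'])
  -- the relation at `1`
  have hnd5 : [principalChar G, B.θ, B.θ', α, β].Nodup :=
    hnd.sublist (List.Sublist.cons_cons _ (List.Sublist.cons _ (List.Sublist.cons _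
      (List.Sublist.cons _ (List.Sublist.cons _ (List.Sublist.refl _))))))
  have hrel1 : (1 : ℤ) + 16 + 16 + σ α * ((11 * a : ℕ) : ℤ) + σ β * ((11 * b : ℕ) : ℤ) = 0 := by
    have h := hrel 1 (by rw [orderOf_one]; norm_num)
    rw [hZeq, S8.sum_five _ hnd5, hs1, hsθ, hsθ', irr_one_eq_charDegree B.θ.2,
      irr_one_eq_charDegree B.θ'.2, irr_one_eq_charDegree α.2, irr_one_eq_charDegree β.2,
      B.degθ, B.degθ', ha, hb] at h
    have hp : ((principalChar G : IrrCharacter G) : G → ℂ) 1 = 1 := rfl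
    rw [hp] at h
    have h' : (((1 : ℤ) + 16 + 16 + σ α * ((11 * a : ℕ) : ℤ) + σ β * ((11 * b : ℕ) : ℤ) : ℤ) : ℂ)
        = 0 := by
      push_cast at h ⊢
      linear_combination h
    exact_mod_cast h'
  -- sum of squares
  have hsq : a ^ 2 + b ^ 2 ≤ 42 := by
    have hsum := sum_charDegree_sq (G := G)
    rw [hG] at hsum
    have h9 := S8.sum_nine B α β hnd
    rw [ha, hb] at h9
    have hle : ∑ χ ∈ [principalChar G, B.χ1, B.χ2, B.χ3, B.χ4, B.θ, B.θ', α, β].toFinset,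
        charDegree (χ : G → ℂ) ^ 2 ≤ ∑ χ : IrrCharacter G, charDegree (χ : G → ℂ) ^ 2 :=
      Finset.sum_le_sum_of_subset (Finset.subset_univ _)
    rw [hsum, h9] at hle
    nlinarith
  rcases S8.arith hapos hbpos (hZ α hα'.2.2.2).1 (hZ β hβ'.2.2.2).1 h5a h5b hrel1 hsq with
    ⟨ha1, hb4⟩ | ⟨ha4, hb1⟩
  · exact S8.finish hG hP B (Q : Subgroup G) hQ Z σ hZ hvan hrel α β hnd hZeq
      (by rw [ha, ha1]) (by rw [hb, hb4])
  · exact S8.finish hG hP B (Q : Subgroup G) hQ Z σ hZ hvan hrel β α hnd' hZeq'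
      (by rw [hb, hb1]) (by rw [ha, ha4])

end Cfsg.Agent.Helper17.M11
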