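import Mathlib
import Cfsg.Agent.Lib.Helper19.JCDefs

/-!
# S2946, PIECE CUBE (helper27): `K / O₂(K)` has order 3, elementwise
-/

set_option autoImplicit false
set_option linter.unusedSectionVars false
set_option linter.unusedVariables false

namespace Cfsg.Agent.Helper19.JC

open Cfsg Cfsg.Agent.Helper4.ZJ
open scoped commutatorElement

universe u

variable {G : Type u} [Group G] [Finite G] {K J : Subgroup G}

theorem Comp.exists_d (c : Comp K J) : ∃ d ∈ K, d ∉ pCoreOf 2 K := by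
  by_contra hcon
  push Not at hcon
  exact c.K_ne_P0 (fun k hk => hcon k hk)

/-- `O₂(K)` is normal in `K` (as a subgroup of `↥K`) -/
theorem Comp.cube_normal (c : Comp K J) : ((pCoreOf 2 K).subgroupOf K).Normal :=
  (Subgroup.normal_subgroupOf_iff_le_normalizer c.P0_le_K).2
    (le_sup_left.trans c.le_normalizer_P0)

theorem Comp.cube_mem (c : Comp K J) {k : G} (hk : k ∈ K) : k ^ 3 ∈ pCoreOf 2 K := by
  have hN := c.cube_normal
  have h1 := Subgroup.pow_index_mem ((pCoreOf 2 K).subgroupOf K) (⟨k, hk⟩ : ↥K)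
  have h2 : ((pCoreOf 2 K).subgroupOf K).index = 3 := c.hidx
  rw [h2, Subgroup.mem_subgroupOf] at h1
  simpa using h1

theorem Comp.coset_cases (c : Comp K J) {d : G} (hd : d ∈ K) (hd' : d ∉ pCoreOf 2 K) {k : G}
    (hk : k ∈ K) : k ∈ pCoreOf 2 K ∨ d⁻¹ * k ∈ pCoreOf 2 K ∨ d⁻¹ * d⁻¹ * k ∈ pCoreOf 2 K := by
  have hN := c.cube_normal
  have : Fact (Nat.Prime 3) := ⟨Nat.prime_three⟩
  set Q : Subgroup ↥K := (pCoreOf 2 K).subgroupOf K with hQ
  have hcard : Nat.card (↥K ⧸ Q) = 3 := by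
    rw [← Subgroup.index_eq_card]; exact c.hidx
  set db : ↥K ⧸ Q := QuotientGroup.mk (⟨d, hd⟩ : ↥K) with hdb
  set kb : ↥K ⧸ Q := QuotientGroup.mk (⟨k, hk⟩ : ↥K) with hkb
  have hdb1 : db ≠ 1 := by
    intro h
    rw [hdb, QuotientGroup.eq_one_iff] at h
    exact hd' (Subgroup.mem_subgroupOf.1 h)
  have hord : orderOf db = 3 := by
    have h1 : orderOf db ∣ 3 := by rw [← hcard]; exact orderOf_dvd_natCard db
    rcases (Nat.dvd_prime Nat.prime_three).1 h1 with h2 | h2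
    · exact absurd (orderOf_eq_one_iff.1 h2) hdb1
    · exact h2
  have hmem : kb ∈ Subgroup.zpowers db := mem_zpowers_of_prime_card hcard hdb1
  obtain ⟨i, hi⟩ := Subgroup.mem_zpowers_iff.1 hmem
  have hi' : db ^ (i % 3) = kb := by
    have h1 := zpow_mod_orderOf db i
    rw [hord] at h1
    rw [← hi]; exact h1
  have h0 : 0 ≤ i % 3 := Int.emod_nonneg i (by norm_num)
  have h3 : i % 3 < 3 := Int.emod_lt_of_pos i (by norm_num)
  obtain ⟨r, hr⟩ : ∃ r : ℤ, i % 3 = r := ⟨_, rfl⟩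
  rw [hr] at hi' h0 h3
  have key : ∀ x : ↥K, (QuotientGroup.mk x : ↥K ⧸ Q) = 1 → (x : G) ∈ pCoreOf 2 K := by
    intro x hx
    rw [QuotientGroup.eq_one_iff] at hx
    exact Subgroup.mem_subgroupOf.1 hx
  interval_cases r
  · left
    apply key ⟨k, hk⟩
    rw [← hkb, ← hi', zpow_zero]
  · right; left
    have h4 : (QuotientGroup.mk ((⟨d, hd⟩ : ↥K)⁻¹ * ⟨k, hk⟩) : ↥K ⧸ Q) = 1 := by
      rw [QuotientGroup.mk_mul, QuotientGroup.mk_inv, ← hkb, ← hdb, ← hi', zpow_one,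
        inv_mul_cancel]
    exact key _ h4
  · right; right
    have h4 : (QuotientGroup.mk ((⟨d, hd⟩ : ↥K)⁻¹ * (⟨d, hd⟩ : ↥K)⁻¹ * ⟨k, hk⟩) : ↥K ⧸ Q) = 1 := by
      rw [QuotientGroup.mk_mul, QuotientGroup.mk_mul, QuotientGroup.mk_inv, ← hkb, ← hdb, ← hi']
      have : db ^ (2 : ℤ) = db * db := by rw [zpow_ofNat, pow_two]
      rw [this]
      group
    exact key _ h4

end Cfsg.Agent.Helper19.JC
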