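import Mathlib
import Cfsg.Agent.Lib.Helper19.JCDefs
import Cfsg.Agent.Lib.Helper27.JCCUBE

/-!
# S2946, PIECE VDEC (helper27): `⁅V, K⁆ ≤ W` and `V = C_V(K) W`
-/

set_option autoImplicit false
set_option linter.unusedSectionVars false
set_option linter.unusedVariables false

namespace Cfsg.Agent.Helper19.JC

open Cfsg Cfsg.Agent.Helper4.ZJ
open scoped commutatorElement

universe u

variable {G : Type u} [Group G]

/-- the key identity: for three commuting involutions `a, b, c` permuted cyclically by `d`,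
`a * b = ⁅a * b, d⁆ * ⁅a * b, d * d⁆` -/
theorem vdec_key {a b c d : G} (ha : a * a = 1) (hb : b * b = 1) (hc : c * c = 1)
    (hab : a * b = b * a) (hac : a * c = c * a) (hbc : b * c = c * b)
    (h1 : d * a * d⁻¹ = b) (h2 : d * b * d⁻¹ = c) (h3 : d * c * d⁻¹ = a) :
    a * b = ⁅a * b, d⁆ * ⁅a * b, d ^ 2⁆ := by
  have hai : a⁻¹ = a := inv_eq_of_mul_eq_one_left ha
  have hbi : b⁻¹ = b := inv_eq_of_mul_eq_one_left hb
  have hci : c⁻¹ = c := inv_eq_of_mul_eq_one_left hc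
  have e1 : ⁅a * b, d⁆ = a * c := by
    calc ⁅a * b, d⁆ = a * b * (d * b * d⁻¹)⁻¹ * (d * a * d⁻¹)⁻¹ := by
          rw [commutatorElement_def]; group
      _ = a * b * c * b := by rw [h1, h2, hci, hbi]
      _ = a * (b * c) * b := by group
      _ = a * (c * b) * b := by rw [hbc]
      _ = a * c * (b * b) := by group
      _ = a * c := by rw [hb, mul_one]
  have e2 : ⁅a * b, d ^ 2⁆ = b * c := by
    calc ⁅a * b, d ^ 2⁆ = a * b * (d * (d * b * d⁻¹) * d⁻¹)⁻¹ * (d * (d * a * d⁻¹) * d⁻¹)⁻¹ := by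
          rw [commutatorElement_def]; group
      _ = a * b * a * c := by rw [h1, h2, h3, hai, hci]
      _ = (a * b) * a * c := by group
      _ = (b * a) * a * c := by rw [hab]
      _ = b * (a * a) * c := by group
      _ = b * c := by rw [ha, mul_one]
  rw [e1, e2]
  calc a * b = a * b * (c * c) := by rw [hc, mul_one]
    _ = a * (b * c) * c := by group
    _ = a * (c * b) * c := by rw [hbc]
    _ = a * c * (b * c) := by group

variable [Finite G] {K J : Subgroup G}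

/-- elements of `V` commute with elements of `R` -/
theorem Comp.vdec_comm (c : Comp K J) {v : G} (hv : v ∈ VV K J) {r : G} (hr : r ∈ RR K J) :
    r * v = v * r :=
  ((mem_omegaCenterOf_iff _ v).1 hv).2.1 r hr

theorem Comp.vdec_sq (c : Comp K J) {v : G} (hv : v ∈ VV K J) : v * v = 1 := by
  have := ((mem_omegaCenterOf_iff _ v).1 hv).2.2
  rwa [pow_two] at this

/-- `X` normalises `V`, elementwise for `d ∈ K` -/
theorem Comp.vdec_conj (c : Comp K J) {v : G} (hv : v ∈ VV K J) {d : G} (hd : d ∈ K) :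
    d * v * d⁻¹ ∈ VV K J :=
  conj_mem_of_le_normalizer c.le_normalizer_V (Subgroup.mem_sup_left hd) hv

/-- the set-up: `b = d v d⁻¹`, `e = d b d⁻¹`, all in `V`, commuting, `d e d⁻¹ = v` -/
theorem Comp.vdec_setup (c : Comp K J) {v : G} (hv : v ∈ VV K J) {d : G} (hd : d ∈ K) {b e : G}
    (hb : b = d * v * d⁻¹) (he : e = d * b * d⁻¹) :
    b ∈ VV K J ∧ e ∈ VV K J ∧ v * b = b * v ∧ v * e = e * v ∧ b * e = e * b ∧ d * e * d⁻¹ = v := by
  have hbV : b ∈ VV K J := by rw [hb]; exact c.vdec_conj hv hd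
  have heV : e ∈ VV K J := by rw [he]; exact c.vdec_conj hbV hd
  have haR : v ∈ RR K J := c.V_le_R hv
  have hbR : b ∈ RR K J := c.V_le_R hbV
  refine ⟨hbV, heV, c.vdec_comm hbV haR, c.vdec_comm heV haR, c.vdec_comm heV hbR, ?_⟩
  have hd3 : d ^ 3 ∈ RR K J := c.P0_le_R (c.cube_mem hd)
  have h4 := c.vdec_comm hv hd3
  have hd3e : d ^ 3 = d * d * d := by rw [pow_succ, pow_two]
  rw [hd3e] at h4
  calc d * e * d⁻¹ = (d * d * d * v) * (d * d * d)⁻¹ := by rw [he, hb]; group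
    _ = (v * (d * d * d)) * (d * d * d)⁻¹ := by rw [h4]
    _ = v := mul_inv_cancel_right _ _

/-- the basic commutator `v * (d v d⁻¹)` lies in `W` -/
theorem Comp.vdec_basic (c : Comp K J) {v : G} (hv : v ∈ VV K J) {d : G} (hd : d ∈ K) :
    v * (d * v * d⁻¹) ∈ wOf K := by
  obtain ⟨b, hb⟩ : ∃ b : G, b = d * v * d⁻¹ := ⟨_, rfl⟩
  obtain ⟨e, he⟩ : ∃ e : G, e = d * b * d⁻¹ := ⟨_, rfl⟩
  obtain ⟨hbV, heV, hab, hae, hbe, h3⟩ := c.vdec_setup hv hd hb he
  have haR : v ∈ RR K J := c.V_le_R hv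
  have hkey := vdec_key (c.vdec_sq hv) (c.vdec_sq hbV) (c.vdec_sq heV) hab hae hbe hb.symm
    he.symm h3
  -- `y = v * b` lies in `Ω₁Z(P0)`
  have hyV : v * b ∈ VV K J := Subgroup.mul_mem _ hv hbV
  have hyK : v * b ∈ K := by
    have h5 : v * d * v⁻¹ ∈ K :=
      conj_mem_of_le_normalizer c.le_normalizer_K (c.R_le_X haR) hd
    have h6 : v * b = (v * d * v⁻¹) * d⁻¹ := by
      have hvi : v⁻¹ = v := inv_eq_of_mul_eq_one_left (c.vdec_sq hv)
      rw [hvi, hb]; group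
    rw [h6]
    exact K.mul_mem h5 (K.inv_mem hd)
  have hyP0 : v * b ∈ pCoreOf 2 K := by
    rw [← c.R_inf_K]
    exact Subgroup.mem_inf.2 ⟨c.V_le_R hyV, hyK⟩
  have hyU : v * b ∈ omegaCenterOf (pCoreOf 2 K) := by
    rw [mem_omegaCenterOf_iff]
    refine ⟨hyP0, fun y hy => c.vdec_comm hyV (c.P0_le_R hy), ?_⟩
    rw [pow_two]; exact c.vdec_sq hyV
  rw [← hb, hkey]
  exact Subgroup.mul_mem _ (Subgroup.commutator_mem_commutator hyU hd)
    (Subgroup.commutator_mem_commutator hyU (K.pow_mem hd 2))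

/-- commutators with elements of a coset `d P0` -/
theorem Comp.vdec_aux (c : Comp K J) {v : G} (hv : v ∈ VV K J) {d : G} (hd : d ∈ K) {p : G}
    (hp : p ∈ pCoreOf 2 K) : v * (d * p) * v⁻¹ * (d * p)⁻¹ ∈ wOf K := by
  have hvi : v⁻¹ = v := inv_eq_of_mul_eq_one_left (c.vdec_sq hv)
  have hpv : p * v = v * p := c.vdec_comm hv (c.P0_le_R hp)
  have h1 : v * (d * p) * v⁻¹ * (d * p)⁻¹ = v * (d * v * d⁻¹) := by
    rw [hvi]
    calc v * (d * p) * v * (d * p)⁻¹ = v * d * (p * v) * p⁻¹ * d⁻¹ := by group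
      _ = v * d * (v * p) * p⁻¹ * d⁻¹ := by rw [hpv]
      _ = v * (d * v * d⁻¹) := by group
  rw [h1]
  exact c.vdec_basic hv hd

theorem Comp.comm_V_K_le_W (c : Comp K J) :
    ∀ v ∈ VV K J, ∀ k ∈ K, v * k * v⁻¹ * k⁻¹ ∈ wOf K := by
  intro v hv k hk
  obtain ⟨d, hd, hd'⟩ := c.exists_d
  rcases c.coset_cases hd hd' hk with h | h | h
  · have hkv : k * v = v * k := c.vdec_comm hv (c.P0_le_R h)
    have h1 : v * k * v⁻¹ * k⁻¹ = 1 := by
      calc v * k * v⁻¹ * k⁻¹ = (v * k) * v⁻¹ * k⁻¹ := by group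
        _ = (k * v) * v⁻¹ * k⁻¹ := by rw [hkv]
        _ = 1 := by group
    rw [h1]; exact Subgroup.one_mem _
  · have h1 := c.vdec_aux hv hd h
    have h2 : d * (d⁻¹ * k) = k := by group
    rwa [h2] at h1
  · have h1 := c.vdec_aux hv (K.mul_mem hd hd) h
    have h2 : d * d * (d⁻¹ * d⁻¹ * k) = k := by group
    rwa [h2] at h1

theorem Comp.V_decomp (c : Comp K J) : ∀ v ∈ VV K J, ∃ v₀ ∈ VV K J,
    (∀ k ∈ K, k * v₀ = v₀ * k) ∧ ∃ w ∈ wOf K, v = v₀ * w := by
  intro v hv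
  obtain ⟨d, hd, hd'⟩ := c.exists_d
  obtain ⟨b, hb⟩ : ∃ b : G, b = d * v * d⁻¹ := ⟨_, rfl⟩
  obtain ⟨e, he⟩ : ∃ e : G, e = d * b * d⁻¹ := ⟨_, rfl⟩
  obtain ⟨hbV, heV, hab, hae, hbe, h3⟩ := c.vdec_setup hv hd hb he
  have hv₀V : v * b * e ∈ VV K J := Subgroup.mul_mem _ (Subgroup.mul_mem _ hv hbV) heV
  -- `d` centralises `v₀ = v b e`
  have hdv₀ : d * (v * b * e) = (v * b * e) * d := by
    have h5 : d * (v * b * e) * d⁻¹ = v * b * e := by
      calc d * (v * b * e) * d⁻¹ = (d * v * d⁻¹) * (d * b * d⁻¹) * (d * e * d⁻¹) := by group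
        _ = b * e * v := by rw [h3, ← hb, ← he]
        _ = b * (e * v) := by group
        _ = b * (v * e) := by rw [hae]
        _ = (b * v) * e := by group
        _ = v * b * e := by rw [hab]
    calc d * (v * b * e) = (d * (v * b * e) * d⁻¹) * d := by group
      _ = (v * b * e) * d := by rw [h5]
  have hcent : ∀ k ∈ K, k * (v * b * e) = (v * b * e) * k := by
    intro k hk
    have hP : ∀ p ∈ pCoreOf 2 K, p * (v * b * e) = (v * b * e) * p := fun p hp =>
      c.vdec_comm hv₀V (c.P0_le_R hp)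
    rcases c.coset_cases hd hd' hk with h | h | h
    · exact hP k h
    · have h6 := hP _ h
      calc k * (v * b * e) = d * ((d⁻¹ * k) * (v * b * e)) := by group
        _ = d * ((v * b * e) * (d⁻¹ * k)) := by rw [h6]
        _ = (d * (v * b * e)) * (d⁻¹ * k) := by group
        _ = ((v * b * e) * d) * (d⁻¹ * k) := by rw [hdv₀]
        _ = (v * b * e) * k := by group
    · have h6 := hP _ h
      calc k * (v * b * e) = d * (d * ((d⁻¹ * d⁻¹ * k) * (v * b * e))) := by group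
        _ = d * (d * ((v * b * e) * (d⁻¹ * d⁻¹ * k))) := by rw [h6]
        _ = d * ((d * (v * b * e)) * (d⁻¹ * d⁻¹ * k)) := by group
        _ = d * (((v * b * e) * d) * (d⁻¹ * d⁻¹ * k)) := by rw [hdv₀]
        _ = (d * (v * b * e)) * (d⁻¹ * k) := by group
        _ = ((v * b * e) * d) * (d⁻¹ * k) := by rw [hdv₀]
        _ = (v * b * e) * k := by group
  have hw : b * e ∈ wOf K := by
    have h7 := c.vdec_basic hbV hd
    rwa [← he] at h7
  refine ⟨v * b * e, hv₀V, hcent, b * e, hw, ?_⟩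
  have hb2 := c.vdec_sq hbV
  have he2 := c.vdec_sq heV
  calc v = v * (b * b) * (e * e) := by rw [hb2, he2, mul_one, mul_one]
    _ = v * b * (b * e) * e := by group
    _ = v * b * (e * b) * e := by rw [hbe]
    _ = v * b * e * (b * e) := by group

end Cfsg.Agent.Helper19.JC
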