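import Mathlib
import Cfsg.Prelude.Def_JComponents
import Cfsg.Agent.Lib.Helper27.JCTR
import Cfsg.Agent.Lib.Helper14.Ambient
import Cfsg.Agent.Lib.Helper14.Kieler

/-!
# KS12b / S2950 (helper27): PIECE CMP -- generalities on `IsJComponent`.

-/

set_option autoImplicit false
set_option linter.unusedVariables false
set_option linter.unusedSectionVars false

namespace Cfsg.Agent.Helper27.KU

open Cfsg Cfsg.Agent.Helper13.JCFF
open scoped commutatorElement

universe u

variable {G : Type u} [Group G] [Finite G]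

/-- PIECE CMP (1). -/
theorem isJComponent_congr {T T' K : Subgroup G}
    (h : thompsonSubgroupOf 2 T = thompsonSubgroupOf 2 T') :
    IsJComponent T K ↔ IsJComponent T' K := by
  unfold IsJComponent
  rw [h]

/-- PIECE CMP (2). -/
theorem isJComponent_map_conj (g : G) {T K : Subgroup G} :
    IsJComponent (T.map (MulAut.conj g).toMonoidHom) (K.map (MulAut.conj g).toMonoidHom) ↔
      IsJComponent T K :=
  isJComponent_map_inj (MulAut.conj g).toMonoidHom (MulAut.conj g).injective T K

/-- PIECE CMP (3).  From `⁅K, J(T)⁆ = K`. -/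
theorem J_le_normalizer_of_comp {T K : Subgroup G} (hK : IsJComponent T K) :
    thompsonSubgroupOf 2 T ≤ Subgroup.normalizer (K : Set G) := by
  have hc : ⁅K, thompsonSubgroupOf 2 T⁆ = K := hK.2.1
  have key : ∀ j ∈ thompsonSubgroupOf 2 T, ∀ k ∈ K, j * k * j⁻¹ ∈ K := by
    intro j hj k hk
    have h1 : ⁅k, j⁆ ∈ K := by
      rw [← hc]
      exact Subgroup.commutator_mem_commutator hk hj
    have e : j * k * j⁻¹ = ⁅k, j⁆⁻¹ * k := by
      rw [commutatorElement_def]; group
    rw [e]
    exact K.mul_mem (K.inv_mem h1) hk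
  intro j hj
  rw [Subgroup.mem_normalizer_iff]
  intro k
  constructor
  · exact key j hj k
  · intro hk
    have := key j⁻¹ (Subgroup.inv_mem _ hj) _ hk
    have e : j⁻¹ * (j * k * j⁻¹) * j⁻¹⁻¹ = k := by group
    rwa [e] at this

/-- PIECE CMP (4). -/
theorem pCoreOf_comp_ne_bot {T K : Subgroup G} (hK : IsJComponent T K) : pCoreOf 2 K ≠ ⊥ := by
  intro h0
  have hcard : Nat.card ↥(wOf K) = 4 := hK.2.2.2.2.1
  have hw : wOf K = ⊥ := by
    unfold wOf
    rw [h0]
    have h1 : omegaCenterOf (⊥ : Subgroup G) = ⊥ := by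
      unfold omegaCenterOf omegaOne
      rw [Subgroup.closure_eq_bot_iff]
      intro x hx
      have : x ∈ (⊥ : Subgroup G) := (Subgroup.mem_inf.1 hx.1).1
      exact Subgroup.mem_bot.1 this
    rw [h1]
    exact Subgroup.commutator_bot_left K
  rw [hw] at hcard
  simp at hcard

/-- PIECE CMP (5) (LOC (1) inlined). -/
theorem exists_max_ge_normalizer_comp {T K : Subgroup G} (hK : IsJComponent T K) :
    ∃ L : Subgroup G, IsMaximalTwoLocal L ∧ Subgroup.normalizer (K : Set G) ≤ L := by
  have h2 : IsTwoLocal (Subgroup.normalizer ((pCoreOf 2 K : Subgroup G) : Set G)) :=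
    ⟨_, Cfsg.Agent.Helper14.pCoreOf_isPGroup 2 K, pCoreOf_comp_ne_bot hK, rfl⟩
  obtain ⟨L, hle, hL⟩ := Finite.exists_le_maximal (p := fun L : Subgroup G => IsTwoLocal L) h2
  refine ⟨L, ⟨hL.prop, fun N' hN' hle' => le_antisymm (hL.le_of_ge hN' hle') hle'⟩, ?_⟩
  exact (Cfsg.Agent.Helper14.normalizer_le_normalizer_pCoreOf 2 K).trans hle

end Cfsg.Agent.Helper27.KU
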