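import Mathlib
import Cfsg.Prelude.Def_JComponents
import Cfsg.Agent.Lib.Helper13.JCASM1
import Cfsg.Agent.Lib.Helper13.JCASM2
import Cfsg.Agent.Lib.Helper7.JC48A
import Cfsg.Agent.Lib.Helper7.JC48B
import Cfsg.Agent.Lib.Helper14.Ambient
import Cfsg.Agent.Lib.Helper14.Kieler
import Cfsg.Agent.Lib.Helper23.KUABS
import Cfsg.Agent.Lib.Helper25.KULOC
import Cfsg.Agent.Lib.Helper18.KUTRN
import Cfsg.Agent.Lib.Helper27.KUCMP

/-!
# KS12b / S2950 (helper27): uniqueness of the maximal 2-local over `K J(T)` -- assembly.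

Paper proof: `plans/KS12b_notes.md`.  Pieces: ABS (helper23), TRN (helper18), LOC (helper25), CMP (helper27).
-/

set_option autoImplicit false
set_option linter.unusedVariables false
set_option linter.unusedSectionVars false
set_option linter.style.haveILetI false

namespace Cfsg.Agent.Helper27.KU

open Cfsg Cfsg.Agent.Helper13.JCFF

universe u

variable {G : Type u} [Group G] [Finite G]

/-! ## ASSEMBLY (helper27) -/

section assembly

open Cfsg.Agent.Helper7.JC48 Cfsg.Agent.Helper15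

variable (hL : IsCharacteristicTwoType G)
  (hN : ∀ N : Subgroup G, IsTwoLocal N → Group.IsSolvable ↥N)
  (hZ : ∀ S : Sylow 2 G, Subgroup.centralizer (omegaCenterOf (S : Subgroup G) : Set G) ≤
      Subgroup.normalizer ((S : Subgroup G) : Set G))
  (S : Sylow 2 G) {M : Subgroup G}
  (hMJ : Subgroup.normalizer (thompsonSubgroupOf 2 (S : Subgroup G) : Set G) ≤ M)
  {T : Subgroup G} (hT : T ∈ maxStraddlingTwoSubgroups M)

include hL hN hZ hMJ hT

/-- C1: a 2-local over `K J(T)` is in `𝓛(T')` for a Sylow 2-subgroup `T'` of it with `J(T') = J(T)`. -/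
theorem c1_setup {K : Subgroup G} (hK : IsJComponent T K) (hKM : ¬ K ≤ M) {L' : Subgroup G}
    (hL' : IsTwoLocal L') (hKL' : K ≤ L') (hJL' : thompsonSubgroupOf 2 T ≤ L') :
    ∃ T' : Subgroup G, IsSylowTwoIn T' L' ∧ thompsonSubgroupOf 2 T = thompsonSubgroupOf 2 T' ∧
      T' ≠ ⊥ ∧ L' ∈ jOvergroups T' := by
  have hLM : ¬ L' ≤ M := fun h => hKM (hKL'.trans h)
  obtain ⟨T', hJT', hT'⟩ := Cfsg.Agent.Helper25.JC.exists_isSylowTwoIn_of_le hJL'
    (isPGroup_J hT.1.1)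
  obtain ⟨hJ, -, hne, -⟩ := J_eq_and_le_of_max S hMJ hT hL' hLM hT' hJT'
  exact ⟨T', hT', hJ, hne, mem_jOvergroups_of_max hL S hMJ hT hL' hLM hT' hJT'⟩

theorem c1_J_le {K : Subgroup G} (hK : IsJComponent T K) (hKM : ¬ K ≤ M) {L' : Subgroup G}
    (hL' : IsTwoLocal L') (hKL' : K ≤ L') (hJL' : thompsonSubgroupOf 2 T ≤ L') :
    thompsonSubgroupOf 2 L' ≤ Subgroup.normalizer (K : Set G) := by
  obtain ⟨T', hT', hJ, hne, hmem⟩ := c1_setup hL hN hZ S hMJ hT hK hKM hL' hKL' hJL'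
  exact J_le_normalizer_comp hN hZ T' hne L' hmem ((isJComponent_congr hJ).1 hK) hKL'

theorem c1_comp_le {K : Subgroup G} (hK : IsJComponent T K) (hKM : ¬ K ≤ M) {L' : Subgroup G}
    (hL' : IsTwoLocal L') (hKL' : K ≤ L') (hJL' : thompsonSubgroupOf 2 T ≤ L')
    {K' : Subgroup G} (hK' : IsJComponent T K') (hK'L' : K' ≤ L') :
    K' ≤ Subgroup.normalizer (K : Set G) := by
  obtain ⟨T', hT', hJ, hne, hmem⟩ := c1_setup hL hN hZ S hMJ hT hK hKM hL' hKL' hJL'
  exact comp_le_normalizer_comp hN hZ T' hne L' hmem ((isJComponent_congr hJ).1 hK)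
    ((isJComponent_congr hJ).1 hK') hKL' hK'L'

theorem c1_core_ne {K : Subgroup G} (hK : IsJComponent T K) (hKM : ¬ K ≤ M) {L' : Subgroup G}
    (hL' : IsTwoLocal L') (hKL' : K ≤ L') (hJL' : thompsonSubgroupOf 2 T ≤ L') :
    pCoreOf 2 (thompsonSubgroupOf 2 L') ≠ ⊥ := by
  obtain ⟨T', hT', hJ, hne, hmem⟩ := c1_setup hL hN hZ S hMJ hT hK hKM hL' hKL' hJL'
  exact pCoreOf_J_ne_bot hN hZ T' hne L' hmem

/-- C3: the maximal 2-local over `N_G(K)` is unique. -/
theorem c3_unique {K : Subgroup G} (hK : IsJComponent T K) (hKM : ¬ K ≤ M) {La Lb : Subgroup G}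
    (ha : IsMaximalTwoLocal La) (hb : IsMaximalTwoLocal Lb)
    (hNa : Subgroup.normalizer (K : Set G) ≤ La) (hNb : Subgroup.normalizer (K : Set G) ≤ Lb) :
    La = Lb := by
  have hKN : K ≤ Subgroup.normalizer (K : Set G) := Subgroup.le_normalizer
  have hJN := J_le_normalizer_of_comp hK
  have h1 := c1_J_le hL hN hZ S hMJ hT hK hKM ha.1 (hKN.trans hNa) (hJN.trans hNa)
  have h2 := c1_J_le hL hN hZ S hMJ hT hK hKM hb.1 (hKN.trans hNb) (hJN.trans hNb)
  have e1 := J_eq_of_between h1 hNa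
  have e2 := J_eq_of_between h2 hNb
  exact eq_of_J_eq ha hb (e1.symm.trans e2)
    (c1_core_ne hL hN hZ S hMJ hT hK hKM ha.1 (hKN.trans hNa) (hJN.trans hNa))

/-- C4: closedness. -/
theorem c4_closed {K K' : Subgroup G} (hK : IsJComponent T K) (hKM : ¬ K ≤ M)
    (hK' : IsJComponent T K') (hK'M : ¬ K' ≤ M) {Lh : Subgroup G} (hLh : IsMaximalTwoLocal Lh)
    (hNK : Subgroup.normalizer (K : Set G) ≤ Lh) (hK'L : K' ≤ Lh) :
    Subgroup.normalizer (K' : Set G) ≤ Lh := by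
  obtain ⟨Lh', hLh', hNK'⟩ := exists_max_ge_normalizer_comp hK'
  have hKN : K ≤ Subgroup.normalizer (K : Set G) := Subgroup.le_normalizer
  have hK'N : K' ≤ Subgroup.normalizer (K' : Set G) := Subgroup.le_normalizer
  have hJN := J_le_normalizer_of_comp hK
  have hJN' := J_le_normalizer_of_comp hK'
  have hKLh : K ≤ Lh := hKN.trans hNK
  have hJLh : thompsonSubgroupOf 2 T ≤ Lh := hJN.trans hNK
  -- `J(Lh) ≤ N(K') ≤ Lh'`
  have h1 : thompsonSubgroupOf 2 Lh ≤ Lh' :=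
    (c1_J_le hL hN hZ S hMJ hT hK' hK'M hLh.1 hK'L hJLh).trans hNK'
  -- `K ≤ N(K') ≤ Lh'`
  have h2 : K ≤ Lh' :=
    (c1_comp_le hL hN hZ S hMJ hT hK' hK'M hLh.1 hK'L hJLh hK hKLh).trans hNK'
  have hJLh' : thompsonSubgroupOf 2 T ≤ Lh' := hJN'.trans hNK'
  -- `J(Lh') ≤ N(K) ≤ Lh`
  have h3 : thompsonSubgroupOf 2 Lh' ≤ Lh :=
    (c1_J_le hL hN hZ S hMJ hT hK hKM hLh'.1 h2 hJLh').trans hNK
  have e1 : thompsonSubgroupOf 2 (Lh ⊓ Lh') = thompsonSubgroupOf 2 Lh :=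
    J_eq_of_between (le_inf (Cfsg.Agent.Helper4.ZJ.thompsonSubgroupOf_le_self Lh) h1) inf_le_left
  have e2 : thompsonSubgroupOf 2 (Lh ⊓ Lh') = thompsonSubgroupOf 2 Lh' :=
    J_eq_of_between (le_inf h3 (Cfsg.Agent.Helper4.ZJ.thompsonSubgroupOf_le_self Lh')) inf_le_right
  have : Lh = Lh' := eq_of_J_eq hLh hLh' (e1.symm.trans e2)
    (c1_core_ne hL hN hZ S hMJ hT hK hKM hLh.1 hKLh hJLh)
  rw [this]
  exact hNK'

/-- C7: every maximal 2-local over `K J(T)` is the one over `N_G(K)`. -/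
theorem c7_unique {K : Subgroup G} (hK : IsJComponent T K) (hKM : ¬ K ≤ M) {Lh : Subgroup G}
    (hLh : IsMaximalTwoLocal Lh) (hNK : Subgroup.normalizer (K : Set G) ≤ Lh)
    {L' : Subgroup G} (hL' : IsMaximalTwoLocal L') (hKL' : K ≤ L')
    (hJL' : thompsonSubgroupOf 2 T ≤ L') : L' = Lh := by
  obtain ⟨T', hT', hJ, hne, hmem⟩ := c1_setup hL hN hZ S hMJ hT hK hKM hL'.1 hKL' hJL'
  have hKN : K ≤ Subgroup.normalizer (K : Set G) := Subgroup.le_normalizer
  -- the Frattini part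
  have hNY : L' ⊓ Subgroup.normalizer (thompsonSubgroupOf 2 T' : Set G) ≤ Lh := by
    intro g hg
    obtain ⟨hgL', hgN⟩ := Subgroup.mem_inf.1 hg
    rw [← hJ] at hgN
    have hgM : g ∈ M := normalizer_J_le_of_max S hMJ hT hgN
    -- the conjugate component
    have hKg : IsJComponent T (K.map (MulAut.conj g).toMonoidHom) := by
      have h1 : IsJComponent (T.map (MulAut.conj g).toMonoidHom)
          (K.map (MulAut.conj g).toMonoidHom) := (isJComponent_map_conj g).2 hK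
      refine (isJComponent_congr ?_).1 h1
      rw [Cfsg.Agent.Helper4.ZJ.thompsonSubgroupOf_map, map_conj_eq_of_mem_normalizer hgN]
    have hKgM : ¬ K.map (MulAut.conj g).toMonoidHom ≤ M := by
      intro hle
      apply hKM
      have := map_conj_mono hle g⁻¹
      rwa [map_conj_inv_map_conj, map_conj_eq_self_of_mem (M.inv_mem hgM)] at this
    have hKgL' : K.map (MulAut.conj g).toMonoidHom ≤ L' := by
      have := map_conj_mono hKL' g
      rwa [map_conj_eq_self_of_mem hgL'] at this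
    have hKgLh : K.map (MulAut.conj g).toMonoidHom ≤ Lh :=
      (c1_comp_le hL hN hZ S hMJ hT hK hKM hL'.1 hKL' hJL' hKg hKgL').trans hNK
    have h4 := c4_closed hL hN hZ S hMJ hT hK hKM hKg hKgM hLh hNK hKgLh
    rw [normalizer_map_conj] at h4
    -- `N(K) ≤ Lh^{g⁻¹}`
    have h5 : Subgroup.normalizer (K : Set G) ≤ Lh.map (MulAut.conj g⁻¹).toMonoidHom := by
      have := map_conj_mono h4 g⁻¹
      rwa [map_conj_inv_map_conj] at this
    have h6 : Lh.map (MulAut.conj g⁻¹).toMonoidHom = Lh :=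
      c3_unique hL hN hZ S hMJ hT hK hKM (isMaximalTwoLocal_map_conj g⁻¹ hLh) hLh h5 hNK
    have h7 : g⁻¹ ∈ Lh := normalizer_le_of_max hLh (mem_normalizer_of_map_conj_eq h6)
    simpa using Lh.inv_mem h7
  have hTY : T' ≤ Lh := by
    refine le_trans (le_inf hT'.1 ?_) hNY
    exact le_normalizer_J T'
  have hle : L' ≤ Lh := by
    apply le_of_comps_le hN hZ T' hne L' hmem Lh hTY hNY
    intro K' hK' hK'L'
    exact (c1_comp_le hL hN hZ S hMJ hT hK hKM hL'.1 hKL' hJL'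
      ((isJComponent_congr hJ).2 hK') hK'L').trans hNK
  exact (hL'.2 Lh hLh.1 hle).symm

/-- C9 = S2950 -/
theorem main_S2950 {K : Subgroup G} (hK : IsJComponent T K) (hKM : ¬ K ≤ M)
    (hKT : pCoreOf 2 (K ⊔ T) ≠ ⊥) :
    ∃ L : Subgroup G, IsMaximalTwoLocal L ∧ K ⊔ thompsonSubgroupOf 2 T ≤ L ∧
      (∀ L' : Subgroup G, IsMaximalTwoLocal L' → K ⊔ thompsonSubgroupOf 2 T ≤ L' → L' = L) ∧
      (K.subgroupOf L).IsSubnormal ∧ IsSylowTwoIn T L := by
  obtain ⟨Lh, hLh, hNK⟩ := exists_max_ge_normalizer_comp hK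
  have hKN : K ≤ Subgroup.normalizer (K : Set G) := Subgroup.le_normalizer
  have hJN := J_le_normalizer_of_comp hK
  have hKLh : K ≤ Lh := hKN.trans hNK
  have hJLh : thompsonSubgroupOf 2 T ≤ Lh := hJN.trans hNK
  refine ⟨Lh, hLh, sup_le hKLh hJLh, ?_, ?_, ?_⟩
  · intro L' hL' hle
    exact c7_unique hL hN hZ S hMJ hT hK hKM hLh hNK hL' (le_sup_left.trans hle)
      (le_sup_right.trans hle)
  · obtain ⟨T', hT', hJ, hne, hmem⟩ := c1_setup hL hN hZ S hMJ hT hK hKM hLh.1 hKLh hJLh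
    exact comp_subnormal hN hZ T' hne Lh hmem K ((isJComponent_congr hJ).1 hK) hKLh
  · -- `K ⊔ T` lies in a 2-local, hence in `Lh`
    have h2 : IsTwoLocal (Subgroup.normalizer ((pCoreOf 2 (K ⊔ T) : Subgroup G) : Set G)) :=
      ⟨_, Cfsg.Agent.Helper14.pCoreOf_isPGroup 2 _, hKT, rfl⟩
    obtain ⟨L'', hL'', hle⟩ := exists_maximalTwoLocal_ge h2
    have hKT' : K ⊔ T ≤ L'' := (Cfsg.Agent.Helper14.le_normalizer_pCoreOf 2 _).trans hle
    have hJT : thompsonSubgroupOf 2 T ≤ T := Cfsg.Agent.Helper4.ZJ.thompsonSubgroupOf_le_self T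
    have e : L'' = Lh := c7_unique hL hN hZ S hMJ hT hK hKM hLh hNK hL''
      (le_sup_left.trans hKT') ((hJT.trans le_sup_right).trans hKT')
    have hTLh : T ≤ Lh := e ▸ (le_sup_right.trans hKT')
    have hLM : ¬ Lh ≤ M := fun h => hKM (hKLh.trans h)
    exact (mem_jOvergroups_self_of_max hL S hMJ hT hLh.1 hLM hTLh).1

end assembly

end Cfsg.Agent.Helper27.KU

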