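import Mathlib
import Cfsg.Prelude.Def_JComponents
import Cfsg.Agent.Lib.Helper27.KUASM

/-!
# KS12c (helper27): definitions for S2951' - S2954' + `unique_max_over`.  Paper proof: `plans/KS12c_notes.md`.
-/

set_option autoImplicit false
set_option linter.unusedVariables false
set_option linter.unusedSectionVars false
set_option linter.style.haveILetI false

namespace Cfsg.Agent.Helper27.KV

open Cfsg Cfsg.Agent.Helper13.JCFF Cfsg.Agent.Helper27.KU

universe u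

variable {G : Type u} [Group G] [Finite G]

/-- `T` is not a Sylow 2-subgroup of `G`, or at least two maximal 2-locals contain `T` -/
def NonOpen (T : Subgroup G) : Prop :=
  (∀ S : Sylow 2 G, (S : Subgroup G) ≠ T) ∨
    ∃ L₁ L₂ : Subgroup G, IsMaximalTwoLocal L₁ ∧ IsMaximalTwoLocal L₂ ∧ L₁ ≠ L₂ ∧ T ≤ L₁ ∧ T ≤ L₂

/-- `Z₀ = Ω₁Z(J(T))` -/
abbrev Z0 (T : Subgroup G) : Subgroup G := omegaCenterOf (thompsonSubgroupOf 2 T)

/-- `D(K) = Z₀ ∩ Z(⟨K, J(T)⟩)` (the first factor in S2946) -/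
def DD (T K : Subgroup G) : Subgroup G :=
  Z0 T ⊓ ((K ⊔ thompsonSubgroupOf 2 T) ⊓
    Subgroup.centralizer ((K ⊔ thompsonSubgroupOf 2 T : Subgroup G) : Set G))

theorem dd_le_z0 (T K : Subgroup G) : DD T K ≤ Z0 T := inf_le_left

theorem dd_le_centralizer (T K : Subgroup G) :
    DD T K ≤ Subgroup.centralizer ((K ⊔ thompsonSubgroupOf 2 T : Subgroup G) : Set G) :=
  inf_le_right.trans inf_le_right

section ctx

variable (hL : IsCharacteristicTwoType G)
  (hN : ∀ N : Subgroup G, IsTwoLocal N → Group.IsSolvable ↥N)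
  (hZ : ∀ S : Sylow 2 G, Subgroup.centralizer (omegaCenterOf (S : Subgroup G) : Set G) ≤
      Subgroup.normalizer ((S : Subgroup G) : Set G))
  (S : Sylow 2 G) {M : Subgroup G}
  (hMJ : Subgroup.normalizer (thompsonSubgroupOf 2 (S : Subgroup G) : Set G) ≤ M)
  {T : Subgroup G} (hT : T ∈ maxStraddlingTwoSubgroups M)

include hL hN hZ hMJ hT

/-- any two maximal 2-locals over `K J(T)` coincide (from `c7_unique`) -/
theorem unique_max_over {K : Subgroup G} (hK : IsJComponent T K) (hKM : ¬ K ≤ M)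
    {L₁ L₂ : Subgroup G} (h₁ : IsMaximalTwoLocal L₁) (h₂ : IsMaximalTwoLocal L₂)
    (hK₁ : K ≤ L₁) (hJ₁ : thompsonSubgroupOf 2 T ≤ L₁) (hK₂ : K ≤ L₂)
    (hJ₂ : thompsonSubgroupOf 2 T ≤ L₂) : L₁ = L₂ := by
  obtain ⟨Lh, hLh, hNK⟩ := exists_max_ge_normalizer_comp hK
  rw [c7_unique hL hN hZ S hMJ hT hK hKM hLh hNK h₁ hK₁ hJ₁,
    c7_unique hL hN hZ S hMJ hT hK hKM hLh hNK h₂ hK₂ hJ₂]

end ctx

end Cfsg.Agent.Helper27.KV
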