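import Mathlib

/-!
# S0508 (helper27): shared definitions.  `BSWData` = the part of the conclusion of the abstract
Brauer-Suzuki-Wall theorem (S3282) that is used to build the Zassenhaus action.
-/

set_option autoImplicit false

namespace Cfsg.Agent.Helper27.GWB

universe u

/-- The output of the abstract Brauer-Suzuki-Wall theorem (S3282), as far as it is used. -/
structure BSWData (G : Type u) [Group G] (Q D : Subgroup G) : Prop where
  card : 2 * Nat.card G = Nat.card Q * (Nat.card Q + 1) * (Nat.card Q - 1)
  cent : ∀ x ∈ Q, x ≠ 1 → Subgroup.centralizer ({x} : Set G) = Q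
  cardD : 2 * Nat.card D + 1 = Nat.card Q
  inf : Q ⊓ D = ⊥
  norm : Subgroup.normalizer (Q : Set G) = Q ⊔ D

end Cfsg.Agent.Helper27.GWB
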