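import Mathlib
import Cfsg.Agent.Lib.Helper15.S62Defs

/-!
# S2362 piece S62-NILP (helper15 farm-out): `sub_one_pow_three`
-/

set_option autoImplicit false

open Polynomial

namespace Cfsg.Agent.Helper15.S62

universe u

section linalg

variable {F : Type u} [Field F] {V : Type u} [AddCommGroup V] [Module F V]

/-- the endomorphism ring of a nontrivial space over a field of characteristic `p` has
characteristic `p` -/
theorem s62_nilp_charP {C : Type u} [AddCommGroup C] [Module F C] [Nontrivial C]
    (p : ℕ) [CharP F p] : CharP (Module.End F C) p :=
  charP_of_injective_algebraMap (algebraMap F (Module.End F C)).injective p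

/-- PIECE S62-NILP -/
theorem sub_one_pow_three {C : Type u} [AddCommGroup C] [Module F C] [FiniteDimensional F C]
    (p : ℕ) [Fact p.Prime] [CharP F p] (hdim : Module.finrank F C = 3) (u : Module.End F C)
    (hu : u ^ p = 1) : (u - 1) ^ 3 = 0 := by
  have : Nontrivial C := Module.nontrivial_of_finrank_pos (R := F) (by omega)
  have : CharP (Module.End F C) p := s62_nilp_charP p
  have h1 : (u - 1) ^ p = 0 := by
    rw [sub_pow_char_of_commute p (Commute.one_right u), hu, one_pow, sub_self]
  have h2 := Module.End.ker_pow_le_ker_pow_finrank (u - 1) p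
  rw [h1, hdim, LinearMap.ker_zero, top_le_iff] at h2
  exact LinearMap.ker_eq_top.1 h2

end linalg

end Cfsg.Agent.Helper15.S62
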