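import Mathlib
import Cfsg.Prelude.Def_Classical
import Cfsg.Agent.Lib.Helper15.S74Defs
import Cfsg.Agent.Lib.Helper13.SympPrime
import Cfsg.Agent.Lib.Helper2.SpCenter

/-! S74-SPFACTS (S2474, design helper15). -/

set_option autoImplicit false

namespace Cfsg.Agent.Helper15.S74

universe u

variable {F : Type u} [Field F]

theorem s74_spfacts_LS_eq_iff (n : ℕ) (A B : Matrix.symplecticGroup (Fin n) F) :
    Cfsg.Agent.Helper13.SympSS.LS A = Cfsg.Agent.Helper13.SympSS.LS B ↔ A = B := by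
  unfold Cfsg.Agent.Helper13.SympSS.LS
  rw [EmbeddingLike.apply_eq_iff_eq]
  exact ⟨fun h => Subtype.ext h, fun h => by rw [h]⟩

theorem s74_spfacts_LS_one (n : ℕ) :
    Cfsg.Agent.Helper13.SympSS.LS (1 : Matrix.symplecticGroup (Fin n) F) = 1 := by
  unfold Cfsg.Agent.Helper13.SympSS.LS
  rw [OneMemClass.coe_one, map_one]

theorem s74_spfacts_LS_negOne (n : ℕ) :
    Cfsg.Agent.Helper13.SympSS.LS (Cfsg.Agent.Helper2.Sp.negOne (Fin n) F) = -1 := by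
  unfold Cfsg.Agent.Helper13.SympSS.LS
  rw [Cfsg.Agent.Helper2.Sp.negOne_coe, map_neg, map_one]

theorem s74_spfacts_LS_pow (n : ℕ) (A : Matrix.symplecticGroup (Fin n) F) (j : ℕ) :
    Cfsg.Agent.Helper13.SympSS.LS (A ^ j) = Cfsg.Agent.Helper13.SympSS.LS A ^ j := by
  unfold Cfsg.Agent.Helper13.SympSS.LS
  rw [SubmonoidClass.coe_pow, map_pow]

/-- S74-SPFACTS -/
theorem sp_facts (n : ℕ) (A : Matrix.symplecticGroup (Fin n) F) :
    Isom (Cfsg.Agent.Helper28.SympIso.sympBil n F) (Cfsg.Agent.Helper13.SympSS.LS A) ∧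
    orderOf (Cfsg.Agent.Helper13.SympSS.LS A) = orderOf A ∧
    (∀ j : ℕ, Cfsg.Agent.Helper13.SympSS.LS (A ^ j) = Cfsg.Agent.Helper13.SympSS.LS A ^ j) ∧
    (Cfsg.Agent.Helper13.SympSS.LS A = 1 ↔ A = 1) ∧
    (Cfsg.Agent.Helper13.SympSS.LS A = -1 ↔ A = Cfsg.Agent.Helper2.Sp.negOne (Fin n) F) := by
  refine ⟨?_, ?_, s74_spfacts_LS_pow n A, ?_, ?_⟩
  · exact (Cfsg.Agent.Helper13.SympSS.LS_altInv A).inv
  · rw [orderOf_eq_orderOf_iff]
    intro j
    rw [← s74_spfacts_LS_pow, ← s74_spfacts_LS_one n, s74_spfacts_LS_eq_iff]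
  · rw [← s74_spfacts_LS_one n, s74_spfacts_LS_eq_iff]
  · rw [← s74_spfacts_LS_negOne n, s74_spfacts_LS_eq_iff]

end Cfsg.Agent.Helper15.S74
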