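import Mathlib
import Cfsg.Prelude.Def_Classical
import Cfsg.Agent.Lib.Helper15.S74Defs
import Cfsg.Agent.Lib.Helper13.SympPrime
import Cfsg.Agent.Lib.Helper2.SpCenter

/-! S74-SPSPACE (S2474, design helper15). -/

set_option autoImplicit false

namespace Cfsg.Agent.Helper15.S74

universe u

variable {F : Type u} [Field F]

/-- S74-SPSPACE -/
theorem sp_space_facts (n : ℕ) :
    LND (Cfsg.Agent.Helper28.SympIso.sympBil n F) ∧
    Module.finrank F (Fin n ⊕ Fin n → F) = 2 * n := by
  refine ⟨(Cfsg.Agent.Helper28.SympIso.sympBil_nondegenerate n).1, ?_⟩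
  rw [Module.finrank_pi, Fintype.card_sum, Fintype.card_fin, two_mul]

end Cfsg.Agent.Helper15.S74
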