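import Mathlib
import Cfsg.Agent.Lib.Helper5.S74XDefs

/-! S74X-PLUSK (S2474 T4, sub-design helper5): the hyperbolic model on `K × K`. -/

set_option autoImplicit false

namespace Cfsg.Agent.Helper15.S74

universe v v₁ v₂ u

/-- the hyperbolic trace form on `K × K` -/
noncomputable def s74x_plusk_form (F : Type u) [Field F] (K : Type v) [Field K] [Algebra F K] :
    LinearMap.BilinForm F (K × K) :=
  (Algebra.traceForm F K).compl₁₂ (LinearMap.fst F K K) (LinearMap.snd F K K) -
    (Algebra.traceForm F K).compl₁₂ (LinearMap.snd F K K) (LinearMap.fst F K K)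

theorem s74x_plusk_form_apply (F : Type u) [Field F] (K : Type v) [Field K] [Algebra F K]
    (x y : K × K) :
    s74x_plusk_form F K x y = Algebra.trace F K (x.1 * y.2) - Algebra.trace F K (x.2 * y.1) := by
  simp [s74x_plusk_form, Algebra.traceForm_apply]

/-- `(a, b) ↦ (γ a, γ⁻¹ b)` -/
noncomputable def s74x_plusk_equiv (F : Type u) [Field F] {K : Type v} [Field K] [Algebra F K]
    (γ : K) (hγ : γ ≠ 0) : (K × K) ≃ₗ[F] (K × K) where
  toFun x := (γ * x.1, γ⁻¹ * x.2)
  map_add' x y := by simp [mul_add]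
  map_smul' c x := by simp
  invFun x := (γ⁻¹ * x.1, γ * x.2)
  left_inv x := by
    ext
    · simp [← mul_assoc, inv_mul_cancel₀ hγ]
    · simp [← mul_assoc, mul_inv_cancel₀ hγ]
  right_inv x := by
    ext
    · simp [← mul_assoc, mul_inv_cancel₀ hγ]
    · simp [← mul_assoc, inv_mul_cancel₀ hγ]

theorem s74x_plusk_equiv_apply (F : Type u) [Field F] {K : Type v} [Field K] [Algebra F K]
    (γ : K) (hγ : γ ≠ 0) (x : K × K) :
    s74x_plusk_equiv F γ hγ x = (γ * x.1, γ⁻¹ * x.2) := rfl

theorem s74x_plusk_equiv_pow_apply (F : Type u) [Field F] {K : Type v} [Field K] [Algebra F K]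
    (γ : K) (hγ : γ ≠ 0) (j : ℕ) (x : K × K) :
    ((s74x_plusk_equiv F γ hγ) ^ j) x = (γ ^ j * x.1, γ⁻¹ ^ j * x.2) := by
  induction j with
  | zero => simp
  | succ j ih =>
    rw [pow_succ', LinearEquiv.mul_apply, ih, s74x_plusk_equiv_apply]
    ext
    · simp [pow_succ', mul_assoc]
    · simp [pow_succ', mul_assoc]

/-- PIECE S74X-PLUSK -/
theorem plus_block {F : Type u} [Field F] [Fintype F] {K : Type v} [Field K] [Algebra F K]
    [Fintype K] (γ : K) (hγ : γ ≠ 0) :
    ∃ (ω : LinearMap.BilinForm F (K × K)) (g : (K × K) ≃ₗ[F] (K × K)),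
      (∀ x, ω x x = 0) ∧ (∀ x, (∀ y, ω x y = 0) → x = 0) ∧ (∀ x y, ω (g x) (g y) = ω x y) ∧
      orderOf g = orderOf γ ∧ ∀ m : ℕ, γ ^ m = -1 → ∀ x, (g ^ m) x = -x := by
  have hnd : (Algebra.traceForm F K).Nondegenerate := _root_.traceForm_nondegenerate F K
  refine ⟨s74x_plusk_form F K, s74x_plusk_equiv F γ hγ, ?_, ?_, ?_, ?_, ?_⟩
  · intro x
    rw [s74x_plusk_form_apply, mul_comm x.2 x.1, sub_self]
  · intro x hx
    have h1 : x.1 = 0 := by
      apply hnd.1
      intro b
      have := hx (0, b)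
      rw [s74x_plusk_form_apply] at this
      simpa [Algebra.traceForm_apply] using this
    have h2 : x.2 = 0 := by
      apply hnd.1
      intro a
      have := hx (a, 0)
      rw [s74x_plusk_form_apply] at this
      simpa [Algebra.traceForm_apply] using this
    exact Prod.ext h1 h2
  · intro x y
    rw [s74x_plusk_form_apply, s74x_plusk_form_apply, s74x_plusk_equiv_apply,
      s74x_plusk_equiv_apply]
    have e1 : γ * x.1 * (γ⁻¹ * y.2) = x.1 * y.2 := by
      field_simp
    have e2 : γ⁻¹ * x.2 * (γ * y.1) = x.2 * y.1 := by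
      field_simp
    simp only [e1, e2]
  · rw [orderOf_eq_orderOf_iff]
    intro j
    constructor
    · intro h
      have := s74x_plusk_equiv_pow_apply F γ hγ j (1, 0)
      rw [h] at this
      simpa using congrArg Prod.fst this.symm
    · intro h
      apply LinearEquiv.ext
      intro x
      rw [s74x_plusk_equiv_pow_apply, inv_pow, h]
      simp
  · intro m hm x
    rw [s74x_plusk_equiv_pow_apply, inv_pow, hm]
    ext
    · simp
    · simp [inv_neg]

end Cfsg.Agent.Helper15.S74
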