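import Mathlib
import Cfsg.Agent.Lib.Helper15.S64Defs
import Cfsg.Agent.Lib.Helper2.SzTorus2

/-! S64-NO13 (S3664, design helper15): no element of order 13 of `Sz(8)` is fixed by a field
automorphism with fixed field `F_2`. -/

set_option autoImplicit false
set_option linter.unusedSectionVars false
set_option linter.unusedVariables false

namespace Cfsg.Agent.Helper15.S64

open Matrix Cfsg.Agent.Helper2 Cfsg.Agent.Helper2.Sz

variable {F : Type*} [Field F] [Fintype F] (S : SzData F 1)
  (hF : Fintype.card F = 2 ^ (2 * 1 + 1))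

/-- PIECE S64-NO13 -/
theorem no13_fixed
    (hK : ∀ {M : Matrix (Fin 4) (Fin 4) F}, IrrMat.IrrData M 13 →
      ¬ ∀ i : ℕ, (M.charpoly.coeff i) ^ 2 = M.charpoly.coeff i)
    (n : Cfsg.Sz F 1) (hn : orderOf n = 13) (ψ : F ≃+* F)
    (hfix : ∀ x : F, ψ x = x → x ^ 2 = x) : S.fieldAut le_rfl hF ψ n ≠ n := by
  intro hcontra
  have hirr : IrrMat.IrrData (mat n) 13 :=
    S.irrData_of_orderOf hF (ℓ := 13) (by norm_num) (by norm_num) (by norm_num) hn
  apply hK hirr
  intro i
  apply hfix
  have h1 : (mat n).map ψ = mat n := by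
    rw [← mat_fieldAut S hF, hcontra]
  have h2 : ((mat n).map (ψ : F →+* F)).charpoly = (mat n).charpoly.map (ψ : F →+* F) :=
    Matrix.charpoly_map (mat n) (ψ : F →+* F)
  have h3 : (mat n).map (ψ : F →+* F) = mat n := h1
  rw [h3] at h2
  have h4 := congrArg (fun p => Polynomial.coeff p i) h2
  simp only [Polynomial.coeff_map] at h4
  exact h4.symm

end Cfsg.Agent.Helper15.S64
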