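import Mathlib
import Cfsg.Agent.Lib.Helper22.W2PDefs
import Cfsg.Agent.Lib.Helper22.StabAction
import Cfsg.Agent.Lib.Helper24.CharHom

/-!
# S0720, piece KERTRIV (helper27): the nontrivial constituents of the permutation character of a
faithful primitive group are faithful.

Character-theoretic proof: if the kernel `N` of `χ` is nontrivial it is transitive, so the
permutation character averages to `1` over every coset of `N`; as `χ` is constant on these
cosets, `⟨θ, χ⟩ = ⟨1, χ⟩ = 0`.
-/

set_option autoImplicit false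

namespace Cfsg.Agent.Helper22.W2P

open Cfsg Cfsg.Agent.Helper22.PermCent Cfsg.Agent.Helper24

open scoped ComplexConjugate

universe u v

namespace KERTRIV

variable {G : Type u} [Group G] {Ω : Type v} [Fintype Ω] [DecidableEq Ω] [MulAction G Ω]

/-- the permutation character as a sum of indicators -/
theorem theta_eq_sum (g : G) :
    theta G Ω g = ∑ x : Ω, if g • x = x then (1 : ℂ) else 0 := by
  classical
  unfold theta
  rw [Finset.sum_boole]
  congr 1
  exact Nat.subtype_card _ (fun x => by simp [MulAction.mem_fixedBy])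

omit [DecidableEq Ω] in
/-- in a transitive action all fibres of `n ↦ n • x` have the same size `|N| / |Ω|` -/
theorem card_fiber_mul (N : Subgroup G) [Finite N] [MulAction.IsPretransitive N Ω] (x y : Ω) :
    (Nat.card {n : N // n • x = y} : ℂ) * (Fintype.card Ω : ℂ) = (Nat.card N : ℂ) := by
  classical
  have h1 : ∀ y y' : Ω, Nat.card {n : N // n • x = y} = Nat.card {n : N // n • x = y'} := by
    intro y y'
    obtain ⟨m, hm⟩ := MulAction.exists_smul_eq N y y'
    refine Nat.card_congr ⟨fun n => ⟨m * n.1, by rw [mul_smul, n.2, hm]⟩,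
      fun n => ⟨m⁻¹ * n.1, by rw [mul_smul, n.2, ← hm, inv_smul_smul]⟩, ?_, ?_⟩
    · intro n; ext; simp
    · intro n; ext; simp
  have h2 : Nat.card N = ∑ y' : Ω, Nat.card {n : N // n • x = y'} := by
    rw [← Nat.card_sigma]
    exact Nat.card_congr (Equiv.sigmaFiberEquiv (fun n : N => n • x)).symm
  have h3 : Nat.card N = Fintype.card Ω * Nat.card {n : N // n • x = y} := by
    rw [h2, Finset.sum_congr rfl (fun y' _ => h1 y' y), Finset.sum_const, Finset.card_univ,
      smul_eq_mul]
  rw [h3]; push_cast; ring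

/-- the permutation character sums to `|N|` over every coset of a transitive subgroup -/
theorem sum_theta_coset [Nonempty Ω] (N : Subgroup G) [Fintype N]
    [MulAction.IsPretransitive N Ω] (g : G) :
    ∑ n : N, theta G Ω (g * n) = (Nat.card N : ℂ) := by
  classical
  simp only [theta_eq_sum]
  rw [Finset.sum_comm]
  have hΩ : (Fintype.card Ω : ℂ) ≠ 0 := by
    exact_mod_cast Fintype.card_ne_zero
  have key : ∀ x : Ω, ∑ n : N, (if (g * (n : G)) • x = x then (1 : ℂ) else 0) =
      (Nat.card N : ℂ) / (Fintype.card Ω : ℂ) := by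
    intro x
    rw [Finset.sum_boole, eq_div_iff hΩ, ← card_fiber_mul N x (g⁻¹ • x)]
    congr 2
    symm
    refine Nat.subtype_card _ (fun n => ?_)
    simp only [Finset.mem_filter, Finset.mem_univ, true_and]
    rw [mul_smul, Subgroup.smul_def, eq_inv_smul_iff]
  rw [Finset.sum_congr rfl (fun x _ => key x), Finset.sum_const, Finset.card_univ, nsmul_eq_mul]
  field_simp

end KERTRIV

variable {G : Type u} [Group G] [Fintype G] {Ω : Type v} [Fintype Ω] [DecidableEq Ω]
  [MulAction G Ω]

/-- PIECE KERTRIV. -/
theorem ker_trivial [FaithfulSMul G Ω] (hprim : MulAction.IsPreprimitive G Ω)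
    {χ : G → ℂ} (hχ : IsIrrCharacter G χ) (hne : χ ≠ fun _ => 1)
    (hc : classInner (theta G Ω) χ ≠ 0) : ∀ g : G, χ g = χ 1 → g = 1 := by
  classical
  intro g hg
  by_contra hg1
  have hne' : Nonempty Ω := by
    by_contra hemp
    rw [not_nonempty_iff] at hemp
    exact hg1 (FaithfulSMul.eq_of_smul_eq_smul (α := Ω) (fun x => isEmptyElim x))
  have hχc : IsCharacter G χ := isCharacter_of_isIrrCharacter hχ
  set N : Subgroup G := charKer hχc with hNdef
  have : N.Normal := charKer_normal hχc
  have hN : N ≠ ⊥ := by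
    intro h
    have hgN : g ∈ N := hg
    rw [h, Subgroup.mem_bot] at hgN
    exact hg1 hgN
  have := hprim
  have : MulAction.IsPretransitive N Ω :=
    Cfsg.Agent.Helper22.isPretransitive_of_normal_of_ne_bot N hN
  apply hc
  -- the sum `S`
  have hshift : ∀ n : N, ∑ a : G, theta G Ω a * conj (χ a) =
      ∑ a : G, theta G Ω (a * n) * conj (χ a) := by
    intro n
    rw [← Equiv.sum_comp (Equiv.mulRight (n : G))]
    refine Finset.sum_congr rfl fun a _ => ?_
    simp only [Equiv.coe_mulRight]
    rw [char_mul_of_mem_charKer hχc n.2 a]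
  have hNne : (Nat.card N : ℂ) ≠ 0 := by
    exact_mod_cast (Nat.card_pos (α := N)).ne'
  have hS : (Nat.card N : ℂ) * ∑ a : G, theta G Ω a * conj (χ a) =
      (Nat.card N : ℂ) * ∑ a : G, conj (χ a) := by
    have e1 : (Nat.card N : ℂ) * ∑ a : G, theta G Ω a * conj (χ a) =
        ∑ n : N, ∑ a : G, theta G Ω (a * n) * conj (χ a) := by
      rw [← Finset.sum_congr rfl (fun n _ => hshift n), Finset.sum_const, Finset.card_univ,
        nsmul_eq_mul, Nat.card_eq_fintype_card]
    rw [e1, Finset.sum_comm, Finset.mul_sum]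
    refine Finset.sum_congr rfl fun a _ => ?_
    rw [← Finset.sum_mul, KERTRIV.sum_theta_coset N a]
  have hS' := mul_left_cancel₀ hNne hS
  have h1 := irr_orthogonality hχ (isIrrCharacter_one (G := G))
  rw [if_neg hne] at h1
  unfold classInner at h1 ⊢
  rw [hS']
  have hGne : (Nat.card G : ℂ) ≠ 0 := by
    exact_mod_cast (Nat.card_pos (α := G)).ne'
  have h2 : ∑ a : G, χ a = 0 := by
    rcases mul_eq_zero.mp h1 with h | h
    · exact absurd (inv_eq_zero.mp h) hGne
    · simpa using h
  have h3 : ∑ a : G, conj (χ a) = conj (∑ a : G, χ a) := by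
    rw [map_sum]
  rw [h3, h2, map_zero, mul_zero]

end Cfsg.Agent.Helper22.W2P
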