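import Mathlib
import Cfsg.Agent.Lib.Helper22.W2PDefs
import Cfsg.Agent.Lib.Helper22.StabAction
import Cfsg.Agent.Lib.Helper24.CharHom
import Cfsg.Agent.Lib.Helper27.W2PKERTRIV
import Cfsg.Agent.S4503

/-!
# S0720, piece YCASES (helper27): the set `Y` of the remaining constituents of the permutation
character of a primitive group of degree `2p` has one member of degree `p - 1` or two members of
degree `(p - 1) / 2` (Brauer's bound S4503).
-/

set_option autoImplicit false

namespace Cfsg.Agent.Helper22.W2P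

open Cfsg Cfsg.Agent.Helper22.PermCent Cfsg.Agent.Helper24

open scoped ComplexConjugate

universe u v

variable {G : Type u} [Group G] [Fintype G] {Ω : Type v} [Fintype Ω] [DecidableEq Ω]
  [MulAction G Ω]

namespace YCASES

omit [Fintype G] [DecidableEq Ω] in
/-- the value of the permutation character at the identity -/
theorem theta_one : theta G Ω 1 = (Fintype.card Ω : ℂ) := by
  classical
  unfold theta
  rw [Nat.card_eq_fintype_card]
  congr 1
  rw [Fintype.card_subtype]
  simp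

omit [Fintype Ω] [DecidableEq Ω] in
/-- every member of `Y` is a constituent of the permutation character -/
theorem inner_theta_mem {p : ℕ} {π : G} {χ₁ : G → ℂ} {Y : Finset (G → ℂ)}
    (hD : Decomp Ω p π χ₁ Y) {ψ : G → ℂ} (hψ : ψ ∈ Y) : classInner (theta G Ω) ψ = 1 := by
  classical
  have hψi := hD.irrY ψ hψ
  have hfun : theta G Ω = (fun _ : G => (1 : ℂ)) + χ₁ + ∑ φ ∈ Y, φ := by
    rw [hD.theta_eq]
    funext g
    simp [Finset.sum_apply]
  rw [hfun, classInner_add_left, classInner_add_left, classInner_sum_left,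
    irr_orthogonality isIrrCharacter_one hψi, irr_orthogonality hD.irr₁ hψi]
  have h1 : (fun _ : G => (1 : ℂ)) ≠ ψ := fun h => hD.one_notMem (h ▸ hψ)
  have h2 : χ₁ ≠ ψ := fun h => hD.chi_notMem (h ▸ hψ)
  rw [if_neg h1, if_neg h2, zero_add, zero_add]
  rw [Finset.sum_congr rfl (fun φ hφ => irr_orthogonality (hD.irrY φ hφ) hψi)]
  rw [Finset.sum_ite_eq' Y ψ]
  simp [hψ]

omit [DecidableEq Ω] in
/-- a transitive subgroup has order divisible by the degree -/
theorem card_dvd_of_transitive (N : Subgroup G) [MulAction.IsPretransitive N Ω] [Nonempty Ω] :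
    Fintype.card Ω ∣ Nat.card N := by
  obtain ⟨x⟩ := ‹Nonempty Ω›
  have h := KERTRIV.card_fiber_mul N x x
  refine ⟨Nat.card {n : N // n • x = x}, ?_⟩
  have : ((Nat.card N : ℕ) : ℂ) = ((Fintype.card Ω * Nat.card {n : N // n • x = x} : ℕ) : ℂ) := by
    rw [← h]; push_cast; ring
  exact_mod_cast this

end YCASES

/-- PIECE YCASES. -/
theorem Y_cases [FaithfulSMul G Ω] (hprim : MulAction.IsPreprimitive G Ω) (p : ℕ)
    [Fact p.Prime] (hodd : p ≠ 2) (hΩ : Fintype.card Ω = 2 * p) (π : G) (hπ : orderOf π = p)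
    (hsq : ¬ p ^ 2 ∣ Nat.card G) {χ₁ : G → ℂ} {Y : Finset (G → ℂ)} (hD : Decomp Ω p π χ₁ Y) :
    (∃ ψ : G → ℂ, Y = {ψ} ∧ ψ 1 = (p : ℂ) - 1) ∨
      ∃ ψ ψ' : G → ℂ, ψ ≠ ψ' ∧ Y = {ψ, ψ'} ∧ 2 * ψ 1 = (p : ℂ) - 1 ∧ 2 * ψ' 1 = (p : ℂ) - 1 := by
  classical
  have hp : p.Prime := Fact.out
  have hp2 : 2 ≤ p := hp.two_le
  have hpodd : p % 2 = 1 := by
    rcases hp.eq_two_or_odd with h | h
    · exact absurd h hodd
    · exact h
  have hne : Nonempty Ω := by
    apply Fintype.card_pos_iff.mp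
    rw [hΩ]; omega
  -- degrees
  have hdeg : ∀ ψ ∈ Y, ψ 1 = (charDegree ψ : ℂ) := fun ψ hψ =>
    irr_one_eq_charDegree (hD.irrY ψ hψ)
  -- the degree sum
  have hsum : ∑ ψ ∈ Y, charDegree ψ = p - 1 := by
    have h1 := congrFun hD.theta_eq 1
    rw [YCASES.theta_one, hΩ, hD.deg₁] at h1
    rw [Finset.sum_congr rfl hdeg] at h1
    have h2 : ((2 * p : ℕ) : ℂ) = ((1 + p + ∑ ψ ∈ Y, charDegree ψ : ℕ) : ℂ) := by
      push_cast
      push_cast at h1
      exact h1
    have h3 : 2 * p = 1 + p + ∑ ψ ∈ Y, charDegree ψ := by exact_mod_cast h2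
    omega
  -- no normal subgroup of order p
  have hnn : ∀ H : Subgroup G, H.Normal → Nat.card H ≠ p := by
    intro H hH hc
    have hHne : H ≠ ⊥ := by
      intro h
      rw [h, Subgroup.card_bot] at hc
      omega
    have := hprim
    have : MulAction.IsPretransitive H Ω :=
      Cfsg.Agent.Helper22.isPretransitive_of_normal_of_ne_bot H hHne
    have hd := YCASES.card_dvd_of_transitive (Ω := Ω) H
    rw [hΩ, hc] at hd
    have := Nat.le_of_dvd (by omega) hd
    omega
  have hdiv : p ∣ Nat.card G := hπ ▸ orderOf_dvd_natCard π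
  -- Brauer's bound for each member of Y
  have hbound : ∀ ψ ∈ Y, p ≤ 2 * charDegree ψ + 1 := by
    intro ψ hψ
    have hψi := hD.irrY ψ hψ
    have hne1 : ψ ≠ fun _ => 1 := fun h => hD.one_notMem (h ▸ hψ)
    have hc : classInner (theta G Ω) ψ ≠ 0 := by
      rw [YCASES.inner_theta_mem hD hψ]; exact one_ne_zero
    exact Cfsg.Agent.S4503.result p hp hdiv hsq hnn ψ (isCharacter_of_isIrrCharacter hψi)
      (ker_trivial hprim hψi hne1 hc)
  -- counting
  obtain ⟨h, hh⟩ : ∃ h, p = 2 * h + 1 := ⟨p / 2, by omega⟩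
  have hh1 : 1 ≤ h := by omega
  have hge : ∀ ψ ∈ Y, h ≤ charDegree ψ := by
    intro ψ hψ
    have := hbound ψ hψ
    omega
  have hcard : Y.card * h ≤ p - 1 := by
    rw [← hsum, ← smul_eq_mul, ← Finset.sum_const]
    exact Finset.sum_le_sum hge
  have hcard2 : Y.card ≤ 2 := by
    by_contra hlt
    have hlt' : 3 ≤ Y.card := by omega
    have : 3 * h ≤ Y.card * h := Nat.mul_le_mul_right h hlt'
    omega
  have hcard0 : Y.card ≠ 0 := by
    intro h0
    rw [Finset.card_eq_zero] at h0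
    rw [h0, Finset.sum_empty] at hsum
    omega
  have hcases : Y.card = 1 ∨ Y.card = 2 := by omega
  rcases hcases with h1 | h2
  · left
    obtain ⟨ψ, hψ⟩ := Finset.card_eq_one.mp h1
    refine ⟨ψ, hψ, ?_⟩
    rw [hψ, Finset.sum_singleton] at hsum
    rw [hdeg ψ (by rw [hψ]; exact Finset.mem_singleton_self ψ), hsum]
    rw [Nat.cast_sub (by omega)]
    simp
  · right
    obtain ⟨ψ, ψ', hne', hY⟩ := Finset.card_eq_two.mp h2
    refine ⟨ψ, ψ', hne', hY, ?_, ?_⟩
    · have hm : ψ ∈ Y := by rw [hY]; simp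
      have hm' : ψ' ∈ Y := by rw [hY]; simp
      rw [hY, Finset.sum_pair hne'] at hsum
      have := hge ψ hm
      have := hge ψ' hm'
      have he : 2 * charDegree ψ = p - 1 := by omega
      rw [hdeg ψ hm]
      have : ((2 * charDegree ψ : ℕ) : ℂ) = ((p - 1 : ℕ) : ℂ) := by rw [he]
      rw [Nat.cast_sub (by omega)] at this
      push_cast at this
      exact this
    · have hm : ψ ∈ Y := by rw [hY]; simp
      have hm' : ψ' ∈ Y := by rw [hY]; simp
      rw [hY, Finset.sum_pair hne'] at hsum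
      have := hge ψ hm
      have := hge ψ' hm'
      have he : 2 * charDegree ψ' = p - 1 := by omega
      rw [hdeg ψ' hm']
      have : ((2 * charDegree ψ' : ℕ) : ℂ) = ((p - 1 : ℕ) : ℂ) := by rw [he]
      rw [Nat.cast_sub (by omega)] at this
      push_cast at this
      exact this

end Cfsg.Agent.Helper22.W2P
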