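import Mathlib
import Cfsg.Agent.Lib.Helper3.SmallOrd
import Cfsg.Agent.Lib.Lead.PermTools
import Cfsg.Agent.Lib.Helper27.FixTools2
import Cfsg.Agent.Lib.Helper27.Ord840
import Cfsg.Agent.Lib.Helper27.Ord612

set_option autoImplicit false
open Cfsg

/-!
Piece N19 of S1022: the Sylow 19 data of a simple group of order 459648.
-/

namespace Cfsg.Agent.Helper27.Ord

set_option maxRecDepth 4000 in
theorem n19_cases (n : ℕ) (h1 : n ∣ 24192) (h2 : n % 19 = 1) (h3 : n ≠ 1) :
    n = 96 ∨ n = 1008 := by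
  have hmem : n ∈ Nat.divisors 24192 := Nat.mem_divisors.2 ⟨h1, by norm_num⟩
  simp only [Nat.divisors_ofNat] at hmem
  simp only [Finset.mem_insert, Finset.mem_singleton] at hmem
  omega

end Cfsg.Agent.Helper27.Ord

namespace Cfsg.Agent.Helper3.Ord459

open Cfsg.Agent.Helper3.SmallOrd

variable {G : Type*} [Group G] [Finite G] [IsSimpleGroup G]

/-- N19: the Sylow 19 data. `n_19 = 1008`, `|N(P)| = 456`, and `|C(P)|` is 76, 152 or 228. -/
theorem data (h : Nat.card G = 459648) (P : Sylow 19 G) :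
    Nat.card (P : Subgroup G) = 19 ∧ Nat.card (Sylow 19 G) = 1008 ∧
    Nat.card (Subgroup.normalizer ((P : Subgroup G) : Set G)) = 456 ∧
    (Nat.card (Subgroup.centralizer ((P : Subgroup G) : Set G)) = 76 ∨
      Nat.card (Subgroup.centralizer ((P : Subgroup G) : Set G)) = 152 ∨
      Nat.card (Subgroup.centralizer ((P : Subgroup G) : Set G)) = 228) := by
  have hG : ∃ x y : G, x * y ≠ y * x :=
    Cfsg.Agent.Lead.nonabelian_of_not_prime (by rw [h]; norm_num)
  have : Fact (Nat.Prime 19) := ⟨by norm_num⟩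
  have : Fact (Nat.Prime 7) := ⟨by norm_num⟩
  obtain ⟨h19d, h19m, h19n, -, h19P⟩ :=
    basic hG (p := 19) (a := 1) (m := 24192) Nat.one_pos (by rw [h]; norm_num) (by norm_num)
  have hP19 : ∀ R : Sylow 19 G, Nat.card (R : Subgroup G) = 19 := fun R => by
    have := (h19P R).1
    rwa [pow_one] at this
  have hP := hP19 P
  have hNP := (h19P P).2
  have hr : (Subgroup.centralizer ((P : Subgroup G) : Set G)).relIndex
      (Subgroup.normalizer ((P : Subgroup G) : Set G)) ∣ 18 :=
    Cfsg.Agent.Lead.relIndex_centralizer_normalizer_dvd P hP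
  have hr1 : (Subgroup.centralizer ((P : Subgroup G) : Set G)).relIndex
      (Subgroup.normalizer ((P : Subgroup G) : Set G)) ≠ 1 := fun h1 =>
    Cfsg.Agent.S0073.not_normalizer_le_centralizer hG P (by rw [h]; norm_num)
      (Subgroup.relIndex_eq_one.1 h1)
  have hmul := Cfsg.Agent.Helper27.Ord.card_centralizer_mul_relIndex (P : Subgroup G)
  have hn := Cfsg.Agent.Helper27.Ord.n19_cases _ h19d h19m h19n
  obtain ⟨r, hr'⟩ : ∃ r, r = (Subgroup.centralizer ((P : Subgroup G) : Set G)).relIndex
    (Subgroup.normalizer ((P : Subgroup G) : Set G)) := ⟨_, rfl⟩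
  obtain ⟨c, hc'⟩ : ∃ c, c = Nat.card (Subgroup.centralizer ((P : Subgroup G) : Set G)) :=
    ⟨_, rfl⟩
  rw [← hr'] at hr hr1 hmul
  have hr18 : r ≤ 18 := Nat.le_of_dvd (by norm_num) hr
  rcases hn with hn | hn
  · exfalso
    rw [hn, h] at hNP
    have hN : Nat.card (Subgroup.normalizer ((P : Subgroup G) : Set G)) = 4788 := by omega
    rw [hN] at hmul
    have h7C : 7 ∣ Nat.card (Subgroup.centralizer ((P : Subgroup G) : Set G)) := by
      rw [← hc'] at hmul ⊢
      clear hr' hc'
      interval_cases r <;> omega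
    obtain ⟨y, hy⟩ := exists_prime_orderOf_dvd_card'
      (G := Subgroup.centralizer ((P : Subgroup G) : Set G)) 7 h7C
    obtain ⟨x, hx⟩ := exists_prime_orderOf_dvd_card' (G := (P : Subgroup G)) 19 (by rw [hP])
    have hy7 : orderOf (y : G) = 7 := by rw [Subgroup.orderOf_coe]; exact hy
    have hx19 : orderOf (x : G) = 19 := by rw [Subgroup.orderOf_coe]; exact hx
    have hcomm : Commute (y : G) (x : G) :=
      ((Subgroup.mem_centralizer_iff.1 y.2) (x : G) x.2).symm
    have hyy : (y : G) ^ 7 = 1 := by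
      have := pow_orderOf_eq_one (y : G)
      rwa [hy7] at this
    have hxx : (x : G) ^ 19 = 1 := by
      have := pow_orderOf_eq_one (x : G)
      rwa [hx19] at this
    have hx1 : (x : G) ≠ 1 := by
      intro h1
      rw [h1, orderOf_one] at hx19
      omega
    have ha := Cfsg.Agent.Helper27.FixT.card_modEq_card_fixedBy (X := Sylow 19 G) (p := 7)
      (k := 1) (y : G) (by rw [pow_one]; exact hyy)
    have hb := Cfsg.Agent.Helper27.FixT.card_fixedBy_modEq_one_of_commute (X := Sylow 19 G)
      (p := 19) (k := 1) (y : G) (x : G) hcomm (by rw [pow_one]; exact hxx) P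
      (Sylow.smul_eq_iff_mem_normalizer.2 (Subgroup.centralizer_le_normalizer _ y.2))
      (Sylow.smul_eq_iff_mem_normalizer.2 (Subgroup.le_normalizer x.2))
      (by
        intro R _ hxR
        exact (Cfsg.Agent.Helper27.Ord.sylow_eq_of_mem_normalizer P R hP (hP19 R) x.2 hx1
          (Sylow.smul_eq_iff_mem_normalizer.1 hxR)).symm)
    have hle : Nat.card (MulAction.fixedBy (Sylow 19 G) (y : G)) ≤ Nat.card (Sylow 19 G) :=
      Finite.card_subtype_le _
    obtain ⟨f, hf⟩ : ∃ f, f = Nat.card (MulAction.fixedBy (Sylow 19 G) (y : G)) := ⟨_, rfl⟩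
    rw [← hf] at ha hb hle
    rw [hn] at ha hle
    have hf96 : f = 96 := by
      unfold Nat.ModEq at ha hb
      clear hf
      omega
    have hall : ∀ R : Sylow 19 G, (y : G) • R = R := by
      intro R
      by_contra hR
      have h1 := Finite.card_subtype_lt
        (p := fun R : Sylow 19 G => R ∈ MulAction.fixedBy (Sylow 19 G) (y : G)) (x := R) hR
      have h2 : Nat.card {R : Sylow 19 G // R ∈ MulAction.fixedBy (Sylow 19 G) (y : G)} = 96 := by
        rw [← hf96, hf]
      rw [h2, hn] at h1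
      omega
    have hNt := Cfsg.Agent.Lead.sylow_normalizer_ne_top hG (p := 19) (by rw [h]; norm_num) P
    have hy1 := Cfsg.Agent.Helper27.FixT.eq_one_of_forall_smul_eq (X := Sylow 19 G)
      (Cfsg.Agent.Helper27.Ord.exists_smul_sylow_ne P hNt) (y : G) hall
    rw [hy1, orderOf_one] at hy7
    omega
  · rw [hn, h] at hNP
    have hN : Nat.card (Subgroup.normalizer ((P : Subgroup G) : Set G)) = 456 := by omega
    rw [hN] at hmul
    refine ⟨hP, hn, hN, ?_⟩
    rw [← hc'] at hmul ⊢
    clear hr' hc'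
    interval_cases r <;> omega

end Cfsg.Agent.Helper3.Ord459
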