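import Mathlib
import Cfsg.Agent.Lib.Helper2.Psln25

/-! AO-MINP (S2262, design helper17): `minpoly_map_of_conj`. -/

set_option autoImplicit false

namespace Cfsg.Agent.Helper17.AO

open Polynomial Matrix Cfsg.Agent.Helper2.PN

section mat
variable {F : Type*} [Field F] {n : ℕ}

theorem ao_minp_aeval_map (σ : RingAut F) (A : Matrix (Fin n) (Fin n) F) (p : F[X]) :
    aeval (A.map σ) (p.map (σ : F →+* F)) = (aeval A p).map σ := by
  have hcomp : (algebraMap F (Matrix (Fin n) (Fin n) F)).comp (σ : F →+* F) =
      (RingHom.mapMatrix (σ : F →+* F)).comp (algebraMap F (Matrix (Fin n) (Fin n) F)) := by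
    ext x i j
    by_cases hij : i = j
    · subst hij
      simp [Matrix.algebraMap_matrix_apply]
    · simp [Matrix.algebraMap_matrix_apply, hij]
  have h := Polynomial.map_aeval_eq_aeval_map hcomp p A
  rw [RingHom.mapMatrix_apply, RingHom.mapMatrix_apply] at h
  exact h.symm

theorem ao_minp_semiconj {R : Type*} [Ring R] [Algebra F R] (P A B : R) (h : P * B = A * P)
    (p : F[X]) : P * aeval B p = aeval A p * P := by
  induction p using Polynomial.induction_on' with
  | add p q hp hq => rw [map_add, map_add, mul_add, add_mul, hp, hq]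
  | monomial k a =>
    have hk : P * B ^ k = A ^ k * P := SemiconjBy.pow_right (show SemiconjBy P B A from h) k
    rw [aeval_monomial, aeval_monomial, ← mul_assoc, ← Algebra.commutes a P, mul_assoc, hk,
      mul_assoc]

/-- AO-MINP -/
theorem minpoly_map_of_conj (σ : RingAut F) (M P : GL (Fin n) F)
    (h : fieldGLHom σ M = P⁻¹ * M * P) :
    (minpoly F (M : Matrix (Fin n) (Fin n) F)).map (σ : F →+* F) =
      minpoly F (M : Matrix (Fin n) (Fin n) F) := by
  have h1 : P * fieldGLHom σ M = M * P := by
    rw [h]
    group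
  have h2 : (P : Matrix (Fin n) (Fin n) F) * ((M : Matrix (Fin n) (Fin n) F).map σ) =
      (M : Matrix (Fin n) (Fin n) F) * (P : Matrix (Fin n) (Fin n) F) := by
    have := congrArg Units.val h1
    rw [Units.val_mul, Units.val_mul, fieldGLHom_coe'] at this
    exact this
  set A : Matrix (Fin n) (Fin n) F := (M : Matrix (Fin n) (Fin n) F) with hA
  have hint : IsIntegral F A := Matrix.isIntegral A
  have hmon : (minpoly F A).Monic := minpoly.monic hint
  have h3 : aeval (A.map σ) ((minpoly F A).map (σ : F →+* F)) = 0 := by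
    rw [ao_minp_aeval_map, minpoly.aeval]
    simp
  have h4 := ao_minp_semiconj (F := F) (P : Matrix (Fin n) (Fin n) F) A (A.map σ) h2
    ((minpoly F A).map (σ : F →+* F))
  rw [h3, mul_zero] at h4
  have h5 : aeval A ((minpoly F A).map (σ : F →+* F)) = 0 :=
    (Units.mul_left_eq_zero P).mp h4.symm
  have hdvd : minpoly F A ∣ (minpoly F A).map (σ : F →+* F) := minpoly.dvd F A h5
  exact Polynomial.eq_of_monic_of_dvd_of_natDegree_le hmon (hmon.map _) hdvd
    (by rw [Polynomial.natDegree_map])

end mat

end Cfsg.Agent.Helper17.AO
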