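import Mathlib

/-! AO-P1S (S2262, design helper17): `real_bound_two`. -/

set_option autoImplicit false

namespace Cfsg.Agent.Helper17.AO

open Polynomial Matrix

section poly
variable {F : Type*} [Field F]

theorem ao_p1s_dvd_pow (μ : F[X]) (hμ : μ.Monic) (N : ℕ) (h : μ ∣ (X - 1) ^ N) :
    μ = (X - 1) ^ μ.natDegree := by
  have hprime : Prime (X - 1 : F[X]) := by
    have := Polynomial.prime_X_sub_C (1 : F)
    rwa [map_one] at this
  obtain ⟨i, -, hi⟩ := (dvd_prime_pow hprime N).mp h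
  have hmon : ((X - 1 : F[X]) ^ i).Monic := by
    have := (Polynomial.monic_X_sub_C (1 : F)).pow i
    rwa [map_one] at this
  have heq : μ = (X - 1) ^ i := eq_of_monic_of_associated hμ hmon hi
  have hdeg : μ.natDegree = i := by
    rw [heq]
    have h1 : ((X - C (1 : F)) ^ i).natDegree = i := by
      rw [Polynomial.natDegree_pow, Polynomial.natDegree_X_sub_C, mul_one]
    rwa [map_one] at h1
  rw [hdeg]
  exact heq

/-- AO-P1S -/
theorem real_bound_two [Fintype F] (hq : Fintype.card F = 2) (μ : F[X]) (hμ : μ.Monic)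
    (n : ℕ) (hn : n = 4 ∨ n = 5) (hdeg : μ.natDegree ≤ n) (N : ℕ) (hN0 : 0 < N)
    (hN : N ≤ 2 ^ (n - 1)) (hdvd : μ ∣ X ^ N - 1 ∨ μ ∣ X ^ N + 1) :
    ∃ N' : ℕ, 0 < N' ∧ 2 * N' ≤ 2 ^ n - 1 ∧ μ ∣ X ^ N' - 1 := by
  have h2 : (2 : F) = 0 := by
    have := Nat.cast_card_eq_zero F
    rw [hq] at this
    exact_mod_cast this
  have : CharP F 2 := CharTwo.of_one_ne_zero_of_two_eq_zero one_ne_zero h2
  have : Fact (Nat.Prime 2) := ⟨Nat.prime_two⟩
  have hdvd' : μ ∣ X ^ N - 1 := by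
    rcases hdvd with h | h
    · exact h
    · rwa [CharTwo.sub_eq_add]
  have hpow : ∀ k : ℕ, ((X : F[X]) - 1) ^ (2 ^ k) = X ^ (2 ^ k) - 1 := by
    intro k
    rw [sub_pow_char_pow, one_pow]
  rcases lt_or_eq_of_le hN with hlt | heq
  · refine ⟨N, hN0, ?_, hdvd'⟩
    rcases hn with rfl | rfl <;> norm_num at hlt ⊢ <;> omega
  · refine ⟨2 ^ (n - 2), by positivity, ?_, ?_⟩
    · rcases hn with rfl | rfl <;> norm_num
    · rw [heq, ← hpow] at hdvd'
      rw [← hpow, ao_p1s_dvd_pow μ hμ _ hdvd']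
      apply pow_dvd_pow
      rcases hn with rfl | rfl <;> norm_num <;> omega

end poly

end Cfsg.Agent.Helper17.AO
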