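import Mathlib
import Cfsg.Prelude.Def_Sporadic_a

set_option autoImplicit false
set_option linter.unusedSectionVars false

/-! An isomorphism of set systems induces an isomorphism of automorphism groups, and transports multiple transitivity. -/

namespace Cfsg.Agent.Helper27.Witt


open scoped Pointwise
open MulAction

section Aut

variable {α β : Type*} [DecidableEq α] [DecidableEq β]

theorem perm_smul_finset (g : Equiv.Perm α) (b : Finset α) : g • b = b.image g := rfl

theorem mem_setSystemAut_iff {B : Set (Finset α)} (g : Equiv.Perm α) :
    g ∈ Cfsg.setSystemAut B ↔ ∀ b : Finset α, b.image g ∈ B ↔ b ∈ B := by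
  rw [Cfsg.setSystemAut, MulAction.mem_stabilizer_set]
  rfl

theorem image_mem_iff {B : Set (Finset α)} {B' : Set (Finset β)} (e : α ≃ β)
    (h : (fun b : Finset α => b.image e) '' B = B') (b : Finset α) :
    b.image e ∈ B' ↔ b ∈ B := by
  rw [← h]
  constructor
  · rintro ⟨c, hc, hcb⟩
    have : c = b := Finset.image_injective e.injective hcb
    rw [← this]; exact hc
  · intro hb
    exact ⟨b, hb, rfl⟩

theorem image_symm_family {B : Set (Finset α)} {B' : Set (Finset β)} (e : α ≃ β)
    (h : (fun b : Finset α => b.image e) '' B = B') :
    (fun b : Finset β => b.image e.symm) '' B' = B := by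
  rw [← h, Set.image_image]
  convert Set.image_id B using 2
  ext b : 1
  rw [Finset.image_image]
  simp

theorem permCongr_mem {B : Set (Finset α)} {B' : Set (Finset β)} (e : α ≃ β)
    (h : (fun b : Finset α => b.image e) '' B = B') {g : Equiv.Perm α}
    (hg : g ∈ Cfsg.setSystemAut B) : e.permCongr g ∈ Cfsg.setSystemAut B' := by
  rw [mem_setSystemAut_iff] at hg ⊢
  intro b'
  have hb' : b' = (b'.image e.symm).image e := by
    rw [Finset.image_image]
    simp
  have h1 : b'.image (e.permCongr g) = ((b'.image e.symm).image g).image e := by
    rw [Finset.image_image, Finset.image_image]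
    apply Finset.image_congr
    intro x _
    simp [Equiv.permCongr_apply]
  rw [h1, image_mem_iff e h, hg, ← image_mem_iff e h, ← hb']

/-- An isomorphism of set systems induces an isomorphism of their automorphism groups. -/
noncomputable def autCongr {B : Set (Finset α)} {B' : Set (Finset β)} (e : α ≃ β)
    (h : (fun b : Finset α => b.image e) '' B = B') :
    Cfsg.setSystemAut B ≃* Cfsg.setSystemAut B' where
  toFun g := ⟨e.permCongr g.1, permCongr_mem e h g.2⟩
  invFun g := ⟨e.symm.permCongr g.1, permCongr_mem e.symm (image_symm_family e h) g.2⟩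
  left_inv g := by
    apply Subtype.ext
    ext x
    simp [Equiv.permCongr_apply]
  right_inv g := by
    apply Subtype.ext
    ext x
    simp [Equiv.permCongr_apply]
  map_mul' g g' := by
    apply Subtype.ext
    ext x
    simp [Equiv.permCongr_apply]

theorem autCongr_apply {B : Set (Finset α)} {B' : Set (Finset β)} (e : α ≃ β)
    (h : (fun b : Finset α => b.image e) '' B = B') (g : Cfsg.setSystemAut B) (a : α) :
    ((autCongr e h g : Cfsg.setSystemAut B') : Equiv.Perm β) (e a) = e ((g : Equiv.Perm α) a) := by
  simp [autCongr, Equiv.permCongr_apply]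

/-- Multiple transitivity is transported along an isomorphism of set systems. -/
theorem multiplyPretransitive_congr {B : Set (Finset α)} {B' : Set (Finset β)} (e : α ≃ β)
    (h : (fun b : Finset α => b.image e) '' B = B') (n : ℕ)
    (ht : MulAction.IsMultiplyPretransitive (Cfsg.setSystemAut B') β n) :
    MulAction.IsMultiplyPretransitive (Cfsg.setSystemAut B) α n := by
  rw [MulAction.isMultiplyPretransitive_iff] at ht ⊢
  intro x y
  obtain ⟨g', hg'⟩ := ht (x.trans e.toEmbedding) (y.trans e.toEmbedding)
  refine ⟨(autCongr e h).symm g', ?_⟩
  ext i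
  have h1 := DFunLike.congr_fun hg' i
  simp only [Function.Embedding.smul_apply, Function.Embedding.trans_apply,
    Equiv.coe_toEmbedding] at h1 ⊢
  apply e.injective
  rw [← h1]
  have := autCongr_apply e h ((autCongr e h).symm g') (x i)
  rw [MulEquiv.apply_symm_apply] at this
  exact this.symm

end Aut


end Cfsg.Agent.Helper27.Witt
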