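import Mathlib
import Cfsg.Agent.Lib.Helper18.Derangement

set_option autoImplicit false

/-!
Piece CONV of S3501: in a sharply 2-transitive finite group the derangements form a single
conjugacy class.
-/

namespace Cfsg.Agent.Helper27.DerC

open MulAction

variable {G : Type*} [Group G] {X : Type*} [MulAction G X]

/-- A sharply 2-transitive group of degree `n` has order `n (n - 1)`. -/
theorem card_eq_of_sharp_two [Finite G] [Finite X] (hX : 2 ≤ Nat.card X)
    (h2 : IsMultiplyPretransitive G X 2)
    (hsharp : ∀ (g : G) (a b : X), a ≠ b → g • a = a → g • b = b → g = 1) :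
    Nat.card G = Nat.card X * (Nat.card X - 1) := by
  classical
  have : Fintype X := Fintype.ofFinite X
  have : Nontrivial X := Finite.one_lt_card_iff_nontrivial.1 (by omega)
  obtain ⟨a, b, hab⟩ := exists_pair_ne X
  have hstab : stabilizer G (Function.Embedding.embFinTwo hab) = ⊥ := by
    rw [eq_bot_iff]
    intro g hg
    rw [mem_stabilizer_iff] at hg
    rw [Subgroup.mem_bot]
    apply hsharp g a b hab
    · have h0 := congrArg (fun e : Fin 2 ↪ X => e 0) hg
      simp only [Function.Embedding.smul_apply] at h0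
      rw [Function.Embedding.embFinTwo_apply_zero] at h0
      exact h0
    · have h0 := congrArg (fun e : Fin 2 ↪ X => e 1) hg
      simp only [Function.Embedding.smul_apply] at h0
      rw [Function.Embedding.embFinTwo_apply_one] at h0
      exact h0
  have : IsPretransitive G (Fin 2 ↪ X) := h2
  have h1 : (stabilizer G (Function.Embedding.embFinTwo hab)).index = Nat.card (Fin 2 ↪ X) :=
    index_stabilizer_of_transitive G (Function.Embedding.embFinTwo hab)
  rw [hstab, Subgroup.index_bot] at h1
  rw [h1, Nat.card_eq_fintype_card, Fintype.card_embedding_eq, Fintype.card_fin,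
    Nat.card_eq_fintype_card]
  rw [show (2 : ℕ) = 1 + 1 from rfl, Nat.descFactorial_succ, Nat.descFactorial_one, mul_comm]

end Cfsg.Agent.Helper27.DerC

namespace Cfsg.Agent.Helper17.Der1

open MulAction

variable {G : Type*} [Group G] {X : Type*} [MulAction G X]

/-- PIECE CONV: the converse direction. -/
theorem single_class_of_sharp [Finite G] [Finite X] (hX : 2 ≤ Nat.card X)
    (h2 : IsMultiplyPretransitive G X 2)
    (hsharp : ∀ g : G, g ≠ 1 → ∀ a b : X, a ≠ b → g • a = a → g • b ≠ b) :
    Nat.card {c : ConjClasses G // ∃ g : G, ConjClasses.mk g = c ∧ ∀ ω : X, g • ω ≠ ω} = 1 := by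
  classical
  have : Fintype G := Fintype.ofFinite G
  have hsharp' : ∀ (g : G) (a b : X), a ≠ b → g • a = a → g • b = b → g = 1 := by
    intro g a b hab ha hb
    by_contra hg
    exact hsharp g hg a b hab ha hb
  have : IsPretransitive G X := isPretransitive_of_is_two_pretransitive (h2 := h2)
  have hcard := Cfsg.Agent.Helper27.DerC.card_eq_of_sharp_two hX h2 hsharp'
  have hne : Nonempty X := by
    rw [← Finite.card_pos_iff]; omega
  obtain ⟨a₀⟩ := hne
  have hder := Cfsg.Agent.Helper18.card_der_of_sharp (G := G) (X := X) hX hsharp' hcard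
  obtain ⟨Der, hDer⟩ : ∃ Der : Finset G,
      Der = Finset.univ.filter (fun g : G => ∀ ω : X, g • ω ≠ ω) := ⟨_, rfl⟩
  rw [← hDer] at hder
  have hDerne : Der.Nonempty := by
    rw [← Finset.card_pos, hder]; omega
  obtain ⟨z, hz⟩ := hDerne
  have hzder : ∀ ω : X, z • ω ≠ ω := by
    rw [hDer] at hz
    exact (Finset.mem_filter.mp hz).2
  obtain ⟨Cz, hCz⟩ : ∃ Cz : Subgroup (ConjAct G), Cz = stabilizer (ConjAct G) z := ⟨_, rfl⟩
  -- elements of Cz commute with z
  have hcomm : ∀ c ∈ Cz, ConjAct.ofConjAct c * z = z * ConjAct.ofConjAct c := by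
    intro c hc
    rw [hCz, mem_stabilizer_iff, ConjAct.smul_def] at hc
    have := congrArg (fun w => w * ConjAct.ofConjAct c) hc
    simpa using this
  -- Cz is semiregular
  have hsemi : ∀ c ∈ Cz, ∀ ω : X, (ConjAct.ofConjAct c) • ω = ω → c = 1 := by
    intro c hc ω hω
    have h2 : (ConjAct.ofConjAct c) • (z • ω) = z • ω := by
      rw [← mul_smul, hcomm c hc, mul_smul, hω]
    have := hsharp' (ConjAct.ofConjAct c) ω (z • ω) (hzder ω).symm hω h2
    exact ConjAct.ofConjAct.injective (by rw [this, ConjAct.ofConjAct_one])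
  -- hence |Cz| ≤ n
  have hCzle : Nat.card Cz ≤ Nat.card X := by
    apply Nat.card_le_card_of_injective (fun c : Cz => (ConjAct.ofConjAct (c : ConjAct G)) • a₀)
    intro c c' hcc
    have hcc' : (ConjAct.ofConjAct (c : ConjAct G)) • a₀ =
        (ConjAct.ofConjAct (c' : ConjAct G)) • a₀ := hcc
    have hmem : (c : ConjAct G)⁻¹ * (c' : ConjAct G) ∈ Cz :=
      Subgroup.mul_mem _ (Subgroup.inv_mem _ c.2) c'.2
    have hfix : (ConjAct.ofConjAct ((c : ConjAct G)⁻¹ * (c' : ConjAct G))) • a₀ = a₀ := by
      rw [ConjAct.ofConjAct_mul, ConjAct.ofConjAct_inv, mul_smul, ← hcc', inv_smul_smul]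
    have := hsemi _ hmem a₀ hfix
    apply Subtype.ext
    have h3 := congrArg (fun w => (c : ConjAct G) * w) this
    simpa using h3.symm
  -- the conjugacy class of z consists of derangements
  have horb : orbit (ConjAct G) z ⊆ (Der : Set G) := by
    rintro _ ⟨c, rfl⟩
    rw [Finset.mem_coe, hDer, Finset.mem_filter]
    refine ⟨Finset.mem_univ _, ?_⟩
    intro ω hω
    change (c • z) • ω = ω at hω
    rw [ConjAct.smul_def, mul_smul, mul_smul] at hω
    apply hzder ((ConjAct.ofConjAct c)⁻¹ • ω)
    have := congrArg (fun w => (ConjAct.ofConjAct c)⁻¹ • w) hω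
    simpa using this
  have hidxle : Cz.index ≤ Nat.card X - 1 := by
    rw [hCz, index_stabilizer, ← hder]
    have := Set.ncard_le_ncard horb (Finset.finite_toSet Der)
    rwa [Set.ncard_coe_finset] at this
  have hprod : Cz.index * Nat.card Cz = Nat.card X * (Nat.card X - 1) := by
    rw [Subgroup.index_mul_card, ← hcard]
    exact Nat.card_congr ConjAct.ofConjAct.toEquiv
  have hCzcard : Nat.card Cz = Nat.card X := by
    by_contra hlt
    have hlt' : Nat.card Cz < Nat.card X := lt_of_le_of_ne hCzle hlt
    have hpos : 0 < Nat.card X - 1 := by omega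
    have : Cz.index * Nat.card Cz < Nat.card X * (Nat.card X - 1) := by
      calc Cz.index * Nat.card Cz ≤ (Nat.card X - 1) * Nat.card Cz :=
            Nat.mul_le_mul_right _ hidxle
        _ < (Nat.card X - 1) * Nat.card X := Nat.mul_lt_mul_of_pos_left hlt' hpos
        _ = Nat.card X * (Nat.card X - 1) := mul_comm _ _
    omega
  have hidxeq : Cz.index = Nat.card X - 1 := by
    rw [hCzcard, mul_comm] at hprod
    have hpos : 0 < Nat.card X := by omega
    exact Nat.eq_of_mul_eq_mul_left hpos hprod
  -- the class of z is the set of all derangements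
  have horbeq : orbit (ConjAct G) z = (Der : Set G) := by
    apply Set.eq_of_subset_of_ncard_le horb _ (Finset.finite_toSet Der)
    rw [Set.ncard_coe_finset, hder, ← hidxeq, hCz, index_stabilizer]
  have hU : Unique {c : ConjClasses G //
      ∃ g : G, ConjClasses.mk g = c ∧ ∀ ω : X, g • ω ≠ ω} :=
    { default := ⟨ConjClasses.mk z, z, rfl, hzder⟩
      uniq := by
        rintro ⟨c, g, rfl, hg⟩
        apply Subtype.ext
        show ConjClasses.mk g = ConjClasses.mk z
        have hgD : g ∈ (Der : Set G) := by
          rw [Finset.mem_coe, hDer, Finset.mem_filter]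
          exact ⟨Finset.mem_univ _, hg⟩
        rw [← horbeq] at hgD
        obtain ⟨d, hd⟩ := hgD
        have hd' : ConjAct.ofConjAct d * z * (ConjAct.ofConjAct d)⁻¹ = g := by
          rw [← ConjAct.smul_def]; exact hd
        rw [ConjClasses.mk_eq_mk_iff_isConj, ← hd']
        exact (isConj_iff.2 ⟨ConjAct.ofConjAct d, rfl⟩).symm }
  exact Nat.card_unique

end Cfsg.Agent.Helper17.Der1
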