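import Mathlib

/-!
# Uniqueness of the simple group of order 7920 (S0420): definitions (helper27)

Paper proof: `plans/S0420_proof.md`.  Skeleton with all piece statements: `plans/S0420_Skel.lean.txt`.

The points of the `12`-point set are `0, …, 10` (the integers modulo `11`) and `11` (the point at
infinity).  `X0` is `i ↦ i + 1`, `U0` is `i ↦ 3 i`, `S8` swaps `11` and `0`, sends a nonzero square `i` to
`8 i ^ 2` and a non-square `i` to `5 i ^ 2`.
-/

set_option autoImplicit false

namespace Cfsg.Agent.Helper27.M11U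

/-- `i ↦ i + 1` on the integers modulo `11`, fixing the point `11`. -/
def X0 : Equiv.Perm (Fin 12) :=
  ⟨![1, 2, 3, 4, 5, 6, 7, 8, 9, 10, 0, 11], ![10, 0, 1, 2, 3, 4, 5, 6, 7, 8, 9, 11],
    by decide, by decide⟩

/-- `i ↦ 3 i` on the integers modulo `11`, fixing the point `11`. -/
def U0 : Equiv.Perm (Fin 12) :=
  ⟨![0, 3, 6, 9, 1, 4, 7, 10, 2, 5, 8, 11], ![0, 4, 8, 1, 5, 9, 2, 6, 10, 3, 7, 11],
    by decide, by decide⟩

/-- The element of order `4`: `(11 0)(1 8)(3 6 4 7)(9 10 5 2)`. -/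
def S8 : Equiv.Perm (Fin 12) :=
  ⟨![11, 8, 9, 6, 7, 2, 4, 3, 1, 10, 5, 0], ![11, 8, 5, 7, 6, 10, 3, 4, 1, 2, 9, 0],
    by decide, by decide⟩

/-- The model of the simple group of order `7920`. -/
def X0grp : Subgroup (Equiv.Perm (Fin 12)) := Subgroup.closure {X0, U0, S8}

/-- The action of `G` on `X`, transported to `Fin 12` along `e`. -/
def trHom {G X : Type*} [Group G] [MulAction G X] (e : X ≃ Fin 12) : G →* Equiv.Perm (Fin 12) :=
  (e.permCongrHom : Equiv.Perm X →* Equiv.Perm (Fin 12)).comp (MulAction.toPermHom G X)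

theorem trHom_apply {G X : Type*} [Group G] [MulAction G X] (e : X ≃ Fin 12) (g : G) (i : Fin 12) :
    trHom e g i = e (g • e.symm i) := rfl

end Cfsg.Agent.Helper27.M11U
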