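import Mathlib
import Cfsg.Agent.Lib.Helper27.M11UDefs

/-!
# Uniqueness of the simple group of order 7920 (S0420): the candidate lists (helper27)

`cands50`: the 50 permutations `S` of `Fin 12` with `S 11 = 0`, `S 0 = 11`, `S * U0 = U0 ^ 2 * S`, `S ^ 4 = 1`.
`cands`: the 25 even ones.
-/

set_option autoImplicit false

namespace Cfsg.Agent.Helper27.M11U

def cands50 : List (Equiv.Perm (Fin 12)) :=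
  [⟨![11, 1, 2, 9, 5, 3, 7, 8, 10, 4, 6, 0], ![11, 1, 2, 5, 9, 4, 10, 6, 7, 3, 8, 0], by decide, by decide⟩,
   ⟨![11, 1, 6, 9, 5, 3, 10, 2, 8, 4, 7, 0], ![11, 1, 7, 5, 9, 4, 2, 10, 8, 3, 6, 0], by decide, by decide⟩,
   ⟨![11, 1, 7, 9, 5, 3, 8, 6, 2, 4, 10, 0], ![11, 1, 8, 5, 9, 4, 7, 2, 6, 3, 10, 0], by decide, by decide⟩,
   ⟨![11, 1, 8, 9, 5, 3, 6, 10, 7, 4, 2, 0], ![11, 1, 10, 5, 9, 4, 6, 8, 2, 3, 7, 0], by decide, by decide⟩,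
   ⟨![11, 1, 10, 9, 5, 3, 2, 7, 6, 4, 8, 0], ![11, 1, 6, 5, 9, 4, 8, 7, 10, 3, 2, 0], by decide, by decide⟩,
   ⟨![11, 2, 1, 7, 10, 6, 9, 4, 5, 8, 3, 0], ![11, 2, 1, 10, 7, 8, 5, 3, 9, 6, 4, 0], by decide, by decide⟩,
   ⟨![11, 2, 3, 7, 10, 6, 5, 1, 4, 8, 9, 0], ![11, 7, 1, 2, 8, 6, 5, 3, 9, 10, 4, 0], by decide, by decide⟩,
   ⟨![11, 2, 4, 7, 10, 6, 3, 5, 9, 8, 1, 0], ![11, 10, 1, 6, 2, 7, 5, 3, 9, 8, 4, 0], by decide, by decide⟩,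
   ⟨![11, 2, 5, 7, 10, 6, 1, 9, 3, 8, 4, 0], ![11, 6, 1, 8, 10, 2, 5, 3, 9, 7, 4, 0], by decide, by decide⟩,
   ⟨![11, 2, 9, 7, 10, 6, 4, 3, 1, 8, 5, 0], ![11, 8, 1, 7, 6, 10, 5, 3, 9, 2, 4, 0], by decide, by decide⟩,
   ⟨![11, 3, 2, 5, 4, 9, 7, 8, 10, 1, 6, 0], ![11, 9, 2, 1, 4, 3, 10, 6, 7, 5, 8, 0], by decide, by decide⟩,
   ⟨![11, 3, 6, 5, 4, 9, 10, 2, 8, 1, 7, 0], ![11, 9, 7, 1, 4, 3, 2, 10, 8, 5, 6, 0], by decide, by decide⟩,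
   ⟨![11, 3, 7, 5, 4, 9, 8, 6, 2, 1, 10, 0], ![11, 9, 8, 1, 4, 3, 7, 2, 6, 5, 10, 0], by decide, by decide⟩,
   ⟨![11, 3, 8, 5, 4, 9, 6, 10, 7, 1, 2, 0], ![11, 9, 10, 1, 4, 3, 6, 8, 2, 5, 7, 0], by decide, by decide⟩,
   ⟨![11, 3, 10, 5, 4, 9, 2, 7, 6, 1, 8, 0], ![11, 9, 6, 1, 4, 3, 8, 7, 10, 5, 2, 0], by decide, by decide⟩,
   ⟨![11, 4, 2, 3, 9, 1, 7, 8, 10, 5, 6, 0], ![11, 5, 2, 3, 1, 9, 10, 6, 7, 4, 8, 0], by decide, by decide⟩,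
   ⟨![11, 4, 6, 3, 9, 1, 10, 2, 8, 5, 7, 0], ![11, 5, 7, 3, 1, 9, 2, 10, 8, 4, 6, 0], by decide, by decide⟩,
   ⟨![11, 4, 7, 3, 9, 1, 8, 6, 2, 5, 10, 0], ![11, 5, 8, 3, 1, 9, 7, 2, 6, 4, 10, 0], by decide, by decide⟩,
   ⟨![11, 4, 8, 3, 9, 1, 6, 10, 7, 5, 2, 0], ![11, 5, 10, 3, 1, 9, 6, 8, 2, 4, 7, 0], by decide, by decide⟩,
   ⟨![11, 4, 10, 3, 9, 1, 2, 7, 6, 5, 8, 0], ![11, 5, 6, 3, 1, 9, 8, 7, 10, 4, 2, 0], by decide, by decide⟩,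
   ⟨![11, 5, 2, 1, 3, 4, 7, 8, 10, 9, 6, 0], ![11, 3, 2, 4, 5, 1, 10, 6, 7, 9, 8, 0], by decide, by decide⟩,
   ⟨![11, 5, 6, 1, 3, 4, 10, 2, 8, 9, 7, 0], ![11, 3, 7, 4, 5, 1, 2, 10, 8, 9, 6, 0], by decide, by decide⟩,
   ⟨![11, 5, 7, 1, 3, 4, 8, 6, 2, 9, 10, 0], ![11, 3, 8, 4, 5, 1, 7, 2, 6, 9, 10, 0], by decide, by decide⟩,
   ⟨![11, 5, 8, 1, 3, 4, 6, 10, 7, 9, 2, 0], ![11, 3, 10, 4, 5, 1, 6, 8, 2, 9, 7, 0], by decide, by decide⟩,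
   ⟨![11, 5, 10, 1, 3, 4, 2, 7, 6, 9, 8, 0], ![11, 3, 6, 4, 5, 1, 8, 7, 10, 9, 2, 0], by decide, by decide⟩,
   ⟨![11, 6, 1, 10, 8, 7, 9, 4, 5, 2, 3, 0], ![11, 2, 9, 10, 7, 8, 1, 5, 4, 6, 3, 0], by decide, by decide⟩,
   ⟨![11, 6, 3, 10, 8, 7, 5, 1, 4, 2, 9, 0], ![11, 7, 9, 2, 8, 6, 1, 5, 4, 10, 3, 0], by decide, by decide⟩,
   ⟨![11, 6, 4, 10, 8, 7, 3, 5, 9, 2, 1, 0], ![11, 10, 9, 6, 2, 7, 1, 5, 4, 8, 3, 0], by decide, by decide⟩,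
   ⟨![11, 6, 5, 10, 8, 7, 1, 9, 3, 2, 4, 0], ![11, 6, 9, 8, 10, 2, 1, 5, 4, 7, 3, 0], by decide, by decide⟩,
   ⟨![11, 6, 9, 10, 8, 7, 4, 3, 1, 2, 5, 0], ![11, 8, 9, 7, 6, 10, 1, 5, 4, 2, 3, 0], by decide, by decide⟩,
   ⟨![11, 7, 1, 8, 2, 10, 9, 4, 5, 6, 3, 0], ![11, 2, 4, 10, 7, 8, 9, 1, 3, 6, 5, 0], by decide, by decide⟩,
   ⟨![11, 7, 3, 8, 2, 10, 5, 1, 4, 6, 9, 0], ![11, 7, 4, 2, 8, 6, 9, 1, 3, 10, 5, 0], by decide, by decide⟩,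
   ⟨![11, 7, 4, 8, 2, 10, 3, 5, 9, 6, 1, 0], ![11, 10, 4, 6, 2, 7, 9, 1, 3, 8, 5, 0], by decide, by decide⟩,
   ⟨![11, 7, 5, 8, 2, 10, 1, 9, 3, 6, 4, 0], ![11, 6, 4, 8, 10, 2, 9, 1, 3, 7, 5, 0], by decide, by decide⟩,
   ⟨![11, 7, 9, 8, 2, 10, 4, 3, 1, 6, 5, 0], ![11, 8, 4, 7, 6, 10, 9, 1, 3, 2, 5, 0], by decide, by decide⟩,
   ⟨![11, 8, 1, 6, 7, 2, 9, 4, 5, 10, 3, 0], ![11, 2, 5, 10, 7, 8, 3, 4, 1, 6, 9, 0], by decide, by decide⟩,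
   ⟨![11, 8, 3, 6, 7, 2, 5, 1, 4, 10, 9, 0], ![11, 7, 5, 2, 8, 6, 3, 4, 1, 10, 9, 0], by decide, by decide⟩,
   ⟨![11, 8, 4, 6, 7, 2, 3, 5, 9, 10, 1, 0], ![11, 10, 5, 6, 2, 7, 3, 4, 1, 8, 9, 0], by decide, by decide⟩,
   ⟨![11, 8, 5, 6, 7, 2, 1, 9, 3, 10, 4, 0], ![11, 6, 5, 8, 10, 2, 3, 4, 1, 7, 9, 0], by decide, by decide⟩,
   ⟨![11, 8, 9, 6, 7, 2, 4, 3, 1, 10, 5, 0], ![11, 8, 5, 7, 6, 10, 3, 4, 1, 2, 9, 0], by decide, by decide⟩,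
   ⟨![11, 9, 2, 4, 1, 5, 7, 8, 10, 3, 6, 0], ![11, 4, 2, 9, 3, 5, 10, 6, 7, 1, 8, 0], by decide, by decide⟩,
   ⟨![11, 9, 6, 4, 1, 5, 10, 2, 8, 3, 7, 0], ![11, 4, 7, 9, 3, 5, 2, 10, 8, 1, 6, 0], by decide, by decide⟩,
   ⟨![11, 9, 7, 4, 1, 5, 8, 6, 2, 3, 10, 0], ![11, 4, 8, 9, 3, 5, 7, 2, 6, 1, 10, 0], by decide, by decide⟩,
   ⟨![11, 9, 8, 4, 1, 5, 6, 10, 7, 3, 2, 0], ![11, 4, 10, 9, 3, 5, 6, 8, 2, 1, 7, 0], by decide, by decide⟩,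
   ⟨![11, 9, 10, 4, 1, 5, 2, 7, 6, 3, 8, 0], ![11, 4, 6, 9, 3, 5, 8, 7, 10, 1, 2, 0], by decide, by decide⟩,
   ⟨![11, 10, 1, 2, 6, 8, 9, 4, 5, 7, 3, 0], ![11, 2, 3, 10, 7, 8, 4, 9, 5, 6, 1, 0], by decide, by decide⟩,
   ⟨![11, 10, 3, 2, 6, 8, 5, 1, 4, 7, 9, 0], ![11, 7, 3, 2, 8, 6, 4, 9, 5, 10, 1, 0], by decide, by decide⟩,
   ⟨![11, 10, 4, 2, 6, 8, 3, 5, 9, 7, 1, 0], ![11, 10, 3, 6, 2, 7, 4, 9, 5, 8, 1, 0], by decide, by decide⟩,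
   ⟨![11, 10, 5, 2, 6, 8, 1, 9, 3, 7, 4, 0], ![11, 6, 3, 8, 10, 2, 4, 9, 5, 7, 1, 0], by decide, by decide⟩,
   ⟨![11, 10, 9, 2, 6, 8, 4, 3, 1, 7, 5, 0], ![11, 8, 3, 7, 6, 10, 4, 9, 5, 2, 1, 0], by decide, by decide⟩]

def cands : List (Equiv.Perm (Fin 12)) :=
  [⟨![11, 2, 1, 7, 10, 6, 9, 4, 5, 8, 3, 0], ![11, 2, 1, 10, 7, 8, 5, 3, 9, 6, 4, 0], by decide, by decide⟩,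
   ⟨![11, 2, 3, 7, 10, 6, 5, 1, 4, 8, 9, 0], ![11, 7, 1, 2, 8, 6, 5, 3, 9, 10, 4, 0], by decide, by decide⟩,
   ⟨![11, 2, 4, 7, 10, 6, 3, 5, 9, 8, 1, 0], ![11, 10, 1, 6, 2, 7, 5, 3, 9, 8, 4, 0], by decide, by decide⟩,
   ⟨![11, 2, 5, 7, 10, 6, 1, 9, 3, 8, 4, 0], ![11, 6, 1, 8, 10, 2, 5, 3, 9, 7, 4, 0], by decide, by decide⟩,
   ⟨![11, 2, 9, 7, 10, 6, 4, 3, 1, 8, 5, 0], ![11, 8, 1, 7, 6, 10, 5, 3, 9, 2, 4, 0], by decide, by decide⟩,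
   ⟨![11, 6, 1, 10, 8, 7, 9, 4, 5, 2, 3, 0], ![11, 2, 9, 10, 7, 8, 1, 5, 4, 6, 3, 0], by decide, by decide⟩,
   ⟨![11, 6, 3, 10, 8, 7, 5, 1, 4, 2, 9, 0], ![11, 7, 9, 2, 8, 6, 1, 5, 4, 10, 3, 0], by decide, by decide⟩,
   ⟨![11, 6, 4, 10, 8, 7, 3, 5, 9, 2, 1, 0], ![11, 10, 9, 6, 2, 7, 1, 5, 4, 8, 3, 0], by decide, by decide⟩,
   ⟨![11, 6, 5, 10, 8, 7, 1, 9, 3, 2, 4, 0], ![11, 6, 9, 8, 10, 2, 1, 5, 4, 7, 3, 0], by decide, by decide⟩,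
   ⟨![11, 6, 9, 10, 8, 7, 4, 3, 1, 2, 5, 0], ![11, 8, 9, 7, 6, 10, 1, 5, 4, 2, 3, 0], by decide, by decide⟩,
   ⟨![11, 7, 1, 8, 2, 10, 9, 4, 5, 6, 3, 0], ![11, 2, 4, 10, 7, 8, 9, 1, 3, 6, 5, 0], by decide, by decide⟩,
   ⟨![11, 7, 3, 8, 2, 10, 5, 1, 4, 6, 9, 0], ![11, 7, 4, 2, 8, 6, 9, 1, 3, 10, 5, 0], by decide, by decide⟩,
   ⟨![11, 7, 4, 8, 2, 10, 3, 5, 9, 6, 1, 0], ![11, 10, 4, 6, 2, 7, 9, 1, 3, 8, 5, 0], by decide, by decide⟩,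
   ⟨![11, 7, 5, 8, 2, 10, 1, 9, 3, 6, 4, 0], ![11, 6, 4, 8, 10, 2, 9, 1, 3, 7, 5, 0], by decide, by decide⟩,
   ⟨![11, 7, 9, 8, 2, 10, 4, 3, 1, 6, 5, 0], ![11, 8, 4, 7, 6, 10, 9, 1, 3, 2, 5, 0], by decide, by decide⟩,
   ⟨![11, 8, 1, 6, 7, 2, 9, 4, 5, 10, 3, 0], ![11, 2, 5, 10, 7, 8, 3, 4, 1, 6, 9, 0], by decide, by decide⟩,
   ⟨![11, 8, 3, 6, 7, 2, 5, 1, 4, 10, 9, 0], ![11, 7, 5, 2, 8, 6, 3, 4, 1, 10, 9, 0], by decide, by decide⟩,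
   ⟨![11, 8, 4, 6, 7, 2, 3, 5, 9, 10, 1, 0], ![11, 10, 5, 6, 2, 7, 3, 4, 1, 8, 9, 0], by decide, by decide⟩,
   ⟨![11, 8, 5, 6, 7, 2, 1, 9, 3, 10, 4, 0], ![11, 6, 5, 8, 10, 2, 3, 4, 1, 7, 9, 0], by decide, by decide⟩,
   ⟨![11, 8, 9, 6, 7, 2, 4, 3, 1, 10, 5, 0], ![11, 8, 5, 7, 6, 10, 3, 4, 1, 2, 9, 0], by decide, by decide⟩,
   ⟨![11, 10, 1, 2, 6, 8, 9, 4, 5, 7, 3, 0], ![11, 2, 3, 10, 7, 8, 4, 9, 5, 6, 1, 0], by decide, by decide⟩,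
   ⟨![11, 10, 3, 2, 6, 8, 5, 1, 4, 7, 9, 0], ![11, 7, 3, 2, 8, 6, 4, 9, 5, 10, 1, 0], by decide, by decide⟩,
   ⟨![11, 10, 4, 2, 6, 8, 3, 5, 9, 7, 1, 0], ![11, 10, 3, 6, 2, 7, 4, 9, 5, 8, 1, 0], by decide, by decide⟩,
   ⟨![11, 10, 5, 2, 6, 8, 1, 9, 3, 7, 4, 0], ![11, 6, 3, 8, 10, 2, 4, 9, 5, 7, 1, 0], by decide, by decide⟩,
   ⟨![11, 10, 9, 2, 6, 8, 4, 3, 1, 7, 5, 0], ![11, 8, 3, 7, 6, 10, 4, 9, 5, 2, 1, 0], by decide, by decide⟩]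

end Cfsg.Agent.Helper27.M11U
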