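import Mathlib
import Cfsg.Agent.Lib.Helper27.M11UDefs
import Cfsg.Agent.Lib.Helper27.M11UData

/-!
# Uniqueness of the simple group of order 7920 (S0420): piece CLASSIFY (helper27)

Each of the 25 even candidates either yields an element of order `35` or is conjugate to `S8`.
-/

set_option autoImplicit false

namespace Cfsg.Agent.Helper27.M11U

/-- A candidate is bad if together with `X0`, `U0` it produces an element of order `35`. -/
def Bad (S : Equiv.Perm (Fin 12)) : Prop :=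
  ∃ k j : ℕ, ((X0 ^ k) ^ j * U0 * S) ^ 35 = 1 ∧ ((X0 ^ k) ^ j * U0 * S) ^ 10 ≠ 1

/-- A candidate is good if it is conjugate to `S8` under a permutation normalizing `⟨X0⟩` and
centralizing `U0`. -/
def Good (S : Equiv.Perm (Fin 12)) : Prop :=
  ∃ (m : Equiv.Perm (Fin 12)) (k : ℕ), 0 < k ∧ k < 11 ∧ m 11 = 11 ∧ m * X0 ^ k = X0 * m ∧
    m * U0 = U0 * m ∧ m * S = S8 * m

set_option maxRecDepth 100000 in
theorem classify : ∀ S ∈ cands, Bad S ∨ Good S := by
  intro S hS
  simp only [cands, List.mem_cons, List.not_mem_nil, or_false] at hS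
  rcases hS with rfl | rfl | rfl | rfl | rfl | rfl | rfl | rfl | rfl | rfl | rfl | rfl | rfl | rfl | rfl | rfl | rfl | rfl | rfl | rfl | rfl | rfl | rfl | rfl | rfl
  · exact Or.inl ⟨1, 2, by decide +kernel, by decide +kernel⟩
  · exact Or.inl ⟨1, 1, by decide +kernel, by decide +kernel⟩
  · exact Or.inr ⟨(⟨![0, 7, 3, 10, 6, 2, 9, 5, 1, 8, 4, 11], ![0, 8, 5, 2, 10, 7, 4, 1, 9, 6, 3, 11], by decide, by decide⟩ : Equiv.Perm (Fin 12)), 8, by norm_num, by norm_num, by decide, by decide +kernel, by decide +kernel, by decide +kernel⟩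
  · exact Or.inr ⟨(⟨![0, 3, 6, 9, 1, 4, 7, 10, 2, 5, 8, 11], ![0, 4, 8, 1, 5, 9, 2, 6, 10, 3, 7, 11], by decide, by decide⟩ : Equiv.Perm (Fin 12)), 4, by norm_num, by norm_num, by decide, by decide +kernel, by decide +kernel, by decide +kernel⟩
  · exact Or.inl ⟨3, 1, by decide +kernel, by decide +kernel⟩
  · exact Or.inr ⟨(⟨![0, 10, 9, 8, 7, 6, 5, 4, 3, 2, 1, 11], ![0, 10, 9, 8, 7, 6, 5, 4, 3, 2, 1, 11], by decide, by decide⟩ : Equiv.Perm (Fin 12)), 10, by norm_num, by norm_num, by decide, by decide +kernel, by decide +kernel, by decide +kernel⟩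
  · exact Or.inl ⟨4, 2, by decide +kernel, by decide +kernel⟩
  · exact Or.inr ⟨(⟨![0, 9, 7, 5, 3, 1, 10, 8, 6, 4, 2, 11], ![0, 5, 10, 4, 9, 3, 8, 2, 7, 1, 6, 11], by decide, by decide⟩ : Equiv.Perm (Fin 12)), 5, by norm_num, by norm_num, by decide, by decide +kernel, by decide +kernel, by decide +kernel⟩
  · exact Or.inl ⟨1, 1, by decide +kernel, by decide +kernel⟩
  · exact Or.inl ⟨2, 2, by decide +kernel, by decide +kernel⟩
  · exact Or.inr ⟨(⟨![0, 5, 10, 4, 9, 3, 8, 2, 7, 1, 6, 11], ![0, 9, 7, 5, 3, 1, 10, 8, 6, 4, 2, 11], by decide, by decide⟩ : Equiv.Perm (Fin 12)), 9, by norm_num, by norm_num, by decide, by decide +kernel, by decide +kernel, by decide +kernel⟩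
  · exact Or.inr ⟨(⟨![0, 8, 5, 2, 10, 7, 4, 1, 9, 6, 3, 11], ![0, 7, 3, 10, 6, 2, 9, 5, 1, 8, 4, 11], by decide, by decide⟩ : Equiv.Perm (Fin 12)), 7, by norm_num, by norm_num, by decide, by decide +kernel, by decide +kernel, by decide +kernel⟩
  · exact Or.inl ⟨2, 2, by decide +kernel, by decide +kernel⟩
  · exact Or.inl ⟨3, 2, by decide +kernel, by decide +kernel⟩
  · exact Or.inl ⟨5, 2, by decide +kernel, by decide +kernel⟩
  · exact Or.inl ⟨3, 1, by decide +kernel, by decide +kernel⟩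
  · exact Or.inl ⟨9, 1, by decide +kernel, by decide +kernel⟩
  · exact Or.inl ⟨3, 2, by decide +kernel, by decide +kernel⟩
  · exact Or.inr ⟨(⟨![0, 6, 1, 7, 2, 8, 3, 9, 4, 10, 5, 11], ![0, 2, 4, 6, 8, 10, 1, 3, 5, 7, 9, 11], by decide, by decide⟩ : Equiv.Perm (Fin 12)), 2, by norm_num, by norm_num, by decide, by decide +kernel, by decide +kernel, by decide +kernel⟩
  · exact Or.inr ⟨(⟨![0, 1, 2, 3, 4, 5, 6, 7, 8, 9, 10, 11], ![0, 1, 2, 3, 4, 5, 6, 7, 8, 9, 10, 11], by decide, by decide⟩ : Equiv.Perm (Fin 12)), 1, by norm_num, by norm_num, by decide, by decide +kernel, by decide +kernel, by decide +kernel⟩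
  · exact Or.inl ⟨5, 1, by decide +kernel, by decide +kernel⟩
  · exact Or.inr ⟨(⟨![0, 4, 8, 1, 5, 9, 2, 6, 10, 3, 7, 11], ![0, 3, 6, 9, 1, 4, 7, 10, 2, 5, 8, 11], by decide, by decide⟩ : Equiv.Perm (Fin 12)), 3, by norm_num, by norm_num, by decide, by decide +kernel, by decide +kernel, by decide +kernel⟩
  · exact Or.inl ⟨1, 2, by decide +kernel, by decide +kernel⟩
  · exact Or.inl ⟨7, 1, by decide +kernel, by decide +kernel⟩
  · exact Or.inr ⟨(⟨![0, 2, 4, 6, 8, 10, 1, 3, 5, 7, 9, 11], ![0, 6, 1, 7, 2, 8, 3, 9, 4, 10, 5, 11], by decide, by decide⟩ : Equiv.Perm (Fin 12)), 6, by norm_num, by norm_num, by decide, by decide +kernel, by decide +kernel, by decide +kernel⟩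

end Cfsg.Agent.Helper27.M11U
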