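import Mathlib
import Cfsg.Agent.Lib.Helper18.WCAbsDefs

/-!
# S2244 piece WC-NIL (helper18 farm-out): `le_of_le_sup_commutator`
-/

set_option autoImplicit false
set_option linter.unusedSectionVars false
set_option linter.unusedVariables false

namespace Cfsg.Agent.Helper18.WC

open scoped commutatorElement

/-- `U` normalises each term of its lower central series, elementwise -/
theorem wc_nil_conj_lcs {G : Type*} [Group G] (U : Subgroup G) (n : ℕ) (u : G) (hu : u ∈ U)
    (l : G) (hl : l ∈ U.lowerCentralSeries n) : u * l * u⁻¹ ∈ U.lowerCentralSeries n := by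
  have h1 := U.self_le_normalizer_lowerCentralSeries n hu
  rw [Subgroup.mem_normalizer_iff] at h1
  exact (h1 l).1 hl

/-- WC-NIL -/
theorem le_of_le_sup_commutator {G : Type*} [Group G] (U X M : Subgroup G)
    (hnil : Group.IsNilpotent U) (hXU : X ≤ U) (hMU : M ≤ U)
    (hXn : ∀ u ∈ U, ∀ y ∈ X, u * y * u⁻¹ ∈ X) (hMn : ∀ u ∈ U, ∀ y ∈ M, u * y * u⁻¹ ∈ M)
    (h : M ≤ X ⊔ ⁅M, U⁆) : M ≤ X := by
  have key : ∀ n : ℕ, M ≤ X ⊔ U.lowerCentralSeries n := by
    intro n
    induction n with
    | zero =>
      rw [Subgroup.lowerCentralSeries_zero]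
      exact le_sup_of_le_right hMU
    | succ n ih =>
      refine h.trans (sup_le le_sup_left ?_)
      rw [Subgroup.commutator_le]
      intro m hm u hu
      have hm' : m ∈ ((X ⊔ U.lowerCentralSeries n : Subgroup G) : Set G) := ih hm
      have hnorm : X ≤ Subgroup.normalizer (U.lowerCentralSeries n : Set G) :=
        hXU.trans (U.self_le_normalizer_lowerCentralSeries n)
      rw [Subgroup.coe_mul_of_left_le_normalizer_right X _ hnorm] at hm'
      obtain ⟨x, hx, l, hl, rfl⟩ := hm'
      have hx : x ∈ X := hx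
      have hl : l ∈ U.lowerCentralSeries n := hl
      have e : ⁅x * l, u⁆ = (x * ⁅l, u⁆ * x⁻¹) * ⁅x, u⁆ := by
        simp only [commutatorElement_def]; group
      rw [e]
      refine mul_mem ((le_sup_right : U.lowerCentralSeries (n + 1) ≤ _) ?_) ((le_sup_left : X ≤ _) ?_)
      · have h1 : ⁅l, u⁆ ∈ U.lowerCentralSeries (n + 1) := by
          rw [Subgroup.lowerCentralSeries_succ]
          exact Subgroup.commutator_mem_commutator hl hu
        exact wc_nil_conj_lcs U (n + 1) x (hXU hx) _ h1
      · rw [commutatorElement_def]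
        have h2 : u * x⁻¹ * u⁻¹ ∈ X := hXn u hu _ (inv_mem hx)
        have e2 : x * u * x⁻¹ * u⁻¹ = x * (u * x⁻¹ * u⁻¹) := by group
        rw [e2]
        exact mul_mem hx h2
  obtain ⟨n, hn⟩ := (Subgroup.isNilpotent_iff_lowerCentralSeries U).1 hnil
  have := key n
  rwa [hn, sup_bot_eq] at this

end Cfsg.Agent.Helper18.WC
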