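import Mathlib
import Cfsg.Agent.Lib.Helper18.WCDefs

/-!
# S2244 piece WC-GEN (helper18 farm-out): `radical_le_ES`, `ES_le_posExcept`
-/

set_option autoImplicit false
set_option linter.unusedSectionVars false
set_option linter.unusedVariables false

namespace Cfsg.Agent.Helper18.WC

open Cfsg Cfsg.Lie Cfsg.Agent.Lead.Chev Cfsg.Agent.Helper6.ChevL Cfsg.Agent.Helper6.Uni
open scoped commutatorElement

section Chev

variable {F : Type*} [Field F] {D : ChevalleyDatum} (hF : ChevFacts D F)

include hF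

/-- WC-GEN: `U_J` is generated by the fundamental root groups outside `J` and `U_J^{ns}` -/
theorem radical_le_ES (J : Set ℕ) :
    D.unipotentRadical F J ≤ ES (rootGen D F (QJns D J)) (fun j t => xGL D hF.xadd (D.simple j) t) (KJ D J) := by
  classical
  unfold ChevalleyDatum.unipotentRadical
  rw [Subgroup.closure_le]
  rintro g ⟨r, t, hr, hnr, hg⟩
  by_cases hns : NonSimple D r
  · -- non-fundamental: in `rootGen (QJns D J)`
    have h1 : g ∈ rootGen D F (QJns D J) := Subgroup.subset_closure ⟨r, t, ⟨hr, hnr, hns⟩, hg⟩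
    exact (le_sup_right : rootGen D F (QJns D J) ≤ ES _ _ _) h1
  · -- fundamental
    unfold NonSimple at hns
    push Not at hns
    obtain ⟨i, hi, rfl⟩ := hns
    have hiJ : i ∉ J := fun hiJ => hnr (inRootSub_simple hF J i hi hiJ)
    have hgx : g = xGL D hF.xadd (D.simple i) t := Units.ext (by rw [hg, xGL_val])
    have h1 : g ∈ Subgroup.closure {g : GL D.Idx F | ∃ b ∈ KJ D J, ∃ t, g = (fun j t => xGL D hF.xadd (D.simple j) t) b t} :=
      Subgroup.subset_closure ⟨i, (mem_KJ D J i).2 ⟨hi, hiJ⟩, t, hgx⟩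
    exact (le_sup_left : _ ≤ ES _ _ _) h1

/-- WC-GEN: the part without `α_j` lies in `U_{α_j}` -/
theorem ES_le_posExcept (J : Set ℕ) (j : ℕ) (hj : j < D.rank) :
    ES (rootGen D F (QJns D J)) (fun j t => xGL D hF.xadd (D.simple j) t) ((KJ D J).erase j) ≤
      posExcept D F (D.simple j) := by
  classical
  unfold ES
  rw [sup_le_iff]
  constructor
  · rw [Subgroup.closure_le]
    rintro g ⟨b, hb, t, rfl⟩
    rw [Finset.mem_erase, mem_KJ] at hb
    obtain ⟨hbj, hbr, hbJ⟩ := hb
    exact xGL_mem_posExcept D hF.xadd (D.simple j) (D.simple b) (hF.simple_pos b hbr)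
      (fun h => hbj (hF.refl.simple_inj b hbr j hj h)) t
  · unfold rootGen
    rw [Subgroup.closure_le]
    rintro g ⟨r, t, ⟨hr, hnr, hns⟩, hg⟩
    exact Subgroup.subset_closure ⟨r, t, hr, hns j hj, hg⟩

end Chev

end Cfsg.Agent.Helper18.WC
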