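import Mathlib
import Cfsg.Agent.Lib.Helper4.McLDefs

/-!
# S5075, piece PAIR: computations with pairs of transvections (helper27)
-/

set_option autoImplicit false

namespace Cfsg.Agent.Helper4.McL

open Module

section PAIR
variable {F : Type*} [Field F] {V : Type*} [AddCommGroup V] [Module F V]

theorem pair_exists_ne {φ : Dual F V} (hφ : φ ≠ 0) : ∃ x, φ x ≠ 0 := by
  by_contra hall
  push Not at hall
  exact hφ (LinearMap.ext hall)

theorem tv_mul_comm_iff {φ ψ : Dual F V} {u w : V} (h1 : φ u = 0) (h2 : ψ w = 0)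
    (hφ : φ ≠ 0) (hψ : ψ ≠ 0) (hu : u ≠ 0) (hw : w ≠ 0) :
    tv φ u * tv ψ w = tv ψ w * tv φ u ↔ φ w = 0 ∧ ψ u = 0 := by
  have key : ∀ x, (tv φ u * tv ψ w) x = (tv ψ w * tv φ u) x ↔
      (ψ x * φ w) • u = (φ x * ψ u) • w := by
    intro x
    rw [LinearEquiv.mul_apply, LinearEquiv.mul_apply, tv_apply h2, tv_apply h1, tv_apply h1,
      tv_apply h2]
    simp only [map_add, map_smul, smul_eq_mul, add_smul]
    constructor
    · intro h
      have h3 : x + ψ x • w + (φ x • u + (ψ x * φ w) • u) =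
          (x + ψ x • w + φ x • u) + (ψ x * φ w) • u := by abel
      have h4 : x + φ x • u + (ψ x • w + (φ x * ψ u) • w) =
          (x + ψ x • w + φ x • u) + (φ x * ψ u) • w := by abel
      rw [h3, h4] at h
      exact add_left_cancel h
    · intro h
      rw [h]; abel
  constructor
  · intro hcomm
    have hall : ∀ x, (ψ x * φ w) • u = (φ x * ψ u) • w := fun x =>
      (key x).1 (by rw [hcomm])
    obtain ⟨x1, hx1⟩ := pair_exists_ne hφ
    obtain ⟨x2, hx2⟩ := pair_exists_ne hψ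
    have hprod : ψ u * φ w = 0 := by
      have h3 := congrArg φ (hall x1)
      simp only [map_smul, smul_eq_mul, h1, mul_zero] at h3
      have h4 : φ x1 * (ψ u * φ w) = 0 := by rw [← mul_assoc]; exact h3.symm
      rcases mul_eq_zero.1 h4 with h5 | h5
      · exact absurd h5 hx1
      · exact h5
    rcases mul_eq_zero.1 hprod with h5 | h5
    · refine ⟨?_, h5⟩
      have h6 := hall x2
      rw [h5, mul_zero, zero_smul] at h6
      rcases smul_eq_zero.1 h6 with h7 | h7
      · rcases mul_eq_zero.1 h7 with h8 | h8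
        · exact absurd h8 hx2
        · exact h8
      · exact absurd h7 hu
    · refine ⟨h5, ?_⟩
      have h6 := hall x1
      rw [h5, mul_zero, zero_smul] at h6
      rcases smul_eq_zero.1 h6.symm with h7 | h7
      · rcases mul_eq_zero.1 h7 with h8 | h8
        · exact absurd h8 hx1
        · exact h8
      · exact absurd h7 hw
  · rintro ⟨h3, h4⟩
    apply LinearEquiv.ext
    intro x
    rw [key x, h3, h4, mul_zero, mul_zero, zero_smul, zero_smul]

end PAIR

section PAIRp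
variable {p : ℕ} [Fact p.Prime] {V : Type*} [AddCommGroup V] [Module (ZMod p) V]

theorem phi_of_pair {K : Subgroup (V ≃ₗ[ZMod p] V)} {φ ψ : Dual (ZMod p) V} {u w : V}
    (hφ : φ ∈ Phi K u) (hψ : ψ ∈ Phi K w) (h1 : ψ u = 0) (h2 : φ w ≠ 0) : ψ ∈ Phi K u := by
  have hconj : tv ψ w * tv φ u * (tv ψ w)⁻¹ ∈ K :=
    K.mul_mem (K.mul_mem hψ.2 hφ.2) (K.inv_mem hψ.2)
  rw [conj_tv] at hconj
  have htu : tv ψ w u = u := by
    rw [tv_apply hψ.1, h1, zero_smul, add_zero]
  have hcomp : φ ∘ₗ ((tv ψ w).symm : V →ₗ[ZMod p] V) = φ - φ w • ψ := by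
    apply LinearMap.ext
    intro x
    have hsymm : (tv ψ w).symm x = (tv ψ w)⁻¹ x := rfl
    have hneg : (-ψ) w = 0 := by simp [hψ.1]
    rw [LinearMap.comp_apply, LinearEquiv.coe_coe, hsymm, tv_inv, tv_apply hneg]
    simp only [LinearMap.neg_apply, map_add, map_smul, smul_eq_mul, LinearMap.sub_apply,
      LinearMap.smul_apply]
    ring
  rw [htu, hcomp] at hconj
  have hmem : φ - φ w • ψ ∈ Phi K u := by
    refine ⟨?_, hconj⟩
    simp [hφ.1, h1]
  have hmem2 : φ w • ψ ∈ Phi K u := by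
    have := (Phi K u).sub_mem hφ hmem
    rwa [sub_sub_cancel] at this
  have := (Phi K u).smul_mem (φ w)⁻¹ hmem2
  rwa [smul_smul, inv_mul_cancel₀ h2, one_smul] at this

theorem exists_map_smul {K : Subgroup (V ≃ₗ[ZMod p] V)} {φ ψ : Dual (ZMod p) V} {u w : V}
    (hφ : φ ∈ Phi K u) (hψ : ψ ∈ Phi K w) (h1 : φ w ≠ 0) (h2 : ψ u ≠ 0) :
    ∃ g ∈ K, g u = ψ u • w := by
  set a : ZMod p := -(φ w * ψ u)⁻¹ with ha
  have hmem : a • φ ∈ Phi K u := (Phi K u).smul_mem a hφ
  refine ⟨tv (a • φ) u * tv ψ w, K.mul_mem hmem.2 hψ.2, ?_⟩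
  rw [LinearEquiv.mul_apply, tv_apply hψ.1, tv_apply hmem.1]
  simp only [LinearMap.smul_apply, map_add, map_smul, smul_eq_mul, hφ.1, mul_zero, zero_add]
  have hne : φ w * ψ u ≠ 0 := mul_ne_zero h1 h2
  have hcoef : ψ u * (a * φ w) = -1 := by
    have h3 : ψ u * (a * φ w) = a * (φ w * ψ u) := by ring
    rw [h3, ha, neg_mul, inv_mul_cancel₀ hne]
  rw [hcoef, neg_one_smul]
  abel

theorem IsCenter.add_smul {K : Subgroup (V ≃ₗ[ZMod p] V)} {u w : V} (hw : IsCenter K w)
    {φ : Dual (ZMod p) V} (hφ : φ ∈ Phi K u) (h : φ w ≠ 0) (a : ZMod p) :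
    IsCenter K (w + a • u) := by
  set c : ZMod p := a / φ w with hc
  have hmem : c • φ ∈ Phi K u := (Phi K u).smul_mem c hφ
  have heq : tv (c • φ) u w = w + a • u := by
    rw [tv_apply hmem.1]
    simp only [LinearMap.smul_apply, smul_eq_mul]
    rw [hc, div_mul_cancel₀ a h]
  rw [← heq]
  exact hw.map hmem.2

end PAIRp

end Cfsg.Agent.Helper4.McL
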