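import Mathlib
import Cfsg.Agent.Lib.Helper2.AICDefs
import Cfsg.Agent.Lib.Helper2.AICGEN
import Cfsg.Agent.Lib.Helper2.AICBAS1
import Cfsg.Agent.Lib.Helper18.AICFACT
import Cfsg.Agent.Lib.Helper4.AICBAS2
import Cfsg.Agent.Lib.Helper24.AICSE
import Cfsg.Agent.Lib.Helper13.AICINV
import Cfsg.Agent.Lib.Helper4.AICB2
import Cfsg.Agent.Lib.Helper22.AICB3C
import Cfsg.Agent.Lib.Helper15.AICB4C

/-!
# S2202, PIECE B5A (helper27)
-/

set_option autoImplicit false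
set_option linter.unusedSectionVars false
set_option linter.unusedVariables false

namespace Cfsg.Agent.Helper2.AIC

variable {G : Type*} [Group G] [Finite G]

theorem three_fix_eq_one (c : Cfg G) (hα : ∀ P Q : Sylow 2 G, P ≠ Q → Kn P ⊓ Kn Q = ⊥)
    {g : G} {R1 R2 R3 : Sylow 2 G} (h12 : R1 ≠ R2) (h23 : R2 ≠ R3) (h13 : R1 ≠ R3)
    (h1 : g • R1 = R1) (h2 : g • R2 = R2) (h3 : g • R3 = R3) : g = 1 := by
  by_contra hg1
  obtain ⟨y, hy, hy23⟩ := Cn_trans c hα h12 h13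
  have hy1 : y ≠ 1 := by
    rintro rfl
    rw [one_smul] at hy23
    exact h23 hy23
  have hgM1 : g ∈ Mn R1 := mem_Mn_iff.2 h1
  have hgM2 : g ∈ Mn R2 := mem_Mn_iff.2 h2
  have hgD : g ∈ Dn R1 R2 := Subgroup.mem_inf.2 ⟨hgM1, hgM2⟩
  have hyM1 : y ∈ Mn R1 := Subgroup.centralizer_le_normalizer _ hy
  -- `y⁻¹ g y` fixes `R1` and `R2`
  have hconjD : y⁻¹ * g * y ∈ Dn R1 R2 := by
    refine Subgroup.mem_inf.2 ⟨?_, ?_⟩
    · exact Subgroup.mul_mem _ (Subgroup.mul_mem _ (Subgroup.inv_mem _ hyM1) hgM1) hyM1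
    · rw [mem_Mn_iff, mul_smul, mul_smul, hy23, h3, ← hy23, inv_smul_smul]
  -- the commutator lies in `D ⊓ C`
  have hcD : g⁻¹ * (y⁻¹ * g * y) ∈ Dn R1 R2 := Subgroup.mul_mem _ (Subgroup.inv_mem _ hgD) hconjD
  have hcC : g⁻¹ * (y⁻¹ * g * y) ∈ Cn R1 := by
    have h4 : g⁻¹ * y⁻¹ * g⁻¹⁻¹ ∈ Cn (g⁻¹ • R1) :=
      (conj_mem_Cn R1 g⁻¹ y⁻¹).2 (Subgroup.inv_mem _ hy)
    have h5 : g⁻¹ • R1 = R1 := by rw [inv_smul_eq_iff, h1]
    rw [h5, inv_inv] at h4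
    have h6 : g⁻¹ * (y⁻¹ * g * y) = (g⁻¹ * y⁻¹ * g) * y := by group
    rw [h6]
    exact Subgroup.mul_mem _ h4 hy
  have hbot : g⁻¹ * (y⁻¹ * g * y) ∈ Dn R1 R2 ⊓ Cn R1 := Subgroup.mem_inf.2 ⟨hcD, hcC⟩
  rw [Dn_inf_Cn_eq_bot c hα h12, Subgroup.mem_bot] at hbot
  have hcomm : g * y = y * g := by
    have h7 : y⁻¹ * g * y = g := by
      have h8 : y⁻¹ * g * y = g * (g⁻¹ * (y⁻¹ * g * y)) := by group
      rw [h8, hbot, mul_one]
    calc g * y = y * (y⁻¹ * g * y) := by group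
      _ = y * g := by rw [h7]
  exact frob c hα h12 hgD hg1 hy hy1 hcomm

theorem no_regular_normal (c : Cfg G) (N : Subgroup G) (hN : N.Normal)
    (htr : ∀ P Q : Sylow 2 G, ∃ n ∈ N, n • P = Q)
    (hfree : ∀ P : Sylow 2 G, ∀ n ∈ N, n • P = P → n = 1) : False := by
  obtain ⟨P⟩ : Nonempty (Sylow 2 G) := inferInstance
  -- involutions of `P` act fixed-point-freely on `N`
  have hfpf : ∀ t : G, t ∈ P → orderOf t = 2 → ∀ n ∈ N, t * n * t⁻¹ = n⁻¹ := by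
    intro t ht hto
    apply fpf_inverts (fact_sq_one hto) (fun n hn => hN.conj_mem n hn t)
    intro n hn hcomm
    apply hfree P n hn
    -- `t ∈ n • P`
    have h1 : n * t * n⁻¹ ∈ (n • P : Sylow 2 G) := (conj_mem_smul P n t).2 ht
    have h2 : n * t * n⁻¹ = t := by
      have h3 : t * n = n * t := by
        calc t * n = (t * n * t⁻¹) * t := by group
          _ = n * t := by rw [hcomm]
      calc n * t * n⁻¹ = (n * t) * n⁻¹ := by group
        _ = (t * n) * n⁻¹ := by rw [h3]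
        _ = t := by group
    rw [h2] at h1
    exact c.sylow_unique hto h1 ht
  -- two distinct involutions of `P`
  have h3 := c.three_le_nInv P
  unfold nInv at h3
  have : Finite {t : G // t ∈ P ∧ orderOf t = 2} := Subtype.finite
  have hnt : Nontrivial {t : G // t ∈ P ∧ orderOf t = 2} :=
    Finite.one_lt_card_iff_nontrivial.1 (by omega)
  obtain ⟨⟨t1, ht1, hto1⟩, ⟨t2, ht2, hto2⟩, hne⟩ := hnt
  have hne' : t1 ≠ t2 := fun h => hne (Subtype.ext h)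
  have hcomm12 : t1 * t2 = t2 * t1 := c.comm_sylow P t1 ht1 t2 ht2
  have hsq1 : t1 * t1 = 1 := fact_sq_one hto1
  have hsq2 : t2 * t2 = 1 := fact_sq_one hto2
  have ht12 : t1 * t2 ∈ P := Subgroup.mul_mem _ ht1 ht2
  have ht12ne : t1 * t2 ≠ 1 := by
    intro h
    apply hne'
    calc t1 = t1 * (t2 * t2) := by rw [hsq2, mul_one]
      _ = (t1 * t2) * t2 := by group
      _ = t2 := by rw [h, one_mul]
  have ht12sq : (t1 * t2) ^ 2 = 1 := by
    rw [pow_two]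
    calc t1 * t2 * (t1 * t2) = t1 * (t2 * t1) * t2 := by group
      _ = t1 * (t1 * t2) * t2 := by rw [hcomm12]
      _ = (t1 * t1) * (t2 * t2) := by group
      _ = 1 := by rw [hsq1, hsq2, mul_one]
  have hto12 : orderOf (t1 * t2) = 2 := orderOf_eq_prime ht12sq ht12ne
  -- `t1 * t2` centralizes and inverts `N`, so `N = 1`
  have hN1 : ∀ n ∈ N, n = 1 := by
    intro n hn
    have hi1 := hfpf t1 ht1 hto1
    have hi2 := hfpf t2 ht2 hto2 n hn
    have hi12 := hfpf (t1 * t2) ht12 hto12 n hn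
    have h4 : (t1 * t2) * n * (t1 * t2)⁻¹ = n := by
      calc (t1 * t2) * n * (t1 * t2)⁻¹ = t1 * (t2 * n * t2⁻¹) * t1⁻¹ := by group
        _ = t1 * n⁻¹ * t1⁻¹ := by rw [hi2]
        _ = (n⁻¹)⁻¹ := hi1 n⁻¹ (N.inv_mem hn)
        _ = n := inv_inv n
    -- so `n` commutes with the involution `t1 * t2`, hence fixes `P`
    apply hfree P n hn
    have h1 : n * (t1 * t2) * n⁻¹ ∈ (n • P : Sylow 2 G) := (conj_mem_smul P n (t1 * t2)).2 ht12
    have h2 : n * (t1 * t2) * n⁻¹ = t1 * t2 := by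
      have h3 : (t1 * t2) * n = n * (t1 * t2) := by
        calc (t1 * t2) * n = ((t1 * t2) * n * (t1 * t2)⁻¹) * (t1 * t2) := by group
          _ = n * (t1 * t2) := by rw [h4]
      calc n * (t1 * t2) * n⁻¹ = (n * (t1 * t2)) * n⁻¹ := by group
        _ = ((t1 * t2) * n) * n⁻¹ := by rw [h3]
        _ = t1 * t2 := by group
    rw [h2] at h1
    exact c.sylow_unique hto12 h1 ht12
  obtain ⟨Q, hQ⟩ := c.nn P
  obtain ⟨n, hn, hnP⟩ := htr P Q
  rw [hN1 n hn, one_smul] at hnP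
  exact hQ hnP.symm

end Cfsg.Agent.Helper2.AIC
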