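import Mathlib
import Cfsg.Agent.Lib.Helper2.AICDefs
import Cfsg.Agent.Lib.Helper2.AICGEN
import Cfsg.Agent.Lib.Helper2.AICBAS1
import Cfsg.Agent.Lib.Helper4.AICBAS2
import Cfsg.Agent.Lib.Helper24.AICSE
import Cfsg.Agent.Lib.Helper13.AICINV
import Cfsg.Agent.Lib.Helper4.AICB2
import Cfsg.Agent.Lib.Helper22.AICB3C
import Cfsg.Agent.Lib.Helper15.AICB4C
import Cfsg.Agent.Lib.Helper27.AICB5A

/-!
# S2202, PIECE B5B (helper27)
-/

set_option autoImplicit false
set_option linter.unusedSectionVars false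
set_option linter.unusedVariables false

namespace Cfsg.Agent.Helper2.AIC

variable {G : Type*} [Group G] [Finite G]

theorem zassenhaus (c : Cfg G) (hα : ∀ P Q : Sylow 2 G, P ≠ Q → Kn P ⊓ Kn Q = ⊥) :
    Cfsg.IsZassenhausGroup G (Sylow 2 G) := by
  have : Fact (Nat.Prime 2) := ⟨Nat.prime_two⟩
  obtain ⟨P0⟩ : Nonempty (Sylow 2 G) := inferInstance
  obtain ⟨Q0, hQ0⟩ := c.nn P0
  -- the kernel of the action is trivial
  have hker : ∀ g : G, (∀ R : Sylow 2 G, g • R = R) → g = 1 := by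
    intro g hg
    have hgM : ∀ R : Sylow 2 G, g ∈ Mn R := fun R => mem_Mn_iff.2 (hg R)
    have h1 : g ∈ Kn P0 ⊓ Kn Q0 :=
      Subgroup.mem_inf.2 ⟨c.core_le_Kn P0 hgM, c.core_le_Kn Q0 hgM⟩
    rw [hα P0 Q0 (Ne.symm hQ0), Subgroup.mem_bot] at h1
    exact h1
  refine ⟨⟨?_⟩, ?_, ?_, ?_, ?_⟩
  · -- faithful
    intro m₁ m₂ h
    have h1 : m₂⁻¹ * m₁ = 1 := by
      apply hker
      intro R
      rw [mul_smul, h R, inv_smul_smul]
    exact (inv_mul_eq_one.1 h1).symm
  · -- doubly transitive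
    rw [MulAction.is_two_pretransitive_iff]
    intro P Q P' Q' hPQ hPQ'
    obtain ⟨g1, hg1⟩ := MulAction.exists_smul_eq G P P'
    have hne : P' ≠ g1 • Q := by
      intro h
      rw [← hg1] at h
      exact hPQ (smul_left_cancel g1 h)
    obtain ⟨m, hm, hmQ⟩ := two_trans c hα hne hPQ'
    refine ⟨m * g1, ?_, ?_⟩
    · rw [mul_smul, hg1]; exact mem_Mn_iff.1 hm
    · rw [mul_smul, hmQ]
  · -- three fixed points
    intro g a b d hab hbd had ha hb hd
    exact three_fix_eq_one c hα hab hbd had ha hb hd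
  · -- a nonidentity element fixing two points
    have h3 := c.three_le_nInv P0
    have hcard : Nat.card (Dn P0 Q0) = nInv P0 := card_Dn_eq c hα (Ne.symm hQ0)
    have hnt : Nontrivial ↥(Dn P0 Q0) := Finite.one_lt_card_iff_nontrivial.1 (by omega)
    obtain ⟨⟨g, hg⟩, hg1⟩ := exists_ne (1 : ↥(Dn P0 Q0))
    refine ⟨g, fun h => hg1 (Subtype.ext h), P0, Q0, Ne.symm hQ0, ?_, ?_⟩
    · exact mem_Mn_iff.1 (Subgroup.mem_inf.1 hg).1
    · exact mem_Mn_iff.1 (Subgroup.mem_inf.1 hg).2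
  · -- no regular normal subgroup
    intro N hN htrans
    by_contra hcon
    push Not at hcon
    apply no_regular_normal c N hN
    · intro P Q
      obtain ⟨n, hn⟩ := MulAction.exists_smul_eq ↥N P Q
      exact ⟨n, n.2, hn⟩
    · intro P n hn hnP
      have h1 : (⟨n, hn⟩ : ↥N) ∈ MulAction.stabilizer ↥N P := by
        rw [MulAction.mem_stabilizer_iff]
        exact hnP
      rw [hcon P, Subgroup.mem_bot] at h1
      exact congrArg Subtype.val h1

end Cfsg.Agent.Helper2.AIC
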