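import Mathlib
import Cfsg.Agent.S0885
import Cfsg.Agent.Lib.Helper2.AICDefs
import Cfsg.Agent.Lib.Helper2.AICGEN
import Cfsg.Agent.Lib.Helper2.AICBAS1
import Cfsg.Agent.Lib.Helper4.AICBAS2
import Cfsg.Agent.Lib.Helper24.AICSE
import Cfsg.Agent.Lib.Helper13.AICINV
import Cfsg.Agent.Lib.Helper4.AICB2
import Cfsg.Agent.Lib.Helper22.AICB3C
import Cfsg.Agent.Lib.Helper15.AICB4C
import Cfsg.Agent.Lib.Helper27.AICB5A
import Cfsg.Agent.Lib.Helper27.AICB5B

/-!
# S2202, PIECE B6 (helper27)
-/

set_option autoImplicit false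
set_option linter.unusedSectionVars false
set_option linter.unusedVariables false

namespace Cfsg.Agent.Helper2.AIC

variable {G : Type*} [Group G] [Finite G]

/-- `stabilizer G P = Mn P` for the action on Sylow 2-subgroups -/
theorem b6_stabilizer_eq (P : Sylow 2 G) : MulAction.stabilizer G P = Mn P := by
  ext m
  rw [MulAction.mem_stabilizer_iff, mem_Mn_iff]

theorem card_sylow_eq (c : Cfg G) (hα : ∀ P Q : Sylow 2 G, P ≠ Q → Kn P ⊓ Kn Q = ⊥)
    (P : Sylow 2 G) : Nat.card (Sylow 2 G) = Nat.card (Cn P) + 1 := by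
  classical
  obtain ⟨Q, hQ⟩ := c.nn P
  have hCM : Cn P ≤ Mn P := Subgroup.centralizer_le_normalizer _
  have hfixP : ∀ x ∈ Cn P, x • P = P := fun x hx => mem_Mn_iff.1 (hCM hx)
  let f : ↥(Cn P) → {R : Sylow 2 G // R ≠ P} := fun x => ⟨(x : G) • Q, by
    intro h
    have h1 : (x : G) • Q = (x : G) • P := by rw [h, hfixP x x.2]
    exact hQ (smul_left_cancel _ h1)⟩
  have hinj : Function.Injective f := by
    intro x y hxy
    have h1 : (x : G) • Q = (y : G) • Q := congrArg Subtype.val hxy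
    have h2 : ((y : G)⁻¹ * (x : G)) • Q = Q := by rw [mul_smul, h1, inv_smul_smul]
    have h3 := Cn_free c hα (Ne.symm hQ) (Subgroup.mul_mem _ (Subgroup.inv_mem _ y.2) x.2) h2
    apply Subtype.ext
    exact (inv_mul_eq_one.1 h3).symm
  have hsurj : Function.Surjective f := by
    rintro ⟨R, hR⟩
    obtain ⟨x, hx, hxQ⟩ := Cn_trans c hα (Ne.symm hQ) (Ne.symm hR)
    exact ⟨⟨x, hx⟩, Subtype.ext hxQ⟩
  have h1 : Nat.card ↥(Cn P) = Nat.card {R : Sylow 2 G // R ≠ P} :=
    Nat.card_congr (Equiv.ofBijective f ⟨hinj, hsurj⟩)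
  have h2 : Nat.card {R : Sylow 2 G // R ≠ P} = Nat.card (Sylow 2 G) - 1 := by
    have : Fintype (Sylow 2 G) := Fintype.ofFinite _
    rw [Nat.card_eq_fintype_card, Nat.card_eq_fintype_card, Fintype.card_subtype_compl,
      Fintype.card_subtype_eq]
  have h3 : 0 < Nat.card (Sylow 2 G) := Nat.card_pos
  omega

theorem card_Cn_le (c : Cfg G) (hα : ∀ P Q : Sylow 2 G, P ≠ Q → Kn P ⊓ Kn Q = ⊥)
    (P : Sylow 2 G) : Nat.card (Cn P) ≤ 2 * nInv P + 1 := by
  classical
  obtain ⟨Q, hQ⟩ := c.nn P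
  have hPQ : P ≠ Q := Ne.symm hQ
  have : Fintype (Sylow 2 G) := Fintype.ofFinite _
  have hZ := zassenhaus c hα
  have hcard := card_sylow_eq c hα P
  have hh : Fintype.card (Sylow 2 G) = Nat.card (Cn P) + 1 := by
    rw [← Nat.card_eq_fintype_card]; exact hcard
  have he : Nat.card ↥(MulAction.stabilizer G P ⊓ MulAction.stabilizer G Q : Subgroup G) =
      nInv P := by
    rw [b6_stabilizer_eq, b6_stabilizer_eq]
    exact card_Dn_eq c hα hPQ
  have hodd : Odd (nInv P) := by
    rw [← card_Dn_eq c hα hPQ]; exact c.odd_card_Dn hPQ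
  have hHa : Cn P ≤ MulAction.stabilizer G P := by
    rw [b6_stabilizer_eq]; exact Subgroup.centralizer_le_normalizer _
  have hHfix : ∀ u ∈ Cn P, u ≠ 1 → ∀ R : Sylow 2 G, u • R = R → R = P := by
    intro u hu hu1 R hR
    by_contra hne
    exact hu1 (Cn_free c hα (Ne.symm hne) hu hR)
  rcases Cfsg.Agent.S0885.result hZ hPQ (Nat.card (Cn P)) (nInv P) hh he hodd (Cn P) hHa hh.symm
    hHfix with h1 | ⟨_, ⟨u, v, huv⟩, _⟩
  · omega
  · exfalso
    apply huv
    apply Subtype.ext
    exact c.comm_Cn P u u.2 v v.2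

/-- PART B -/
theorem partB (c : Cfg G) (hα : ∀ P Q : Sylow 2 G, P ≠ Q → Kn P ⊓ Kn Q = ⊥) :
    ∀ t : G, orderOf t = 2 → ∀ x ∈ Subgroup.centralizer ({t} : Set G), x ^ 2 = 1 := by
  classical
  intro t hto x hx
  obtain ⟨R, htR⟩ := exists_sylow_of_orderOf_two hto
  rw [c.centralizer_eq htR hto] at hx
  -- `|C_R| = nInv R + 1`
  have hle := card_Cn_le c hα R
  obtain ⟨m, hm⟩ := c.nInv_succ_dvd R
  have h3 := c.three_le_nInv R
  have hpos : 0 < Nat.card (Cn R) := Nat.card_pos
  have hm1 : m = 1 := by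
    rcases Nat.lt_or_ge m 2 with h | h
    · interval_cases m
      · omega
      · rfl
    · exfalso
      have : (nInv R + 1) * 2 ≤ (nInv R + 1) * m := Nat.mul_le_mul_left _ h
      omega
  rw [hm1, mul_one] at hm
  -- the identity and the involutions of `R` exhaust `C_R`
  have : Finite {t : G // t ∈ R ∧ orderOf t = 2} := Subtype.finite
  let f : Option {t : G // t ∈ R ∧ orderOf t = 2} → ↥(Cn R) := fun o =>
    match o with
    | none => 1
    | some s => ⟨s.1, c.sylow_le_Cn R s.2.1⟩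
  have hf2 : ∀ o, (f o : G) ^ 2 = 1 := by
    intro o
    cases o with
    | none => simp [f]
    | some s =>
      show (s.1 : G) ^ 2 = 1
      have h6 := pow_orderOf_eq_one (s.1 : G)
      rwa [s.2.2] at h6
  have hinj : Function.Injective f := by
    intro o o' h
    cases o with
    | none =>
      cases o' with
      | none => rfl
      | some s =>
        exfalso
        have h1 : (1 : G) = s.1 := congrArg Subtype.val h
        have h2 := s.2.2
        rw [← h1, orderOf_one] at h2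
        omega
    | some s =>
      cases o' with
      | none =>
        exfalso
        have h1 : s.1 = (1 : G) := congrArg Subtype.val h
        have h2 := s.2.2
        rw [h1, orderOf_one] at h2
        omega
      | some s' =>
        have h0 : (f (some s) : G) = (f (some s') : G) := congrArg Subtype.val h
        have h1 : s.1 = s'.1 := h0
        rw [Subtype.ext h1]
  have hcard : Nat.card (Option {t : G // t ∈ R ∧ orderOf t = 2}) = Nat.card ↥(Cn R) := by
    rw [Finite.card_option, hm]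
    rfl
  have hbij : Function.Bijective f := (Nat.bijective_iff_injective_and_card f).2 ⟨hinj, hcard⟩
  obtain ⟨o, ho⟩ := hbij.2 ⟨x, hx⟩
  have h5 := hf2 o
  rw [ho] at h5
  exact h5

end Cfsg.Agent.Helper2.AIC
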