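import Mathlib

set_option autoImplicit false
set_option linter.unusedSectionVars false

/-! Linear groups of order 2520 on the 4-dimensional space over the field with two elements: fixed spaces of elements of order 5 and 7, transitivity on the 15 nonzero vectors, orbits of a point stabiliser of size 7 or 14, and the impossibility of the rank-3 case (an invariant hyperplane for each vector would give a symmetric incidence without absolute points). -/

namespace Cfsg.Agent.Helper27.A7GL4


open Matrix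

variable {F : Type*} [Field F] [Fintype F]

theorem smul_def (g : GL (Fin 4) F) (v : Fin 4 → F) :
    g • v = (g : Matrix (Fin 4) (Fin 4) F).mulVec v := rfl

theorem card_V (hF : Fintype.card F = 2) : Nat.card (Fin 4 → F) = 16 := by
  rw [Nat.card_eq_fintype_card, Fintype.card_fun, hF]; rfl

theorem eq_one_of_forall_smul (g : GL (Fin 4) F) (h : ∀ v : Fin 4 → F, g • v = v) : g = 1 := by
  apply Units.ext
  apply Matrix.ext
  intro i j
  classical
  have := congrFun (h (Pi.single j 1)) i
  rw [smul_def, Matrix.mulVec_single_one] at this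
  simpa [Matrix.one_apply, Pi.single_apply, eq_comm] using this

/-- fixed vectors of `g` as an additive subgroup -/
def fixAdd (g : GL (Fin 4) F) : AddSubgroup (Fin 4 → F) where
  carrier := {v | g • v = v}
  zero_mem' := smul_zero g
  add_mem' := by
    intro a b ha hb
    simp only [Set.mem_setOf_eq] at ha hb ⊢
    rw [smul_add, ha, hb]
  neg_mem' := by
    intro a ha
    simp only [Set.mem_setOf_eq] at ha ⊢
    rw [smul_neg, ha]

theorem mem_fixAdd {g : GL (Fin 4) F} {v : Fin 4 → F} : v ∈ fixAdd g ↔ g • v = v := Iff.rfl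

theorem card_fixAdd_dvd (hF : Fintype.card F = 2) (g : GL (Fin 4) F) :
    Nat.card (fixAdd g) ∣ 16 := by
  rw [← card_V hF]
  exact AddSubgroup.card_addSubgroup_dvd_card _

theorem fixedPoints_zpowers (g : GL (Fin 4) F) :
    MulAction.fixedPoints (Subgroup.zpowers g) (Fin 4 → F) = (fixAdd g : Set (Fin 4 → F)) := by
  ext v
  rw [MulAction.mem_fixedPoints]
  constructor
  · intro h
    exact h ⟨g, Subgroup.mem_zpowers g⟩
  · intro h k
    have hle : Subgroup.zpowers g ≤ MulAction.stabilizer (GL (Fin 4) F) v := by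
      rw [Subgroup.zpowers_le]
      exact h
    exact hle k.2

theorem card_fixAdd_modEq (hF : Fintype.card F = 2) (g : GL (Fin 4) F) (p : ℕ) [Fact p.Prime]
    (hg : orderOf g = p) : 16 ≡ Nat.card (fixAdd g) [MOD p] := by
  have hp : IsPGroup p (Subgroup.zpowers g) := by
    apply IsPGroup.of_card (n := 1)
    rw [Nat.card_zpowers, hg, pow_one]
  have := hp.card_modEq_card_fixedPoints (Fin 4 → F)
  rw [card_V hF, fixedPoints_zpowers] at this
  exact this

theorem card_fixAdd_eq_16 (hF : Fintype.card F = 2) (g : GL (Fin 4) F)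
    (h : Nat.card (fixAdd g) = 16) : g = 1 := by
  apply eq_one_of_forall_smul
  intro v
  have : fixAdd g = ⊤ := by
    apply AddSubgroup.eq_top_of_card_eq
    rw [h, card_V hF]
  have hv : v ∈ fixAdd g := by rw [this]; trivial
  exact hv

theorem dvd16 {n : ℕ} (h : n ∣ 16) : n = 1 ∨ n = 2 ∨ n = 4 ∨ n = 8 ∨ n = 16 := by
  have : n ∈ Nat.divisors 16 := by simp [h]
  have h16 : Nat.divisors 16 = {1, 2, 4, 8, 16} := by decide
  rw [h16] at this
  simpa using this

/-- an element of order 5 has no nonzero fixed vector -/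
theorem fix_five (hF : Fintype.card F = 2) (g : GL (Fin 4) F) (hg : orderOf g = 5)
    (v : Fin 4 → F) (hv : g • v = v) : v = 0 := by
  haveI : Fact (Nat.Prime 5) := ⟨by norm_num⟩
  have h1 := card_fixAdd_modEq hF g 5 hg
  have h2 := dvd16 (card_fixAdd_dvd hF g)
  have hne : g ≠ 1 := by
    intro h; rw [h, orderOf_one] at hg; omega
  have hc : Nat.card (fixAdd g) = 1 := by
    rcases h2 with h | h | h | h | h
    · exact h
    · rw [h] at h1; exact absurd h1 (by decide)
    · rw [h] at h1; exact absurd h1 (by decide)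
    · rw [h] at h1; exact absurd h1 (by decide)
    · exact absurd (card_fixAdd_eq_16 hF g h) hne
  have hsub : Subsingleton (fixAdd g) := (Nat.card_eq_one_iff_unique.1 hc).1
  have := Subsingleton.elim (⟨v, hv⟩ : fixAdd g) ⟨0, (fixAdd g).zero_mem⟩
  exact congrArg Subtype.val this

/-- an element of order 7 has exactly one nonzero fixed vector -/
theorem card_fix_seven (hF : Fintype.card F = 2) (g : GL (Fin 4) F) (hg : orderOf g = 7) :
    Nat.card (fixAdd g) = 2 := by
  haveI : Fact (Nat.Prime 7) := ⟨by norm_num⟩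
  have h1 := card_fixAdd_modEq hF g 7 hg
  have h2 := dvd16 (card_fixAdd_dvd hF g)
  have hne : g ≠ 1 := by
    intro h; rw [h, orderOf_one] at hg; omega
  rcases h2 with h | h | h | h | h
  · rw [h] at h1; exact absurd h1 (by decide)
  · exact h
  · rw [h] at h1; exact absurd h1 (by decide)
  · rw [h] at h1; exact absurd h1 (by decide)
  · exact absurd (card_fixAdd_eq_16 hF g h) hne

theorem fix_seven_unique (hF : Fintype.card F = 2) (g : GL (Fin 4) F) (hg : orderOf g = 7)
    {u v : Fin 4 → F} (hu : g • u = u) (hv : g • v = v) (hu0 : u ≠ 0) (hv0 : v ≠ 0) : u = v := by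
  have hc := card_fix_seven hF g hg
  by_contra hne
  have : 3 ≤ Nat.card (fixAdd g) := by
    classical
    haveI : Finite (fixAdd g) := Nat.finite_of_card_ne_zero (by rw [hc]; norm_num)
    haveI := Fintype.ofFinite (fixAdd g)
    rw [Nat.card_eq_fintype_card]
    let s : Finset (fixAdd g) := {⟨0, (fixAdd g).zero_mem⟩, ⟨u, hu⟩, ⟨v, hv⟩}
    have hs : s.card = 3 := by
      rw [Finset.card_insert_of_notMem, Finset.card_insert_of_notMem, Finset.card_singleton]
      · simp only [Finset.mem_singleton]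
        exact fun h => hne (congrArg Subtype.val h)
      · simp only [Finset.mem_insert, Finset.mem_singleton, not_or]
        exact ⟨fun h => hu0 (congrArg Subtype.val h).symm, fun h => hv0 (congrArg Subtype.val h).symm⟩
    rw [← hs]
    exact Finset.card_le_univ s
  omega




open Matrix MulAction

variable {F : Type*} [Field F] [Fintype F]

/-- a group acting on `F^4` through an injective hom to `GL` -/
structure Lin (L : Type*) [Group L] [MulAction L (Fin 4 → F)] where
  ι : L →* GL (Fin 4) F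
  inj : Function.Injective ι
  smul_eq : ∀ (l : L) (v : Fin 4 → F), l • v = ι l • v

variable {L : Type*} [Group L] [MulAction L (Fin 4 → F)]

theorem Lin.smul_ne_zero (A : Lin (F := F) L) (l : L) {v : Fin 4 → F} (hv : v ≠ 0) : l • v ≠ 0 := by
  rw [A.smul_eq]
  intro h
  exact hv ((smul_eq_zero_iff_eq (A.ι l)).1 h)

theorem Lin.smul_add (A : Lin (F := F) L) (l : L) (u v : Fin 4 → F) : l • (u + v) = l • u + l • v := by
  rw [A.smul_eq, A.smul_eq, A.smul_eq, _root_.smul_add]

theorem Lin.smul_zero (A : Lin (F := F) L) (l : L) : l • (0 : Fin 4 → F) = 0 := by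
  rw [A.smul_eq, _root_.smul_zero]

theorem Lin.orbit_ne_zero (A : Lin (F := F) L) {w u : Fin 4 → F} (hw : w ≠ 0) (hu : u ∈ orbit L w) :
    u ≠ 0 := by
  obtain ⟨l, rfl⟩ := hu
  exact A.smul_ne_zero l hw

theorem ncard_nonzero (hF : Fintype.card F = 2) : ({v : Fin 4 → F | v ≠ 0}).ncard = 15 := by
  have h := Set.ncard_add_ncard_compl ({0} : Set (Fin 4 → F))
  rw [Set.ncard_singleton, card_V hF] at h
  have : ({0} : Set (Fin 4 → F))ᶜ = {v | v ≠ 0} := by ext v; simp
  rw [this] at h
  omega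

theorem dvd_card_orbit (hF : Fintype.card F = 2) (A : Lin (F := F) L) (g : L) (p : ℕ) [Fact p.Prime]
    (hg : orderOf g = p) (w : Fin 4 → F)
    (h : ∀ u ∈ orbit L w, g • u ≠ u) : p ∣ Nat.card (orbit L w) := by
  have hp : IsPGroup p (Subgroup.zpowers g) := by
    apply IsPGroup.of_card (n := 1)
    rw [Nat.card_zpowers, hg, pow_one]
  have := hp.card_modEq_card_fixedPoints (orbit L w)
  have hempty : fixedPoints (Subgroup.zpowers g) (orbit L w) = ∅ := by
    ext a
    simp only [Set.mem_empty_iff_false, iff_false]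
    intro ha
    rw [MulAction.mem_fixedPoints] at ha
    have h1 := ha ⟨g, Subgroup.mem_zpowers g⟩
    have h2 : g • (a : Fin 4 → F) = a := congrArg Subtype.val h1
    exact h a a.2 h2
  rw [hempty] at this
  simp only [Set.mem_empty_iff_false, Nat.card_of_isEmpty] at this
  exact (Nat.modEq_zero_iff_dvd).1 this

theorem card_orbit_mod (hF : Fintype.card F = 2) (A : Lin (F := F) L) (g : L) (p : ℕ) [Fact p.Prime]
    (hg : orderOf g = p) (w : Fin 4 → F)
    (h : ∀ u ∈ orbit L w, ∀ u' ∈ orbit L w, g • u = u → g • u' = u' → u = u') :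
    Nat.card (orbit L w) % p = 0 ∨ Nat.card (orbit L w) % p = 1 := by
  have hp : IsPGroup p (Subgroup.zpowers g) := by
    apply IsPGroup.of_card (n := 1)
    rw [Nat.card_zpowers, hg, pow_one]
  have := hp.card_modEq_card_fixedPoints (orbit L w)
  have hsub : Subsingleton (fixedPoints (Subgroup.zpowers g) (orbit L w)) := by
    constructor
    intro a b
    have ha := a.2
    have hb := b.2
    rw [MulAction.mem_fixedPoints] at ha hb
    have h1 := ha ⟨g, Subgroup.mem_zpowers g⟩
    have h2 := hb ⟨g, Subgroup.mem_zpowers g⟩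
    have h1' : g • ((a : orbit L w) : Fin 4 → F) = (a : orbit L w) := congrArg Subtype.val h1
    have h2' : g • ((b : orbit L w) : Fin 4 → F) = (b : orbit L w) := congrArg Subtype.val h2
    have := h _ (a : orbit L w).2 _ (b : orbit L w).2 h1' h2'
    exact Subtype.ext (Subtype.ext this)
  have hle : Nat.card (fixedPoints (Subgroup.zpowers g) (orbit L w)) ≤ 1 :=
    Finite.card_le_one_iff_subsingleton.2 hsub
  have hp1 : 1 < p := (Fact.out : p.Prime).one_lt
  unfold Nat.ModEq at this
  interval_cases hc : Nat.card (fixedPoints (Subgroup.zpowers g) (orbit L w))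
  · left; rw [this]; exact Nat.zero_mod p
  · right; rw [this]; exact Nat.mod_eq_of_lt hp1

theorem card_orbit_le (hF : Fintype.card F = 2) (A : Lin (F := F) L) {w : Fin 4 → F} (hw : w ≠ 0) :
    Nat.card (orbit L w) ≤ 15 := by
  rw [← ncard_nonzero hF, Nat.card_coe_set_eq]
  apply Set.ncard_le_ncard _ (Set.toFinite _)
  intro u hu
  exact A.orbit_ne_zero hw hu

theorem card_orbit_pos (w : Fin 4 → F) : 0 < Nat.card (orbit L w) := by
  haveI : Nonempty (orbit L w) := ⟨⟨w, mem_orbit_self w⟩⟩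
  exact Nat.card_pos

/-- a linear group of order 2520 is transitive on the nonzero vectors -/
theorem orbit_eq (hF : Fintype.card F = 2) (A : Lin (F := F) L) [Finite L] (hL : Nat.card L = 2520)
    {w : Fin 4 → F} (hw : w ≠ 0) : orbit L w = {v | v ≠ 0} := by
  haveI : Fact (Nat.Prime 5) := ⟨by norm_num⟩
  haveI : Fact (Nat.Prime 7) := ⟨by norm_num⟩
  obtain ⟨g5, hg5⟩ := exists_prime_orderOf_dvd_card' (G := L) 5 (by rw [hL]; norm_num)
  obtain ⟨g7, hg7⟩ := exists_prime_orderOf_dvd_card' (G := L) 7 (by rw [hL]; norm_num)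
  have h5 : 5 ∣ Nat.card (orbit L w) := by
    apply dvd_card_orbit hF A g5 5 hg5
    intro u hu hfix
    rw [A.smul_eq] at hfix
    have := fix_five hF (A.ι g5) (by rw [orderOf_injective A.ι A.inj, hg5]) u hfix
    exact A.orbit_ne_zero hw hu this
  have h7 := card_orbit_mod hF A g7 7 hg7 w (by
    intro u hu u' hu' h1 h2
    rw [A.smul_eq] at h1 h2
    exact fix_seven_unique hF (A.ι g7) (by rw [orderOf_injective A.ι A.inj, hg7]) h1 h2
      (A.orbit_ne_zero hw hu) (A.orbit_ne_zero hw hu'))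
  have hle := card_orbit_le hF A hw
  have hpos := card_orbit_pos (L := L) w
  have hc : Nat.card (orbit L w) = 15 := by
    obtain ⟨k, hk⟩ := h5
    omega
  apply Set.eq_of_subset_of_ncard_le _ _ (Set.toFinite _)
  · intro u hu
    exact A.orbit_ne_zero hw hu
  · rw [ncard_nonzero hF, ← Nat.card_coe_set_eq, hc]




open Matrix MulAction

variable {F : Type*} [Field F] [Fintype F]
variable {L : Type*} [Group L] [MulAction L (Fin 4 → F)]

/-- restriction of a linear action to a subgroup -/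
def Lin.sub (A : Lin (F := F) L) (S : Subgroup L) : Lin (F := F) S where
  ι := A.ι.comp S.subtype
  inj := A.inj.comp Subtype.val_injective
  smul_eq := fun s v => by
    rw [Subgroup.smul_def, A.smul_eq]; rfl

theorem card_stab (hF : Fintype.card F = 2) (A : Lin (F := F) L) [Finite L] (hL : Nat.card L = 2520)
    {v : Fin 4 → F} (hv : v ≠ 0) : Nat.card (stabilizer L v) = 168 := by
  have h1 := index_stabilizer L v
  rw [orbit_eq hF A hL hv, ncard_nonzero hF] at h1
  have h2 := Subgroup.card_mul_index (stabilizer L v)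
  rw [h1, hL] at h2
  omega

theorem ncard_two_removed (hF : Fintype.card F = 2) {v : Fin 4 → F} (hv : v ≠ 0) :
    ({u : Fin 4 → F | u ≠ 0 ∧ u ≠ v}).ncard = 14 := by
  have h1 := ncard_nonzero hF
  have h2 : {u : Fin 4 → F | u ≠ 0 ∧ u ≠ v} = {u : Fin 4 → F | u ≠ 0} \ {v} := by
    ext u; simp
  rw [h2, Set.ncard_diff_singleton_of_mem (by simpa using hv), h1]

theorem stab_orbit_sub (A : Lin (F := F) L) {v w : Fin 4 → F} (hw0 : w ≠ 0) (hwv : w ≠ v) :
    orbit (stabilizer L v) w ⊆ {u : Fin 4 → F | u ≠ 0 ∧ u ≠ v} := by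
  rintro u ⟨s, rfl⟩
  refine ⟨(A.sub _).smul_ne_zero s hw0, ?_⟩
  intro h
  apply hwv
  have hs : (s : L) • v = v := s.2
  have : (s : L) • w = (s : L) • v := by rw [hs]; exact h
  exact smul_left_cancel _ this

theorem stab_orbit_card (hF : Fintype.card F = 2) (A : Lin (F := F) L) [Finite L]
    (hL : Nat.card L = 2520) {v w : Fin 4 → F} (hv : v ≠ 0) (hw0 : w ≠ 0) (hwv : w ≠ v) :
    Nat.card (orbit (stabilizer L v) w) = 7 ∨ Nat.card (orbit (stabilizer L v) w) = 14 := by
  haveI : Fact (Nat.Prime 7) := ⟨by norm_num⟩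
  obtain ⟨g, hg⟩ := exists_prime_orderOf_dvd_card' (G := stabilizer L v) 7
    (by rw [card_stab hF A hL hv]; norm_num)
  have h7 : 7 ∣ Nat.card (orbit (stabilizer L v) w) := by
    apply dvd_card_orbit hF (A.sub _) g 7 hg
    intro u hu hfix
    have hu' := stab_orbit_sub A hw0 hwv hu
    rw [(A.sub _).smul_eq] at hfix
    have hgv : (A.sub (stabilizer L v)).ι g • v = v := by
      rw [← (A.sub _).smul_eq, Subgroup.smul_def]; exact g.2
    have := fix_seven_unique hF _ (by rw [orderOf_injective _ (A.sub _).inj, hg]) hfix hgv hu'.1 hv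
    exact hu'.2 this
  have hle : Nat.card (orbit (stabilizer L v) w) ≤ 14 := by
    rw [← ncard_two_removed hF hv, Nat.card_coe_set_eq]
    exact Set.ncard_le_ncard (stab_orbit_sub A hw0 hwv) (Set.toFinite _)
  have hpos := card_orbit_pos (L := stabilizer L v) w
  obtain ⟨k, hk⟩ := h7
  omega

/-- if all stabiliser orbits have size 14 the action is 2-transitive -/
theorem two_trans (hF : Fintype.card F = 2) (A : Lin (F := F) L) [Finite L] (hL : Nat.card L = 2520)
    (h14 : ∀ v w : Fin 4 → F, v ≠ 0 → w ≠ 0 → w ≠ v → Nat.card (orbit (stabilizer L v) w) = 14)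
    (v w v' w' : Fin 4 → F) (hv : v ≠ 0) (hw : w ≠ 0) (hvw : v ≠ w) (hv' : v' ≠ 0) (hw' : w' ≠ 0)
    (hvw' : v' ≠ w') : ∃ l : L, l • v = v' ∧ l • w = w' := by
  have h1 : v' ∈ orbit L v := by rw [orbit_eq hF A hL hv]; exact hv'
  obtain ⟨l₁, hl₁⟩ := h1
  have hl₁ : l₁ • v = v' := hl₁
  have hw1 : l₁ • w ≠ 0 := A.smul_ne_zero l₁ hw
  have hw1v : l₁ • w ≠ v' := by
    rw [← hl₁]; intro h; exact hvw (smul_left_cancel _ h).symm
  have hc := h14 v' (l₁ • w) hv' hw1 hw1v
  have hsub := stab_orbit_sub A hw1 hw1v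
  have heq : orbit (stabilizer L v') (l₁ • w) = {u : Fin 4 → F | u ≠ 0 ∧ u ≠ v'} := by
    apply Set.eq_of_subset_of_ncard_le hsub _ (Set.toFinite _)
    rw [ncard_two_removed hF hv', ← Nat.card_coe_set_eq, hc]
  have h2 : w' ∈ orbit (stabilizer L v') (l₁ • w) := by
    rw [heq]; exact ⟨hw', fun h => hvw' h.symm⟩
  obtain ⟨s, hs⟩ := h2
  have hs : (s : L) • (l₁ • w) = w' := hs
  refine ⟨(s : L) * l₁, ?_, ?_⟩
  · rw [mul_smul, hl₁]; exact s.2
  · rw [mul_smul]; exact hs




open Matrix MulAction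

variable {F : Type*} [Field F] [Fintype F]

theorem add_self_eq_zero' (hF : Fintype.card F = 2) (v : Fin 4 → F) : v + v = 0 := by
  have h2 : (2 : F) = 0 := by
    have := Nat.cast_card_eq_zero F
    rw [hF] at this
    exact_mod_cast this
  funext i
  simp only [Pi.add_apply, Pi.zero_apply]
  rw [← two_mul, h2, zero_mul]

/-- the map `x ↦ M x - x` -/
def diffHom (M : GL (Fin 4) F) : (Fin 4 → F) →+ (Fin 4 → F) :=
  DistribSMul.toAddMonoidHom (Fin 4 → F) M - AddMonoidHom.id _

theorem diffHom_apply (M : GL (Fin 4) F) (x : Fin 4 → F) : diffHom M x = M • x - x := rfl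

/-- the hyperplane `(M - 1) V` -/
def hyp (M : GL (Fin 4) F) : AddSubgroup (Fin 4 → F) := (diffHom M).range

theorem mem_hyp {M : GL (Fin 4) F} {x : Fin 4 → F} : x ∈ hyp M ↔ ∃ y, M • y - y = x := by
  unfold hyp
  rw [AddMonoidHom.mem_range]
  rfl

theorem ker_diffHom (M : GL (Fin 4) F) : (diffHom M).ker = fixAdd M := by
  ext x
  rw [AddMonoidHom.mem_ker, diffHom_apply, sub_eq_zero, mem_fixAdd]

theorem card_hyp (hF : Fintype.card F = 2) (M : GL (Fin 4) F) (hM : orderOf M = 7) :
    Nat.card (hyp M) = 8 := by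
  have h1 := AddSubgroup.index_ker (diffHom M)
  have h2 := AddSubgroup.card_mul_index (diffHom M).ker
  rw [ker_diffHom, card_fix_seven hF M hM, card_V hF] at h2
  unfold hyp
  rw [← h1, ker_diffHom]
  omega

theorem smul_mem_hyp (M : GL (Fin 4) F) {x : Fin 4 → F} (hx : x ∈ hyp M) : M • x ∈ hyp M := by
  rw [mem_hyp] at hx ⊢
  obtain ⟨y, rfl⟩ := hx
  exact ⟨M • y, by rw [smul_sub]⟩

theorem pow_smul_mem_hyp (M : GL (Fin 4) F) (n : ℕ) {x : Fin 4 → F} (hx : x ∈ hyp M) :
    M ^ n • x ∈ hyp M := by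
  induction n with
  | zero => simpa using hx
  | succ k ih =>
    rw [pow_succ', mul_smul]
    exact smul_mem_hyp M ih

theorem fix_not_mem_hyp (hF : Fintype.card F = 2) (M : GL (Fin 4) F) (hM : orderOf M = 7)
    {v : Fin 4 → F} (hv : M • v = v) (hv0 : v ≠ 0) : v ∉ hyp M := by
  intro h
  rw [mem_hyp] at h
  obtain ⟨x, hx⟩ := h
  have h1 : M • x = x + v := by rw [← hx]; abel
  have h2 : (M ^ 2) • x = x := by
    rw [pow_two, mul_smul, h1, smul_add, h1, hv, add_assoc, add_self_eq_zero' hF, add_zero]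
  have h7 : M ^ 7 = 1 := by rw [← hM]; exact pow_orderOf_eq_one M
  have h8 : M = (M ^ 2) ^ 4 := by
    rw [← pow_mul]
    calc M = M ^ 7 * M := by rw [h7, one_mul]
      _ = M ^ (2 * 4) := by rw [← pow_succ]
  have h3 : M • x = x := by
    conv_lhs => rw [h8]
    rw [pow_succ, pow_succ, pow_succ, pow_one, mul_smul, mul_smul, mul_smul, h2, h2, h2, h2]
  rw [h3] at h1
  apply hv0
  have : x + 0 = x + v := by rw [add_zero]; exact h1
  exact (add_left_cancel this).symm

theorem hyp_no_fix (hF : Fintype.card F = 2) (M : GL (Fin 4) F) (hM : orderOf M = 7)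
    {u : Fin 4 → F} (hu : u ∈ hyp M) (hu0 : u ≠ 0) : M • u ≠ u := by
  intro h
  exact fix_not_mem_hyp hF M hM h hu0 hu

theorem ncard_hyp_nonzero (hF : Fintype.card F = 2) (M : GL (Fin 4) F) (hM : orderOf M = 7) :
    ((hyp M : Set (Fin 4 → F)) \ {0}).ncard = 7 := by
  rw [Set.ncard_diff_singleton_of_mem (hyp M).zero_mem]
  have := card_hyp hF M hM
  rw [← Nat.card_coe_set_eq]
  change Nat.card (hyp M) - 1 = 7
  omega

theorem index_two_of_card (hF : Fintype.card F = 2) (W : AddSubgroup (Fin 4 → F))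
    (hW : Nat.card W = 8) : W.index = 2 := by
  have := AddSubgroup.card_mul_index W
  rw [hW, card_V hF] at this
  omega




open Matrix MulAction

variable {F : Type*} [Field F] [Fintype F]
variable {L : Type*} [Group L] [MulAction L (Fin 4 → F)]

/-- the 14 vectors other than `0` and `v` -/
def rest (v : Fin 4 → F) : Set (Fin 4 → F) := {u | u ≠ 0 ∧ u ≠ v}

theorem stab_smul_mem_rest (A : Lin (F := F) L) {v : Fin 4 → F} (s : stabilizer L v) {x : Fin 4 → F}
    (hx : x ∈ rest v) : s • x ∈ rest v := by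
  refine ⟨(A.sub _).smul_ne_zero s hx.1, ?_⟩
  intro h
  apply hx.2
  have hs : (s : L) • v = v := s.2
  have : (s : L) • x = (s : L) • v := by rw [hs]; exact h
  exact smul_left_cancel _ this

/-- an invariant 7-subset of `rest v` is a single orbit of the stabiliser -/
theorem single_orbit (hF : Fintype.card F = 2) (A : Lin (F := F) L) [Finite L]
    (hL : Nat.card L = 2520) {v : Fin 4 → F} (hv : v ≠ 0) (T : Set (Fin 4 → F)) (hT : T ⊆ rest v)
    (hTc : T.ncard = 7) (hTi : ∀ s : stabilizer L v, ∀ x ∈ T, s • x ∈ T)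
    {x y : Fin 4 → F} (hx : x ∈ T) (hy : y ∈ T) : ∃ s : stabilizer L v, s • x = y := by
  have hsub : orbit (stabilizer L v) x ⊆ T := by
    rintro u ⟨s, rfl⟩
    exact hTi s x hx
  have hc := stab_orbit_card hF A hL hv (hT hx).1 (hT hx).2
  have hle : Nat.card (orbit (stabilizer L v) x) ≤ 7 := by
    rw [← hTc, Nat.card_coe_set_eq]
    exact Set.ncard_le_ncard hsub (Set.toFinite _)
  have h7 : Nat.card (orbit (stabilizer L v) x) = 7 := by omega
  have heq : orbit (stabilizer L v) x = T := by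
    apply Set.eq_of_subset_of_ncard_le hsub _ (Set.toFinite _)
    rw [hTc, ← Nat.card_coe_set_eq, h7]
  have : y ∈ orbit (stabilizer L v) x := by rw [heq]; exact hy
  obtain ⟨s, hs⟩ := this
  exact ⟨s, hs⟩

/-- a `g`-invariant 7-subset of `rest v` (g of order 7 in the stabiliser) is a single `⟨g⟩`-orbit -/
theorem cyc_orbit (hF : Fintype.card F = 2) (A : Lin (F := F) L) [Finite L]
    {v : Fin 4 → F} (hv : v ≠ 0) (g : stabilizer L v) (hg : orderOf g = 7)
    (T : Set (Fin 4 → F)) (hT : T ⊆ rest v)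
    (hTc : T.ncard = 7) (hTg : ∀ x ∈ T, g • x ∈ T)
    {x y : Fin 4 → F} (hx : x ∈ T) (hy : y ∈ T) : ∃ n : ℕ, g ^ n • x = y := by
  haveI : Fact (Nat.Prime 7) := ⟨by norm_num⟩
  have hpow : ∀ n : ℕ, ∀ z ∈ T, g ^ n • z ∈ T := by
    intro n
    induction n with
    | zero => intro z hz; simpa using hz
    | succ k ih =>
      intro z hz
      rw [pow_succ', mul_smul]
      exact hTg _ (ih z hz)
  have hmem : ∀ c : Subgroup.zpowers g, ∃ n : ℕ, g ^ n = (c : stabilizer L v) := by
    intro c
    have := (mem_powers_iff_mem_zpowers (x := g)).2 c.2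
    obtain ⟨n, hn⟩ := this
    exact ⟨n, hn⟩
  have hsub : orbit (Subgroup.zpowers g) x ⊆ T := by
    rintro u ⟨c, rfl⟩
    obtain ⟨n, hn⟩ := hmem c
    have : c • x = g ^ n • x := by
      rw [Subgroup.smul_def, hn]
    rw [show (fun m : Subgroup.zpowers g => m • x) c = c • x from rfl, this]
    exact hpow n x hx
  let B := (A.sub (stabilizer L v)).sub (Subgroup.zpowers g)
  have hgv : (A.sub (stabilizer L v)).ι g • v = v := by
    rw [← (A.sub _).smul_eq, Subgroup.smul_def]; exact g.2
  have h7 : 7 ∣ Nat.card (orbit (Subgroup.zpowers g) x) := by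
    apply dvd_card_orbit hF B ⟨g, Subgroup.mem_zpowers g⟩ 7
    · rw [← Subgroup.orderOf_coe]; exact hg
    · intro u hu hfix
      have hu' := hT (hsub hu)
      have hfix' : (A.sub (stabilizer L v)).ι g • u = u := by
        rw [← (A.sub _).smul_eq]; exact hfix
      have := fix_seven_unique hF _ (by rw [orderOf_injective _ (A.sub _).inj, hg]) hfix' hgv hu'.1 hv
      exact hu'.2 this
  have hle : Nat.card (orbit (Subgroup.zpowers g) x) ≤ 7 := by
    rw [← hTc, Nat.card_coe_set_eq]
    exact Set.ncard_le_ncard hsub (Set.toFinite _)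
  have hpos := card_orbit_pos (L := Subgroup.zpowers g) x
  have hc7 : Nat.card (orbit (Subgroup.zpowers g) x) = 7 := by
    obtain ⟨k, hk⟩ := h7; omega
  have heq : orbit (Subgroup.zpowers g) x = T := by
    apply Set.eq_of_subset_of_ncard_le hsub _ (Set.toFinite _)
    rw [hTc, ← Nat.card_coe_set_eq, hc7]
  have : y ∈ orbit (Subgroup.zpowers g) x := by rw [heq]; exact hy
  obtain ⟨c, hc⟩ := this
  obtain ⟨n, hn⟩ := hmem c
  refine ⟨n, ?_⟩
  have hc' : c • x = y := hc
  rw [hn]
  exact (Subgroup.smul_def c x).symm.trans hc'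




open Matrix MulAction

variable {F : Type*} [Field F] [Fintype F]
variable {L : Type*} [Group L] [MulAction L (Fin 4 → F)]

/-- the configuration arising when a point stabiliser has an orbit of size 7 -/
structure BadData (L : Type*) [Group L] [MulAction L (Fin 4 → F)] (v : Fin 4 → F) where
  W : AddSubgroup (Fin 4 → F)
  card_W : Nat.card W = 8
  not_mem : v ∉ W
  inv : ∀ (s : stabilizer L v) (x : Fin 4 → F), x ∈ W → s • x ∈ W
  tr1 : ∀ x ∈ W, x ≠ 0 → ∀ y ∈ W, y ≠ 0 → ∃ s : stabilizer L v, s • x = y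
  tr2 : ∀ x, x ∉ W → x ≠ v → ∀ y, y ∉ W → y ≠ v → ∃ s : stabilizer L v, s • x = y

theorem ncard_rest (hF : Fintype.card F = 2) {v : Fin 4 → F} (hv : v ≠ 0) : (rest v).ncard = 14 :=
  ncard_two_removed hF hv

theorem exists_badData (hF : Fintype.card F = 2) (A : Lin (F := F) L) [Finite L]
    (hL : Nat.card L = 2520) {v w : Fin 4 → F} (hv : v ≠ 0) (hw0 : w ≠ 0) (hwv : w ≠ v)
    (hbad : Nat.card (orbit (stabilizer L v) w) = 7) : Nonempty (BadData (F := F) L v) := by
  haveI : Fact (Nat.Prime 7) := ⟨by norm_num⟩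
  obtain ⟨g, hg⟩ := exists_prime_orderOf_dvd_card' (G := stabilizer L v) 7
    (by rw [card_stab hF A hL hv]; norm_num)
  set M : GL (Fin 4) F := (A.sub (stabilizer L v)).ι g with hM
  have hMord : orderOf M = 7 := by rw [hM, orderOf_injective _ (A.sub _).inj, hg]
  have hgM : ∀ x : Fin 4 → F, g • x = M • x := fun x => (A.sub _).smul_eq g x
  have hMv : M • v = v := by
    rw [← hgM, Subgroup.smul_def]; exact g.2
  -- the two stabiliser-invariant 7-sets
  set O : Set (Fin 4 → F) := orbit (stabilizer L v) w with hO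
  set O' : Set (Fin 4 → F) := rest v \ O with hO'
  have hOsub : O ⊆ rest v := stab_orbit_sub A hw0 hwv
  have hOc : O.ncard = 7 := by rw [← Nat.card_coe_set_eq]; exact hbad
  have hO'sub : O' ⊆ rest v := Set.diff_subset
  have hO'c : O'.ncard = 7 := by
    have := Set.ncard_diff hOsub (Set.toFinite _)
    rw [ncard_rest hF hv, hOc] at this
    rw [hO', this]
  have hOi : ∀ s : stabilizer L v, ∀ x ∈ O, s • x ∈ O := by
    intro s x hx
    obtain ⟨t, rfl⟩ := hx
    exact ⟨s * t, by simp [mul_smul]⟩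
  have hO'i : ∀ s : stabilizer L v, ∀ x ∈ O', s • x ∈ O' := by
    intro s x hx
    refine ⟨stab_smul_mem_rest A s hx.1, ?_⟩
    intro h
    apply hx.2
    have := hOi s⁻¹ _ h
    rwa [inv_smul_smul] at this
  -- the hyperplane
  set U' : Set (Fin 4 → F) := (hyp M : Set (Fin 4 → F)) \ {0} with hU'
  have hU'c : U'.ncard = 7 := ncard_hyp_nonzero hF M hMord
  have hvU : v ∉ hyp M := fix_not_mem_hyp hF M hMord hMv hv
  have hU'sub : U' ⊆ rest v := by
    intro x hx
    refine ⟨by simpa using hx.2, ?_⟩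
    intro h
    rw [h] at hx
    exact hvU hx.1
  have hU'g : ∀ x ∈ U', g • x ∈ U' := by
    intro x hx
    refine ⟨by rw [hgM]; exact smul_mem_hyp M hx.1, ?_⟩
    have : g • x ≠ 0 := (A.sub _).smul_ne_zero g (by simpa using hx.2)
    simpa using this
  have hne : U'.Nonempty := by
    rw [← Set.ncard_pos (Set.toFinite _), hU'c]; norm_num
  obtain ⟨u₀, hu₀⟩ := hne
  -- U' equals O or O'
  have key : ∀ T : Set (Fin 4 → F), T ⊆ rest v → T.ncard = 7 →
      (∀ s : stabilizer L v, ∀ x ∈ T, s • x ∈ T) → u₀ ∈ T → U' = T := by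
    intro T hT hTc hTi hu₀T
    have h1 : U' ⊆ T := by
      intro y hy
      obtain ⟨n, hn⟩ := cyc_orbit hF A hv g hg U' hU'sub hU'c hU'g hu₀ hy
      rw [← hn]
      exact hTi (g ^ n) u₀ hu₀T
    apply Set.eq_of_subset_of_ncard_le h1 _ (Set.toFinite _)
    rw [hTc, hU'c]
  have hmemW : ∀ x : Fin 4 → F, x ∈ hyp M ↔ x = 0 ∨ x ∈ U' := by
    intro x
    constructor
    · intro hx
      by_cases h0 : x = 0
      · left; exact h0
      · right; exact ⟨hx, by simpa using h0⟩
    · rintro (h | h)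
      · rw [h]; exact (hyp M).zero_mem
      · exact h.1
  have hcompl : ∀ x : Fin 4 → F, x ∉ hyp M → x ≠ v → x ∈ rest v \ U' := by
    intro x hx hxv
    refine ⟨⟨?_, hxv⟩, fun h => hx h.1⟩
    intro h0
    rw [h0] at hx
    exact hx (hyp M).zero_mem
  have hu₀rest := hU'sub hu₀
  by_cases hcase : u₀ ∈ O
  · have hUO : U' = O := key O hOsub hOc hOi hcase
    have hcomp : rest v \ U' = O' := by rw [hUO]
    refine ⟨⟨hyp M, card_hyp hF M hMord, hvU, ?_, ?_, ?_⟩⟩
    · intro s x hx
      rcases (hmemW x).1 hx with h | h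
      · rw [h, (A.sub _).smul_zero]; exact (hyp M).zero_mem
      · rw [hUO] at h
        have := hOi s x h
        rw [← hUO] at this
        exact this.1
    · intro x hx hx0 y hy hy0
      have hx' : x ∈ O := by rw [← hUO]; exact ⟨hx, by simpa using hx0⟩
      have hy' : y ∈ O := by rw [← hUO]; exact ⟨hy, by simpa using hy0⟩
      exact single_orbit hF A hL hv O hOsub hOc hOi hx' hy'
    · intro x hx hxv y hy hyv
      have hx' : x ∈ O' := by rw [← hcomp]; exact hcompl x hx hxv
      have hy' : y ∈ O' := by rw [← hcomp]; exact hcompl y hy hyv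
      exact single_orbit hF A hL hv O' hO'sub hO'c hO'i hx' hy'
  · have hcase' : u₀ ∈ O' := ⟨hu₀rest, hcase⟩
    have hUO : U' = O' := key O' hO'sub hO'c hO'i hcase'
    have hcomp : rest v \ U' = O := by
      rw [hUO, hO', Set.diff_diff_cancel_left hOsub]
    refine ⟨⟨hyp M, card_hyp hF M hMord, hvU, ?_, ?_, ?_⟩⟩
    · intro s x hx
      rcases (hmemW x).1 hx with h | h
      · rw [h, (A.sub _).smul_zero]; exact (hyp M).zero_mem
      · rw [hUO] at h
        have := hO'i s x h
        rw [← hUO] at this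
        exact this.1
    · intro x hx hx0 y hy hy0
      have hx' : x ∈ O' := by rw [← hUO]; exact ⟨hx, by simpa using hx0⟩
      have hy' : y ∈ O' := by rw [← hUO]; exact ⟨hy, by simpa using hy0⟩
      exact single_orbit hF A hL hv O' hO'sub hO'c hO'i hx' hy'
    · intro x hx hxv y hy hyv
      have hx' : x ∈ O := by rw [← hcomp]; exact hcompl x hx hxv
      have hy' : y ∈ O := by rw [← hcomp]; exact hcompl y hy hyv
      exact single_orbit hF A hL hv O hOsub hOc hOi hx' hy'




open Matrix MulAction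

variable {F : Type*} [Field F] [Fintype F]
variable {L : Type*} [Group L] [MulAction L (Fin 4 → F)]

theorem mem_of_eq' {W : AddSubgroup (Fin 4 → F)} {x y : Fin 4 → F} (h : x ∈ W) (e : x = y) :
    y ∈ W := e ▸ h

theorem BadData.inv_iff {v : Fin 4 → F} (D : BadData (F := F) L v) (s : stabilizer L v)
    (x : Fin 4 → F) : s • x ∈ D.W ↔ x ∈ D.W := by
  constructor
  · intro h
    have := D.inv s⁻¹ _ h
    rwa [inv_smul_smul] at this
  · exact D.inv s x

/-- symmetry of incidence, given an involution moving `v` -/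
theorem BadData.symm_aux (A : Lin (F := F) L) {v : Fin 4 → F} (hv : v ≠ 0)
    (D : BadData (F := F) L v) (t : L) (ht : t * t = 1) (htv : t • v ≠ v) (k : L) (hk : k • v ≠ v) :
    k • v ∈ D.W ↔ k⁻¹ • v ∈ D.W := by
  have htinv : t⁻¹ = t := inv_eq_of_mul_eq_one_left ht
  -- if s • (t • v) = k • v then k⁻¹ • v = s' • (t • v) for some s' in the stabiliser
  have hconj : ∀ k : L, ∀ s : stabilizer L v, s • (t • v) = k • v →
      ∃ s' : stabilizer L v, k⁻¹ • v = s' • (t • v) := by
    intro k s hs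
    have hs1 : (s : L) • (t • v) = k • v := hs
    have hmem : k⁻¹ * (s : L) * t ∈ stabilizer L v := by
      rw [mem_stabilizer_iff, mul_smul, mul_smul, hs1, inv_smul_smul]
    refine ⟨⟨k⁻¹ * (s : L) * t, hmem⟩, ?_⟩
    change k⁻¹ • v = (k⁻¹ * (s : L) * t) • (t • v)
    rw [mul_smul, mul_smul, ← mul_smul t t, ht, one_smul]
    have hsv : (s : L) • v = v := s.2
    rw [hsv]
  have hkinv : k⁻¹ • v ≠ v := by
    intro h
    apply hk
    have := congrArg (fun x => k • x) h
    simp only [smul_inv_smul] at this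
    exact this.symm
  have htv0 : t • v ≠ 0 := A.smul_ne_zero t hv
  by_cases hP : t • v ∈ D.W
  · -- P propagates to inverses
    have hfwd : ∀ k : L, k • v ∈ D.W → k⁻¹ • v ∈ D.W := by
      intro k hkW
      have hk0 : k • v ≠ 0 := A.smul_ne_zero k hv
      obtain ⟨s, hs⟩ := D.tr1 _ hP htv0 _ hkW hk0
      obtain ⟨s', hs'⟩ := hconj k s hs
      rw [hs']
      exact D.inv s' _ hP
    constructor
    · exact hfwd k
    · intro h
      have := hfwd k⁻¹ h
      rwa [inv_inv] at this
  · have hfwd : ∀ k : L, k • v ≠ v → k • v ∉ D.W → k⁻¹ • v ∉ D.W := by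
      intro k hkv hkW
      obtain ⟨s, hs⟩ := D.tr2 _ hP htv _ hkW hkv
      obtain ⟨s', hs'⟩ := hconj k s hs
      rw [hs', D.inv_iff]
      exact hP
    constructor
    · intro h
      by_contra h'
      have := hfwd k⁻¹ hkinv h'
      rw [inv_inv] at this
      exact this h
    · intro h
      by_contra h'
      exact hfwd k hk h' h

theorem exists_invol (hF : Fintype.card F = 2) (A : Lin (F := F) L) [Finite L]
    (hL : Nat.card L = 2520) {v : Fin 4 → F} (hv : v ≠ 0) :
    ∃ t : L, t * t = 1 ∧ t • v ≠ v := by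
  haveI : Fact (Nat.Prime 2) := ⟨by norm_num⟩
  obtain ⟨t, ht⟩ := exists_prime_orderOf_dvd_card' (G := L) 2 (by rw [hL]; norm_num)
  have ht2 : t * t = 1 := by
    rw [← pow_two, ← ht]; exact pow_orderOf_eq_one t
  have htne : A.ι t ≠ 1 := by
    intro h
    have : t = 1 := A.inj (by rw [h, map_one])
    rw [this, orderOf_one] at ht
    omega
  have : ∃ a : Fin 4 → F, A.ι t • a ≠ a := by
    by_contra hcon
    push Not at hcon
    exact htne (eq_one_of_forall_smul _ hcon)
  obtain ⟨a, ha⟩ := this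
  have ha0 : a ≠ 0 := by
    intro h; rw [h, smul_zero] at ha; exact ha rfl
  have hmem : a ∈ orbit L v := by rw [orbit_eq hF A hL hv]; exact ha0
  obtain ⟨l, hl⟩ := hmem
  have hl : l • v = a := hl
  refine ⟨l⁻¹ * t * l, ?_, ?_⟩
  · calc l⁻¹ * t * l * (l⁻¹ * t * l) = l⁻¹ * (t * t) * l := by group
      _ = 1 := by rw [ht2]; group
  · rw [mul_smul, mul_smul, hl]
    intro h
    apply ha
    rw [← A.smul_eq]
    have := congrArg (fun x => l • x) h
    simp only [smul_inv_smul] at this
    rw [this, hl]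

theorem badData_false (hF : Fintype.card F = 2) (A : Lin (F := F) L) [Finite L]
    (hL : Nat.card L = 2520) {v : Fin 4 → F} (hv : v ≠ 0) (D : BadData (F := F) L v) : False := by
  obtain ⟨t, ht, htv⟩ := exists_invol hF A hL hv
  have hsymm := D.symm_aux A hv t ht htv
  have hidx : D.W.index = 2 := index_two_of_card hF D.W D.card_W
  -- a nonzero element of W
  have : ∃ u ∈ D.W, u ≠ 0 := by
    by_contra hcon
    push Not at hcon
    have hbot : D.W = ⊥ := by
      rw [eq_bot_iff]
      intro x hx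
      rw [AddSubgroup.mem_bot]
      exact hcon x hx
    have := D.card_W
    rw [hbot] at this
    simp at this
  obtain ⟨u, huW, hu0⟩ := this
  have huv : u ≠ v := fun h => D.not_mem (h ▸ huW)
  have hmem : u ∈ orbit L v := by rw [orbit_eq hF A hL hv]; exact hu0
  obtain ⟨k₁, hk₁⟩ := hmem
  have hk₁ : k₁ • v = u := hk₁
  obtain ⟨w, hw⟩ : ∃ w, w = u + v := ⟨_, rfl⟩
  have hwW : w ∉ D.W := by
    intro h
    have e : w - u = v := by rw [hw]; abel
    exact D.not_mem (mem_of_eq' (D.W.sub_mem h huW) e)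
  have hw0 : w ≠ 0 := fun h => hwW (h ▸ D.W.zero_mem)
  have hwv : w ≠ v := by
    intro h
    apply hu0
    have : u + v = 0 + v := by rw [zero_add, ← hw]; exact h
    exact add_right_cancel this
  have hmem2 : w ∈ orbit L v := by rw [orbit_eq hF A hL hv]; exact hw0
  obtain ⟨k₂, hk₂⟩ := hmem2
  have hk₂ : k₂ • v = w := hk₂
  -- (ii)
  have h2 : k₁⁻¹ • v ∈ D.W := (hsymm k₁ (by rw [hk₁]; exact huv)).1 (by rw [hk₁]; exact huW)
  have hk₁u : k₁⁻¹ • u = v := by rw [← hk₁, inv_smul_smul]
  have hk₁v0 : k₁⁻¹ • v ≠ 0 := A.smul_ne_zero _ hv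
  -- (iii)
  have h3val : (k₁⁻¹ * k₂) • v = v + k₁⁻¹ • v := by
    rw [mul_smul, hk₂, hw, A.smul_add, hk₁u]
  have h3 : (k₁⁻¹ * k₂) • v ∉ D.W := by
    rw [h3val]
    intro h
    have e : (v + k₁⁻¹ • v) - k₁⁻¹ • v = v := by abel
    exact D.not_mem (mem_of_eq' (D.W.sub_mem h h2) e)
  have h3ne : (k₁⁻¹ * k₂) • v ≠ v := by
    rw [h3val]
    intro h
    apply hk₁v0
    have : v + k₁⁻¹ • v = v + 0 := by rw [add_zero]; exact h
    exact add_left_cancel this
  -- (vi)
  have h6 : k₂⁻¹ • u ∉ D.W := by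
    have := (hsymm (k₁⁻¹ * k₂) h3ne).not.1 h3
    rw [_root_.mul_inv_rev, inv_inv, mul_smul, hk₁] at this
    exact this
  -- (v)
  have h5 : k₂⁻¹ • v ∉ D.W := by
    apply (hsymm k₂ (by rw [hk₂]; exact hwv)).not.1
    rw [hk₂]; exact hwW
  -- (vii)
  have h7 : k₂⁻¹ • u + k₂⁻¹ • v ∈ D.W := by
    rw [AddSubgroup.add_mem_iff_of_index_two hidx]
    exact ⟨fun h => absurd h h6, fun h => absurd h h5⟩
  rw [← A.smul_add, ← hw, ← hk₂, inv_smul_smul] at h7
  exact D.not_mem h7


end Cfsg.Agent.Helper27.A7GL4
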