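import Mathlib
import Cfsg.Agent.Lib.Helper27.A7GL4
import Cfsg.Agent.S0256

set_option autoImplicit false
set_option linter.unusedSectionVars false

/-! A copy of the alternating group of degree 7 inside the 4-dimensional general linear group over the field with two elements (from the isomorphism with the alternating group of degree 8), and 2-transitivity of every such copy on the nonzero vectors. -/

namespace Cfsg.Agent.Helper27.A7GL4


open Matrix MulAction

variable {F : Type*} [Field F] [Fintype F]

theorem eq_zero_or_one (hF : Fintype.card F = 2) (r : F) : r = 0 ∨ r = 1 := by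
  classical
  by_contra h
  push Not at h
  have hle : ({0, 1, r} : Finset F).card ≤ Fintype.card F := Finset.card_le_univ _
  rw [hF, Finset.card_insert_of_notMem, Finset.card_insert_of_notMem, Finset.card_singleton] at hle
  · omega
  · simp only [Finset.mem_singleton]; exact fun h' => h.2 h'.symm
  · simp only [Finset.mem_insert, Finset.mem_singleton, not_or]
    exact ⟨zero_ne_one, fun h' => h.1 h'.symm⟩

theorem center_SL_eq_bot (hF : Fintype.card F = 2) :
    Subgroup.center (Matrix.SpecialLinearGroup (Fin 4) F) = ⊥ := by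
  rw [eq_bot_iff]
  intro A hA
  rw [Matrix.SpecialLinearGroup.mem_center_iff] at hA
  obtain ⟨r, hr, hrA⟩ := hA
  rw [Subgroup.mem_bot]
  have hr1 : r = 1 := by
    rcases eq_zero_or_one hF r with h | h
    · rw [h] at hr; simp at hr
    · exact h
  apply Subtype.ext
  rw [← hrA, hr1]
  simp

/-- `PSL_4(2) → GL_4(2)`, injective -/
noncomputable def pslToGL (hF : Fintype.card F = 2) :
    Matrix.ProjectiveSpecialLinearGroup (Fin 4) F →* GL (Fin 4) F :=
  Matrix.SpecialLinearGroup.toGL.comp
    ((QuotientGroup.quotientMulEquivOfEq (center_SL_eq_bot hF)).trans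
      QuotientGroup.quotientBot).toMonoidHom

theorem pslToGL_injective (hF : Fintype.card F = 2) : Function.Injective (pslToGL hF) := by
  unfold pslToGL
  rw [MonoidHom.coe_comp]
  exact Matrix.SpecialLinearGroup.toGL_injective.comp (MulEquiv.injective _)

/-- `A_7 → A_8` -/
def a7ToA8 : alternatingGroup (Fin 7) →* alternatingGroup (Fin 8) :=
  MonoidHom.codRestrict
    ((Equiv.Perm.extendDomainHom (finSuccAboveEquiv (Fin.last 7))).comp
      (alternatingGroup (Fin 7)).subtype) (alternatingGroup (Fin 8)) (by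
    intro x
    rw [Equiv.Perm.mem_alternatingGroup]
    change Equiv.Perm.sign (Equiv.Perm.extendDomain (x : Equiv.Perm (Fin 7)) _) = 1
    rw [Equiv.Perm.sign_extendDomain]
    exact Equiv.Perm.mem_alternatingGroup.1 x.2)

theorem a7ToA8_injective : Function.Injective a7ToA8 := by
  intro x y h
  have h' := congrArg Subtype.val h
  change Equiv.Perm.extendDomainHom (finSuccAboveEquiv (Fin.last 7)) (x : Equiv.Perm (Fin 7)) =
    Equiv.Perm.extendDomainHom (finSuccAboveEquiv (Fin.last 7)) (y : Equiv.Perm (Fin 7)) at h'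
  exact Subtype.ext (Equiv.Perm.extendDomainHom_injective _ h')

theorem exists_A7 (hF : Fintype.card F = 2) :
    ∃ H : Subgroup (GL (Fin 4) F), Nonempty (H ≃* alternatingGroup (Fin 7)) := by
  obtain ⟨e⟩ := Cfsg.Agent.S0256.result hF
  let θ : alternatingGroup (Fin 7) →* GL (Fin 4) F :=
    (pslToGL hF).comp (e.symm.toMonoidHom.comp a7ToA8)
  have hθ : Function.Injective θ := by
    change Function.Injective ((pslToGL hF) ∘ (e.symm ∘ a7ToA8))
    exact (pslToGL_injective hF).comp (e.symm.injective.comp a7ToA8_injective)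
  exact ⟨θ.range, ⟨(MonoidHom.ofInjective hθ).symm⟩⟩

theorem card_A7 : Nat.card (alternatingGroup (Fin 7)) = 2520 := by
  have h := two_mul_card_alternatingGroup (α := Fin 7)
  rw [Fintype.card_perm, Fintype.card_fin] at h
  rw [Nat.card_eq_fintype_card]
  have : Nat.factorial 7 = 5040 := by decide
  omega

/-- the linear structure of a subgroup of `GL` -/
def linSub (H : Subgroup (GL (Fin 4) F)) : Lin (F := F) H where
  ι := H.subtype
  inj := Subtype.val_injective
  smul_eq := fun _ _ => rfl

theorem main (hF : Fintype.card F = 2) : (∃ H : Subgroup (Matrix.GeneralLinearGroup (Fin 4) F), Nonempty (H ≃* alternatingGroup (Fin 7))) ∧ ∀ H : Subgroup (Matrix.GeneralLinearGroup (Fin 4) F), Nonempty (H ≃* alternatingGroup (Fin 7)) → ∀ v w v' w' : Fin 4 → F, v ≠ 0 → w ≠ 0 → v ≠ w → v' ≠ 0 → w' ≠ 0 → v' ≠ w' → ∃ g ∈ H, (g : Matrix (Fin 4) (Fin 4) F).mulVec v = v' ∧ (g : Matrix (Fin 4) (Fin 4) F).mulVec w = w' := by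
  refine ⟨exists_A7 hF, ?_⟩
  rintro H ⟨e⟩ v w v' w' hv hw hvw hv' hw' hvw'
  haveI : Finite H := Finite.of_equiv _ e.symm.toEquiv
  have hL : Nat.card H = 2520 := by rw [Nat.card_congr e.toEquiv, card_A7]
  have h14 : ∀ v w : Fin 4 → F, v ≠ 0 → w ≠ 0 → w ≠ v →
      Nat.card (orbit (stabilizer H v) w) = 14 := by
    intro v w hv hw hwv
    rcases stab_orbit_card hF (linSub H) hL hv hw hwv with h | h
    · exfalso
      obtain ⟨D⟩ := exists_badData hF (linSub H) hL hv hw hwv h
      exact badData_false hF (linSub H) hL hv D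
    · exact h
  obtain ⟨l, h1, h2⟩ := two_trans hF (linSub H) hL h14 v w v' w' hv hw hvw hv' hw' hvw'
  exact ⟨(l : GL (Fin 4) F), l.2, h1, h2⟩


end Cfsg.Agent.Helper27.A7GL4
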