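import Mathlib
import Cfsg.Prelude.Def_Blocks
import Cfsg.Agent.Lib.Helper24.CharLinear
import Cfsg.Agent.Lib.Helper24.CharInduced
import Cfsg.Agent.Lib.Helper24.CharComplete
import Cfsg.Agent.Lib.Helper10.BR996Defs
import Cfsg.Agent.Lib.Helper21.BTDefs
import Cfsg.Agent.Lib.Helper21.BHDefs
import Cfsg.Agent.Lib.Helper1.TLDDCHAR

/-!
# S4504, piece GSIDEA (helper27, for helper21): characters over the central character of `ζ` other than `ζ`, `ζ'`
take the same value on the two classes of elements of order `p`.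

Also the central-character tools (`cch`, `sum_cch`, `fourier`) used again in GSIDEB.
-/

set_option autoImplicit false
set_option linter.unusedSectionVars false
set_option linter.unusedVariables false

namespace Cfsg.Agent.Helper21.BH

open scoped ComplexConjugate
open Cfsg Cfsg.Agent.Helper24 Cfsg.Agent.Helper10.BR996 Cfsg.Agent.Helper21.BT

universe u

namespace GSIDEA

section Central

variable {G : Type u} [Group G] [Fintype G]

theorem center_comm : ∀ z ∈ Subgroup.center G, ∀ h : G, z * h = h * z :=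
  fun z hz h => (Subgroup.mem_center_iff.1 hz h).symm

/-- the central character of an irreducible character, as a homomorphism `Z(G) →* ℂˣ`. -/
noncomputable def cch (ψ : IrrCharacter G) : Subgroup.center G →* ℂˣ :=
  Classical.choose
    (Cfsg.Agent.Helper5.TLD.dchar_exists_central_hom (Subgroup.center G) center_comm ψ)

theorem cch_spec (ψ : IrrCharacter G) (z : Subgroup.center G) (h : G) :
    (ψ : G → ℂ) ((z : G) * h) = ((cch ψ z : ℂˣ) : ℂ) * (ψ : G → ℂ) h :=
  Classical.choose_spec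
    (Cfsg.Agent.Helper5.TLD.dchar_exists_central_hom (Subgroup.center G) center_comm ψ) z h

theorem cch_spec' (ψ : IrrCharacter G) (z : Subgroup.center G) (h : G) :
    (ψ : G → ℂ) (h * (z : G)) = ((cch ψ z : ℂˣ) : ℂ) * (ψ : G → ℂ) h := by
  rw [← center_comm (z : G) z.2 h]
  exact cch_spec ψ z h

theorem cch_val (ψ : IrrCharacter G) (z : Subgroup.center G) :
    (ψ : G → ℂ) (z : G) = ((cch ψ z : ℂˣ) : ℂ) * (ψ : G → ℂ) 1 := by
  have := cch_spec ψ z 1
  rwa [mul_one] at this

theorem norm_cch (ψ : IrrCharacter G) (z : Subgroup.center G) : ‖((cch ψ z : ℂˣ) : ℂ)‖ = 1 := by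
  have h1 : (cch ψ z) ^ (Nat.card (Subgroup.center G)) = 1 := by
    rw [← map_pow, pow_card_eq_one', map_one]
  have h2 : ((cch ψ z : ℂˣ) : ℂ) ^ (Nat.card (Subgroup.center G)) = 1 := by
    have := congrArg (fun u : ℂˣ => (u : ℂ)) h1
    simpa using this
  exact Complex.norm_eq_one_of_pow_eq_one h2 Nat.card_pos.ne'

theorem conj_cch (ψ : IrrCharacter G) (z : Subgroup.center G) :
    conj ((cch ψ z : ℂˣ) : ℂ) = (((cch ψ z)⁻¹ : ℂˣ) : ℂ) := by
  have h := norm_cch ψ z
  have h1 : ((cch ψ z : ℂˣ) : ℂ) * conj ((cch ψ z : ℂˣ) : ℂ) = 1 := by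
    rw [Complex.mul_conj, Complex.normSq_eq_norm_sq, h]
    simp
  rw [Units.val_inv_eq_inv_val]
  exact eq_inv_of_mul_eq_one_right h1

theorem irr_one_ne_zero' (ψ : IrrCharacter G) : (ψ : G → ℂ) 1 ≠ 0 := by
  obtain ⟨n, hn, hn1⟩ := irr_one_eq ψ.2
  rw [hn1]
  exact_mod_cast hn.ne'

/-- characters with proportional values on the centre have the same central character. -/
theorem cch_eq_of_prop (ζ ψ : IrrCharacter G)
    (hcc : ∀ c ∈ Subgroup.center G,
      (ψ : G → ℂ) c * (ζ : G → ℂ) 1 = (ζ : G → ℂ) c * (ψ : G → ℂ) 1) : cch ψ = cch ζ := by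
  ext z
  have h := hcc (z : G) z.2
  rw [cch_val ψ z, cch_val ζ z] at h
  have h1 := irr_one_ne_zero' ψ
  have h2 := irr_one_ne_zero' ζ
  have h3 : ((cch ψ z : ℂˣ) : ℂ) * ((ψ : G → ℂ) 1 * (ζ : G → ℂ) 1) =
      ((cch ζ z : ℂˣ) : ℂ) * ((ψ : G → ℂ) 1 * (ζ : G → ℂ) 1) := by
    linear_combination h
  exact mul_right_cancel₀ (mul_ne_zero h1 h2) h3

variable [Fintype (Subgroup.center G)]

/-- orthogonality of central characters. -/
theorem sum_cch (ζ ψ : IrrCharacter G) [Decidable (cch ψ = cch ζ)] :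
    ∑ c : Subgroup.center G, ((cch ζ c : ℂˣ) : ℂ) * conj ((cch ψ c : ℂˣ) : ℂ) =
      if cch ψ = cch ζ then (Nat.card (Subgroup.center G) : ℂ) else 0 := by
  classical
  set f : Subgroup.center G →* ℂ := (Units.coeHom ℂ).comp (cch ζ * (cch ψ)⁻¹) with hf
  have hfc : ∀ c : Subgroup.center G,
      f c = ((cch ζ c : ℂˣ) : ℂ) * conj ((cch ψ c : ℂˣ) : ℂ) := by
    intro c
    rw [conj_cch]
    simp [hf]
  have hiff : f = 1 ↔ cch ψ = cch ζ := by
    constructor
    · intro h
      ext c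
      have h1 := DFunLike.congr_fun h c
      simp only [hf, MonoidHom.coe_comp, Function.comp_apply, MonoidHom.mul_apply,
        MonoidHom.inv_apply, Units.coeHom_apply, MonoidHom.one_apply] at h1
      have h2 : cch ζ c * (cch ψ c)⁻¹ = 1 := Units.ext (by simpa using h1)
      have h3 : cch ζ c = cch ψ c := by
        rw [mul_inv_eq_one] at h2
        exact h2
      rw [h3]
    · intro h
      ext c
      simp [hf, h]
  have hsum := sum_hom_units f
  simp only [hfc] at hsum
  rw [hsum]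
  by_cases h : cch ψ = cch ζ
  · rw [if_pos h, if_pos (hiff.2 h), Nat.card_eq_fintype_card]
  · rw [if_neg h, if_neg (fun h' => h (hiff.1 h'))]
    simp

variable [Fintype (IrrCharacter G)]

/-- Fourier inversion on the centre. -/
theorem fourier (ζ : IrrCharacter G) (F : IrrCharacter G → ℂ) (y : G) :
    ∑ c : Subgroup.center G, ((cch ζ c : ℂˣ) : ℂ) *
        ∑ ψ : IrrCharacter G, F ψ * conj ((ψ : G → ℂ) (y * (c : G))) =
      (Nat.card (Subgroup.center G) : ℂ) *
        ∑ ψ ∈ Finset.univ.filter (fun ψ : IrrCharacter G => cch ψ = cch ζ),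
          F ψ * conj ((ψ : G → ℂ) y) := by
  classical
  simp only [cch_spec', map_mul, Finset.mul_sum]
  rw [Finset.sum_comm]
  rw [Finset.sum_filter]
  refine Finset.sum_congr rfl fun ψ _ => ?_
  have h := sum_cch ζ ψ
  have h' : ∑ c : Subgroup.center G, ((cch ζ c : ℂˣ) : ℂ) *
      (F ψ * (conj ((cch ψ c : ℂˣ) : ℂ) * conj ((ψ : G → ℂ) y))) =
      (∑ c : Subgroup.center G, ((cch ζ c : ℂˣ) : ℂ) * conj ((cch ψ c : ℂˣ) : ℂ)) *
        (F ψ * conj ((ψ : G → ℂ) y)) := by
    rw [Finset.sum_mul]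
    refine Finset.sum_congr rfl fun c _ => ?_
    ring
  rw [h', h]
  split_ifs <;> ring

end Central

section Grp

variable {G : Type u} [Group G] [Fintype G]
variable {p : ℕ} [Fact p.Prime] {P : Sylow p G}

theorem orderOf_eq_p (hP : Nat.card P = p) {z : G} (hz : z ∈ (P : Subgroup G)) (hz1 : z ≠ 1) :
    orderOf z = p := by
  have hpp : p.Prime := Fact.out
  have h1 : orderOf (⟨z, hz⟩ : (P : Subgroup G)) ∣ Nat.card (P : Subgroup G) :=
    orderOf_dvd_natCard _
  rw [Subgroup.orderOf_mk, hP] at h1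
  rcases (Nat.dvd_prime hpp).1 h1 with h | h
  · exact absurd (orderOf_eq_one_iff.1 h) hz1
  · exact h

theorem zpowers_eq (hP : Nat.card P = p) {z : G} (hz : z ∈ (P : Subgroup G)) (hz1 : z ≠ 1) :
    Subgroup.zpowers z = (P : Subgroup G) := by
  apply Subgroup.eq_of_le_of_card_ge
  · rw [Subgroup.zpowers_le]; exact hz
  · rw [Nat.card_zpowers, orderOf_eq_p hP hz hz1]
    exact hP.le

theorem not_sq_dvd (hP : Nat.card P = p) : ¬ p ^ 2 ∣ Nat.card G := by
  have hpp : p.Prime := Fact.out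
  have h := Sylow.card_eq_multiplicity P
  rw [hP] at h
  have h1 : (Nat.card G).factorization p = 1 := by
    have : p ^ 1 = p ^ (Nat.card G).factorization p := by rw [pow_one]; exact h
    exact (Nat.pow_right_injective hpp.two_le this).symm
  intro hd
  have := (hpp.pow_dvd_iff_le_factorization Nat.card_pos.ne').1 hd
  omega

/-- an element of order dividing `p` centralizing `P` lies in `P`. -/
theorem mem_of_pow_eq_one {y : G} (hy : y ^ p = 1)
    (hyc : y ∈ Subgroup.centralizer ((P : Subgroup G) : Set G)) : y ∈ (P : Subgroup G) := by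
  have hpp : p.Prime := Fact.out
  have hH : IsPGroup p (Subgroup.zpowers y) := by
    intro g
    obtain ⟨k, hk⟩ := Subgroup.mem_zpowers_iff.1 g.2
    refine ⟨1, ?_⟩
    apply Subtype.ext
    rw [pow_one, Subgroup.coe_pow, ← hk, ← zpow_natCast, ← zpow_mul, mul_comm, zpow_mul,
      zpow_natCast, hy, one_zpow]
    rfl
  have hle : Subgroup.zpowers y ≤ Subgroup.normalizer ((P : Subgroup G) : Set G) := by
    rw [Subgroup.zpowers_le]
    exact Subgroup.centralizer_le_normalizer _ hyc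
  have hsup := IsPGroup.to_sup_of_normal_right' hH P.2 hle
  have heq := P.is_maximal' hsup le_sup_right
  have : y ∈ Subgroup.zpowers y ⊔ (P : Subgroup G) :=
    Subgroup.mem_sup_left (Subgroup.mem_zpowers y)
  rw [heq] at this
  exact this

end Grp

section Cent

variable {G : Type u} [Group G] [Fintype G]
variable {p : ℕ} [Fact p.Prime] {P : Sylow p G} {w : ℕ} {ζ ζ' : IrrCharacter G} {z₁ z₂ : G}

theorem card_sup_of_inf_eq_bot (H K : Subgroup G) [K.Normal]
    (h : H ⊓ K = ⊥) : Nat.card (H ⊔ K : Subgroup G) = Nat.card H * Nat.card K := by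
  have h1 := Subgroup.relIndex_mul_relIndex (⊥ : Subgroup G) K (H ⊔ K) bot_le le_sup_right
  rw [Subgroup.relIndex_bot_left, Subgroup.relIndex_bot_left, Subgroup.relIndex_sup_right,
    ← Subgroup.inf_relIndex_right, inf_comm, h, Subgroup.relIndex_bot_left] at h1
  rw [← h1, mul_comm]

theorem centralizer_le_sup (C : Cfg p P w ζ ζ' z₁ z₂) {z : G} (hz : z ∈ (P : Subgroup G))
    (hz1 : z ≠ 1) :
    Subgroup.centralizer ({z} : Set G) ≤ (P : Subgroup G) ⊔ Subgroup.center G := by
  intro x hx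
  have hpp : p.Prime := Fact.out
  have hxz : z * x = x * z := (Subgroup.mem_centralizer_iff.1 hx) z (Set.mem_singleton z)
  have hxP : x ∈ Subgroup.centralizer ((P : Subgroup G) : Set G) := by
    rw [Subgroup.mem_centralizer_iff]
    intro a ha
    have ha' : a ∈ Subgroup.zpowers z := by rw [zpowers_eq C.hP hz hz1]; exact ha
    obtain ⟨k, rfl⟩ := Subgroup.mem_zpowers_iff.1 ha'
    exact (Commute.zpow_left (show Commute z x from hxz) k).eq
  have hreg : ¬ p ∣ orderOf (x ^ p) := by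
    rw [orderOf_pow]
    intro hd
    have hox : orderOf x ∣ Nat.card G := orderOf_dvd_natCard x
    by_cases hpo : p ∣ orderOf x
    · have hg : Nat.gcd (orderOf x) p = p := Nat.gcd_eq_right hpo
      rw [hg] at hd
      have h2 : p * p ∣ orderOf x := Nat.mul_dvd_of_dvd_div hpo hd
      exact not_sq_dvd C.hP (by rw [sq]; exact h2.trans hox)
    · have hg : Nat.gcd (orderOf x) p = 1 :=
        Nat.coprime_comm.1 ((Nat.Prime.coprime_iff_not_dvd hpp).2 hpo)
      rw [hg, Nat.div_one] at hd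
      exact hpo hd
  have hs0 : x ^ p ∈ Subgroup.center G := C.hV _ (Subgroup.pow_mem _ hxP p) hreg
  have hcop : Nat.Coprime p (Nat.card (Subgroup.center G)) :=
    (Nat.Prime.coprime_iff_not_dvd hpp).2 C.hZ
  have hbez := Int.gcd_eq_gcd_ab (p : ℤ) (Nat.card (Subgroup.center G) : ℤ)
  have hg1 : Int.gcd (p : ℤ) (Nat.card (Subgroup.center G) : ℤ) = 1 := by
    rw [Int.gcd_natCast_natCast]; exact hcop
  rw [hg1] at hbez
  set a := Int.gcdA (p : ℤ) (Nat.card (Subgroup.center G) : ℤ) with ha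
  set b := Int.gcdB (p : ℤ) (Nat.card (Subgroup.center G) : ℤ) with hb
  set s : G := (x ^ p) ^ a with hs
  have hsZ : s ∈ Subgroup.center G := Subgroup.zpow_mem _ hs0 a
  have hs0m : (x ^ p) ^ (Nat.card (Subgroup.center G)) = 1 := by
    have h1 : (⟨x ^ p, hs0⟩ : Subgroup.center G) ^ (Nat.card (Subgroup.center G)) = 1 :=
      pow_card_eq_one'
    have h2 := congrArg (fun u : Subgroup.center G => (u : G)) h1
    simp only [Subgroup.coe_pow, Subgroup.coe_one] at h2
    exact h2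
  have hsp : s ^ p = x ^ p := by
    rw [hs, ← zpow_natCast, ← zpow_mul]
    have h1 : a * (p : ℤ) = 1 - (Nat.card (Subgroup.center G) : ℤ) * b := by
      push_cast at hbez
      linarith [hbez]
    rw [h1, zpow_sub, zpow_one, zpow_mul, zpow_natCast, hs0m, one_zpow, inv_one, mul_one]
  have hcomm : Commute x s := (center_comm s hsZ x).symm
  have hyp : (x * s⁻¹) ^ p = 1 := by
    rw [(hcomm.inv_right).mul_pow, inv_pow, hsp, mul_inv_cancel]
  have hyc : x * s⁻¹ ∈ Subgroup.centralizer ((P : Subgroup G) : Set G) :=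
    Subgroup.mul_mem _ hxP (Subgroup.inv_mem _ (Subgroup.center_le_centralizer _ hsZ))
  have hyP := mem_of_pow_eq_one hyp hyc
  have hx' : x = (x * s⁻¹) * s := by group
  rw [hx']
  exact Subgroup.mul_mem_sup hyP hsZ

theorem card_centralizer_le (C : Cfg p P w ζ ζ' z₁ z₂) {z : G} (hz : z ∈ (P : Subgroup G))
    (hz1 : z ≠ 1) :
    Nat.card (Subgroup.centralizer ({z} : Set G)) ≤ p * Nat.card (Subgroup.center G) := by
  have hpp : p.Prime := Fact.out
  have h1 := Subgroup.card_le_of_le (centralizer_le_sup C hz hz1)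
  have hcop : Nat.Coprime (Nat.card (P : Subgroup G)) (Nat.card (Subgroup.center G)) := by
    rw [C.hP]; exact (Nat.Prime.coprime_iff_not_dvd hpp).2 C.hZ
  have hinf : (P : Subgroup G) ⊓ Subgroup.center G = ⊥ :=
    disjoint_iff.1 (Subgroup.disjoint_of_coprime_natCard hcop)
  have h2 := card_sup_of_inf_eq_bot (P : Subgroup G) (Subgroup.center G) hinf
  rw [h2, C.hP] at h1
  exact h1

end Cent

section Main

variable {G : Type u} [Group G] [Fintype G] [Fintype (IrrCharacter G)]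
  [Fintype (Subgroup.center G)]
variable {p : ℕ} [Fact p.Prime] {P : Sylow p G} {w : ℕ} {ζ ζ' : IrrCharacter G} {z₁ z₂ : G}

/-- central elements are `p`-regular. -/
theorem center_reg (C : Cfg p P w ζ ζ' z₁ z₂) {c : G} (hc : c ∈ Subgroup.center G) :
    ¬ p ∣ orderOf c := by
  intro h
  have h1 : orderOf (⟨c, hc⟩ : Subgroup.center G) ∣ Nat.card (Subgroup.center G) :=
    orderOf_dvd_natCard _
  rw [Subgroup.orderOf_mk] at h1
  exact C.hZ (h.trans h1)

/-- `z_b c ~ z_a` forces `c = 1`. -/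
theorem eq_one_of_isConj (C : Cfg p P w ζ ζ' z₁ z₂) {za zb : G} (hza : za ∈ (P : Subgroup G))
    (hza1 : za ≠ 1) (hzb : zb ∈ (P : Subgroup G)) (hzb1 : zb ≠ 1) (c : Subgroup.center G)
    (h : IsConj (zb * (c : G)) za) : c = 1 := by
  have hpp : p.Prime := Fact.out
  have hoa := orderOf_eq_p C.hP hza hza1
  have hob := orderOf_eq_p C.hP hzb hzb1
  have hcop : (orderOf zb).Coprime (orderOf (c : G)) := by
    rw [hob]
    exact (Nat.Prime.coprime_iff_not_dvd hpp).2 (center_reg C c.2)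
  have hcomm : Commute zb (c : G) := (center_comm (c : G) c.2 zb).symm
  have hmul := hcomm.orderOf_mul_eq_mul_orderOf_of_coprime hcop
  have heq : orderOf (zb * (c : G)) = orderOf za := by
    obtain ⟨g, hg⟩ := isConj_iff.1 h
    rw [← hg]
    have := orderOf_injective (MulAut.conj g).toMonoidHom (MulAut.conj g).injective
      (zb * (c : G))
    simpa [MulAut.conj_apply] using this.symm
  rw [hmul, hob, hoa] at heq
  have h1 : orderOf (c : G) = 1 := by
    have hp0 : 0 < p := hpp.pos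
    exact Nat.eq_of_mul_eq_mul_left hp0 (heq.trans (mul_one p).symm)
  exact Subtype.ext (orderOf_eq_one_iff.1 h1)

theorem key_sum (C : Cfg p P w ζ ζ' z₁ z₂) {za zb : G} (hza : za ∈ (P : Subgroup G))
    (hza1 : za ≠ 1) (hzb : zb ∈ (P : Subgroup G)) (hzb1 : zb ≠ 1)
    [Decidable (IsConj zb za)] :
    (Nat.card (Subgroup.center G) : ℂ) *
        ∑ ψ ∈ Finset.univ.filter (fun ψ : IrrCharacter G => cch ψ = cch ζ),
          (ψ : G → ℂ) za * conj ((ψ : G → ℂ) zb) =
      if IsConj zb za then (Nat.card (Subgroup.centralizer ({zb} : Set G)) : ℂ) else 0 := by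
  classical
  rw [← fourier ζ (fun ψ => (ψ : G → ℂ) za) zb]
  have h2 : ∀ c : Subgroup.center G,
      ∑ ψ : IrrCharacter G, (ψ : G → ℂ) za * conj ((ψ : G → ℂ) (zb * (c : G))) =
        if IsConj (zb * (c : G)) za then
          (Nat.card (Subgroup.centralizer ({zb * (c : G)} : Set G)) : ℂ) else 0 :=
    fun c => second_orthogonality' za (zb * (c : G))
  simp only [h2]
  rw [Finset.sum_eq_single (1 : Subgroup.center G)]
  · simp only [map_one, Units.val_one, one_mul, Subgroup.coe_one, mul_one]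
  · intro c _ hc
    rw [if_neg (fun h => hc (eq_one_of_isConj C hza hza1 hzb hzb1 c h)), mul_zero]
  · intro h
    exact absurd (Finset.mem_univ _) h

theorem val_ne (C : Cfg p P w ζ ζ' z₁ z₂) : (ζ : G → ℂ) z₁ ≠ (ζ : G → ℂ) z₂ := by
  intro h
  have hneg := C.hneg
  have hnorm := C.hnorm
  rw [← h] at hneg hnorm
  have hη : (ζ : G → ℂ) z₁ = -1 / 2 := by linear_combination hneg / 2
  rw [hη] at hnorm
  have hc : conj (-1 / 2 : ℂ) = -1 / 2 := by
    rw [map_div₀, map_neg, map_one]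
    congr 1
    exact Complex.conj_ofNat 2
  rw [hc] at hnorm
  have h2 : ((2 * w + 2 : ℕ) : ℂ) = ((1 : ℕ) : ℂ) := by
    push_cast
    linear_combination (-2 : ℂ) * hnorm
  have := Nat.cast_injective h2
  omega

theorem normSq_diff (C : Cfg p P w ζ ζ' z₁ z₂) :
    Complex.normSq ((ζ : G → ℂ) z₁ - (ζ : G → ℂ) z₂) = (p : ℝ) := by
  have hc : conj ((ζ : G → ℂ) z₁) + conj ((ζ : G → ℂ) z₂) = -1 := by
    rw [← map_add, C.hneg]; simp
  have hp : (p : ℂ) = 2 * (w : ℂ) + 1 := by
    have := C.hpw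
    rw [← this]; push_cast; ring
  have h : ((Complex.normSq ((ζ : G → ℂ) z₁ - (ζ : G → ℂ) z₂) : ℝ) : ℂ) = ((p : ℝ) : ℂ) := by
    rw [← Complex.mul_conj, map_sub]
    push_cast
    rw [hp]
    linear_combination 2 * C.hnorm -
      (conj ((ζ : G → ℂ) z₁) + conj ((ζ : G → ℂ) z₂)) * C.hneg + hc
  exact_mod_cast h

end Main

end GSIDEA

section GH

variable {G : Type u} [Group G] [Fintype G] [Fintype (IrrCharacter G)]
  [Fintype (Subgroup.center G)]
variable {p : ℕ} [Fact p.Prime] {P : Sylow p G} {w : ℕ} {ζ ζ' : IrrCharacter G} {z₁ z₂ : G}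

open GSIDEA in
/-- PIECE GSIDEA: an irreducible character over the central character of `ζ`, other than `ζ`, `ζ'`, takes the same
value on the two classes of elements of order `p`. -/
theorem gside_eq (C : Cfg p P w ζ ζ' z₁ z₂) (ψ : IrrCharacter G) (h1 : ψ ≠ ζ) (h2 : ψ ≠ ζ')
    (hcc : ∀ c ∈ Subgroup.center G,
      (ψ : G → ℂ) c * (ζ : G → ℂ) 1 = (ζ : G → ℂ) c * (ψ : G → ℂ) 1) :
    (ψ : G → ℂ) z₁ = (ψ : G → ℂ) z₂ := by
  classical
  have hpp : p.Prime := Fact.out
  have hΩψ : cch ψ = cch ζ := cch_eq_of_prop ζ ψ hcc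
  have hΩζ' : cch ζ' = cch ζ := by
    apply cch_eq_of_prop
    intro c hc
    rw [C.hreg c (center_reg C hc), C.hreg 1 (by rw [orderOf_one]; exact hpp.one_lt.ne' ∘ Nat.dvd_one.1)]
  have hζζ' : ζ ≠ ζ' := by
    intro h
    have := C.hswap₁
    rw [← h] at this
    exact val_ne C this
  have hnc : ¬ IsConj z₂ z₁ := by
    intro h
    exact val_ne C (classFunction_eq_of_isConj (isClassFunction_of_isIrrCharacter ζ.2) h).symm
  have hnc' : ¬ IsConj z₁ z₂ := fun h => hnc h.symm
  set Ω : Finset (IrrCharacter G) :=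
    Finset.univ.filter (fun ψ : IrrCharacter G => cch ψ = cch ζ) with hΩ
  have k11 := key_sum C C.hz₁ C.hz₁1 C.hz₁ C.hz₁1
  rw [if_pos (IsConj.refl z₁)] at k11
  have k22 := key_sum C C.hz₂ C.hz₂1 C.hz₂ C.hz₂1
  rw [if_pos (IsConj.refl z₂)] at k22
  have k12 := key_sum C C.hz₁ C.hz₁1 C.hz₂ C.hz₂1
  rw [if_neg hnc] at k12
  have k21 := key_sum C C.hz₂ C.hz₂1 C.hz₁ C.hz₁1
  rw [if_neg hnc'] at k21
  let T : IrrCharacter G → ℝ := fun χ => Complex.normSq ((χ : G → ℂ) z₁ - (χ : G → ℂ) z₂)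
  have hT : ∀ χ : IrrCharacter G, ((T χ : ℝ) : ℂ) =
      (χ : G → ℂ) z₁ * conj ((χ : G → ℂ) z₁) + (χ : G → ℂ) z₂ * conj ((χ : G → ℂ) z₂) -
        (χ : G → ℂ) z₁ * conj ((χ : G → ℂ) z₂) - (χ : G → ℂ) z₂ * conj ((χ : G → ℂ) z₁) := by
    intro χ
    simp only [T]
    rw [← Complex.mul_conj, map_sub]
    ring
  have hsumC : (Nat.card (Subgroup.center G) : ℂ) * ∑ χ ∈ Ω, ((T χ : ℝ) : ℂ) =
      (Nat.card (Subgroup.centralizer ({z₁} : Set G)) : ℂ) +
        (Nat.card (Subgroup.centralizer ({z₂} : Set G)) : ℂ) := by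
    simp only [hT, Finset.sum_sub_distrib, Finset.sum_add_distrib]
    linear_combination k11 + k22 - k12 - k21
  have hsumR : (Nat.card (Subgroup.center G) : ℝ) * ∑ χ ∈ Ω, T χ =
      (Nat.card (Subgroup.centralizer ({z₁} : Set G)) : ℝ) +
        (Nat.card (Subgroup.centralizer ({z₂} : Set G)) : ℝ) := by
    exact_mod_cast hsumC
  have hb1 : (Nat.card (Subgroup.centralizer ({z₁} : Set G)) : ℝ) ≤
      (p : ℝ) * (Nat.card (Subgroup.center G) : ℝ) := by
    exact_mod_cast card_centralizer_le C C.hz₁ C.hz₁1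
  have hb2 : (Nat.card (Subgroup.centralizer ({z₂} : Set G)) : ℝ) ≤
      (p : ℝ) * (Nat.card (Subgroup.center G) : ℝ) := by
    exact_mod_cast card_centralizer_le C C.hz₂ C.hz₂1
  have hZpos : (0 : ℝ) < (Nat.card (Subgroup.center G) : ℝ) := by
    exact_mod_cast Nat.card_pos
  have hle : ∑ χ ∈ Ω, T χ ≤ 2 * (p : ℝ) := by
    by_contra hlt
    rw [not_le] at hlt
    nlinarith
  have hTζ : T ζ = (p : ℝ) := normSq_diff C
  have hTζ' : T ζ' = (p : ℝ) := by
    simp only [T]
    rw [C.hswap₁, C.hswap₂, ← normSq_diff C, ← Complex.normSq_neg]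
    congr 1
    ring
  have hsub : ({ζ, ζ', ψ} : Finset (IrrCharacter G)) ⊆ Ω := by
    intro χ hχ
    simp only [Finset.mem_insert, Finset.mem_singleton] at hχ
    rw [hΩ, Finset.mem_filter]
    refine ⟨Finset.mem_univ _, ?_⟩
    rcases hχ with rfl | rfl | rfl
    · rfl
    · exact hΩζ'
    · exact hΩψ
  have h3 := Finset.sum_le_sum_of_subset_of_nonneg (f := T) hsub
    (fun χ _ _ => Complex.normSq_nonneg _)
  rw [Finset.sum_insert (by simp [hζζ', h1.symm]), Finset.sum_insert (by simp [h2.symm]),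
    Finset.sum_singleton, hTζ, hTζ'] at h3
  have hTψ : T ψ = 0 := le_antisymm (by linarith) (Complex.normSq_nonneg _)
  have := Complex.normSq_eq_zero.1 hTψ
  exact sub_eq_zero.1 this

end GH

end Cfsg.Agent.Helper21.BH
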