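import Mathlib
import Cfsg.Prelude.Def_Blocks
import Cfsg.Agent.Lib.Helper24.CharLinear
import Cfsg.Agent.Lib.Helper24.CharInduced
import Cfsg.Agent.Lib.Helper24.CharComplete
import Cfsg.Agent.Lib.Helper10.BR996Defs
import Cfsg.Agent.Lib.Helper13.BR996CC
import Cfsg.Agent.Lib.Helper1.BRBSCAL
import Cfsg.Agent.Lib.Helper21.BTDefs
import Cfsg.Agent.Lib.Helper21.BHDefs
import Cfsg.Agent.Lib.Lead.BHFIBER
import Cfsg.Agent.Lib.Helper27.BHGSIDEA
import Cfsg.Agent.Lib.Helper27.BHGSIDEB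

/-!
# S4504, piece INEQ (helper27, for helper21): `|ζ(x)| ≤ 1` for `p`-regular non-central `x`.
-/

set_option autoImplicit false
set_option linter.unusedSectionVars false
set_option linter.unusedVariables false

namespace Cfsg.Agent.Helper21.BH

open scoped ComplexConjugate
open Cfsg Cfsg.Agent.Helper24 Cfsg.Agent.Helper10.BR996 Cfsg.Agent.Helper21.BT

universe u

namespace INEQ

open GSIDEA GSIDEB

section

variable {G : Type u} [Group G] [Fintype G] [Fintype (IrrCharacter G)]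
  [Fintype (Subgroup.center G)]
variable {H : Type u} [Group H] [Fintype H] [Fintype (IrrCharacter H)]
variable {p : ℕ} [Fact p.Prime] {P : Sylow p G} {w : ℕ} {ζ ζ' : IrrCharacter G} {z₁ z₂ : G}
variable (π : G →* H)

theorem card_eq (hπ : Function.Surjective π) (hker : π.ker = Subgroup.center G) :
    Nat.card G = Nat.card (Subgroup.center G) * Nat.card H := by
  have h1 := Subgroup.card_eq_card_quotient_mul_card_subgroup π.ker
  have h2 : Nat.card (G ⧸ π.ker) = Nat.card H :=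
    Nat.card_congr (QuotientGroup.quotientKerEquivOfSurjective π hπ).toEquiv
  rw [h2, hker] at h1
  rw [h1, mul_comm]

theorem norm_center (C : Cfg p P w ζ ζ' z₁ z₂) (c : Subgroup.center G) :
    ‖(ζ : G → ℂ) (c : G)‖ = (w : ℝ) := by
  rw [cch_val ζ c, norm_mul, norm_cch, one_mul, irr_one_eq_charDegree ζ.2, C.hdeg]
  simp

/-- the triangle inequality for the left side of `gside_sum`. -/
theorem norm_le (C : Cfg p P w ζ ζ' z₁ z₂) (x : G) (hx : ¬ p ∣ orderOf x) :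
    (Nat.card G : ℝ) * (Nat.card (Subgroup.center G) : ℝ) * (p : ℝ) * ‖(ζ : G → ℂ) x‖ ≤
      (w : ℝ) * ((∑ c : Subgroup.center G,
        (NC z₁ z₁ (x * (c : G)) + NC z₁ z₂ (x * (c : G))) : ℕ) : ℝ) := by
  have hgs := gside_sum C x hx
  have hnorm : ‖(Nat.card G : ℂ) * (Nat.card (Subgroup.center G) : ℂ) *
      ((ζ : G → ℂ) z₁ - (ζ : G → ℂ) z₂) ^ 2 * conj ((ζ : G → ℂ) x)‖ =
      (Nat.card G : ℝ) * (Nat.card (Subgroup.center G) : ℝ) * (p : ℝ) * ‖(ζ : G → ℂ) x‖ := by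
    rw [norm_mul, norm_mul, norm_mul, norm_pow, Complex.norm_natCast, Complex.norm_natCast,
      RCLike.norm_conj, ← Complex.normSq_eq_norm_sq, normSq_diff C]
  rw [← hnorm, ← hgs]
  refine (norm_sum_le _ _).trans ?_
  push_cast
  rw [Finset.mul_sum]
  refine Finset.sum_le_sum fun c _ => ?_
  rw [norm_mul, norm_center C c]
  refine mul_le_mul_of_nonneg_left ?_ (Nat.cast_nonneg w)
  refine (norm_sub_le _ _).trans ?_
  rw [Complex.norm_natCast, Complex.norm_natCast]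

/-- the class multiplication constants in `H`. -/
theorem h_side (a b y : H) :
    ((NC a a y : ℕ) : ℂ) + ((NC a b y : ℕ) : ℂ) = (Nat.card H : ℂ) *
      ∑ φ : IrrCharacter H, (φ : H → ℂ) a * ((φ : H → ℂ) a + (φ : H → ℂ) b) *
        conj ((φ : H → ℂ) y) / (φ : H → ℂ) 1 := by
  have h1 : ((NC a a y : ℕ) : ℂ) = _ := Cfsg.Agent.Helper10.BR996.class_const a a y
  have h2 : ((NC a b y : ℕ) : ℂ) = _ := Cfsg.Agent.Helper10.BR996.class_const a b y
  rw [h1, h2, ← mul_add, ← Finset.sum_add_distrib]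
  congr 1
  refine Finset.sum_congr rfl fun φ _ => ?_
  ring

end

end INEQ

section GH

variable {G : Type u} [Group G] [Fintype G] [Fintype (IrrCharacter G)]
  [Fintype (Subgroup.center G)]
variable {H : Type u} [Group H] [Fintype H] [Fintype (IrrCharacter H)]
variable {p : ℕ} [Fact p.Prime] {P : Sylow p G} {w : ℕ} {ζ ζ' : IrrCharacter G} {z₁ z₂ : G}
variable (π : G →* H)

open GSIDEA GSIDEB INEQ in
/-- PIECE INEQ. -/
theorem ineq (hπ : Function.Surjective π) (hker : π.ker = Subgroup.center G)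
    (C : Cfg p P w ζ ζ' z₁ z₂) (Ξ : H → ℂ)
    (hΞ : ∀ x : G, Ξ (π x) = (ζ : G → ℂ) x * conj ((ζ : G → ℂ) x))
    (hT : ∀ g : H, ¬ p ∣ orderOf g →
      ∑ φ : IrrCharacter H, (φ : H → ℂ) (π z₁) * ((φ : H → ℂ) (π z₁) + (φ : H → ℂ) (π z₂)) *
          conj ((φ : H → ℂ) g) / (φ : H → ℂ) 1 =
        (p : ℂ) * ((w : ℂ) + Ξ g) / ((w : ℂ) * ((w : ℂ) + 1)))
    (x : G) (hx : ¬ p ∣ orderOf x) (hxZ : x ∉ Subgroup.center G) :
    ∃ r : ℝ, (ζ : G → ℂ) x * conj ((ζ : G → ℂ) x) = (r : ℂ) ∧ 0 ≤ r ∧ r ≤ 1 := by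
  classical
  have hpp : p.Prime := Fact.out
  set μ : ℝ := ‖(ζ : G → ℂ) x‖ with hμ
  have hμ0 : 0 ≤ μ := norm_nonneg _
  have hr : (ζ : G → ℂ) x * conj ((ζ : G → ℂ) x) = ((μ ^ 2 : ℝ) : ℂ) := by
    rw [Complex.mul_conj, Complex.normSq_eq_norm_sq]
  refine ⟨μ ^ 2, hr, by positivity, ?_⟩
  -- `μ < w`
  have hw1 : (ζ : G → ℂ) 1 = (w : ℂ) := by rw [irr_one_eq_charDegree ζ.2, C.hdeg]
  have hμw : μ ≤ (w : ℝ) := by
    have := norm_le_charDegree (isCharacter_of_isIrrCharacter ζ.2) x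
    rw [C.hdeg] at this
    exact this
  have hμne : μ ≠ (w : ℝ) := by
    intro h
    apply hxZ
    rw [Subgroup.mem_center_iff]
    intro c
    have hd : ‖(ζ : G → ℂ) x‖ = ((ζ : G → ℂ) 1).re := by
      rw [hw1]; simpa using h
    have h1 := Cfsg.Agent.Helper14.BRB.comm_mem_ker_of_norm_eq ζ.2 x hd c
    have h2 := C.hfaith _ h1
    have h3 : x * c = c * x := by
      have : x * c * x⁻¹ * c⁻¹ * (c * x) = c * x := by rw [h2, one_mul]
      rw [← this]; group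
    exact h3.symm
  have hμlt : μ < (w : ℝ) := lt_of_le_of_ne hμw hμne
  -- the inequality
  have hI1 := norm_le C x hx
  have hfib : (∑ c : Subgroup.center G,
      (NC z₁ z₁ (x * (c : G)) + NC z₁ z₂ (x * (c : G))) : ℕ) =
      Nat.card (Subgroup.center G) ^ 2 *
        (NC (π z₁) (π z₁) (π x) + NC (π z₁) (π z₂) (π x)) := by
    rw [Finset.sum_add_distrib, fiber π hπ hker, fiber π hπ hker, mul_add]
  rw [hfib] at hI1
  have hπx : ¬ p ∣ orderOf (π x) := fun h => hx (h.trans (orderOf_map_dvd π x))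
  have hI2 := h_side (π z₁) (π z₂) (π x)
  rw [hT (π x) hπx, hΞ x, hr] at hI2
  have hwpos : (0 : ℝ) < (w : ℝ) := by
    have := C.hw
    exact_mod_cast (by omega : 0 < w)
  have hI2' : ((NC (π z₁) (π z₁) (π x) + NC (π z₁) (π z₂) (π x) : ℕ) : ℝ) *
      ((w : ℝ) * ((w : ℝ) + 1)) = (Nat.card H : ℝ) * ((p : ℝ) * ((w : ℝ) + μ ^ 2)) := by
    have h1 : (w : ℂ) ≠ 0 := by exact_mod_cast hwpos.ne'
    have h2 : (w : ℂ) + 1 ≠ 0 := by
      have : ((w + 1 : ℕ) : ℂ) ≠ 0 := by exact_mod_cast Nat.succ_ne_zero w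
      simpa using this
    have hC : (((NC (π z₁) (π z₁) (π x) + NC (π z₁) (π z₂) (π x) : ℕ) : ℝ) : ℂ) *
        ((w : ℂ) * ((w : ℂ) + 1)) = (Nat.card H : ℂ) * ((p : ℂ) * ((w : ℂ) + ((μ ^ 2 : ℝ) : ℂ))) := by
      push_cast
      push_cast at hI2
      rw [hI2]
      field_simp
    exact_mod_cast hC
  have hcard := card_eq π hπ hker
  have hZpos : (0 : ℝ) < (Nat.card (Subgroup.center G) : ℝ) := by exact_mod_cast Nat.card_pos
  have hHpos : (0 : ℝ) < (Nat.card H : ℝ) := by exact_mod_cast Nat.card_pos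
  have hppos : (0 : ℝ) < (p : ℝ) := by exact_mod_cast hpp.pos
  have hcardR : (Nat.card G : ℝ) = (Nat.card (Subgroup.center G) : ℝ) * (Nat.card H : ℝ) := by
    exact_mod_cast hcard
  rw [hcardR] at hI1
  push_cast at hI1
  set Zr : ℝ := (Nat.card (Subgroup.center G) : ℝ) with hZr
  set Hr : ℝ := (Nat.card H : ℝ) with hHr
  set n : ℝ := ((NC (π z₁) (π z₁) (π x) : ℕ) : ℝ) + ((NC (π z₁) (π z₂) (π x) : ℕ) : ℝ) with hn
  push_cast at hI2'
  -- `K μ (w+1) ≤ K (w + μ²)` with `K = Zr² Hr p`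
  have hK : 0 < Zr ^ 2 * Hr * (p : ℝ) := by positivity
  have hmain : (Zr ^ 2 * Hr * (p : ℝ)) * (μ * ((w : ℝ) + 1)) ≤
      (Zr ^ 2 * Hr * (p : ℝ)) * ((w : ℝ) + μ ^ 2) := by
    have h1 : Zr * Hr * Zr * (p : ℝ) * μ * ((w : ℝ) + 1) ≤
        (w : ℝ) * (Zr ^ 2 * n) * ((w : ℝ) + 1) :=
      mul_le_mul_of_nonneg_right hI1 (by positivity)
    have h2 : (w : ℝ) * (Zr ^ 2 * n) * ((w : ℝ) + 1) = Zr ^ 2 * (n * ((w : ℝ) * ((w : ℝ) + 1))) := by
      ring
    rw [h2, hI2'] at h1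
    calc (Zr ^ 2 * Hr * (p : ℝ)) * (μ * ((w : ℝ) + 1))
        = Zr * Hr * Zr * (p : ℝ) * μ * ((w : ℝ) + 1) := by ring
      _ ≤ Zr ^ 2 * (Hr * ((p : ℝ) * ((w : ℝ) + μ ^ 2))) := h1
      _ = (Zr ^ 2 * Hr * (p : ℝ)) * ((w : ℝ) + μ ^ 2) := by ring
  have hfin : μ * ((w : ℝ) + 1) ≤ (w : ℝ) + μ ^ 2 := le_of_mul_le_mul_left hmain hK
  have hμ1 : μ ≤ 1 := by
    by_contra h
    rw [not_le] at h
    nlinarith
  nlinarith

end GH

end Cfsg.Agent.Helper21.BH
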