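import Mathlib
import Cfsg.Agent.Lib.Helper27.WittAut

set_option autoImplicit false
set_option linter.unusedSectionVars false

/-! Derived families: restriction and extension of automorphisms, the point stabiliser as a group of automorphisms of the derived family, descent of multiple transitivity. -/

namespace Cfsg.Agent.Helper27.Witt


open scoped Pointwise
open MulAction Equiv.Perm

section Der

variable {α : Type*} [DecidableEq α]

/-- The derived family of `B` at the point `p`: the members through `p`, with `p` removed, as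
subsets of the remaining points. -/
def der (B : Set (Finset α)) (p : α) : Set (Finset {a : α // a ≠ p}) :=
  {b' | ∃ b ∈ B, p ∈ b ∧ b' = Finset.subtype (fun a => a ≠ p) b}

theorem ne_iff_of_fix {g : Equiv.Perm α} {p : α} (hp : g p = p) (x : α) : g x ≠ p ↔ x ≠ p := by
  constructor
  · intro h e; exact h (e ▸ hp)
  · intro h e; exact h (g.injective (e.trans hp.symm))

theorem subtype_image_subtypePerm {g : Equiv.Perm α} {p : α} (hp : g p = p) (b : Finset α) :
    (Finset.subtype (fun a => a ≠ p) b).image (g.subtypePerm (ne_iff_of_fix hp))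
      = Finset.subtype (fun a => a ≠ p) (b.image g) := by
  ext ⟨x, hx⟩
  simp only [Finset.mem_image, Finset.mem_subtype, Subtype.exists, subtypePerm_apply,
    Subtype.mk.injEq]
  constructor
  · rintro ⟨a, _, ha, rfl⟩
    exact ⟨a, ha, rfl⟩
  · rintro ⟨a, ha, rfl⟩
    exact ⟨a, (ne_iff_of_fix hp a).mp hx, ha, rfl⟩

/-- A permutation mapping members to members is an automorphism of a finite family. -/
theorem mem_aut_of_maps [Finite α] {B : Set (Finset α)} {g : Equiv.Perm α}
    (h : ∀ b ∈ B, b.image g ∈ B) : g ∈ Cfsg.setSystemAut B := by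
  classical
  rw [mem_setSystemAut_iff]
  have hfin : B.Finite := Set.toFinite B
  have hinj : Set.InjOn (fun b : Finset α => b.image g) B :=
    (Finset.image_injective g.injective).injOn
  have hsurj : Set.SurjOn (fun b : Finset α => b.image g) B B :=
    ((hfin.injOn_iff_bijOn_of_mapsTo (f := fun b : Finset α => b.image g) h).mp hinj).surjOn
  intro b
  constructor
  · intro hb
    obtain ⟨c, hc, hcb⟩ := hsurj hb
    have : c = b := Finset.image_injective g.injective hcb
    rw [← this]; exact hc
  · exact h b

/-- Restriction of a permutation fixing `p` and preserving the members through `p`. -/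
theorem res_mem [Finite α] {B : Set (Finset α)} {p : α} {g : Equiv.Perm α} (hp : g p = p)
    (h : ∀ b ∈ B, p ∈ b → b.image g ∈ B) :
    g.subtypePerm (ne_iff_of_fix hp) ∈ Cfsg.setSystemAut (der B p) := by
  apply mem_aut_of_maps
  rintro b' ⟨b, hb, hpb, rfl⟩
  refine ⟨b.image g, h b hb hpb, ?_, subtype_image_subtypePerm hp b⟩
  rw [Finset.mem_image]
  exact ⟨p, hpb, hp⟩

theorem ofSubtype_fix {p : α} (τ : Equiv.Perm {a : α // a ≠ p}) : ofSubtype τ p = p :=
  ofSubtype_apply_of_not_mem τ (by simp)

/-- The extension of an automorphism of the derived family maps members through `p` to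
members through `p`. -/
theorem ofSubtype_maps_through {B : Set (Finset α)} {p : α} {τ : Equiv.Perm {a : α // a ≠ p}}
    (hτ : τ ∈ Cfsg.setSystemAut (der B p)) {b : Finset α} (hb : b ∈ B) (hpb : p ∈ b) :
    b.image (ofSubtype τ) ∈ B ∧ p ∈ b.image (ofSubtype τ) := by
  rw [mem_setSystemAut_iff] at hτ
  have h1 : Finset.subtype (fun a => a ≠ p) b ∈ der B p := ⟨b, hb, hpb, rfl⟩
  obtain ⟨c, hc, hpc, hcb⟩ := (hτ _).mpr h1
  have hpimg : p ∈ b.image (ofSubtype τ) := by
    rw [Finset.mem_image]; exact ⟨p, hpb, ofSubtype_fix τ⟩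
  refine ⟨?_, hpimg⟩
  have : b.image (ofSubtype τ) = c := by
    ext x
    by_cases hx : x = p
    · subst hx
      simp [hpimg, hpc]
    · have h2 : (⟨x, hx⟩ : {a : α // a ≠ p}) ∈ Finset.subtype (fun a => a ≠ p) c ↔ x ∈ c := by
        simp [Finset.mem_subtype]
      rw [← h2, ← hcb, Finset.mem_image, Finset.mem_image]
      constructor
      · rintro ⟨a, ha, hax⟩
        have hap : a ≠ p := by
          intro e
          rw [e, ofSubtype_fix] at hax
          exact hx hax.symm
        refine ⟨⟨a, hap⟩, by simpa [Finset.mem_subtype] using ha, ?_⟩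
        apply Subtype.ext
        show (τ ⟨a, hap⟩).val = x
        rw [← ofSubtype_apply_of_mem τ hap]
        exact hax
      · rintro ⟨a, ha, hax⟩
        refine ⟨a.1, by simpa [Finset.mem_subtype] using ha, ?_⟩
        rw [ofSubtype_apply_of_mem τ a.2]
        exact congrArg Subtype.val hax
  rw [this]; exact hc

/-- The stabiliser of `p` in the automorphism group of `B` is isomorphic to the group of those
automorphisms of the derived family that extend. -/
theorem stabIso [Finite α] (B : Set (Finset α)) (p : α)
    (H : Subgroup (Cfsg.setSystemAut (der B p)))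
    (hext : ∀ τ : Cfsg.setSystemAut (der B p), τ ∈ H → ofSubtype τ.1 ∈ Cfsg.setSystemAut B)
    (hres : ∀ (g : Equiv.Perm α) (_ : g ∈ Cfsg.setSystemAut B) (hp : g p = p)
      (hm : g.subtypePerm (ne_iff_of_fix hp) ∈ Cfsg.setSystemAut (der B p)),
      (⟨g.subtypePerm (ne_iff_of_fix hp), hm⟩ : Cfsg.setSystemAut (der B p)) ∈ H) :
    Nonempty (↥H ≃* ↥(MulAction.stabilizer (↥(Cfsg.setSystemAut B)) p)) := by
  let ψ : ↥H →* ↥(MulAction.stabilizer (↥(Cfsg.setSystemAut B)) p) :=
    { toFun := fun τ => ⟨⟨ofSubtype τ.1.1, hext τ.1 τ.2⟩, by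
        rw [MulAction.mem_stabilizer_iff]
        exact ofSubtype_fix τ.1.1⟩
      map_one' := by
        apply Subtype.ext; apply Subtype.ext
        simp
      map_mul' := fun τ τ' => by
        apply Subtype.ext; apply Subtype.ext
        simp }
  refine ⟨MulEquiv.ofBijective ψ ⟨?_, ?_⟩⟩
  · intro τ τ' h
    have h1 : ofSubtype τ.1.1 = ofSubtype τ'.1.1 := by
      have := congrArg (fun z => z.1.1) h
      exact this
    exact Subtype.ext (Subtype.ext (ofSubtype_injective h1))
  · rintro ⟨⟨g, hg⟩, hgp⟩
    have hp : g p = p := by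
      rw [MulAction.mem_stabilizer_iff] at hgp
      exact hgp
    have hm : g.subtypePerm (ne_iff_of_fix hp) ∈ Cfsg.setSystemAut (der B p) := by
      apply res_mem hp
      intro b hb _
      exact ((mem_setSystemAut_iff g).mp hg b).mpr hb
    refine ⟨⟨⟨g.subtypePerm (ne_iff_of_fix hp), hm⟩, hres g hg hp hm⟩, ?_⟩
    apply Subtype.ext; apply Subtype.ext
    show ofSubtype (g.subtypePerm (ne_iff_of_fix hp)) = g
    apply ofSubtype_subtypePerm
    intro x hx e
    exact hx (e ▸ hp)

/-- Multiple transitivity descends to the derived family. -/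
theorem multiplyPretransitive_der [Finite α] (B : Set (Finset α)) (p : α) (n : ℕ)
    (ht : MulAction.IsMultiplyPretransitive (Cfsg.setSystemAut B) α (n + 1)) :
    MulAction.IsMultiplyPretransitive (Cfsg.setSystemAut (der B p)) {a : α // a ≠ p} n := by
  rw [MulAction.isMultiplyPretransitive_iff] at ht ⊢
  intro x y
  -- extend the embeddings by `p`
  have ext_inj : ∀ z : Fin n ↪ {a : α // a ≠ p}, Function.Injective
      (fun i : Fin (n + 1) => if h : i.val < n then (z ⟨i.val, h⟩).val else p) := by
    intro z i j hij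
    by_cases hi : i.val < n <;> by_cases hj : j.val < n
    · simp only [hi, hj, dite_true] at hij
      have := z.injective (Subtype.ext hij)
      exact Fin.ext (Fin.mk.inj_iff.mp this)
    · simp only [hi, hj, dite_true, dite_false] at hij
      exact absurd hij (z ⟨i.val, hi⟩).2
    · simp only [hi, hj, dite_true, dite_false] at hij
      exact absurd hij.symm (z ⟨j.val, hj⟩).2
    · apply Fin.ext
      have := i.isLt; have := j.isLt
      omega
  obtain ⟨g, hg⟩ := ht ⟨_, ext_inj x⟩ ⟨_, ext_inj y⟩
  have hgi : ∀ i : Fin (n + 1), (g : Equiv.Perm α)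
      (if h : i.val < n then (x ⟨i.val, h⟩).val else p)
      = (if h : i.val < n then (y ⟨i.val, h⟩).val else p) := by
    intro i
    have := DFunLike.congr_fun hg i
    exact this
  have hp : (g : Equiv.Perm α) p = p := by
    have := hgi (Fin.last n)
    simpa using this
  have hm : (g : Equiv.Perm α).subtypePerm (ne_iff_of_fix hp) ∈ Cfsg.setSystemAut (der B p) := by
    apply res_mem hp
    intro b hb _
    exact ((mem_setSystemAut_iff g.1).mp g.2 b).mpr hb
  refine ⟨⟨_, hm⟩, ?_⟩
  ext i
  have := hgi ⟨i.val, by have := i.isLt; omega⟩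
  simp only [i.isLt, dite_true] at this
  show ((g : Equiv.Perm α) (x i).val) = (y i).val
  exact this

end Der


end Cfsg.Agent.Helper27.Witt
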