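import Mathlib
import Cfsg.Agent.Lib.Helper27.WittStd
import Cfsg.Agent.Lib.Helper27.WittDer

set_option autoImplicit false
set_option linter.unusedSectionVars false
set_option maxRecDepth 100000

/-! Characterisation of the blocks of an `S(5,8,24)` avoiding a point by their intersections with the blocks through it; automorphisms of the derived design extend. -/

namespace Cfsg.Agent.Helper27.Witt


open Finset

/-- Classification of the candidate octads in the standard `S(4,7,23)`. -/
theorem class24 : ∀ X : Finset (Fin 24), Fin.last 23 ∉ X → X.card = 8 →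
    (∀ ys ∈ DL23, ((X ∩ ofL 24 (23 :: ys)).card = 0
      ∨ (X ∩ ofL 24 (23 :: ys)).card = 2 ∨ (X ∩ ofL 24 (23 :: ys)).card = 4)) →
    X ∈ famO 24 oct0 :=
  hC1_of_dfs (v := 23) (k := 7) DL23 oct0 false LP24 _
    (fun n => n = 0 ∨ n = 2 ∨ n = 4) (by rintro n (rfl | rfl | rfl) <;> rfl) LP24_eq tgt24_eq
    dfs24

/-- Classification of the candidate heptads in the standard `S(3,6,22)`. -/
theorem class23 : ∀ X : Finset (Fin 23), Fin.last 22 ∉ X → X.card = 7 →
    (∀ ys ∈ DL22, ((X ∩ ofL 23 (22 :: ys)).card = 1 ∨ (X ∩ ofL 23 (22 :: ys)).card = 3)) →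
    X ∈ famO 23 hept0 ∨ X ∈ famO 23 hept1 := by
  intro X h1 h2 h3
  have := hC1_of_dfs (v := 22) (k := 6) DL22 (hept0 ++ hept1) true LP23 _
    (fun n => n = 1 ∨ n = 3) (by rintro n (rfl | rfl) <;> rfl) LP23_eq tgt23_eq dfs23 X h1 h2 h3
  rwa [famO_append] at this

section Char

variable {α : Type*} [Fintype α] [DecidableEq α]

/-- In an `S(5,8,24)`, the blocks avoiding a point `p` are exactly the 8-sets avoiding `p`
that meet every block through `p` in 0, 2 or 4 points. -/
theorem char24 {B : Set (Finset α)} (hB : Cfsg.IsSteinerSystem 5 8 B)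
    (hα : Fintype.card α = 24) (p : α) (X : Finset α) (hX8 : X.card = 8) (hpX : p ∉ X)
    (hX : ∀ Y ∈ B, p ∈ Y → ((X ∩ Y).card = 0 ∨ (X ∩ Y).card = 2 ∨ (X ∩ Y).card = 4)) :
    X ∈ B := by
  obtain ⟨e, hep, he⟩ := std24 hB hα p
  rw [← image_mem_iff e he X]
  have : X.image e ∈ famO 24 oct0 := by
    apply class24
    · rw [mem_image]
      rintro ⟨a, ha, hae⟩
      have : a = p := e.injective (hae.trans hep.symm)
      exact hpX (this ▸ ha)
    · rw [card_image_of_injective _ e.injective, hX8]
    · intro ys hys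
      have hmem : ofL 24 (23 :: ys) ∈ famO 24 DL24 := by
        rw [DL24, famO_append]
        exact Or.inl ⟨23 :: ys, List.mem_map.mpr ⟨ys, hys, rfl⟩, rfl⟩
      rw [← he] at hmem
      obtain ⟨Y, hY, hY'⟩ := hmem
      have hY'' : Y.image e = ofL 24 (23 :: ys) := hY'
      have hpY : p ∈ Y := by
        have : Fin.last 23 ∈ Y.image e := by
          rw [hY'', mem_ofL]; simp
        obtain ⟨a, ha, hae⟩ := mem_image.mp this
        have : a = p := e.injective (hae.trans hep.symm)
        exact this ▸ ha
      rw [← hY'', ← image_inter _ _ e.injective, card_image_of_injective _ e.injective]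
      exact hX Y hY hpY
  rw [DL24, famO_append]
  exact Or.inr this

/-- Every automorphism of the derived design of an `S(5,8,24)` extends to an automorphism of
the system. -/
theorem ofSubtype_mem_aut24 {B : Set (Finset α)} (hB : Cfsg.IsSteinerSystem 5 8 B)
    (hα : Fintype.card α = 24) (p : α) (τ : Equiv.Perm {a : α // a ≠ p})
    (hτ : τ ∈ Cfsg.setSystemAut (der B p)) : Equiv.Perm.ofSubtype τ ∈ Cfsg.setSystemAut B := by
  have hτinv : τ⁻¹ ∈ Cfsg.setSystemAut (der B p) := Subgroup.inv_mem _ hτ
  set g := Equiv.Perm.ofSubtype τ with hg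
  have hginv : Equiv.Perm.ofSubtype τ⁻¹ = g⁻¹ := by rw [hg, map_inv]
  apply mem_aut_of_maps
  intro b hb
  by_cases hpb : p ∈ b
  · exact (ofSubtype_maps_through hτ hb hpb).1
  · apply char24 hB hα p
    · rw [card_image_of_injective _ g.injective]; exact hB.1 b hb
    · rw [mem_image]
      rintro ⟨a, ha, hae⟩
      have : a = p := g.injective (hae.trans (ofSubtype_fix τ).symm)
      exact hpb (this ▸ ha)
    · intro Y hY hpY
      obtain ⟨hY0, hpY0⟩ := ofSubtype_maps_through hτinv hY hpY
      rw [hginv] at hY0 hpY0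
      have hYY : Y = (Y.image (g⁻¹ : Equiv.Perm α)).image g := by
        rw [image_image]
        conv_lhs => rw [← image_id (s := Y)]
        apply image_congr
        intro x _
        simp
      rw [hYY, ← image_inter _ _ g.injective, card_image_of_injective _ g.injective]
      apply Cfsg.Agent.S0352.result hα hB hb hY0
      intro e
      exact hpb (e ▸ hpY0)

end Char


end Cfsg.Agent.Helper27.Witt
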