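import Mathlib
import Cfsg.Agent.Lib.Helper27.WittChar

set_option autoImplicit false
set_option linter.unusedSectionVars false
set_option maxRecDepth 100000
set_option maxHeartbeats 0

/-! In the automorphism group of the derived family of an `S(4,7,23)` the extendable automorphisms have index two; two-point stabilisers as point stabilisers of the derived family. -/

namespace Cfsg.Agent.Helper27.Witt


theorem valid22_hept0 : validAllB 22 hept0 = true := by decide +kernel

theorem len_hept1 : hept1.length = 176 := by decide +kernel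

theorem len_DL22 : DL22.length = 77 := by decide +kernel

theorem g23_last : g23.getD 22 0 = 22 := by decide +kernel

theorem g23_inv_last : g23_inv.getD 22 0 = 22 := by decide +kernel




open Finset
open scoped Pointwise

section Img

variable {α β : Type*} [DecidableEq α] [DecidableEq β]

/-- The image of a Steiner system under a bijection is a Steiner system. -/
theorem steiner_image {t k : ℕ} {B : Set (Finset α)} (hB : Cfsg.IsSteinerSystem t k B)
    (g : α ≃ β) : Cfsg.IsSteinerSystem t k ((fun b : Finset α => b.image g) '' B) := by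
  constructor
  · rintro _ ⟨b, hb, rfl⟩
    rw [card_image_of_injective _ g.injective]; exact hB.1 b hb
  · intro s hs
    have hs' : (s.image g.symm).card = t := by
      rw [card_image_of_injective _ g.symm.injective, hs]
    obtain ⟨b, ⟨hb, hsb⟩, huniq⟩ := hB.2 _ hs'
    refine ⟨b.image g, ⟨⟨b, hb, rfl⟩, ?_⟩, ?_⟩
    · intro x hx
      rw [mem_image]
      exact ⟨g.symm x, hsb (mem_image_of_mem _ hx), by simp⟩
    · rintro _ ⟨⟨c, hc, rfl⟩, hsc⟩
      have : c = b := by
        apply huniq c ⟨hc, ?_⟩
        intro y hy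
        obtain ⟨x, hx, rfl⟩ := mem_image.mp hy
        obtain ⟨z, hz, hzx⟩ := mem_image.mp (hsc hx)
        have : z = g.symm x := by rw [← hzx]; simp
        rw [← this]; exact hz
      rw [this]

theorem smul_family_def (g : Equiv.Perm α) (B : Set (Finset α)) :
    g • B = (fun b : Finset α => b.image g) '' B := rfl

theorem mem_aut_iff_smul {B : Set (Finset α)} (g : Equiv.Perm α) :
    g ∈ Cfsg.setSystemAut B ↔ g • B = B := MulAction.mem_stabilizer_iff

end Img




open Finset
open scoped Pointwise

section Swap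

variable {α : Type*} [DecidableEq α]

/-- An automorphism of the derived family, extended by fixing `p`, carries `B` to a family
with the same derived family at `p`. -/
theorem der_image {B : Set (Finset α)} {p : α} {τ : Equiv.Perm {a : α // a ≠ p}}
    (hτ : τ ∈ Cfsg.setSystemAut (der B p)) :
    der ((fun b : Finset α => b.image (Equiv.Perm.ofSubtype τ)) '' B) p = der B p := by
  have hτinv : τ⁻¹ ∈ Cfsg.setSystemAut (der B p) := Subgroup.inv_mem _ hτ
  set g := Equiv.Perm.ofSubtype τ with hg
  have hginv : Equiv.Perm.ofSubtype τ⁻¹ = g⁻¹ := by rw [hg, map_inv]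
  ext b'
  constructor
  · rintro ⟨_, ⟨b, hb, rfl⟩, hq, rfl⟩
    have hqb : p ∈ b := by
      obtain ⟨a, ha, hae⟩ := mem_image.mp hq
      have : a = p := g.injective (hae.trans (ofSubtype_fix τ).symm)
      exact this ▸ ha
    obtain ⟨h1, h2⟩ := ofSubtype_maps_through hτ hb hqb
    exact ⟨_, h1, h2, rfl⟩
  · rintro ⟨c, hc, hqc, rfl⟩
    obtain ⟨h1, h2⟩ := ofSubtype_maps_through hτinv hc hqc
    rw [hginv] at h1 h2
    have hcc : (c.image (g⁻¹ : Equiv.Perm α)).image g = c := by
      rw [image_image]
      conv_rhs => rw [← image_id (s := c)]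
      apply image_congr
      intro x _
      simp
    refine ⟨c, ⟨_, h1, hcc⟩, hqc, rfl⟩

/-- Members through `p` are labelled by the derived list. -/
theorem thru_mem {B : Set (Finset α)} {p : α} {v : ℕ} {DL : List (List ℕ)}
    (e0 : {a : α // a ≠ p} ≃ Fin v)
    (he0 : (fun b => b.image e0) '' der B p = famO v DL) {b : Finset α} (hb : b ∈ B)
    (hpb : p ∈ b) :
    b.image (extEquiv p e0) ∈ famO (v + 1) (DL.map (fun ys => v :: ys)) := by
  have : (Finset.subtype (fun a => a ≠ p) b).image e0 ∈ famO v DL := by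
    rw [← he0]
    exact ⟨_, ⟨b, hb, hpb, rfl⟩, rfl⟩
  obtain ⟨ys, hys, hys'⟩ := this
  exact ⟨v :: ys, List.mem_map.mpr ⟨ys, hys, rfl⟩, image_extEquiv p e0 b hpb ys hys'⟩

theorem famK_sub {B : Set (Finset α)} {p : α} {v : ℕ} {DL : List (List ℕ)}
    (e0 : {a : α // a ≠ p} ≃ Fin v)
    (he0 : (fun b => b.image e0) '' der B p = famO v DL) :
    famO (v + 1) (DL.map (fun ys => v :: ys))
      ⊆ (fun b : Finset α => b.image (extEquiv p e0)) '' B := by
  rintro Y ⟨zs, hzs, rfl⟩
  obtain ⟨ys, hys, rfl⟩ := List.mem_map.mp hzs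
  have : ofL v ys ∈ famO v DL := ⟨ys, hys, rfl⟩
  rw [← he0] at this
  obtain ⟨b', ⟨b, hb, hpb, rfl⟩, hb'⟩ := this
  exact ⟨b, hb, image_extEquiv p e0 b hpb ys hb'⟩

/-- A labelled permutation preserving the derived part and fixing the last point yields an
automorphism of the derived family whose extension moves `B` to the family with the other
class. -/
theorem exists_swap [Finite α] {B : Set (Finset α)} {p : α} {v : ℕ} {DL : List (List ℕ)}
    (e0 : {a : α // a ≠ p} ≃ Fin v)
    (he0 : (fun b => b.image e0) '' der B p = famO v DL)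
    (ρ : Equiv.Perm (Fin (v + 1))) (hρ : ρ (Fin.last v) = Fin.last v)
    (E E' : Set (Finset (Fin (v + 1))))
    (hK : (fun X : Finset (Fin (v + 1)) => X.image ρ) '' famO (v + 1) (DL.map (fun ys => v :: ys))
      = famO (v + 1) (DL.map (fun ys => v :: ys)))
    (hE : (fun X : Finset (Fin (v + 1)) => X.image ρ) '' E = E')
    (hB : (fun b : Finset α => b.image (extEquiv p e0)) '' B
      = famO (v + 1) (DL.map (fun ys => v :: ys)) ∪ E) :
    ∃ τ0 ∈ Cfsg.setSystemAut (der B p),
      (fun b : Finset α => b.image (extEquiv p e0)) ''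
        ((fun b : Finset α => b.image (Equiv.Perm.ofSubtype τ0)) '' B)
        = famO (v + 1) (DL.map (fun ys => v :: ys)) ∪ E' := by
  set ê := extEquiv p e0 with hê
  set g0 : Equiv.Perm α := ê.symm.permCongr ρ with hg0
  have hg0x : ∀ x, ê (g0 x) = ρ (ê x) := by
    intro x
    simp [hg0, Equiv.permCongr_apply]
  have hp : g0 p = p := by
    apply ê.injective
    rw [hg0x, hê, extEquiv_self, hρ]
  have himg : ∀ b : Finset α, (b.image g0).image ê = (b.image ê).image ρ := by
    intro b
    rw [image_image, image_image]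
    apply image_congr
    intro x _
    exact hg0x x
  have hmaps : ∀ b ∈ B, p ∈ b → b.image g0 ∈ B := by
    intro b hb hpb
    rw [← image_mem_iff ê hB, himg]
    left
    rw [← hK]
    exact ⟨_, thru_mem e0 he0 hb hpb, rfl⟩
  refine ⟨(g0.subtypePerm (ne_iff_of_fix hp) : Equiv.Perm {a : α // a ≠ p}),
    res_mem hp hmaps, ?_⟩
  have hof : Equiv.Perm.ofSubtype
      (g0.subtypePerm (ne_iff_of_fix hp) : Equiv.Perm {a : α // a ≠ p}) = g0 := by
    apply Equiv.Perm.ofSubtype_subtypePerm
    intro x hx e
    exact hx (e ▸ hp)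
  rw [hof]
  have : (fun b : Finset α => b.image ê) '' ((fun b : Finset α => b.image g0) '' B)
      = (fun X : Finset (Fin (v + 1)) => X.image ρ) '' ((fun b : Finset α => b.image ê) '' B) := by
    rw [Set.image_image, Set.image_image]
    apply Set.image_congr
    intro b _
    exact himg b
  rw [this, hB, Set.image_union, hK, hE]

end Swap




open Finset
open scoped Pointwise

/-- The derived part of the standard `S(4,7,23)`. -/
abbrev K23 : List (List ℕ) := DL22.map (fun ys => 22 :: ys)

section Ext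

variable {α : Type*} [Fintype α] [DecidableEq α]

/-- An `S(4,7,23)` whose derived family at `p` is labelled in the standard way is, in the
extended labelling, the derived part together with one of the two classes of heptads. -/
theorem ext23 {B : Set (Finset α)} (hB : Cfsg.IsSteinerSystem 4 7 B)
    (hα : Fintype.card α = 23) (p : α) (e0 : {a : α // a ≠ p} ≃ Fin 22)
    (he0 : (fun b => b.image e0) '' der B p = famO 22 DL22) :
    ∃ j : Fin 2, (fun b : Finset α => b.image (extEquiv p e0)) '' B
      = famO 23 K23 ∪ famO 23 (EL23 j) := by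
  classical
  have hncard : B.ncard = 253 := by
    have := card_blocks hB
    rw [hα] at this
    norm_num [Nat.choose] at this
    omega
  have hA : ∀ b ∈ B, ∀ c ∈ B, b ≠ c → ((b ∩ c).card = 1 ∨ (b ∩ c).card = 3) :=
    fun b hb c hc hbc => Cfsg.Agent.S0355.result hα hB hb hc hbc
  have hC1 : ∀ X : Finset (Fin (22 + 1)), Fin.last 22 ∉ X → X.card = 6 + 1 →
      (∀ ys ∈ DL22, ((X ∩ ofL (22 + 1) (22 :: ys)).card = 1
        ∨ (X ∩ ofL (22 + 1) (22 :: ys)).card = 3)) → ∃ j, X ∈ famO (22 + 1) (EL23 j) := by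
    intro X h1 h2 h3
    rcases class23 X h1 h2 h3 with h | h
    · exact ⟨0, h⟩
    · exact ⟨1, h⟩
  have hcount : ∀ j, (EL23 j).length + DL22.length ≤ B.ncard := by
    intro j
    rw [hncard]
    fin_cases j
    · exact len23_0
    · exact len23_1
  exact extend_std (t := 3) (k := 6) (v := 22) hB (fun n => n = 1 ∨ n = 3) hA p DL22
    e0 he0 EL23 hC1 hC2_23 hcount

end Ext

theorem hept0_mem0 : [20, 18, 10, 6, 2, 1, 0] ∈ hept0 := by decide +kernel

theorem hept0_mem1 : [14, 12, 11, 7, 2, 1, 0] ∈ hept0 := by decide +kernel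

/-- The two extensions of the derived part are different families. -/
theorem union_ne : famO 23 K23 ∪ famO 23 (EL23 0) ≠ famO 23 K23 ∪ famO 23 (EL23 1) := by
  intro h
  have h0 : ofL 23 [20, 18, 10, 6, 2, 1, 0] ∈ famO 23 K23 ∪ famO 23 (EL23 0) :=
    Or.inr ⟨_, hept0_mem0, rfl⟩
  rw [h] at h0
  rcases h0 with ⟨zs, hzs, hz⟩ | ⟨ys, hys, hy⟩
  · obtain ⟨ys, _, rfl⟩ := List.mem_map.mp hzs
    have : Fin.last 22 ∈ ofL 23 (22 :: ys) := by
      rw [mem_ofL]; simp
    rw [← hz, mem_ofL] at this
    revert this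
    decide
  · have hc : (ofL 23 ys ∩ ofL 23 [14, 12, 11, 7, 2, 1, 0]).card = 3 := by
      rw [← hy, card_inter_ofL _ _ (by decide) (by decide)]
      decide
    have := hC2_23 1 0 ys hys _ hept0_mem1 (Or.inr hc)
    exact absurd this (by decide)

/-- The listed permutation exchanging the two classes. -/
def sigma23 : Equiv.Perm (Fin 23) := permOfL 23 g23 g23_inv perm23

theorem sigma23_last : sigma23 (Fin.last 22) = Fin.last 22 := by
  apply Fin.ext
  rw [sigma23, permOfL_val]
  rfl

theorem sigma23_K : (fun X : Finset (Fin 23) => X.image sigma23) '' famO 23 K23 = famO 23 K23 :=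
  image_perm_famO sigma23 g23 g23_inv (permOfL_val 23 g23 g23_inv perm23)
    (permOfL_symm_val 23 g23 g23_inv perm23) K23 K23 (mapIdxB_spec g23 g23_inv K23 K23 _ map23_K)
    (by
      intro ys hys
      obtain ⟨xs, hxs, ha, hb⟩ := mapIdxB_spec g23_inv g23 K23 K23 _ map23_K' ys hys
      exact ⟨xs, hxs, hb, ha⟩)

theorem sigma23_E : (fun X : Finset (Fin 23) => X.image sigma23) '' famO 23 hept1
    = famO 23 hept0 :=
  image_perm_famO sigma23 g23 g23_inv (permOfL_val 23 g23 g23_inv perm23)
    (permOfL_symm_val 23 g23 g23_inv perm23) hept1 hept0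
    (mapIdxB_spec g23 g23_inv hept1 hept0 _ map23_E)
    (by
      intro ys hys
      obtain ⟨xs, hxs, ha, hb⟩ := mapIdxB_spec g23_inv g23 hept0 hept1 _ map23_E' ys hys
      exact ⟨xs, hxs, hb, ha⟩)

theorem image_symm_of_image {n : ℕ} (σ : Equiv.Perm (Fin n)) {E E' : Set (Finset (Fin n))}
    (h : (fun X : Finset (Fin n) => X.image σ) '' E = E') :
    (fun X : Finset (Fin n) => X.image σ.symm) '' E' = E :=
  image_symm_family σ h

theorem sigma23_symm_last : sigma23.symm (Fin.last 22) = Fin.last 22 := by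
  rw [Equiv.symm_apply_eq, sigma23_last]




open Finset
open scoped Pointwise

theorem fin2_other : ∀ j jB : Fin 2, j ≠ jB → j = 1 - jB := by decide

theorem union_ne' (j : Fin 2) :
    famO 23 K23 ∪ famO 23 (EL23 (1 - j)) ≠ famO 23 K23 ∪ famO 23 (EL23 j) := by
  have h10 : (1 : Fin 2) - 0 = 1 := by decide
  have h11 : (1 : Fin 2) - 1 = 0 := by decide
  fin_cases j
  · show famO 23 K23 ∪ famO 23 (EL23 (1 - 0)) ≠ famO 23 K23 ∪ famO 23 (EL23 0)
    rw [h10]
    exact fun h => union_ne h.symm
  · show famO 23 K23 ∪ famO 23 (EL23 (1 - 1)) ≠ famO 23 K23 ∪ famO 23 (EL23 1)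
    rw [h11]
    exact union_ne

section IndexTwo

variable {α : Type*} [Fintype α] [DecidableEq α]

/-- In the automorphism group of the derived family of an `S(4,7,23)` at a point, the
automorphisms that extend to the whole system form a subgroup of index two. -/
theorem index_two23 {B : Set (Finset α)} (hB : Cfsg.IsSteinerSystem 4 7 B)
    (hα : Fintype.card α = 23) (q : α) (H : Subgroup (Cfsg.setSystemAut (der B q)))
    (hH : ∀ τ : Cfsg.setSystemAut (der B q),
      τ ∈ H ↔ Equiv.Perm.ofSubtype τ.1 ∈ Cfsg.setSystemAut B) :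
    H.index = 2 := by
  classical
  have hder := Cfsg.Agent.S0351.result (t := 3) (k := 6) hB q
  have hcard' : Fintype.card {a : α // a ≠ q} = 22 := by
    rw [Fintype.card_subtype_compl, Fintype.card_subtype_eq, hα]
  obtain ⟨q0⟩ : Nonempty {a : α // a ≠ q} := by
    rw [← Fintype.card_pos_iff, hcard']; norm_num
  obtain ⟨e0, _, he0⟩ := std22 hder hcard' q0
  have he0' : (fun b => b.image e0) '' der B q = famO 22 DL22 := he0
  set ê := extEquiv q e0 with hê
  obtain ⟨jB, hjB⟩ := ext23 hB hα q e0 he0'
  -- the class of an automorphism of the derived family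
  have hcls : ∀ τ ∈ Cfsg.setSystemAut (der B q), ∃ j : Fin 2,
      (fun b : Finset α => b.image ê) '' ((fun b : Finset α => b.image (Equiv.Perm.ofSubtype τ)) '' B)
        = famO 23 K23 ∪ famO 23 (EL23 j) := by
    intro τ hτ
    apply ext23 (steiner_image hB (Equiv.Perm.ofSubtype τ)) hα q e0
    rw [der_image hτ]
    exact he0'
  have hinj : Function.Injective (fun S : Set (Finset α) => (fun b : Finset α => b.image ê) '' S) :=
    Set.image_injective.mpr (Finset.image_injective ê.injective)
  -- membership in `H` by class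
  have hHcls : ∀ τ : Cfsg.setSystemAut (der B q), τ ∈ H ↔
      (fun b : Finset α => b.image ê) '' ((fun b : Finset α => b.image (Equiv.Perm.ofSubtype τ.1)) '' B)
        = famO 23 K23 ∪ famO 23 (EL23 jB) := by
    intro τ
    rw [hH, mem_aut_iff_smul, smul_family_def, ← hjB]
    constructor
    · intro h; rw [h]
    · intro h; exact hinj h
  have hother : ∀ τ : Cfsg.setSystemAut (der B q), τ ∉ H →
      (fun b : Finset α => b.image ê) '' ((fun b : Finset α => b.image (Equiv.Perm.ofSubtype τ.1)) '' B)
        = famO 23 K23 ∪ famO 23 (EL23 (1 - jB)) := by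
    intro τ hτ
    obtain ⟨j, hj⟩ := hcls τ.1 τ.2
    have : j = 1 - jB := by
      apply fin2_other
      intro e
      exact hτ ((hHcls τ).mpr (e ▸ hj))
    rw [← this]; exact hj
  -- two elements outside `H` differ by an element of `H`
  have hquot : ∀ τ1 τ2 : Cfsg.setSystemAut (der B q), τ1 ∉ H → τ2 ∉ H → τ1⁻¹ * τ2 ∈ H := by
    intro τ1 τ2 h1 h2
    have e12 := hinj ((hother τ1 h1).trans (hother τ2 h2).symm)
    have e12' : Equiv.Perm.ofSubtype τ1.1 • B = Equiv.Perm.ofSubtype τ2.1 • B := e12
    rw [hH, mem_aut_iff_smul]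
    have : Equiv.Perm.ofSubtype (τ1⁻¹ * τ2).1
        = (Equiv.Perm.ofSubtype τ1.1)⁻¹ * Equiv.Perm.ofSubtype τ2.1 := by
      simp
    rw [this, mul_smul, ← e12', inv_smul_smul]
  -- an element outside `H`
  obtain ⟨τ0, hτ0, hτ0'⟩ : ∃ τ0 ∈ Cfsg.setSystemAut (der B q),
      (fun b : Finset α => b.image ê) '' ((fun b : Finset α => b.image (Equiv.Perm.ofSubtype τ0)) '' B)
        = famO 23 K23 ∪ famO 23 (EL23 (1 - jB)) := by
    fin_cases jB
    · exact exists_swap e0 he0' sigma23.symm sigma23_symm_last (famO 23 hept0) (famO 23 hept1)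
        (image_symm_family sigma23 sigma23_K) (image_symm_family sigma23 sigma23_E) hjB
    · exact exists_swap e0 he0' sigma23 sigma23_last (famO 23 hept1) (famO 23 hept0)
        sigma23_K sigma23_E hjB
  have hτ0H : (⟨τ0, hτ0⟩ : Cfsg.setSystemAut (der B q)) ∉ H := by
    intro h
    have := (hHcls ⟨τ0, hτ0⟩).mp h
    rw [hτ0'] at this
    exact union_ne' jB this
  rw [Subgroup.index_eq_two_iff]
  refine ⟨(⟨τ0, hτ0⟩ : Cfsg.setSystemAut (der B q))⁻¹, ?_⟩
  intro b
  by_cases hb : b ∈ H
  · right
    refine ⟨hb, ?_⟩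
    intro h
    have : (⟨τ0, hτ0⟩ : Cfsg.setSystemAut (der B q))⁻¹ ∈ H := by
      have := H.mul_mem (H.inv_mem hb) h
      rwa [inv_mul_cancel_left] at this
    exact hτ0H (by simpa using H.inv_mem this)
  · left
    refine ⟨?_, hb⟩
    have hb' : b⁻¹ ∉ H := fun h => hb (by simpa using H.inv_mem h)
    have hτ' : (⟨τ0, hτ0⟩ : Cfsg.setSystemAut (der B q))⁻¹ ∉ H :=
      fun h => hτ0H (by simpa using H.inv_mem h)
    have := hquot _ _ hb' hτ'
    rwa [inv_inv] at this

end IndexTwo




open scoped Pointwise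
open MulAction Equiv.Perm

section Stab2

variable {α : Type*} [DecidableEq α]

/-- If every automorphism of the derived family extends, a point stabiliser in the automorphism
group of the derived family is a two-point stabiliser in the automorphism group of `B`. -/
theorem stabIso2 [Finite α] (B : Set (Finset α)) (p : α) (q' : {a : α // a ≠ p})
    (hext : ∀ τ : Equiv.Perm {a : α // a ≠ p}, τ ∈ Cfsg.setSystemAut (der B p) →
      ofSubtype τ ∈ Cfsg.setSystemAut B) :
    Nonempty (↥(MulAction.stabilizer (↥(Cfsg.setSystemAut (der B p))) q') ≃*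
      ↥(MulAction.stabilizer (↥(Cfsg.setSystemAut B)) p
        ⊓ MulAction.stabilizer (↥(Cfsg.setSystemAut B)) q'.val)) := by
  let ψ : ↥(MulAction.stabilizer (↥(Cfsg.setSystemAut (der B p))) q') →*
      ↥(MulAction.stabilizer (↥(Cfsg.setSystemAut B)) p
        ⊓ MulAction.stabilizer (↥(Cfsg.setSystemAut B)) q'.val) :=
    { toFun := fun τ => ⟨⟨ofSubtype τ.1.1, hext τ.1.1 τ.1.2⟩, by
        rw [Subgroup.mem_inf, MulAction.mem_stabilizer_iff, MulAction.mem_stabilizer_iff]
        refine ⟨ofSubtype_fix τ.1.1, ?_⟩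
        show ofSubtype τ.1.1 q'.val = q'.val
        rw [ofSubtype_apply_of_mem τ.1.1 q'.2]
        have : τ.1.1 q' = q' := MulAction.mem_stabilizer_iff.mp τ.2
        exact congrArg Subtype.val this⟩
      map_one' := by
        apply Subtype.ext; apply Subtype.ext
        simp
      map_mul' := fun τ τ' => by
        apply Subtype.ext; apply Subtype.ext
        simp }
  refine ⟨MulEquiv.ofBijective ψ ⟨?_, ?_⟩⟩
  · intro τ τ' h
    have h1 : ofSubtype τ.1.1 = ofSubtype τ'.1.1 := by
      have := congrArg (fun z => z.1.1) h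
      exact this
    exact Subtype.ext (Subtype.ext (ofSubtype_injective h1))
  · rintro ⟨⟨g, hg⟩, hgpq⟩
    rw [Subgroup.mem_inf, MulAction.mem_stabilizer_iff, MulAction.mem_stabilizer_iff] at hgpq
    have hp : g p = p := hgpq.1
    have hq : g q'.val = q'.val := hgpq.2
    have hm : (g.subtypePerm (ne_iff_of_fix hp) : Equiv.Perm {a : α // a ≠ p})
        ∈ Cfsg.setSystemAut (der B p) := by
      apply res_mem hp
      intro b hb _
      exact ((mem_setSystemAut_iff g).mp hg b).mpr hb
    refine ⟨⟨⟨g.subtypePerm (ne_iff_of_fix hp), hm⟩, ?_⟩, ?_⟩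
    · rw [MulAction.mem_stabilizer_iff]
      apply Subtype.ext
      exact hq
    · apply Subtype.ext; apply Subtype.ext
      show ofSubtype (g.subtypePerm (ne_iff_of_fix hp) : Equiv.Perm {a : α // a ≠ p}) = g
      apply ofSubtype_subtypePerm
      intro x hx e
      exact hx (e ▸ hp)

end Stab2


end Cfsg.Agent.Helper27.Witt
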