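import Mathlib
import Cfsg.Agent.Lib.Helper27.HSGraph
import Cfsg.Agent.Lib.Helper27.WittIndex
import Cfsg.Agent.S0410
import Cfsg.Agent.S0414
import Cfsg.Agent.S0428

set_option autoImplicit false
set_option linter.unusedSectionVars false

/-! Automorphisms of the point-block graph of an `S(3,6,22)`: vertex-transitivity, the stabiliser of the extra vertex is the automorphism group of the design, and the order `88704000`. -/

namespace Cfsg.Agent.Helper27.HSGraph


open Finset
open Cfsg.Agent.Helper27.Witt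

section AutPB

variable {α : Type*} [DecidableEq α] {B : Set (Finset α)}

theorem pb_adj_none_iff (x : Option (α ⊕ B)) :
    (Cfsg.pointBlockGraph B).Adj none x ↔ ∃ a, x = some (Sum.inl a) := by
  rw [Cfsg.pointBlockGraph, SimpleGraph.fromRel_adj]
  rcases x with _ | a | b
  · simp
  · simp [Cfsg.pointBlockRel]
  · simp [Cfsg.pointBlockRel]

theorem pb_adj_pt_blk (a : α) (b : B) :
    (Cfsg.pointBlockGraph B).Adj (some (Sum.inl a)) (some (Sum.inr b)) ↔ a ∈ b.1 := by
  rw [Cfsg.pointBlockGraph, SimpleGraph.fromRel_adj]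
  simp [Cfsg.pointBlockRel]

theorem pbgCongr_none {β : Type*} [DecidableEq β] {B' : Set (Finset β)} (e : α ≃ β)
    (h : (fun b : Finset α => b.image e) '' B = B') : pbgCongr e h none = none := rfl

theorem pbgCongr_pt {β : Type*} [DecidableEq β] {B' : Set (Finset β)} (e : α ≃ β)
    (h : (fun b : Finset α => b.image e) '' B = B') (a : α) :
    pbgCongr e h (some (Sum.inl a)) = some (Sum.inl (e a)) := rfl

theorem pbgCongr_blk {β : Type*} [DecidableEq β] {B' : Set (Finset β)} (e : α ≃ β)
    (h : (fun b : Finset α => b.image e) '' B = B') (b : B) :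
    pbgCongr e h (some (Sum.inr b)) = some (Sum.inr (blockEquiv e h b)) := rfl

/-- An automorphism of the point-block graph fixing the extra vertex maps points to points. -/
theorem aut_pt (φ : Cfsg.pointBlockGraph B ≃g Cfsg.pointBlockGraph B) (h0 : φ none = none)
    (a : α) : ∃ a', φ (some (Sum.inl a)) = some (Sum.inl a') := by
  rw [← pb_adj_none_iff, ← h0, φ.map_rel_iff, pb_adj_none_iff]
  exact ⟨a, rfl⟩

theorem aut_blk (φ : Cfsg.pointBlockGraph B ≃g Cfsg.pointBlockGraph B) (h0 : φ none = none)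
    (b : B) : ∃ b', φ (some (Sum.inr b)) = some (Sum.inr b') := by
  rcases hx : φ (some (Sum.inr b)) with _ | a' | b'
  · rw [← h0] at hx
    exact absurd (φ.injective hx) (by simp)
  · have h1 : (Cfsg.pointBlockGraph B).Adj none (φ (some (Sum.inr b))) := by
      rw [pb_adj_none_iff]; exact ⟨a', hx⟩
    rw [← h0, φ.map_rel_iff, pb_adj_none_iff] at h1
    obtain ⟨a, ha⟩ := h1
    exact absurd ha (by simp)
  · exact ⟨b', rfl⟩

end AutPB




open Finset
open Cfsg.Agent.Helper27.Witt

section AutPB2

variable {α : Type*} [DecidableEq α] {B : Set (Finset α)}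

/-- The point map of an automorphism fixing the extra vertex. -/
noncomputable def ptMap (φ : Cfsg.pointBlockGraph B ≃g Cfsg.pointBlockGraph B)
    (h0 : φ none = none) (a : α) : α := Classical.choose (aut_pt φ h0 a)

theorem ptMap_spec (φ : Cfsg.pointBlockGraph B ≃g Cfsg.pointBlockGraph B) (h0 : φ none = none)
    (a : α) : φ (some (Sum.inl a)) = some (Sum.inl (ptMap φ h0 a)) :=
  Classical.choose_spec (aut_pt φ h0 a)

theorem symm_none (φ : Cfsg.pointBlockGraph B ≃g Cfsg.pointBlockGraph B) (h0 : φ none = none) :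
    φ.symm none = none := by
  rw [RelIso.symm_apply_eq, h0]

/-- The point permutation of an automorphism fixing the extra vertex. -/
noncomputable def ptPerm (φ : Cfsg.pointBlockGraph B ≃g Cfsg.pointBlockGraph B)
    (h0 : φ none = none) : Equiv.Perm α where
  toFun := ptMap φ h0
  invFun := ptMap φ.symm (symm_none φ h0)
  left_inv a := by
    have h1 := ptMap_spec φ h0 a
    have h2 := ptMap_spec φ.symm (symm_none φ h0) (ptMap φ h0 a)
    rw [← h1, RelIso.symm_apply_apply] at h2
    exact (Sum.inl.inj (Option.some.inj h2)).symm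
  right_inv a := by
    have h1 := ptMap_spec φ.symm (symm_none φ h0) a
    have h2 := ptMap_spec φ h0 (ptMap φ.symm (symm_none φ h0) a)
    rw [← h1, RelIso.apply_symm_apply] at h2
    exact (Sum.inl.inj (Option.some.inj h2)).symm

theorem ptPerm_spec (φ : Cfsg.pointBlockGraph B ≃g Cfsg.pointBlockGraph B) (h0 : φ none = none)
    (a : α) : φ (some (Sum.inl a)) = some (Sum.inl (ptPerm φ h0 a)) := ptMap_spec φ h0 a

theorem aut_blk_image (φ : Cfsg.pointBlockGraph B ≃g Cfsg.pointBlockGraph B) (h0 : φ none = none)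
    (b b' : B) (hb : φ (some (Sum.inr b)) = some (Sum.inr b')) :
    b'.1 = b.1.image (ptPerm φ h0) := by
  have key : ∀ a, ptPerm φ h0 a ∈ b'.1 ↔ a ∈ b.1 := by
    intro a
    rw [← pb_adj_pt_blk, ← pb_adj_pt_blk, ← ptPerm_spec φ h0 a, ← hb, φ.map_rel_iff]
  ext c
  rw [mem_image]
  constructor
  · intro hc
    refine ⟨(ptPerm φ h0).symm c, ?_, by simp⟩
    rw [← key]; simpa using hc
  · rintro ⟨a, ha, rfl⟩
    exact (key a).mpr ha

theorem ptPerm_mem [Finite α] (φ : Cfsg.pointBlockGraph B ≃g Cfsg.pointBlockGraph B)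
    (h0 : φ none = none) : ptPerm φ h0 ∈ Cfsg.setSystemAut B := by
  apply mem_aut_of_maps
  intro b hb
  obtain ⟨b', hb'⟩ := aut_blk φ h0 ⟨b, hb⟩
  have := aut_blk_image φ h0 ⟨b, hb⟩ b' hb'
  rw [← this]
  exact b'.2

theorem image_eq_of_mem {σ : Equiv.Perm α} (hσ : σ ∈ Cfsg.setSystemAut B) :
    (fun b : Finset α => b.image σ) '' B = B := by
  rw [← smul_family_def]
  exact (mem_aut_iff_smul σ).mp hσ

/-- The graph automorphism induced by an automorphism of the family. -/
noncomputable def autOfPerm (σ : Equiv.Perm α) (hσ : σ ∈ Cfsg.setSystemAut B) :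
    Cfsg.pointBlockGraph B ≃g Cfsg.pointBlockGraph B := pbgCongr σ (image_eq_of_mem hσ)

theorem autOfPerm_ptPerm [Finite α] (φ : Cfsg.pointBlockGraph B ≃g Cfsg.pointBlockGraph B)
    (h0 : φ none = none) : autOfPerm (ptPerm φ h0) (ptPerm_mem φ h0) = φ := by
  apply RelIso.ext
  rintro (_ | a | b)
  · rw [h0]; rfl
  · rw [ptPerm_spec φ h0 a]; rfl
  · obtain ⟨b', hb'⟩ := aut_blk φ h0 b
    rw [hb']
    show some (Sum.inr (blockEquiv _ _ b)) = _
    congr 2
    apply Subtype.ext
    rw [blockEquiv_val, aut_blk_image φ h0 b b' hb']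

/-- The stabiliser of the extra vertex in the automorphism group of the point-block graph is in
bijection with the automorphism group of the family. -/
theorem card_stabilizer_none [Finite α] :
    Nat.card (MulAction.stabilizer (Cfsg.pointBlockGraph B ≃g Cfsg.pointBlockGraph B)
      (none : Option (α ⊕ B))) = Nat.card (Cfsg.setSystemAut B) := by
  symm
  apply Nat.card_congr
  refine Equiv.ofBijective (fun σ => ⟨autOfPerm σ.1 σ.2, ?_⟩) ⟨?_, ?_⟩
  · rw [MulAction.mem_stabilizer_iff]
    rfl
  · intro σ τ h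
    have h1 : autOfPerm σ.1 σ.2 = autOfPerm τ.1 τ.2 := congrArg Subtype.val h
    apply Subtype.ext
    ext a
    have h2 := congrArg (fun f => f (some (Sum.inl a))) h1
    exact Sum.inl.inj (Option.some.inj h2)
  · rintro ⟨φ, hφ⟩
    have h0 : φ none = none := MulAction.mem_stabilizer_iff.mp hφ
    exact ⟨⟨ptPerm φ h0, ptPerm_mem φ h0⟩, Subtype.ext (autOfPerm_ptPerm φ h0)⟩

end AutPB2




open Finset
open Cfsg.Agent.Helper27.Witt

section Trans

variable {V : Type*} [Fintype V] [DecidableEq V] {G : SimpleGraph V} [DecidableRel G.Adj]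

theorem isoPB_self (hG : G.IsSRGWith 100 22 0 6) (v₀ : V) : isoPB hG v₀ v₀ = none :=
  toPB_self v₀

/-- A strongly regular graph with parameters `(100, 22, 0, 6)` is vertex-transitive. -/
theorem exists_aut_map (hG : G.IsSRGWith 100 22 0 6) (u w : V) : ∃ φ : G ≃g G, φ u = w := by
  obtain ⟨e, he⟩ := Cfsg.Agent.S0410.result (card_Pt hG u) (card_Pt hG w)
    (steiner_blocks hG u) (steiner_blocks hG w)
  refine ⟨(isoPB hG u).trans ((pbgCongr e he).trans (isoPB hG w).symm), ?_⟩
  show (isoPB hG w).symm (pbgCongr e he (isoPB hG u u)) = w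
  rw [isoPB_self, pbgCongr_none, RelIso.symm_apply_eq, isoPB_self]

end Trans

section Order

variable {α : Type*} [Fintype α] [DecidableEq α] {B : Set (Finset α)}

/-- The automorphism group of the point-block graph of an `S(3,6,22)` has order `88704000`. -/
theorem card_aut_pbg (hα : Fintype.card α = 22) (hB : Cfsg.IsSteinerSystem 3 6 B) :
    Nat.card (Cfsg.pointBlockGraph B ≃g Cfsg.pointBlockGraph B) = 88704000 := by
  classical
  haveI : Fintype B := Fintype.ofFinite B
  have hsrg : (Cfsg.pointBlockGraph B).IsSRGWith 100 22 0 6 := Cfsg.Agent.S0428.result hα hB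
  haveI : MulAction.IsPretransitive (Cfsg.pointBlockGraph B ≃g Cfsg.pointBlockGraph B)
      (Option (α ⊕ B)) := ⟨fun u w => exists_aut_map hsrg u w⟩
  have h1 := MulAction.index_stabilizer_of_transitive
    (G := Cfsg.pointBlockGraph B ≃g Cfsg.pointBlockGraph B) (none : Option (α ⊕ B))
  have h2 := Subgroup.index_mul_card (MulAction.stabilizer
    (Cfsg.pointBlockGraph B ≃g Cfsg.pointBlockGraph B) (none : Option (α ⊕ B)))
  have h3 : Nat.card (Option (α ⊕ B)) = 100 := by
    rw [Nat.card_eq_fintype_card]; exact hsrg.card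
  rw [← h2, h1, h3, card_stabilizer_none, (Cfsg.Agent.S0414.result hα hB).1]

end Order


end Cfsg.Agent.Helper27.HSGraph
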