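import Mathlib
import Cfsg.Agent.Lib.Helper27.HSSimple
import Cfsg.Agent.Lib.Helper27.HSGraphAut

set_option autoImplicit false
set_option linter.unusedSectionVars false
set_option maxRecDepth 8000
open Cfsg

/-! The graph on the hundred minimal vectors attached to a norm-48 pair (inner product 8) is strongly regular with parameters `(100,22,0,6)`, and the joint stabiliser acts faithfully on it: a simple group of order `44352000` inside the automorphism group of the point-block graph of any `S(3,6,22)`. -/

namespace Cfsg.Agent.Helper27.HSGraph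


open Finset MulAction

/-- The second vector of the standard pair. -/
def Wstd : leechLattice := X0 - U5

theorem U5_add_Wstd : U5 + Wstd = X0 := by
  rw [Wstd, add_sub_cancel]

theorem dot_U5_X0 : dotInt (U5 : GolayPt → ℤ) (X0 : GolayPt → ℤ) = 16 := by
  rw [dotInt_comm', dotInt_X0]
  show 4 * u5 none - 4 * u5 (some 0) = 16
  rw [u5_apply, u5_apply]
  simp

theorem X0_norm : sqNorm (X0 : GolayPt → ℤ) = 32 := by
  rw [← dotInt_self', dotInt_X0]
  show 4 * vec44 none (some 0) (-1) none - 4 * vec44 none (some 0) (-1) (some 0) = 32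
  simp [vec44]

theorem hv_std : sqNorm (U5 : GolayPt → ℤ) = 48 := u5_norm

theorem hw_std : sqNorm (Wstd : GolayPt → ℤ) = 48 := by
  show sqNorm ((X0 : GolayPt → ℤ) - (U5 : GolayPt → ℤ)) = 48
  rw [sqNorm_sub', X0_norm, hv_std, dotInt_comm', dot_U5_X0]
  norm_num

theorem hvw_std : dotInt (U5 : GolayPt → ℤ) (Wstd : GolayPt → ℤ) = -32 := by
  show dotInt (U5 : GolayPt → ℤ) ((X0 : GolayPt → ℤ) - (U5 : GolayPt → ℤ)) = -32
  rw [dotInt_sub_right', dot_U5_X0, dotInt_self', hv_std]
  norm_num

theorem mem_hsSet_std (x : leechLattice) : x ∈ hsSet U5 Wstd ↔ (x : GolayPt → ℤ) ∈ H100 := by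
  have := mem_hsSet_iff (v := U5) (w := Wstd) (g := 1) (one_smul _ _)
    (by rw [one_smul, U5_add_Wstd]) x
  rwa [one_smul] at this

/-- The standard copy of the Higman-Sims group. -/
abbrev Kstd : Subgroup Co0 := stabilizer Co0 U5 ⊓ stabilizer Co0 Wstd

theorem mem_Kstd (g : Co0) : g ∈ Kstd ↔ g • U5 = U5 ∧ g • Wstd = Wstd := by
  rw [Subgroup.mem_inf, mem_stabilizer_iff, mem_stabilizer_iff]

theorem smul_mem_hsSet {g : Co0} (hg : g ∈ Kstd) {x : leechLattice} (hx : x ∈ hsSet U5 Wstd) :
    g • x ∈ hsSet U5 Wstd := by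
  rw [mem_Kstd] at hg
  refine ⟨?_, ?_, ?_⟩
  · rw [smul_norm]; exact hx.1
  · have := smul_dot g U5 x
    rw [hg.1] at this
    rw [this]; exact hx.2.1
  · have := smul_dot g Wstd x
    rw [hg.2] at this
    rw [this]; exact hx.2.2

/-- The hundred vectors as a type. -/
abbrev T100 : Type := {z : GolayPt → ℤ // z ∈ H100}

theorem mem_leech_of_H100 {z : GolayPt → ℤ} (hz : z ∈ H100) : z ∈ leechLattice := by
  unfold H100 at hz
  exact (mem_F32.mp (Finset.mem_filter.mp hz).1).1

theorem norm_of_H100 {z : GolayPt → ℤ} (hz : z ∈ H100) : sqNorm z = 32 := by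
  unfold H100 at hz
  exact (mem_F32.mp (Finset.mem_filter.mp hz).1).2

/-- A member of the hundred as a lattice vector. -/
def toL (z : T100) : leechLattice := ⟨z.1, mem_leech_of_H100 z.2⟩

theorem toL_mem (z : T100) : toL z ∈ hsSet U5 Wstd := (mem_hsSet_std _).mpr z.2

/-- The action of the group on the hundred. -/
def actFun (g : Kstd) (z : T100) : T100 :=
  ⟨((g.1 • toL z : leechLattice) : GolayPt → ℤ),
    (mem_hsSet_std _).mp (smul_mem_hsSet g.2 (toL_mem z))⟩

theorem toL_actFun (g : Kstd) (z : T100) : toL (actFun g z) = g.1 • toL z := rfl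

theorem toL_injective : Function.Injective toL := by
  intro z z' h
  exact Subtype.ext (congrArg (fun x : leechLattice => (x : GolayPt → ℤ)) h)

theorem actFun_one (z : T100) : actFun 1 z = z := by
  apply toL_injective
  rw [toL_actFun]
  exact one_smul _ _

theorem actFun_mul (g h : Kstd) (z : T100) : actFun (g * h) z = actFun g (actFun h z) := by
  apply toL_injective
  rw [toL_actFun, toL_actFun, toL_actFun]
  exact mul_smul _ _ _

/-- The action as permutations. -/
def actT (g : Kstd) : Equiv.Perm T100 where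
  toFun := actFun g
  invFun := actFun g⁻¹
  left_inv z := by rw [← actFun_mul, inv_mul_cancel, actFun_one]
  right_inv z := by rw [← actFun_mul, mul_inv_cancel, actFun_one]

theorem actT_dot (g : Kstd) (z z' : T100) :
    dotInt (actT g z).1 (actT g z').1 = dotInt z.1 z'.1 :=
  smul_dot g.1 (toL z) (toL z')

/-- The graph on the hundred: inner product 8. -/
def gamma : SimpleGraph T100 where
  Adj z z' := dotInt z.1 z'.1 = 8
  symm := ⟨fun z z' h => by
    show dotInt z'.1 z.1 = 8
    rw [dotInt_comm']; exact h⟩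
  loopless := ⟨fun z h => by
    rw [dotInt_self', norm_of_H100 z.2] at h
    norm_num at h⟩

instance : DecidableRel gamma.Adj := fun z z' => Int.decEq (dotInt z.1 z'.1) 8

theorem gamma_adj (z z' : T100) : gamma.Adj z z' ↔ dotInt z.1 z'.1 = 8 := Iff.rfl

/-- The base vertex. -/
def z44 : T100 := ⟨v44, v44_mem_H100⟩

theorem exists_act_z44 (z : T100) : ∃ g : Kstd, actT g z = z44 := by
  obtain ⟨g, h1, h2, h3⟩ := hsSet_trans hv_std hw_std hvw_std (toL_mem z)
  have hg : g ∈ Kstd := by
    rw [mem_Kstd]
    refine ⟨h1, ?_⟩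
    rw [U5_add_Wstd] at h2
    rw [Wstd, smul_sub', h1, h2]
  refine ⟨⟨g, hg⟩, ?_⟩
  apply toL_injective
  show g • toL z = toL z44
  rw [h3]
  rfl




open Finset MulAction
open Cfsg.Agent.S0394 (octF mem_octF mem_octads_iff)

theorem sum_m3 (j : GolayPt) : ∑ i, m3 j i = 20 := by
  revert j; decide

theorem dotInt_m3_m3 (j j' : GolayPt) : dotInt (m3 j) (m3 j') = if j = j' then 32 else 16 := by
  rw [dotInt_m3, sum_m3]
  unfold m3
  by_cases h : j = j'
  · rw [if_pos h, if_pos h]; norm_num
  · rw [if_neg h, if_neg h]; norm_num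

theorem sum_m3_on (j : GolayPt) (p : Finset GolayPt) :
    ∑ i ∈ p, m3 j i = (p.card : ℤ) - (if j ∈ p then 4 else 0) := by
  unfold m3
  have h : ∀ i ∈ p, (if i = j then (-3 : ℤ) else 1) = 1 - (if i = j then 4 else 0) := by
    intro i _
    split_ifs <;> norm_num
  rw [sum_congr rfl h, sum_sub_distrib, sum_const, sum_ite_eq']
  simp

theorem dotInt_shape_two (p : Finset GolayPt) (y : GolayPt → ℤ) :
    dotInt (shapeVec 2 p ∅) y = 2 * ∑ i ∈ p, y i := by
  unfold dotInt shapeVec
  have : ∀ i, (if i ∈ p then (if i ∈ (∅ : Finset GolayPt) then -(2 : ℤ) else 2) else 0) * y i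
      = if i ∈ p then 2 * y i else 0 := by
    intro i
    split_ifs with h1 h2
    · exact absurd h2 (notMem_empty i)
    · rfl
    · ring
  rw [sum_congr rfl (fun i _ => this i), sum_ite_mem, univ_inter, mul_sum]

theorem dotInt_shape_m3 {p : Finset GolayPt} (hp : p.card = 8) (j : GolayPt) :
    dotInt (shapeVec 2 p ∅) (m3 j) = if j ∈ p then 8 else 16 := by
  rw [dotInt_shape_two, sum_m3_on, hp]
  split_ifs <;> norm_num

/-- No two of the twenty-two have inner product 8. -/
theorem HD_filter_HD {y : GolayPt → ℤ} (hy : y ∈ HD) :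
    HD.filter (fun z => dotInt y z = 8) = ∅ := by
  apply filter_false_of_mem
  intro z hz
  unfold HD at hy hz
  obtain ⟨j, _, rfl⟩ := mem_image.mp hy
  obtain ⟨j', _, rfl⟩ := mem_image.mp hz
  rw [dotInt_m3_m3]
  split_ifs <;> norm_num

/-- Each of the seventy-seven has inner product 8 with exactly six of the twenty-two. -/
theorem HD_filter_HB {y : GolayPt → ℤ} (hy : y ∈ HB) :
    (HD.filter (fun z => dotInt y z = 8)).card = 6 := by
  unfold HB at hy
  obtain ⟨p, hp, rfl⟩ := mem_image.mp hy
  rw [mem_filter, mem_octF, mem_octads_iff] at hp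
  obtain ⟨⟨w, _, _, hp8⟩, hn, h0⟩ := hp
  have : HD.filter (fun z => dotInt (shapeVec 2 p ∅) z = 8)
      = ((p.erase none).erase (some 0)).image m3 := by
    ext z
    unfold HD
    simp only [mem_filter, mem_image, mem_erase, mem_univ, and_true]
    constructor
    · rintro ⟨⟨j, ⟨hj0, hjn⟩, rfl⟩, hd⟩
      rw [dotInt_shape_m3 hp8] at hd
      refine ⟨j, ⟨hj0, hjn, ?_⟩, rfl⟩
      by_contra hjp
      rw [if_neg hjp] at hd
      norm_num at hd
    · rintro ⟨j, ⟨hj0, hjn, hjp⟩, rfl⟩
      refine ⟨⟨j, ⟨hj0, hjn⟩, rfl⟩, ?_⟩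
      rw [dotInt_shape_m3 hp8, if_pos hjp]
  rw [this, card_image_of_injective _ m3_injective,
    card_erase_of_mem (mem_erase.mpr ⟨by decide, h0⟩), card_erase_of_mem hn, hp8]

theorem card_filter_T (P : (GolayPt → ℤ) → Prop) [DecidablePred P] :
    (univ.filter (fun z : T100 => P z.1)).card = (H100.filter P).card := by
  refine card_bij (fun z _ => z.1) ?_ ?_ ?_
  · intro z hz
    rw [mem_filter] at hz ⊢
    exact ⟨z.2, hz.2⟩
  · intro z _ z' _ h
    exact Subtype.ext h
  · intro y hy
    rw [mem_filter] at hy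
    exact ⟨⟨y, hy.1⟩, by simp [hy.2], rfl⟩

theorem card_T100 : Fintype.card T100 = 100 := by
  rw [Fintype.card_coe, card_H100]

/-- Number of neighbours of the base vertex. -/
theorem deg_z44 : (univ.filter (fun z : T100 => dotInt v44 z.1 = 8)).card = 22 := by
  rw [card_filter_T (fun z => dotInt v44 z = 8), H100_filter_eight, card_HD]

theorem cn_z44 (y : T100) :
    (univ.filter (fun z : T100 => dotInt v44 z.1 = 8 ∧ dotInt y.1 z.1 = 8)).card
      = (HD.filter (fun z => dotInt y.1 z = 8)).card := by
  rw [card_filter_T (fun z => dotInt v44 z = 8 ∧ dotInt y.1 z = 8), ← filter_filter,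
    H100_filter_eight]

theorem gamma_srg : gamma.IsSRGWith 100 22 0 6 := by
  refine ⟨card_T100, ?_, ?_, ?_⟩
  · intro z
    obtain ⟨g, hg⟩ := exists_act_z44 z
    rw [← SimpleGraph.card_neighborFinset_eq_degree, SimpleGraph.neighborFinset_eq_filter,
      ← deg_z44]
    apply card_equiv (actT g)
    intro z'
    simp only [mem_filter, mem_univ, true_and]
    rw [gamma_adj, ← actT_dot g z z', hg]
    rfl
  · intro z z' hadj
    obtain ⟨g, hg⟩ := exists_act_z44 z
    rw [← card_cn]
    have h1 : (cn gamma z z').card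
        = (univ.filter (fun u : T100 => dotInt v44 u.1 = 8 ∧ dotInt (actT g z').1 u.1 = 8)).card := by
      apply card_equiv (actT g)
      intro u
      simp only [mem_cn, mem_filter, mem_univ, true_and]
      rw [gamma_adj, gamma_adj, ← actT_dot g z u, ← actT_dot g z' u, hg]
      rfl
    rw [h1, cn_z44]
    have hy : (actT g z').1 ∈ HD := by
      rw [← H100_filter_eight, mem_filter]
      refine ⟨(actT g z').2, ?_⟩
      have := actT_dot g z z'
      rw [hg] at this
      rw [gamma_adj] at hadj
      rw [← hadj, ← this]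
      rfl
    rw [HD_filter_HD hy, card_empty]
  · intro z z' hne hnadj
    obtain ⟨g, hg⟩ := exists_act_z44 z
    rw [← card_cn]
    have h1 : (cn gamma z z').card
        = (univ.filter (fun u : T100 => dotInt v44 u.1 = 8 ∧ dotInt (actT g z').1 u.1 = 8)).card := by
      apply card_equiv (actT g)
      intro u
      simp only [mem_cn, mem_filter, mem_univ, true_and]
      rw [gamma_adj, gamma_adj, ← actT_dot g z u, ← actT_dot g z' u, hg]
      rfl
    rw [h1, cn_z44]
    have hy : (actT g z').1 ∈ HB := by
      rw [← H100_filter_sixteen, mem_filter]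
      refine ⟨(actT g z').2, ?_, ?_⟩
      · intro e
        have : actT g z' = z44 := Subtype.ext e
        rw [← hg] at this
        exact hne ((actT g).injective this).symm
      · intro e
        apply hnadj
        rw [gamma_adj, ← actT_dot g z z', hg]
        exact e
    exact HD_filter_HB hy




open Finset MulAction

/-- The action by graph automorphisms. -/
def autT (g : Kstd) : gamma ≃g gamma where
  toEquiv := actT g
  map_rel_iff' := by
    intro z z'
    rw [gamma_adj, gamma_adj]
    exact Eq.congr_left (actT_dot g z z')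

theorem autT_apply (g : Kstd) (z : T100) : autT g z = actFun g z := rfl

theorem autT_injective : Function.Injective autT := by
  intro g h hgh
  have key : ∀ z : T100, actFun g z = actFun h z := by
    intro z
    have := congrArg (fun f : gamma ≃g gamma => f z) hgh
    exact this
  have h1 : (h⁻¹ * g).1 = 1 := by
    have hm := (h⁻¹ * g).2
    rw [mem_Kstd] at hm
    apply hs_faithful hv_std hw_std hvw_std _ hm.1 hm.2
    intro x hx
    have hxT : (x : GolayPt → ℤ) ∈ H100 := (mem_hsSet_std x).mp hx
    have e1 : toL ⟨x.1, hxT⟩ = x := rfl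
    have e2 := congrArg toL (key ⟨x.1, hxT⟩)
    rw [toL_actFun, toL_actFun, e1] at e2
    show (h⁻¹ * g).1 • x = x
    rw [Subgroup.coe_mul, mul_smul, e2, Subgroup.coe_inv, inv_smul_smul]
  have h2 : h⁻¹ * g = 1 := Subtype.ext h1
  exact (inv_mul_eq_one.mp h2).symm

section Main

variable {α : Type*} [Fintype α] [DecidableEq α] {B : Set (Finset α)}

/-- The automorphism group of the point-block graph of an `S(3,6,22)` contains a simple subgroup
of order `44352000`. -/
theorem exists_HS (hα : Fintype.card α = 22) (hB : Cfsg.IsSteinerSystem 3 6 B) :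
    ∃ H : Subgroup (Cfsg.pointBlockGraph B ≃g Cfsg.pointBlockGraph B), Cfsg.IsHS H := by
  classical
  obtain ⟨e, he⟩ := Cfsg.Agent.S0410.result (card_Pt gamma_srg z44) hα
    (steiner_blocks gamma_srg z44) hB
  let ι : gamma ≃g Cfsg.pointBlockGraph B := (isoPB gamma_srg z44).trans (pbgCongr e he)
  let ρ : Kstd →* (Cfsg.pointBlockGraph B ≃g Cfsg.pointBlockGraph B) :=
    { toFun := fun g => ι.symm.trans ((autT g).trans ι)
      map_one' := by
        apply RelIso.ext
        intro x
        show ι (autT 1 (ι.symm x)) = x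
        rw [autT_apply, actFun_one, RelIso.apply_symm_apply]
      map_mul' := by
        intro g h
        apply RelIso.ext
        intro x
        show ι (autT (g * h) (ι.symm x)) = ι (autT g (ι.symm (ι (autT h (ι.symm x)))))
        rw [RelIso.symm_apply_apply, autT_apply, autT_apply, autT_apply, actFun_mul] }
  have hinj : Function.Injective ρ := by
    intro g h hgh
    apply autT_injective
    apply RelIso.ext
    intro z
    have := congrArg (fun f : Cfsg.pointBlockGraph B ≃g Cfsg.pointBlockGraph B => f (ι z)) hgh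
    have h2 : ι (autT g (ι.symm (ι z))) = ι (autT h (ι.symm (ι z))) := this
    rw [RelIso.symm_apply_apply] at h2
    exact ι.injective h2
  have φ : Kstd ≃* ρ.range := MonoidHom.ofInjective hinj
  haveI := hs_simple hv_std hw_std hvw_std
  refine ⟨ρ.range, φ.symm.isSimpleGroup, ?_⟩
  rw [← Nat.card_congr φ.toEquiv]
  exact hs_card hv_std hw_std hvw_std

end Main


end Cfsg.Agent.Helper27.HSGraph
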