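import Mathlib

set_option autoImplicit false
set_option linter.unusedSectionVars false

/-! A transitive group whose point stabiliser has exactly three orbits, of sizes `1 < k < l`: the orbital of the `k`-orbit is symmetric, and the orbital graph is strongly regular and admits the group. -/

namespace Cfsg.Agent.Helper27.Rank3


open MulAction Finset

variable (G : Type*) [Group G] {Ω : Type*} [MulAction G Ω]

/-- The orbital relation of the pair `(a, b)`. -/
def rel (a b x y : Ω) : Prop := ∃ g : G, g • a = x ∧ g • b = y

variable {G}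

theorem rel_smul {a b x y : Ω} (h : G) (hr : rel G a b x y) : rel G a b (h • x) (h • y) := by
  obtain ⟨g, rfl, rfl⟩ := hr
  exact ⟨h * g, mul_smul _ _ _, mul_smul _ _ _⟩

theorem rel_smul_iff {a b x y : Ω} (h : G) : rel G a b (h • x) (h • y) ↔ rel G a b x y := by
  constructor
  · intro hr
    have := rel_smul h⁻¹ hr
    rwa [inv_smul_smul, inv_smul_smul] at this
  · exact rel_smul h

theorem rel_base_iff {a b y : Ω} : rel G a b a y ↔ y ∈ orbit (stabilizer G a) b := by
  constructor
  · rintro ⟨g, hga, rfl⟩
    exact ⟨⟨g, hga⟩, rfl⟩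
  · rintro ⟨⟨g, hga⟩, rfl⟩
    exact ⟨g, hga, rfl⟩

theorem rel_self (a b : Ω) : rel G a b a b := ⟨1, one_smul _ _, one_smul _ _⟩

variable (G)

/-- The rank 3 hypothesis: the stabiliser of `a` has exactly the orbits `{a}`, the orbit of `b`
of size `k` and the orbit of `c` of size `l`, with `1 < k < l`. -/
structure Hyp [Fintype Ω] (a b c : Ω) (k l : ℕ) : Prop where
  trans : IsPretransitive G Ω
  hb : (orbit (stabilizer G a) b).ncard = k
  hc : (orbit (stabilizer G a) c).ncard = l
  card : Fintype.card Ω = 1 + k + l
  hk : 1 < k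
  hkl : k < l

variable {G}
variable [Fintype Ω] {a b c : Ω} {k l : ℕ}

theorem Hyp.not_mem_b (h : Hyp G a b c k l) : a ∉ orbit (stabilizer G a) b := by
  rintro ⟨⟨g, hga⟩, hgb⟩
  have hgb' : g • b = a := hgb
  have hba : b = a := by
    have : g • b = g • a := by rw [hgb', hga]
    exact smul_left_cancel g this
  have h1 : orbit (stabilizer G a) b = {a} := by
    ext y
    rw [hba]
    constructor
    · rintro ⟨⟨s, hs⟩, rfl⟩
      exact hs
    · intro hy
      rw [Set.mem_singleton_iff] at hy
      rw [hy]
      exact mem_orbit_self a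
  have := h.hb
  rw [h1, Set.ncard_singleton] at this
  have := h.hk
  omega

theorem Hyp.not_mem_c (h : Hyp G a b c k l) : a ∉ orbit (stabilizer G a) c := by
  rintro ⟨⟨g, hga⟩, hgc⟩
  have hgc' : g • c = a := hgc
  have hca : c = a := by
    have : g • c = g • a := by rw [hgc', hga]
    exact smul_left_cancel g this
  have h1 : orbit (stabilizer G a) c = {a} := by
    ext y
    rw [hca]
    constructor
    · rintro ⟨⟨s, hs⟩, rfl⟩
      exact hs
    · intro hy
      rw [Set.mem_singleton_iff] at hy
      rw [hy]
      exact mem_orbit_self a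
  have := h.hc
  rw [h1, Set.ncard_singleton] at this
  have := h.hk
  have := h.hkl
  omega

theorem Hyp.disjoint (h : Hyp G a b c k l) {y : Ω} (hyb : y ∈ orbit (stabilizer G a) b)
    (hyc : y ∈ orbit (stabilizer G a) c) : False := by
  have h1 : orbit (stabilizer G a) b = orbit (stabilizer G a) c := by
    rw [← orbit_eq_iff.mpr hyb, ← orbit_eq_iff.mpr hyc]
  have := h.hb
  rw [h1, h.hc] at this
  have := h.hkl
  omega

/-- Every point is `a`, in the orbit of `b`, or in the orbit of `c`. -/
theorem Hyp.cover (h : Hyp G a b c k l) (y : Ω) :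
    y = a ∨ y ∈ orbit (stabilizer G a) b ∨ y ∈ orbit (stabilizer G a) c := by
  classical
  by_contra hcon
  push Not at hcon
  obtain ⟨h1, h2, h3⟩ := hcon
  set Ob : Finset Ω := (orbit (stabilizer G a) b).toFinset with hOb
  set Oc : Finset Ω := (orbit (stabilizer G a) c).toFinset with hOc
  have cb : Ob.card = k := by rw [hOb, ← Set.ncard_eq_toFinset_card', h.hb]
  have cc : Oc.card = l := by rw [hOc, ← Set.ncard_eq_toFinset_card', h.hc]
  have hdis1 : Disjoint ({a} : Finset Ω) Ob := by
    rw [disjoint_singleton_left, hOb, Set.mem_toFinset]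
    exact h.not_mem_b
  have hdis2 : Disjoint ({a} ∪ Ob) Oc := by
    rw [disjoint_left]
    intro z hz hzc
    rw [hOc, Set.mem_toFinset] at hzc
    rcases mem_union.mp hz with hz | hz
    · rw [mem_singleton] at hz
      rw [hz] at hzc
      exact h.not_mem_c hzc
    · rw [hOb, Set.mem_toFinset] at hz
      exact h.disjoint hz hzc
  have hcard : (({a} ∪ Ob) ∪ Oc).card = 1 + k + l := by
    rw [card_union_of_disjoint hdis2, card_union_of_disjoint hdis1, card_singleton, cb, cc]
  have hy : y ∉ ({a} ∪ Ob) ∪ Oc := by
    simp only [mem_union, mem_singleton, hOb, hOc, Set.mem_toFinset]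
    tauto
  have hlt : (({a} ∪ Ob) ∪ Oc).card < Fintype.card Ω := by
    rw [← card_univ]
    apply card_lt_card
    rw [ssubset_iff_of_subset (subset_univ _)]
    exact ⟨y, mem_univ y, hy⟩
  rw [hcard, h.card] at hlt
  omega




open MulAction Finset

variable {G : Type*} [Group G] {Ω : Type*} [MulAction G Ω] [Fintype Ω] {a b c : Ω} {k l : ℕ}

/-- The number of out-neighbours of any point is `k`. -/
theorem Hyp.card_out (h : Hyp G a b c k l) (x : Ω) : {y | rel G a b x y}.ncard = k := by
  haveI := h.trans
  obtain ⟨g, rfl⟩ := exists_smul_eq G a x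
  have : {y | rel G a b (g • a) y} = (fun y => g • y) '' (orbit (stabilizer G a) b) := by
    ext y
    simp only [Set.mem_setOf_eq, Set.mem_image]
    constructor
    · intro hy
      refine ⟨g⁻¹ • y, ?_, smul_inv_smul g y⟩
      rw [← rel_base_iff]
      have := rel_smul g⁻¹ hy
      rwa [inv_smul_smul] at this
    · rintro ⟨z, hz, rfl⟩
      exact rel_smul g (rel_base_iff.mpr hz)
  rw [this, Set.ncard_image_of_injective _ (MulAction.injective g), h.hb]

/-- The number of in-neighbours does not depend on the point. -/
theorem Hyp.card_in (h : Hyp G a b c k l) (y : Ω) :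
    {x | rel G a b x y}.ncard = {x | rel G a b x a}.ncard := by
  haveI := h.trans
  obtain ⟨g, rfl⟩ := exists_smul_eq G a y
  have : {x | rel G a b x (g • a)} = (fun x => g • x) '' {x | rel G a b x a} := by
    ext x
    simp only [Set.mem_setOf_eq, Set.mem_image]
    constructor
    · intro hx
      refine ⟨g⁻¹ • x, ?_, smul_inv_smul g x⟩
      have := rel_smul g⁻¹ hx
      rwa [inv_smul_smul] at this
    · rintro ⟨z, hz, rfl⟩
      exact rel_smul g hz
  rw [this, Set.ncard_image_of_injective _ (MulAction.injective g)]

/-- Double counting: the number of in-neighbours of `a` is `k`. -/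
theorem Hyp.card_in_base (h : Hyp G a b c k l) : {x | rel G a b x a}.ncard = k := by
  classical
  have h1 : ∀ x : Ω, (univ.filter (fun y => rel G a b x y)).card = k := by
    intro x
    rw [← h.card_out x, Set.ncard_eq_toFinset_card']
    congr 1
    ext y
    simp
  have h2 : ∀ y : Ω, (univ.filter (fun x => rel G a b x y)).card = {x | rel G a b x a}.ncard := by
    intro y
    rw [← h.card_in y, Set.ncard_eq_toFinset_card']
    congr 1
    ext y
    simp
  have h3 : ∑ x : Ω, (univ.filter (fun y => rel G a b x y)).card
      = ∑ y : Ω, (univ.filter (fun x => rel G a b x y)).card := by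
    simp only [card_filter]
    exact sum_comm
  rw [sum_congr rfl (fun x _ => h1 x), sum_congr rfl (fun y _ => h2 y), sum_const, sum_const,
    smul_eq_mul, smul_eq_mul, card_univ] at h3
  have hpos : 0 < Fintype.card Ω := by rw [h.card]; omega
  exact (Nat.eq_of_mul_eq_mul_left hpos h3).symm

/-- The pair `(b, a)` lies in the orbital of `(a, b)`. -/
theorem Hyp.rel_swap (h : Hyp G a b c k l) : rel G a b b a := by
  classical
  set S : Set Ω := {x | rel G a b x a} with hS
  have hScard := h.card_in_base
  have haS : a ∉ S := by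
    intro ha
    exact h.not_mem_b (rel_base_iff.mp ha)
  have hinv : ∀ (s : G), s • a = a → ∀ x ∈ S, s • x ∈ S := by
    intro s hs x hx
    have := rel_smul s hx
    rwa [hs] at this
  -- `S` does not meet the orbit of `c`
  have hSc : ∀ x ∈ S, x ∉ orbit (stabilizer G a) c := by
    intro x hx hxc
    have hsub : orbit (stabilizer G a) c ⊆ S := by
      intro z hz
      rw [← orbit_eq_iff.mpr hxc] at hz
      obtain ⟨⟨s, hs⟩, rfl⟩ := hz
      exact hinv s hs x hx
    have := Set.ncard_le_ncard hsub (Set.toFinite S)
    rw [h.hc, hScard] at this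
    have := h.hkl
    omega
  have hSb : S ⊆ orbit (stabilizer G a) b := by
    intro x hx
    rcases h.cover x with rfl | hb | hc
    · exact absurd hx haS
    · exact hb
    · exact absurd hc (hSc x hx)
  have heq : S = orbit (stabilizer G a) b := by
    apply Set.eq_of_subset_of_ncard_le hSb _ (Set.toFinite _)
    rw [h.hb, hScard]
  have : b ∈ S := by rw [heq]; exact mem_orbit_self b
  exact this

theorem Hyp.rel_symm (h : Hyp G a b c k l) {x y : Ω} (hxy : rel G a b x y) : rel G a b y x := by
  obtain ⟨g, rfl, rfl⟩ := hxy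
  exact rel_smul g h.rel_swap

theorem Hyp.rel_irrefl (h : Hyp G a b c k l) (x : Ω) : ¬ rel G a b x x := by
  rintro ⟨g, h1, h2⟩
  have : b = a := smul_left_cancel g (by rw [h1, h2])
  apply h.not_mem_b
  rw [← this]
  exact mem_orbit_self b

/-- The orbital graph. -/
def graph (h : Hyp G a b c k l) : SimpleGraph Ω where
  Adj := rel G a b
  symm := ⟨fun _ _ hxy => h.rel_symm hxy⟩
  loopless := ⟨fun x hx => h.rel_irrefl x hx⟩

theorem graph_adj (h : Hyp G a b c k l) (x y : Ω) : (graph h).Adj x y ↔ rel G a b x y := Iff.rfl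

/-- The group acts on the orbital graph. -/
def graphAut (h : Hyp G a b c k l) (g : G) : graph h ≃g graph h where
  toEquiv := MulAction.toPerm g
  map_rel_iff' := by
    intro x y
    exact rel_smul_iff g

theorem graphAut_apply (h : Hyp G a b c k l) (g : G) (x : Ω) : graphAut h g x = g • x := rfl

theorem ncard_commonNeighbors_smul (h : Hyp G a b c k l) (g : G) (x y : Ω) :
    ((graph h).commonNeighbors (g • x) (g • y)).ncard = ((graph h).commonNeighbors x y).ncard := by
  have : (graph h).commonNeighbors (g • x) (g • y)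
      = (fun z => g • z) '' ((graph h).commonNeighbors x y) := by
    ext z
    simp only [SimpleGraph.mem_commonNeighbors, Set.mem_image, graph_adj]
    constructor
    · rintro ⟨h1, h2⟩
      refine ⟨g⁻¹ • z, ⟨?_, ?_⟩, smul_inv_smul g z⟩
      · have := rel_smul g⁻¹ h1
        rwa [inv_smul_smul] at this
      · have := rel_smul g⁻¹ h2
        rwa [inv_smul_smul] at this
    · rintro ⟨w, ⟨h1, h2⟩, rfl⟩
      exact ⟨rel_smul g h1, rel_smul g h2⟩
  rw [this, Set.ncard_image_of_injective _ (MulAction.injective g)]

/-- The orbital graph is strongly regular. -/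
theorem Hyp.isSRGWith (h : Hyp G a b c k l) [DecidableRel (graph h).Adj] :
    (graph h).IsSRGWith (1 + k + l) k ((graph h).commonNeighbors a b).ncard
      ((graph h).commonNeighbors a c).ncard := by
  classical
  haveI := h.trans
  refine ⟨h.card, ?_, ?_, ?_⟩
  · intro x
    have h1 := h.card_out x
    rw [Set.ncard_eq_toFinset_card'] at h1
    refine Eq.trans ?_ h1
    rw [SimpleGraph.degree]
    congr 1
    ext y
    simp [graph_adj]
  · intro x y hxy
    obtain ⟨g, rfl, rfl⟩ := hxy
    rw [← ncard_commonNeighbors_smul h g a b, Set.ncard_eq_toFinset_card',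
      Set.toFinset_card]
  · intro x y hne hnadj
    obtain ⟨g, rfl⟩ := exists_smul_eq G a x
    have hy' : g⁻¹ • y ∈ orbit (stabilizer G a) c := by
      rcases h.cover (g⁻¹ • y) with h1 | h1 | h1
      · exfalso
        apply hne
        rw [← h1, smul_inv_smul]
      · exfalso
        apply hnadj
        have := rel_smul g (rel_base_iff.mpr h1)
        rwa [smul_inv_smul] at this
      · exact h1
    obtain ⟨⟨s, hs⟩, hsc⟩ := hy'
    have hsc' : s • c = g⁻¹ • y := hsc
    have e1 : g • a = (g * s) • a := by rw [mul_smul, hs]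
    have e2 : y = (g * s) • c := by rw [mul_smul, hsc', smul_inv_smul]
    rw [e1, e2, ← ncard_commonNeighbors_smul h (g * s) a c, Set.ncard_eq_toFinset_card',
      Set.toFinset_card]


end Cfsg.Agent.Helper27.Rank3
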