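import Mathlib

set_option autoImplicit false
set_option linter.unusedSectionVars false

/-! Eigenvalues of the adjacency matrix of a strongly regular graph (valency or a root of the quadratic), their sum and sum of squares, and the integrality argument excluding the parameter sets `(100,22,7,4)`, `(100,22,14,2)`, `(100,22,21,0)`. -/

namespace Cfsg.Agent.Helper27.Rank3


open Matrix Finset

variable {V : Type*} [Fintype V] [DecidableEq V] (Γ : SimpleGraph V) [DecidableRel Γ.Adj]
variable {n k ℓ μ : ℕ}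

/-- The complement adjacency matrix. -/
theorem compl_adjMatrix_apply (i j : V) :
    Γᶜ.adjMatrix ℝ i j = (if i = j then 0 else 1) - Γ.adjMatrix ℝ i j := by
  simp only [SimpleGraph.adjMatrix_apply, SimpleGraph.compl_adj]
  by_cases hij : i = j
  · subst hij
    simp
  · by_cases ha : Γ.Adj i j
    · simp [hij, ha]
    · simp [hij, ha]

/-- Every eigenvalue of the adjacency matrix of a strongly regular graph is the valency or a
root of the quadratic. -/
theorem eigen_cases (h : Γ.IsSRGWith n k ℓ μ) (u : V → ℝ) (hu : u ≠ 0) (e : ℝ)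
    (hAu : Γ.adjMatrix ℝ *ᵥ u = e • u) :
    e = k ∨ e ^ 2 - ((ℓ : ℝ) - μ) * e - ((k : ℝ) - μ) = 0 := by
  set A := Γ.adjMatrix ℝ with hA
  have hA2 : (A ^ 2) *ᵥ u = (e ^ 2) • u := by
    rw [pow_two, ← Matrix.mulVec_mulVec, hAu, Matrix.mulVec_smul, hAu, smul_smul, pow_two]
  have hme : A ^ 2 = (k : ℝ) • (1 : Matrix V V ℝ) + (ℓ : ℝ) • A + (μ : ℝ) • Γᶜ.adjMatrix ℝ := by
    rw [hA, h.matrix_eq (α := ℝ)]
    simp only [Nat.cast_smul_eq_nsmul]
  -- entrywise identity
  have key : ∀ i, (e ^ 2 - ((ℓ : ℝ) - μ) * e - ((k : ℝ) - μ)) * u i = μ * ∑ j, u j := by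
    intro i
    have h1 := congrFun hA2 i
    rw [hme] at h1
    have hAi : ∑ j, A i j * u j = e * u i := by
      have := congrFun hAu i
      simpa [Matrix.mulVec, dotProduct] using this
    have h2 : (((k : ℝ) • (1 : Matrix V V ℝ) + (ℓ : ℝ) • A + (μ : ℝ) • Γᶜ.adjMatrix ℝ) *ᵥ u) i
        = k * u i + ℓ * (e * u i) + μ * (∑ j, u j - u i - e * u i) := by
      simp only [Matrix.mulVec, dotProduct, Matrix.add_apply, Matrix.smul_apply, smul_eq_mul,
        add_mul, sum_add_distrib]
      have s1 : ∑ j, (k : ℝ) * (1 : Matrix V V ℝ) i j * u j = k * u i := by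
        simp [Matrix.one_apply]
      have s2 : ∑ j, (ℓ : ℝ) * A i j * u j = ℓ * (e * u i) := by
        rw [← hAi, mul_sum]
        exact sum_congr rfl (fun j _ => by ring)
      have s3 : ∑ j, (μ : ℝ) * Γᶜ.adjMatrix ℝ i j * u j = μ * (∑ j, u j - u i - e * u i) := by
        rw [← hAi]
        have : ∀ j, (μ : ℝ) * Γᶜ.adjMatrix ℝ i j * u j
            = μ * (u j - (if i = j then u j else 0) - A i j * u j) := by
          intro j
          rw [compl_adjMatrix_apply]
          split_ifs <;> ring
        rw [sum_congr rfl (fun j _ => this j), ← mul_sum, sum_sub_distrib, sum_sub_distrib]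
        simp
      rw [s1, s2, s3]
    rw [h2] at h1
    simp only [Pi.smul_apply, smul_eq_mul] at h1
    linarith
  by_cases hq : e ^ 2 - ((ℓ : ℝ) - μ) * e - ((k : ℝ) - μ) = 0
  · exact Or.inr hq
  · left
    -- `u` is a constant vector
    set t : ℝ := μ * (∑ j, u j) / (e ^ 2 - ((ℓ : ℝ) - μ) * e - ((k : ℝ) - μ)) with ht
    have hut : ∀ i, u i = t := by
      intro i
      rw [ht, eq_div_iff hq, mul_comm]
      exact key i
    have ht0 : t ≠ 0 := by
      intro h0
      apply hu
      funext i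
      rw [hut i, h0]; rfl
    obtain ⟨i⟩ : Nonempty V := by
      by_contra hemp
      rw [not_nonempty_iff] at hemp
      exact hu (funext fun i => hemp.elim i)
    have h3 : (A *ᵥ u) i = k * t := by
      have : u = Function.const V t := funext hut
      rw [this]
      exact SimpleGraph.adjMatrix_mulVec_const_apply_of_regular h.regular
    have h4 := congrFun hAu i
    rw [h3] at h4
    simp only [Pi.smul_apply, smul_eq_mul, hut i] at h4
    have : ((k : ℝ) - e) * t = 0 := by linarith
    rcases mul_eq_zero.mp this with h5 | h5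
    · linarith
    · exact absurd h5 ht0




open Matrix Finset

variable {V : Type*} [Fintype V] [DecidableEq V] (Γ : SimpleGraph V) [DecidableRel Γ.Adj]
variable {n k ℓ μ : ℕ}

theorem hermitian_adj : (Γ.adjMatrix ℝ).IsHermitian := Γ.isHermitian_adjMatrix ℝ

/-- The eigenvalues of the adjacency matrix. -/
noncomputable def ev (j : V) : ℝ := (hermitian_adj Γ).eigenvalues j

theorem ev_cases (h : Γ.IsSRGWith n k ℓ μ) (j : V) :
    ev Γ j = k ∨ ev Γ j ^ 2 - ((ℓ : ℝ) - μ) * ev Γ j - ((k : ℝ) - μ) = 0 := by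
  have hA := hermitian_adj Γ
  apply eigen_cases Γ h (⇑(hA.eigenvectorBasis j)) _ _ (hA.mulVec_eigenvectorBasis j)
  exact (WithLp.ofLp_eq_zero 2).ne.2 (hA.eigenvectorBasis.orthonormal.ne_zero j)

theorem sum_ev : ∑ j, ev Γ j = 0 := by
  have hA := hermitian_adj Γ
  have := hA.trace_eq_sum_eigenvalues
  rw [SimpleGraph.trace_adjMatrix] at this
  rw [this]
  rfl

theorem sum_ev_sq (h : Γ.IsSRGWith n k ℓ μ) : ∑ j, ev Γ j ^ 2 = (n : ℝ) * k := by
  have hA := hermitian_adj Γ
  have h1 : (Γ.adjMatrix ℝ ^ 2).trace = ∑ j, ev Γ j ^ 2 := by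
    conv_lhs => rw [hA.spectral_theorem]
    rw [← map_pow, Unitary.conjStarAlgAut_apply, Matrix.trace_mul_cycle,
      Unitary.coe_star_mul_self, one_mul, Matrix.diagonal_pow, Matrix.trace_diagonal]
    rfl
  rw [← h1, pow_two, Matrix.trace]
  have : ∀ i, Matrix.diag (Γ.adjMatrix ℝ * Γ.adjMatrix ℝ) i = k := by
    intro i
    rw [Matrix.diag_apply, SimpleGraph.adjMatrix_mul_self_apply_self, h.regular i]
  rw [sum_congr rfl (fun i _ => this i), sum_const, card_univ, h.card]
  simp




open Matrix Finset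

variable {V : Type*} [Fintype V] [DecidableEq V] (Γ : SimpleGraph V) [DecidableRel Γ.Adj]
variable {ℓ μ : ℕ}

theorem sum_indicator (p : V → Prop) [DecidablePred p] (c : ℝ) :
    ∑ j, (if p j then c else 0) = c * (univ.filter p).card := by
  rw [← sum_filter, sum_const, nsmul_eq_mul, mul_comm]

theorem no_74 (h : Γ.IsSRGWith 100 22 7 4) : False := by
  classical
  have hc := ev_cases Γ h
  have s1 := sum_ev Γ
  have s2 := sum_ev_sq Γ h
  have hcase : ∀ j, ev Γ j = 22 ∨ ev Γ j = 6 ∨ ev Γ j = -3 := by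
    intro j
    rcases hc j with e | e
    · left; exact_mod_cast e
    · right
      have : (ev Γ j - 6) * (ev Γ j + 3) = 0 := by push_cast at e; nlinarith
      rcases mul_eq_zero.mp this with e' | e'
      · left; linarith
      · right; linarith
  -- multiplicity of 22
  have t1 : ∑ j, (ev Γ j - 6) * (ev Γ j + 3) = 400 := by
    have : ∀ j, (ev Γ j - 6) * (ev Γ j + 3) = ev Γ j ^ 2 - 3 * ev Γ j - 18 := by
      intro j; ring
    rw [sum_congr rfl (fun j _ => this j), sum_sub_distrib, sum_sub_distrib, ← mul_sum, s1, s2]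
    simp [h.card]
    norm_num
  have t2 : ∀ j, (ev Γ j - 6) * (ev Γ j + 3) = if ev Γ j = 22 then 400 else 0 := by
    intro j
    rcases hcase j with e | e | e
    · rw [if_pos e, e]; norm_num
    · rw [if_neg (by rw [e]; norm_num), e]; norm_num
    · rw [if_neg (by rw [e]; norm_num), e]; norm_num
  rw [sum_congr rfl (fun j _ => t2 j), sum_indicator] at t1
  have hm : ((univ.filter (fun j => ev Γ j = 22)).card : ℝ) = 1 := by linarith
  -- the trace
  have t3 : ∑ j, (ev Γ j + 3) = 300 := by
    rw [sum_add_distrib, s1]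
    simp [h.card]
    norm_num
  have t4 : ∀ j, ev Γ j + 3 = (if ev Γ j = 22 then 25 else 0) + (if ev Γ j = 6 then 9 else 0) := by
    intro j
    rcases hcase j with e | e | e
    · rw [if_pos e, if_neg (by rw [e]; norm_num), e]; norm_num
    · rw [if_neg (by rw [e]; norm_num), if_pos e, e]; norm_num
    · rw [if_neg (by rw [e]; norm_num), if_neg (by rw [e]; norm_num), e]; norm_num
  rw [sum_congr rfl (fun j _ => t4 j), sum_add_distrib, sum_indicator, sum_indicator, hm] at t3
  have : (9 : ℝ) * ((univ.filter (fun j => ev Γ j = 6)).card : ℝ) = 275 := by linarith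
  have h9 : 9 * (univ.filter (fun j => ev Γ j = 6)).card = 275 := by exact_mod_cast this
  omega

theorem no_210 (h : Γ.IsSRGWith 100 22 21 0) : False := by
  classical
  have hc := ev_cases Γ h
  have s1 := sum_ev Γ
  have hcase : ∀ j, ev Γ j = 22 ∨ ev Γ j = -1 := by
    intro j
    rcases hc j with e | e
    · left; exact_mod_cast e
    · have : (ev Γ j - 22) * (ev Γ j + 1) = 0 := by push_cast at e; nlinarith
      rcases mul_eq_zero.mp this with e' | e'
      · left; linarith
      · right; linarith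
  have t3 : ∑ j, (ev Γ j + 1) = 100 := by
    rw [sum_add_distrib, s1]
    simp [h.card]
  have t4 : ∀ j, ev Γ j + 1 = (if ev Γ j = 22 then 23 else 0) := by
    intro j
    rcases hcase j with e | e
    · rw [if_pos e, e]; norm_num
    · rw [if_neg (by rw [e]; norm_num), e]; norm_num
  rw [sum_congr rfl (fun j _ => t4 j), sum_indicator] at t3
  have h9 : 23 * (univ.filter (fun j => ev Γ j = 22)).card = 100 := by exact_mod_cast t3
  omega

theorem no_sq_6776 (t : ℤ) (ht : t * t = 6776) : False := by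
  have h1 : (t.natAbs : ℤ) * t.natAbs = 6776 := by rw [Int.natAbs_mul_self', ht]
  have h2 : t.natAbs * t.natAbs = 6776 := by exact_mod_cast h1
  rcases Nat.lt_or_ge t.natAbs 83 with h3 | h3
  · have : t.natAbs * t.natAbs ≤ 82 * 82 := Nat.mul_le_mul (by omega) (by omega)
    omega
  · have : 83 * 83 ≤ t.natAbs * t.natAbs := Nat.mul_le_mul h3 h3
    omega

theorem no_142 (h : Γ.IsSRGWith 100 22 14 2) : False := by
  classical
  have hc := ev_cases Γ h
  have s1 := sum_ev Γ
  have s2 := sum_ev_sq Γ h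
  set s : ℝ := Real.sqrt 56 with hs
  have hs2 : s * s = 56 := Real.mul_self_sqrt (by norm_num)
  have hspos : 0 < s := Real.sqrt_pos.mpr (by norm_num)
  have hcase : ∀ j, ev Γ j = 22 ∨ ev Γ j - 6 = s ∨ ev Γ j - 6 = -s := by
    intro j
    rcases hc j with e | e
    · left; exact_mod_cast e
    · right
      have : (ev Γ j - 6 - s) * (ev Γ j - 6 + s) = 0 := by push_cast at e; nlinarith
      rcases mul_eq_zero.mp this with e' | e'
      · left; linarith
      · right; linarith
  have hs16 : s ≠ 16 := by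
    intro e; rw [e] at hs2; norm_num at hs2
  have hs16' : -s ≠ 16 := by
    intro e; nlinarith
  -- multiplicity of 22
  have t1 : ∑ j, ((ev Γ j - 6) ^ 2 - 56) = 200 := by
    have : ∀ j, (ev Γ j - 6) ^ 2 - 56 = ev Γ j ^ 2 - 12 * ev Γ j - 20 := by
      intro j; ring
    rw [sum_congr rfl (fun j _ => this j), sum_sub_distrib, sum_sub_distrib, ← mul_sum, s1, s2]
    simp [h.card]
    norm_num
  have t2 : ∀ j, (ev Γ j - 6) ^ 2 - 56 = if ev Γ j = 22 then 200 else 0 := by
    intro j
    rcases hcase j with e | e | e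
    · rw [if_pos e, e]; norm_num
    · rw [if_neg (by intro e'; rw [e'] at e; apply hs16; linarith), e]; nlinarith
    · rw [if_neg (by intro e'; rw [e'] at e; apply hs16'; linarith), e]; nlinarith
  rw [sum_congr rfl (fun j _ => t2 j), sum_indicator] at t1
  have hm : ((univ.filter (fun j => ev Γ j = 22)).card : ℝ) = 1 := by linarith
  have t3 : ∑ j, (ev Γ j - 6) = -600 := by
    rw [sum_sub_distrib, s1]
    simp [h.card]
    norm_num
  have t4 : ∀ j, ev Γ j - 6 = (if ev Γ j = 22 then 16 else 0)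
      + ((if ev Γ j - 6 = s then s else 0) - (if ev Γ j - 6 = -s then s else 0)) := by
    intro j
    rcases hcase j with e | e | e
    · rw [if_pos e, if_neg (by rw [e]; intro e'; apply hs16; linarith),
        if_neg (by rw [e]; intro e'; apply hs16'; linarith), e]; norm_num
    · rw [if_neg (by intro e'; rw [e'] at e; apply hs16; linarith), if_pos e,
        if_neg (by rw [e]; intro e'; linarith), e]; ring
    · rw [if_neg (by intro e'; rw [e'] at e; apply hs16'; linarith),
        if_neg (by rw [e]; intro e'; linarith), if_pos e, e]; ring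
  rw [sum_congr rfl (fun j _ => t4 j), sum_add_distrib, sum_sub_distrib, sum_indicator,
    sum_indicator, sum_indicator, hm] at t3
  set f := (univ.filter (fun j => ev Γ j - 6 = s)).card with hf
  set g := (univ.filter (fun j => ev Γ j - 6 = -s)).card with hg
  have h5 : s * ((f : ℝ) - g) = -616 := by linarith
  have h6 : ((f : ℝ) - g) * ((f : ℝ) - g) = 6776 := by
    have : (s * ((f : ℝ) - g)) * (s * ((f : ℝ) - g)) = 616 * 616 := by rw [h5]; norm_num
    nlinarith
  apply no_sq_6776 ((f : ℤ) - g)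
  have : (((f : ℤ) - g : ℤ) : ℝ) * (((f : ℤ) - g : ℤ) : ℝ) = 6776 := by
    push_cast; exact h6
  exact_mod_cast this

/-- A strongly regular graph on 100 vertices of valency 22 has `λ = 0`, `μ = 6`. -/
theorem srg_100_22 (h : Γ.IsSRGWith 100 22 ℓ μ) (hℓ : ℓ ≤ 21) : ℓ = 0 ∧ μ = 6 := by
  have hp := SimpleGraph.IsSRGWith.param_eq Γ h (by norm_num)
  have hcases : (ℓ = 0 ∧ μ = 6) ∨ (ℓ = 7 ∧ μ = 4) ∨ (ℓ = 14 ∧ μ = 2) ∨ (ℓ = 21 ∧ μ = 0) := by
    omega
  rcases hcases with hh | ⟨rfl, rfl⟩ | ⟨rfl, rfl⟩ | ⟨rfl, rfl⟩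
  · exact hh
  · exact (no_74 Γ h).elim
  · exact (no_142 Γ h).elim
  · exact (no_210 Γ h).elim


end Cfsg.Agent.Helper27.Rank3
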