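import Mathlib
import Cfsg.Agent.Lib.Helper27.Rank3Graph
import Cfsg.Agent.Lib.Helper27.SrgSpectral
import Cfsg.Agent.Lib.Helper27.HSGraphLeech
import Cfsg.Agent.Lib.Helper27.HSGraphAut
import Cfsg.Prelude.Def_Spor_Conway
import Cfsg.Prelude.Def_Spor_Mathieu
import Cfsg.Agent.S0378
import Cfsg.Agent.S0430

set_option autoImplicit false
set_option linter.unusedSectionVars false

/-! Recognition of the Higman-Sims group from its rank 3 action on 100 points: the group of the definitions is isomorphic to the standard joint stabiliser, two subgroups of index two one of which is simple coincide, and the main theorem. -/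

namespace Cfsg.Agent.Helper27.HSRecog


open Cfsg Cfsg.Agent.Helper27 Cfsg.Agent.Helper27.HSGraph MulAction

/-- The partner of `leechV` in a pair of norm-48 vectors with the same stabiliser as
`(leechV, leechU')`. -/
def wHS : leechLattice := -(Spor.leechV + Spor.leechU')

theorem norm_leechV : sqNorm (Spor.leechV : GolayPt → ℤ) = 48 := by
  show sqNorm Spor.vecV = 48
  decide

theorem norm_leechU' : sqNorm (Spor.leechU' : GolayPt → ℤ) = 32 := by
  show sqNorm Spor.vecU' = 32
  decide

theorem dot_VU' : dotInt (Spor.leechV : GolayPt → ℤ) (Spor.leechU' : GolayPt → ℤ) = -16 := by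
  show dotInt Spor.vecV Spor.vecU' = -16
  decide

theorem norm_wHS : sqNorm (wHS : GolayPt → ℤ) = 48 := by
  show sqNorm (-((Spor.leechV : GolayPt → ℤ) + (Spor.leechU' : GolayPt → ℤ))) = 48
  have : sqNorm (-((Spor.leechV : GolayPt → ℤ) + (Spor.leechU' : GolayPt → ℤ)))
      = sqNorm ((Spor.leechV : GolayPt → ℤ) + (Spor.leechU' : GolayPt → ℤ)) := by
    unfold sqNorm
    apply Finset.sum_congr rfl
    intro i _
    simp only [Pi.neg_apply, Pi.add_apply]
    ring
  rw [this, sqNorm_add, norm_leechV, norm_leechU', dot_VU']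
  norm_num

theorem dot_V_wHS : dotInt (Spor.leechV : GolayPt → ℤ) (wHS : GolayPt → ℤ) = -32 := by
  show dotInt (Spor.leechV : GolayPt → ℤ)
    (-((Spor.leechV : GolayPt → ℤ) + (Spor.leechU' : GolayPt → ℤ))) = -32
  have : dotInt (Spor.leechV : GolayPt → ℤ)
      (-((Spor.leechV : GolayPt → ℤ) + (Spor.leechU' : GolayPt → ℤ)))
      = -(sqNorm (Spor.leechV : GolayPt → ℤ)
        + dotInt (Spor.leechV : GolayPt → ℤ) (Spor.leechU' : GolayPt → ℤ)) := by
    unfold dotInt sqNorm
    rw [← Finset.sum_add_distrib, ← Finset.sum_neg_distrib]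
    apply Finset.sum_congr rfl
    intro i _
    simp only [Pi.neg_apply, Pi.add_apply]
    ring
  rw [this, norm_leechV, dot_VU']
  norm_num

/-- The subgroup `Spor.HS` consists of the elements of `Co0` fixing `leechV` and `wHS`. -/
theorem mem_HS_iff (g : Co0) :
    (g : Equiv.Perm leechLattice) ∈ Spor.HS ↔
      g ∈ stabilizer Co0 Spor.leechV ⊓ stabilizer Co0 wHS := by
  rw [Subgroup.mem_inf, mem_stabilizer_iff, mem_stabilizer_iff]
  unfold Spor.HS Spor.Co3
  rw [Subgroup.mem_inf, Subgroup.mem_inf, mem_stabilizer_iff, mem_stabilizer_iff]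
  have hsm : ∀ x : leechLattice, g • x = (g : Equiv.Perm leechLattice) x := fun x => rfl
  constructor
  · rintro ⟨⟨_, h1⟩, h2⟩
    have h1' : g • Spor.leechV = Spor.leechV := h1
    have h2' : g • Spor.leechU' = Spor.leechU' := h2
    refine ⟨h1', ?_⟩
    rw [wHS, smul_neg', smul_add', h1', h2']
  · rintro ⟨h1, h2⟩
    refine ⟨⟨g.2, h1⟩, ?_⟩
    show g • Spor.leechU' = Spor.leechU'
    have h3 : Spor.leechU' = -wHS - Spor.leechV := by
      rw [wHS]; abel
    rw [h3, smul_sub', smul_neg', h1, h2]

/-- `Spor.HS` is isomorphic to the joint stabiliser of `leechV` and `wHS` in `Co0`. -/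
noncomputable def equivStab :
    ↥Spor.HS ≃* ↥(stabilizer Co0 Spor.leechV ⊓ stabilizer Co0 wHS) where
  toFun g := ⟨⟨g.1, by
      have := g.2
      unfold Spor.HS Spor.Co3 at this
      exact this.1.1⟩, by
      rw [← mem_HS_iff]; exact g.2⟩
  invFun g := ⟨g.1.1, (mem_HS_iff g.1).mpr g.2⟩
  left_inv g := rfl
  right_inv g := rfl
  map_mul' g h := rfl

/-- The joint stabiliser of any norm-48 pair with inner product `-32` is isomorphic to the
standard one. -/
theorem nonempty_equiv_Kstd {v w : leechLattice} (hv : sqNorm (v : GolayPt → ℤ) = 48)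
    (hw : sqNorm (w : GolayPt → ℤ) = 48)
    (hvw : dotInt (v : GolayPt → ℤ) (w : GolayPt → ℤ) = -32) :
    Nonempty (↥(stabilizer Co0 v ⊓ stabilizer Co0 w) ≃* ↥Kstd) := by
  obtain ⟨g, h1, h2⟩ := exists_std_pair hv hw hvw
  have h3 : g • w = Wstd := by
    have : w = (v + w) - v := by abel
    rw [this, smul_sub', h1, h2, Wstd]
  have hinj : Function.Injective (MulAut.conj g).toMonoidHom := MulEquiv.injective _
  have : Kstd = (stabilizer Co0 v ⊓ stabilizer Co0 w).map (MulAut.conj g).toMonoidHom := by
    rw [Subgroup.map_inf _ _ _ hinj, ← stabilizer_smul_eq_stabilizer_map_conj,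
      ← stabilizer_smul_eq_stabilizer_map_conj, h1, h3]
  rw [this]
  exact ⟨Subgroup.equivMapOfInjective _ _ hinj⟩

theorem nonempty_HS_equiv_Kstd : Nonempty (↥Spor.HS ≃* ↥Kstd) := by
  obtain ⟨e⟩ := nonempty_equiv_Kstd norm_leechV norm_wHS dot_V_wHS
  exact ⟨equivStab.trans e⟩




open Cfsg Cfsg.Agent.Helper27 Cfsg.Agent.Helper27.HSGraph MulAction

/-- The order of `Spor.M22`. -/
theorem card_M22' : Nat.card ↥Spor.M22 = 443520 := by
  rw [← Cfsg.Agent.S0378.result (none : GolayPt) (some 0) (by decide)]
  apply Nat.card_congr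
  refine
    { toFun := fun g => ⟨⟨g.1, ?_⟩, ?_⟩
      invFun := fun g => ⟨g.1.1, ?_⟩
      left_inv := fun g => rfl
      right_inv := fun g => rfl }
  · have := g.2
    unfold Spor.M22 Spor.M23 at this
    exact this.1.1
  · have := g.2
    unfold Spor.M22 Spor.M23 at this
    rw [Subgroup.mem_inf, mem_stabilizer_iff, mem_stabilizer_iff]
    exact ⟨this.1.2, this.2⟩
  · have := g.2
    rw [Subgroup.mem_inf, mem_stabilizer_iff, mem_stabilizer_iff] at this
    unfold Spor.M22 Spor.M23
    exact ⟨⟨g.1.2, this.1⟩, this.2⟩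

/-- Two subgroups of index two, one of them simple of order more than two, coincide. -/
theorem eq_of_index_two {A : Type*} [Group A] [Finite A] (H K : Subgroup A)
    (hH : Nat.card A = 2 * Nat.card H) (hK : Nat.card A = 2 * Nat.card K)
    (hs : IsSimpleGroup K) (h2 : 2 < Nat.card K) : H = K := by
  have hidx : H.index = 2 := by
    have := H.index_mul_card
    rw [hH] at this
    have hpos : 0 < Nat.card H := Nat.card_pos
    exact Nat.eq_of_mul_eq_mul_right hpos this
  haveI : H.Normal := Subgroup.normal_of_index_eq_two hidx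
  haveI : (H.subgroupOf K).Normal := inferInstance
  have hN : (H.subgroupOf K).Normal := inferInstance
  rcases hN.eq_bot_or_eq_top with hb | ht
  · exfalso
    let f : K →* A ⧸ H := (QuotientGroup.mk' H).comp K.subtype
    have hker : f.ker = H.subgroupOf K := by
      ext x
      rw [MonoidHom.mem_ker, Subgroup.mem_subgroupOf]
      show (QuotientGroup.mk' H) (x : A) = 1 ↔ _
      rw [QuotientGroup.mk'_apply, QuotientGroup.eq_one_iff]
    have hinj : Function.Injective f := by
      rw [← MonoidHom.ker_eq_bot_iff, hker, hb]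
    have := Nat.card_le_card_of_injective f hinj
    have hq : Nat.card (A ⧸ H) = 2 := by
      rw [← Subgroup.index_eq_card]; exact hidx
    omega
  · rw [Subgroup.subgroupOf_eq_top] at ht
    have hcard : Nat.card H = Nat.card K := by omega
    exact (Subgroup.eq_of_le_of_card_ge ht (by omega)).symm




open Cfsg Cfsg.Agent.Helper27 Cfsg.Agent.Helper27.HSGraph MulAction

/-- Automorphism groups of isomorphic graphs are equinumerous. -/
theorem card_aut_congr {V W : Type*} {Γ : SimpleGraph V} {Γ' : SimpleGraph W} (κ : Γ ≃g Γ') :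
    Nat.card (Γ ≃g Γ) = Nat.card (Γ' ≃g Γ') := by
  apply Nat.card_congr
  exact
    { toFun := fun φ => κ.symm.trans (φ.trans κ)
      invFun := fun ψ => κ.trans (ψ.trans κ.symm)
      left_inv := fun φ => by
        apply RelIso.ext
        intro x
        simp
      right_inv := fun ψ => by
        apply RelIso.ext
        intro x
        simp }

/-- Recognition of the Higman–Sims group by its rank 3 action on 100 points. -/
theorem main {Ω : Type*} [Fintype Ω] [DecidableEq Ω] (hΩ : Fintype.card Ω = 100)
    (G : Subgroup (Equiv.Perm Ω)) [MulAction.IsPretransitive G Ω] (a : Ω)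
    (e : MulAction.stabilizer G a ≃* Spor.M22) (b c : Ω)
    (hb : (MulAction.orbit (MulAction.stabilizer G a) b).ncard = 22)
    (hc : (MulAction.orbit (MulAction.stabilizer G a) c).ncard = 77) : Spor.IsoHS G := by
  classical
  have hyp : Rank3.Hyp G a b c 22 77 :=
    ⟨inferInstance, hb, hc, by rw [hΩ], by norm_num, by norm_num⟩
  set Γ := Rank3.graph hyp with hΓ
  have hsrg0 : Γ.IsSRGWith 100 22 (Γ.commonNeighbors a b).ncard (Γ.commonNeighbors a c).ncard :=
    hyp.isSRGWith
  have hedge : Γ.Adj a b := Rank3.rel_self a b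
  have hlam : (Γ.commonNeighbors a b).ncard ≤ 21 := by
    have h1 := hsrg0.of_adj a b hedge
    have h2 := SimpleGraph.Adj.card_commonNeighbors_lt_degree hedge
    rw [hsrg0.regular a] at h2
    omega
  obtain ⟨h0, h6⟩ := Rank3.srg_100_22 Γ hsrg0 hlam
  have hsrg : Γ.IsSRGWith 100 22 0 6 := by
    have := hsrg0
    rw [h0, h6] at this
    exact this
  obtain ⟨ι⟩ := Cfsg.Agent.S0430.result gamma_srg hsrg
  -- the order of the automorphism group
  have hcardA : Nat.card (Γ ≃g Γ) = 88704000 := by
    rw [card_aut_congr (isoPB hsrg a)]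
    exact card_aut_pbg (card_Pt hsrg a) (steiner_blocks hsrg a)
  haveI : Finite (Γ ≃g Γ) := Nat.finite_of_card_ne_zero (by rw [hcardA]; norm_num)
  -- the two embeddings
  let ρ : Kstd →* (Γ ≃g Γ) :=
    { toFun := fun g => ι.symm.trans ((autT g).trans ι)
      map_one' := by
        apply RelIso.ext
        intro x
        show ι (autT 1 (ι.symm x)) = x
        rw [autT_apply, actFun_one, RelIso.apply_symm_apply]
      map_mul' := by
        intro g h
        apply RelIso.ext
        intro x
        show ι (autT (g * h) (ι.symm x)) = ι (autT g (ι.symm (ι (autT h (ι.symm x)))))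
        rw [RelIso.symm_apply_apply, autT_apply, autT_apply, autT_apply, actFun_mul] }
  have hρinj : Function.Injective ρ := by
    intro g h hgh
    apply autT_injective
    apply RelIso.ext
    intro z
    have := congrArg (fun f : Γ ≃g Γ => f (ι z)) hgh
    have h2 : ι (autT g (ι.symm (ι z))) = ι (autT h (ι.symm (ι z))) := this
    rw [RelIso.symm_apply_apply] at h2
    exact ι.injective h2
  let φ : G →* (Γ ≃g Γ) :=
    { toFun := fun g => Rank3.graphAut hyp g
      map_one' := by
        apply RelIso.ext
        intro x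
        rw [Rank3.graphAut_apply, one_smul]
        rfl
      map_mul' := by
        intro g h
        apply RelIso.ext
        intro x
        show (g * h) • x = g • (h • x)
        rw [mul_smul] }
  have hφinj : Function.Injective φ := by
    intro g h hgh
    apply Subtype.ext
    apply Equiv.ext
    intro x
    have := congrArg (fun f : Γ ≃g Γ => f x) hgh
    exact this
  -- orders
  have hcardK : Nat.card ρ.range = 44352000 := by
    rw [← Nat.card_congr (MonoidHom.ofInjective hρinj).toEquiv]
    exact hs_card hv_std hw_std hvw_std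
  have hcardG : Nat.card G = 44352000 := by
    have h1 := MulAction.index_stabilizer_of_transitive (G := G) a
    have h2 := Subgroup.index_mul_card (MulAction.stabilizer G a)
    have h3 : Nat.card (MulAction.stabilizer G a) = 443520 := by
      rw [Nat.card_congr e.toEquiv]; exact card_M22'
    rw [h1, Nat.card_eq_fintype_card, hΩ, h3] at h2
    omega
  have hcardφ : Nat.card φ.range = 44352000 := by
    rw [← Nat.card_congr (MonoidHom.ofInjective hφinj).toEquiv]
    exact hcardG
  haveI hsimpK : IsSimpleGroup Kstd := hs_simple hv_std hw_std hvw_std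
  have hsimp : IsSimpleGroup ρ.range := (MonoidHom.ofInjective hρinj).symm.isSimpleGroup
  have heq : φ.range = ρ.range := by
    apply eq_of_index_two
    · rw [hcardA, hcardφ]
    · rw [hcardA, hcardK]
    · exact hsimp
    · rw [hcardK]; norm_num
  obtain ⟨ε⟩ := nonempty_HS_equiv_Kstd
  exact ⟨(MonoidHom.ofInjective hφinj).trans ((MulEquiv.subgroupCongr heq).trans
    ((MonoidHom.ofInjective hρinj).symm.trans ε.symm))⟩


end Cfsg.Agent.Helper27.HSRecog
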