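import Mathlib
import Cfsg.Prelude.Def_JComponents
import Cfsg.Agent.Lib.Helper27.KVDefs

/-!
# KS12c (helper27): definitions for S2953' / S2954' (`Good`, `CompData`, `Amalgam`).  Paper proof: `plans/KS12c_notes.md`.
-/

set_option autoImplicit false
set_option linter.unusedVariables false
set_option linter.unusedSectionVars false

namespace Cfsg.Agent.Helper27.KV

open Cfsg

universe u

variable {G : Type u} [Group G]

/-- certificate: `K ∈ jComponentsOutside M T` for some `M ≥ N_G(J(S))` with `T ∈ 𝒯*(M)` -/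
def Good (T K : Subgroup G) : Prop :=
  ∃ (S : Sylow 2 G) (M : Subgroup G),
    Subgroup.normalizer (thompsonSubgroupOf 2 (S : Subgroup G) : Set G) ≤ M ∧
      T ∈ maxStraddlingTwoSubgroups M ∧ K ∈ jComponentsOutside M T

/-- the statement of S2858 for groups in `Type u` -/
def Amalgam : Prop :=
  ∀ {H : Type u} [Group H] (P₁ P₂ : Subgroup H) [Finite ↥P₁] [Finite ↥P₂] (hgen : P₁ ⊔ P₂ = ⊤)
    (T : Subgroup H) (hT : T = P₁ ⊓ P₂)
    (h₁ : ∀ P ∈ ({P₁, P₂} : Set (Subgroup H)),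
      P ⊓ Subgroup.centralizer (Cfsg.pCoreOf 2 P : Set H) ≤ Cfsg.pCoreOf 2 P)
    (h₂ : ∀ P ∈ ({P₁, P₂} : Set (Subgroup H)), ∃ S : Sylow 2 ↥P, (S : Subgroup ↥P) = T.subgroupOf P)
    (h₃ : ∀ N : Subgroup H, N.Normal → N ≤ T → N = ⊥)
    (h₄ : ∀ P ∈ ({P₁, P₂} : Set (Subgroup H)), Nonempty (↥P ⧸ Cfsg.pCore 2 ↥P ≃* Equiv.Perm (Fin 3)))
    (h₅ : ∀ P ∈ ({P₁, P₂} : Set (Subgroup H)),
      ¬ P ≤ Subgroup.centralizer (Cfsg.omegaOne 2 (T ⊓ Subgroup.centralizer (T : Set H)) : Set H)),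
    (Nonempty (↥P₁ ≃* Equiv.Perm (Fin 4)) ∧ Nonempty (↥P₂ ≃* Equiv.Perm (Fin 4))) ∨
      (Nonempty (↥P₁ ≃* Multiplicative (ZMod 2) × Equiv.Perm (Fin 4)) ∧
        Nonempty (↥P₂ ≃* Multiplicative (ZMod 2) × Equiv.Perm (Fin 4)))

/-- what S2953' knows about a component `K`, `P = K ⊔ T` and the maximal 2-local `L` over `P` -/
structure CompData (T K L : Subgroup G) : Prop where
  comp : IsJComponent T K
  hTN : T ≤ Subgroup.normalizer (K : Set G)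
  hLT : L ∈ jOvergroups T
  hmax : IsMaximalTwoLocal L
  hPL : K ⊔ T ≤ L
  huniq : ∀ L' : Subgroup G, IsMaximalTwoLocal L' → K ⊔ T ≤ L' → L' = L
  hcent : Subgroup.centralizer (pCoreOf 2 (K ⊔ T) : Set G) ≤ pCoreOf 2 (K ⊔ T)
  hsyl : IsSylowTwoIn T (K ⊔ T)
  h6 : (pCoreOf 2 (K ⊔ T)).relIndex (K ⊔ T) = 6
  hnab : ¬ ⁅K ⊔ T, K ⊔ T⁆ ≤ pCoreOf 2 (K ⊔ T)
  homg : ⁅omegaCenterOf T, K ⊔ T⁆ ≠ ⊥

end Cfsg.Agent.Helper27.KV
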