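import Mathlib
import Cfsg.Prelude.Def_OddOrder
import Cfsg.Prelude.Def_OddOrderLocal
import Cfsg.Agent.Lib.Helper7.TypeP
import Cfsg.Agent.Lib.Helper7.Signalizer
import Cfsg.Agent.Lib.Helper22.BG13A
import Cfsg.Agent.Lib.Helper19.BG16B

set_option autoImplicit false
set_option linter.unusedVariables false
set_option linter.unusedSectionVars false

namespace Cfsg.Agent.Helper27.BGTy

open Cfsg Subgroup

/-- the frozen statement of S1350 (for all arguments) -/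
def H1350 (G : Type*) [Group G] [Finite G] : Prop :=
  ∀ (M : Subgroup G) (hM : IsCoatom M),
    Cfsg.IsPiHallOf (Cfsg.sigma M) (Cfsg.sigmaCore M) M ∧ Cfsg.IsPiHall (Cfsg.sigma M) (Cfsg.sigmaCore M) ∧
      ∀ N : Subgroup G, M ≤ Subgroup.normalizer (N : Set G) → Cfsg.IsPiHallOf (Cfsg.sigma M) N M →
        N = Cfsg.sigmaCore M

/-- the frozen statement of S1351 (for all arguments) -/
def H1351 (G : Type*) [Group G] [Finite G] : Prop :=
  ∀ (M : Subgroup G) (hM : IsCoatom M),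
    (∃ K : Subgroup G, Cfsg.IsPiHallOf (Cfsg.kappa M) K M) ∧
      ∀ K : Subgroup G, Cfsg.IsPiHallOf (Cfsg.kappa M) K M → IsCyclic K

/-- the frozen statement of S1352 (for all arguments) -/
def H1352 (G : Type*) [Group G] [Finite G] : Prop :=
  ∀ (M : Subgroup G) (hM : IsCoatom M) (K : Subgroup G)
    (hKc : IsCyclic K) (hK : Cfsg.IsPiHallOf (Cfsg.kappa M) K M),
    (∃ U : Subgroup G, Cfsg.IsSigmaDecomposition M K U) ∧
      ∀ U : Subgroup G, Cfsg.IsSigmaDecomposition M K U → M ≤ Subgroup.normalizer ((U ⊔ Cfsg.sigmaCore M : Subgroup G) : Set G)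

/-- the frozen statement of S1353 (for all arguments) -/
def H1353 (G : Type*) [Group G] [Finite G] : Prop :=
  ∀ (M : Subgroup G) (hM : IsCoatom M) (K U : Subgroup G) (hKU : Cfsg.IsSigmaDecomposition M K U),
    ∀ k ∈ K, k ≠ 1 → U ⊓ Subgroup.centralizer ({k} : Set G) = ⊥

/-- the frozen statement of S1354 (for all arguments) -/
def H1354 (G : Type*) [Group G] [Finite G] : Prop :=
  ∀ (M : Subgroup G) (hM : IsCoatom M) (K : Subgroup G)
    (hKc : IsCyclic K) (hK : Cfsg.IsPiHallOf (Cfsg.kappa M) K M),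
    Cfsg.sigmaCore M ⊓ Subgroup.centralizer (K : Set G) ≠ ⊥ ∧
      (K ≠ ⊥ → ∀ k ∈ K, k ≠ 1 →
        M ⊓ Subgroup.centralizer ({k} : Set G) = K ⊔ (Cfsg.sigmaCore M ⊓ Subgroup.centralizer (K : Set G)))

/-- the frozen statement of S1355 (for all arguments) -/
def H1355 (G : Type*) [Group G] [Finite G] : Prop :=
  ∀ (M : Subgroup G) (hM : IsCoatom M),
    Cfsg.fittingHallOf M ≠ ⊥ ∧ Cfsg.fittingHallOf M ≤ Cfsg.sigmaCore M ∧ Cfsg.sigmaCore M ≤ ⁅M, M⁆ ∧ ⁅M, M⁆ < M ∧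
      Group.IsNilpotent ↥((commutator ↥M).map (QuotientGroup.mk' (Cfsg.fittingHall ↥M)))

/-- the frozen statement of S1356 (for all arguments) -/
def H1356 (G : Type*) [Group G] [Finite G] : Prop :=
  ∀ (M : Subgroup G) (hM : IsCoatom M),
    ⁅⁅M, M⁆, ⁅M, M⁆⁆ ≤ Cfsg.fittingOf M ∧
      Cfsg.fittingOf M = (M ⊓ Subgroup.centralizer (Cfsg.fittingHallOf M : Set G)) ⊔ Cfsg.fittingHallOf M ∧
      ((Cfsg.kappa M).Nonempty → Cfsg.fittingOf M ≤ ⁅M, M⁆)

/-- the frozen statement of S1357 (for all arguments) -/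
def H1357 (G : Type*) [Group G] [Finite G] : Prop :=
  ∀ (M : Subgroup G) (hM : IsCoatom M) (K U : Subgroup G) (hKU : Cfsg.IsSigmaDecomposition M K U) (hne : Cfsg.fittingHallOf M ≠ Cfsg.sigmaCore M),
    U = ⊥ ∧ Cfsg.IsTISubset (Cfsg.fittingOf M : Set G) ∧ (Nat.card K).Prime

/-- the frozen statement of S1358 (for all arguments) -/
def H1358 (G : Type*) [Group G] [Finite G] : Prop :=
  ∀ (M : Subgroup G) (hM : IsCoatom M) (K U : Subgroup G) (hKU : Cfsg.IsSigmaDecomposition M K U),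
    ∀ (p : ℕ), p.Prime → ∀ P : Sylow p U, IsMulCommutative (P : Subgroup U) ∧ Cfsg.PRankLE p 2 (P : Subgroup U)

/-- the frozen statement of S1359 (for all arguments) -/
def H1359 (G : Type*) [Group G] [Finite G] : Prop :=
  ∀ (M : Subgroup G) (hM : IsCoatom M) (K U : Subgroup G) (hKU : Cfsg.IsSigmaDecomposition M K U),
    IsMulCommutative (Subgroup.closure ((U : Set G) ∩ Cfsg.sigmaHat M))

/-- the frozen statement of S1360 (for all arguments) -/
def H1360 (G : Type*) [Group G] [Finite G] : Prop :=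
  ∀ (M : Subgroup G) (hM : IsCoatom M) (K U : Subgroup G) (hKU : Cfsg.IsSigmaDecomposition M K U),
    ∃ U₀ : Subgroup G, U₀ ≤ U ∧ Monoid.exponent U₀ = Monoid.exponent U ∧ ∀ u ∈ U₀, u ∈ Cfsg.sigmaHat M → u = 1

/-- the frozen statement of S1361 (for all arguments) -/
def H1361 (G : Type*) [Group G] [Finite G] : Prop :=
  ∀ (M : Subgroup G) (hM : IsCoatom M) (K U : Subgroup G) (hKU : Cfsg.IsSigmaDecomposition M K U) (X : Subgroup G) (hXU : X ≤ U) (hX : X ≠ ⊥)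
    (hXc : Cfsg.sigmaCore M ⊓ Subgroup.centralizer (X : Set G) ≠ ⊥),
    Subgroup.centralizer (X : Set G) ≤ M ∧ ∀ L : Subgroup G, IsCoatom L → Subgroup.centralizer (X : Set G) ≤ L → L = M

/-- the frozen statement of S1362 (for all arguments) -/
def H1362 (G : Type*) [Group G] [Finite G] : Prop :=
  ∀ (M : Subgroup G) (hM : IsCoatom M) (K U : Subgroup G) (hKU : Cfsg.IsSigmaDecomposition M K U),
    Cfsg.IsTISubset (Cfsg.sigmaA M U \ (Cfsg.sigmaCore M : Set G))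

/-- the frozen statement of S1363 (for all arguments) -/
def H1363 (G : Type*) [Group G] [Finite G] : Prop :=
  ∀ (M : Subgroup G) (hM : IsCoatom M) (K U : Subgroup G) (hKU : Cfsg.IsSigmaDecomposition M K U) (hK1 : K ≠ ⊥),
    IsMulCommutative U ∧ ¬ Subgroup.normalizer (U : Set G) ≤ M

/-- the frozen statement of S1364 (for all arguments) -/
def H1364 (G : Type*) [Group G] [Finite G] : Prop :=
  ∀ (M : Subgroup G) (hM : IsCoatom M) (K U : Subgroup G) (hKU : Cfsg.IsSigmaDecomposition M K U) (hK1 : K ≠ ⊥),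
    IsCyclic ↥(Cfsg.sigmaCore M ⊓ Subgroup.centralizer (K : Set G)) ∧ (Cfsg.sigmaCore M ⊓ Subgroup.centralizer (K : Set G)) ≠ ⊥ ∧ (Cfsg.sigmaCore M ⊓ Subgroup.centralizer (K : Set G)) ≤ Cfsg.fittingHallOf M ∧ ¬ IsCyclic (Cfsg.fittingHallOf M)

/-- the frozen statement of S1365 (for all arguments) -/
def H1365 (G : Type*) [Group G] [Finite G] : Prop :=
  ∀ (M : Subgroup G) (hM : IsCoatom M) (K U : Subgroup G) (hKU : Cfsg.IsSigmaDecomposition M K U) (hK1 : K ≠ ⊥),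
    ⁅M, M⁆ = U ⊔ Cfsg.sigmaCore M ∧ (Cfsg.sigmaCore M ⊓ Subgroup.centralizer (K : Set G)) ≤ ⁅⁅M, M⁆, ⁅M, M⁆⁆

/-- the frozen statement of S1366 (for all arguments) -/
def H1366 (G : Type*) [Group G] [Finite G] : Prop :=
  ∀ (M : Subgroup G) (hM : IsCoatom M) (K U : Subgroup G) (hKU : Cfsg.IsSigmaDecomposition M K U) (hK1 : K ≠ ⊥),
    ∃! Mstar : Subgroup G, IsCoatom Mstar ∧ K = Cfsg.sigmaCore Mstar ⊓ Subgroup.centralizer ((Cfsg.sigmaCore M ⊓ Subgroup.centralizer (K : Set G)) : Set G) ∧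
        Cfsg.IsPiHallOf (Cfsg.kappa Mstar) (Cfsg.sigmaCore M ⊓ Subgroup.centralizer (K : Set G)) Mstar

/-- the frozen statement of S1367 (for all arguments) -/
def H1367 (G : Type*) [Group G] [Finite G] : Prop :=
  ∀ (M : Subgroup G) (hM : IsCoatom M) (K U : Subgroup G) (hKU : Cfsg.IsSigmaDecomposition M K U) (hK1 : K ≠ ⊥) (Mstar : Subgroup G) (hMstar : IsCoatom Mstar)
    (hKst : K = Cfsg.sigmaCore Mstar ⊓ Subgroup.centralizer ((Cfsg.sigmaCore M ⊓ Subgroup.centralizer (K : Set G)) : Set G))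
    (hKstH : Cfsg.IsPiHallOf (Cfsg.kappa Mstar) (Cfsg.sigmaCore M ⊓ Subgroup.centralizer (K : Set G)) Mstar),
    (∀ X : Subgroup G, X ≤ (Cfsg.sigmaCore M ⊓ Subgroup.centralizer (K : Set G)) → (Nat.card X).Prime →
        Subgroup.centralizer (X : Set G) ≤ M ∧ ∀ L : Subgroup G, IsCoatom L → Subgroup.centralizer (X : Set G) ≤ L → L = M) ∧
      (∀ Y : Subgroup G, Y ≤ K → (Nat.card Y).Prime →
        Subgroup.centralizer (Y : Set G) ≤ Mstar ∧ ∀ L : Subgroup G, IsCoatom L → Subgroup.centralizer (Y : Set G) ≤ L → L = Mstar)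

/-- the frozen statement of S1368 (for all arguments) -/
def H1368 (G : Type*) [Group G] [Finite G] : Prop :=
  ∀ (M : Subgroup G) (hM : IsCoatom M) (K U : Subgroup G) (hKU : Cfsg.IsSigmaDecomposition M K U) (hK1 : K ≠ ⊥) (Mstar : Subgroup G) (hMstar : IsCoatom Mstar)
    (hKst : K = Cfsg.sigmaCore Mstar ⊓ Subgroup.centralizer ((Cfsg.sigmaCore M ⊓ Subgroup.centralizer (K : Set G)) : Set G))
    (hKstH : Cfsg.IsPiHallOf (Cfsg.kappa Mstar) (Cfsg.sigmaCore M ⊓ Subgroup.centralizer (K : Set G)) Mstar),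
    M ⊓ Mstar = K ⊔ (Cfsg.sigmaCore M ⊓ Subgroup.centralizer (K : Set G)) ∧ IsCyclic ↥(K ⊔ (Cfsg.sigmaCore M ⊓ Subgroup.centralizer (K : Set G)))

/-- the frozen statement of S1369 (for all arguments) -/
def H1369 (G : Type*) [Group G] [Finite G] : Prop :=
  ∀ (M : Subgroup G) (hM : IsCoatom M) (K U : Subgroup G) (hKU : Cfsg.IsSigmaDecomposition M K U) (hK1 : K ≠ ⊥) (Mstar : Subgroup G) (hMstar : IsCoatom Mstar)
    (hKst : K = Cfsg.sigmaCore Mstar ⊓ Subgroup.centralizer ((Cfsg.sigmaCore M ⊓ Subgroup.centralizer (K : Set G)) : Set G))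
    (hKstH : Cfsg.IsPiHallOf (Cfsg.kappa Mstar) (Cfsg.sigmaCore M ⊓ Subgroup.centralizer (K : Set G)) Mstar),
    (U ≠ ⊥ ∨ ∀ Ustar : Subgroup G, Cfsg.IsSigmaDecomposition Mstar (Cfsg.sigmaCore M ⊓ Subgroup.centralizer (K : Set G)) Ustar → Ustar ≠ ⊥) ∧
      ∀ H : Subgroup G, IsCoatom H → (Cfsg.kappa H).Nonempty →
        ∃ g : G, H = M.map (MulAut.conj g).toMonoidHom ∨ H = Mstar.map (MulAut.conj g).toMonoidHom

/-- the frozen statement of S1370 (for all arguments) -/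
def H1370 (G : Type*) [Group G] [Finite G] : Prop :=
  ∀ (M : Subgroup G) (hM : IsCoatom M) (K U : Subgroup G) (hKU : Cfsg.IsSigmaDecomposition M K U) (hK1 : K ≠ ⊥),
    Cfsg.IsTISubset ((↑(K ⊔ (Cfsg.sigmaCore M ⊓ Subgroup.centralizer (K : Set G))) : Set G) \ ((K : Set G) ∪ ↑(Cfsg.sigmaCore M ⊓ Subgroup.centralizer (K : Set G)))) ∧ Subgroup.normalizer ((↑(K ⊔ (Cfsg.sigmaCore M ⊓ Subgroup.centralizer (K : Set G))) : Set G) \ ((K : Set G) ∪ ↑(Cfsg.sigmaCore M ⊓ Subgroup.centralizer (K : Set G)))) = K ⊔ (Cfsg.sigmaCore M ⊓ Subgroup.centralizer (K : Set G))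

/-- the frozen statement of S1371 (for all arguments) -/
def H1371 (G : Type*) [Group G] [Finite G] : Prop :=
  ∀ (M : Subgroup G) (hM : IsCoatom M) (K U : Subgroup G) (hKU : Cfsg.IsSigmaDecomposition M K U) (hK1 : K ≠ ⊥),
    {a : G | ∃ m ∈ M, ∃ z ∈ ((↑(K ⊔ (Cfsg.sigmaCore M ⊓ Subgroup.centralizer (K : Set G))) : Set G) \ ((K : Set G) ∪ ↑(Cfsg.sigmaCore M ⊓ Subgroup.centralizer (K : Set G)))), a = m * z * m⁻¹} = Cfsg.sigmaA0 M K \ Cfsg.sigmaA M U ∧
      Cfsg.IsTISubset (Cfsg.sigmaA0 M K \ Cfsg.sigmaA M U)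

/-- the frozen statement of S1372 (for all arguments) -/
def H1372 (G : Type*) [Group G] [Finite G] : Prop :=
  ∀ (M : Subgroup G) (hM : IsCoatom M) (K U : Subgroup G) (hKU : Cfsg.IsSigmaDecomposition M K U) (hK1 : K ≠ ⊥) (hU1 : U ≠ ⊥),
    (Nat.card K).Prime ∧ Cfsg.IsTISubset (Cfsg.fittingOf M : Set G) ∧ Cfsg.sigmaCore M ≤ Cfsg.fittingOf M

/-- the frozen statement of S1373 (for all arguments) -/
def H1373 (G : Type*) [Group G] [Finite G] : Prop :=
  ∀ (M : Subgroup G) (hM : IsCoatom M) (K U : Subgroup G) (hKU : Cfsg.IsSigmaDecomposition M K U) (hK1 : K ≠ ⊥) (hU : U = ⊥),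
    (Nat.card ↥(Cfsg.sigmaCore M ⊓ Subgroup.centralizer (K : Set G))).Prime

/-- the frozen statement of S1437 (for all arguments) -/
def H1437 (G : Type*) [Group G] [Finite G] : Prop :=
  ∀ (M : Subgroup G) (hM : IsCoatom M) (K U : Subgroup G) (hKU : Cfsg.IsSigmaDecomposition M K U) (hne : Cfsg.fittingHallOf M ≠ Cfsg.sigmaCore M),
    U = ⊥ ∧ Cfsg.sigmaCore M = ⁅M, M⁆ ∧ (Nat.card K).Prime ∧ (Nat.card ↥(Cfsg.sigmaCore M ⊓ Subgroup.centralizer (K : Set G))).Prime ∧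
      Nat.card ↥(Cfsg.sigmaCore M ⊓ Subgroup.centralizer (K : Set G)) ∣ Nat.card (Cfsg.fittingHallOf M) ∧ Nat.card ↥(Cfsg.sigmaCore M ⊓ Subgroup.centralizer (K : Set G)) ∈ Cfsg.beta M ∧
      ∃ Q : Subgroup G, Q ≤ Cfsg.fittingHallOf M ∧ M ≤ Subgroup.normalizer (Q : Set G) ∧ IsPGroup (Nat.card ↥(Cfsg.sigmaCore M ⊓ Subgroup.centralizer (K : Set G))) Q ∧
        ¬ Nat.card ↥(Cfsg.sigmaCore M ⊓ Subgroup.centralizer (K : Set G)) ∣ Q.relIndex (Cfsg.sigmaCore M) ∧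
        ∀ D : Subgroup G, Cfsg.IsComplIn Q D (Cfsg.sigmaCore M) →
          Group.IsNilpotent D ∧ M ≤ Subgroup.normalizer ((Q ⊓ Subgroup.centralizer (D : Set G) : Subgroup G) : Set G) ∧
          Q ⊓ Subgroup.centralizer (D : Set G) < Q ∧
          Nat.card Q = Nat.card ↥(Q ⊓ Subgroup.centralizer (D : Set G)) * Nat.card ↥(Cfsg.sigmaCore M ⊓ Subgroup.centralizer (K : Set G)) ^ Nat.card K ∧
          (∀ a ∈ Q, ∀ b ∈ Q, a ^ Nat.card ↥(Cfsg.sigmaCore M ⊓ Subgroup.centralizer (K : Set G)) ∈ Q ⊓ Subgroup.centralizer (D : Set G) ∧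
            a * b * a⁻¹ * b⁻¹ ∈ Q ⊓ Subgroup.centralizer (D : Set G)) ∧
          ∀ N : Subgroup G, Q ⊓ Subgroup.centralizer (D : Set G) < N → N < Q → ¬ M ≤ Subgroup.normalizer (N : Set G)


variable {G : Type*} [Group G] [Finite G]

/-! ### basic facts on a standard factorisation -/

theorem sigmaCore_le (M : Subgroup G) : sigmaCore M ≤ M := Subgroup.map_subtype_le _

theorem kappa_disj_sigma {M : Subgroup G} {p : ℕ} (hp : p ∈ kappa M) : p ∉ sigma M := hp.2.2.1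

/-- `|K|` and `|M_σ|` are coprime -/
theorem coprime_K_sigmaCore {M K : Subgroup G} (hK : IsPiHallOf (kappa M) K M) (h50 : IsPiHallOf (sigma M) (sigmaCore M) M) :
    (Nat.card K).Coprime (Nat.card (sigmaCore M)) := by
  apply Nat.coprime_of_dvd
  intro p hp h1 h2
  exact kappa_disj_sigma (hK.2.1 p hp h1) (h50.2.1 p hp h2)

theorem K_inf_sigmaCore {M K : Subgroup G} (hK : IsPiHallOf (kappa M) K M) (h50 : IsPiHallOf (sigma M) (sigmaCore M) M) :
    K ⊓ sigmaCore M = ⊥ :=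
  (Subgroup.disjoint_of_coprime_natCard (coprime_K_sigmaCore hK h50)).eq_bot

theorem K_le_normalizer_sigmaCore {M K : Subgroup G} (hK : IsPiHallOf (kappa M) K M) :
    K ≤ normalizer ((sigmaCore M : Subgroup G) : Set G) :=
  hK.1.trans (Cfsg.Agent.Helper22.BG13.le_normalizer_sigmaCore M)

theorem card_K_sup_sigmaCore {M K : Subgroup G} (hK : IsPiHallOf (kappa M) K M) (h50 : IsPiHallOf (sigma M) (sigmaCore M) M) :
    Nat.card (K ⊔ sigmaCore M : Subgroup G) = Nat.card K * Nat.card (sigmaCore M) := by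
  have h1 : Nat.card (sigmaCore M ⊔ K : Subgroup G) ∣ Nat.card (sigmaCore M) * Nat.card K :=
    Cfsg.Agent.Helper7.card_sup_dvd_mul_of_le_normalizer (K_le_normalizer_sigmaCore hK)
  rw [sup_comm, mul_comm] at h1
  have h2 : Nat.card K ∣ Nat.card (K ⊔ sigmaCore M : Subgroup G) := Subgroup.card_dvd_of_le le_sup_left
  have h3 : Nat.card (sigmaCore M) ∣ Nat.card (K ⊔ sigmaCore M : Subgroup G) := Subgroup.card_dvd_of_le le_sup_right
  have h4 := (coprime_K_sigmaCore hK h50).mul_dvd_of_dvd_of_dvd h2 h3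
  exact Nat.dvd_antisymm h1 h4

theorem card_M_eq {M K U : Subgroup G} (hKU : IsSigmaDecomposition M K U) (h50 : IsPiHallOf (sigma M) (sigmaCore M) M) :
    Nat.card M = Nat.card U * (Nat.card K * Nat.card (sigmaCore M)) := by
  rw [Cfsg.Agent.Helper7.IsComplIn.card_eq hKU.compl, card_K_sup_sigmaCore hKU.hall h50]

theorem relIndex_mul_card {H M : Subgroup G} (h : H ≤ M) : H.relIndex M * Nat.card H = Nat.card M :=
  Cfsg.Agent.Helper7.relIndex_mul_card_of_le h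

theorem coprime_K_relIndex {M K : Subgroup G} (hK : IsPiHallOf (kappa M) K M) :
    (Nat.card K).Coprime (K.relIndex M) := by
  apply Nat.coprime_of_dvd
  intro p hp h1 h2
  exact hK.2.2 p hp (hK.2.1 p hp h1) h2

theorem coprime_sigmaCore_relIndex {M : Subgroup G} (h50 : IsPiHallOf (sigma M) (sigmaCore M) M) :
    (Nat.card (sigmaCore M)).Coprime ((sigmaCore M).relIndex M) := by
  apply Nat.coprime_of_dvd
  intro p hp h1 h2
  exact h50.2.2 p hp (h50.2.1 p hp h1) h2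

theorem K_relIndex {M K U : Subgroup G} (hKU : IsSigmaDecomposition M K U) (h50 : IsPiHallOf (sigma M) (sigmaCore M) M) :
    K.relIndex M = Nat.card U * Nat.card (sigmaCore M) := by
  have h1 := relIndex_mul_card hKU.hall.1
  rw [card_M_eq hKU h50] at h1
  have hpos : 0 < Nat.card K := Nat.card_pos
  apply Nat.eq_of_mul_eq_mul_right hpos
  rw [h1]; ring

theorem sigmaCore_relIndex {M K U : Subgroup G} (hKU : IsSigmaDecomposition M K U) (h50 : IsPiHallOf (sigma M) (sigmaCore M) M) :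
    (sigmaCore M).relIndex M = Nat.card U * Nat.card K := by
  have h1 := relIndex_mul_card (sigmaCore_le M)
  rw [card_M_eq hKU h50] at h1
  have hpos : 0 < Nat.card (sigmaCore M) := Nat.card_pos
  apply Nat.eq_of_mul_eq_mul_right hpos
  rw [h1]; ring

theorem coprime_K_U {M K U : Subgroup G} (hKU : IsSigmaDecomposition M K U) (h50 : IsPiHallOf (sigma M) (sigmaCore M) M) :
    (Nat.card K).Coprime (Nat.card U) := by
  have := coprime_K_relIndex hKU.hall
  rw [K_relIndex hKU h50] at this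
  exact Nat.Coprime.coprime_mul_right_right this

theorem coprime_sigmaCore_U {M K U : Subgroup G} (hKU : IsSigmaDecomposition M K U) (h50 : IsPiHallOf (sigma M) (sigmaCore M) M) :
    (Nat.card (sigmaCore M)).Coprime (Nat.card U) := by
  have := coprime_sigmaCore_relIndex h50
  rw [sigmaCore_relIndex hKU h50] at this
  exact Nat.Coprime.coprime_mul_right_right this

theorem U_le {M K U : Subgroup G} (hKU : IsSigmaDecomposition M K U) : U ≤ M := hKU.compl.1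

theorem U_inf_sigmaCore {M K U : Subgroup G} (hKU : IsSigmaDecomposition M K U) : U ⊓ sigmaCore M = ⊥ := by
  rw [eq_bot_iff, ← hKU.compl.2.2.1]
  exact inf_le_inf_left _ le_sup_right

theorem U_inf_K {M K U : Subgroup G} (hKU : IsSigmaDecomposition M K U) : U ⊓ K = ⊥ := by
  rw [eq_bot_iff, ← hKU.compl.2.2.1]
  exact inf_le_inf_left _ le_sup_left

theorem U_le_normalizer_sigmaCore {M K U : Subgroup G} (hKU : IsSigmaDecomposition M K U) :
    U ≤ normalizer ((sigmaCore M : Subgroup G) : Set G) :=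
  (U_le hKU).trans (Cfsg.Agent.Helper22.BG13.le_normalizer_sigmaCore M)

/-- every element of `M` is `s * u * k` -/
theorem exists_factor {M K U : Subgroup G} (hKU : IsSigmaDecomposition M K U) {m : G} (hm : m ∈ M) :
    ∃ u ∈ U, ∃ s ∈ sigmaCore M, ∃ k ∈ K, m = u * (s * k) := by
  obtain ⟨u, hu, b, hb, rfl⟩ := hKU.compl.2.2.2 m hm
  rw [sup_comm] at hb
  obtain ⟨s, hs, k, hk, rfl⟩ := Cfsg.Agent.Helper1.exists_mul_of_mem_sup (K_le_normalizer_sigmaCore hKU.hall) hb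
  exact ⟨u, hu, s, hs, k, hk, rfl⟩

/-- `(U ⊔ M_σ) ⊓ K = ⊥` -/
theorem US_inf_K {M K U : Subgroup G} (hKU : IsSigmaDecomposition M K U) (h50 : IsPiHallOf (sigma M) (sigmaCore M) M) :
    (U ⊔ sigmaCore M) ⊓ K = ⊥ := by
  rw [eq_bot_iff]
  rintro x ⟨hx1, hx2⟩
  rw [sup_comm] at hx1
  obtain ⟨s, hs, u, hu, rfl⟩ := Cfsg.Agent.Helper1.exists_mul_of_mem_sup (U_le_normalizer_sigmaCore hKU) hx1
  have h1 : u ∈ U ⊓ (K ⊔ sigmaCore M) := by
    refine ⟨hu, ?_⟩
    have : u = s⁻¹ * (s * u) := by group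
    rw [this]
    exact Subgroup.mul_mem _ (Subgroup.mem_sup_right (Subgroup.inv_mem _ hs)) (Subgroup.mem_sup_left hx2)
  rw [hKU.compl.2.2.1, Subgroup.mem_bot] at h1
  subst h1
  rw [mul_one] at hx2 ⊢
  have : s ∈ K ⊓ sigmaCore M := ⟨hx2, hs⟩
  rw [K_inf_sigmaCore hKU.hall h50] at this
  exact this

end Cfsg.Agent.Helper27.BGTy
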