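import Mathlib
import Cfsg.Agent.Lib.Helper3.BcgloBasic
import Cfsg.Agent.Lib.Helper25.FusionMorph
import Cfsg.Agent.Lib.Helper25.FusionNormal

set_option autoImplicit false

/-!
Piece FR3 of the saturation criterion: in the working situation the subgroup `P` is receptive.
-/

namespace Cfsg.Agent.Helper27.BcgloFR3

open Cfsg Cfsg.FusionSystem Cfsg.Agent.Helper25 Cfsg.Agent.Helper3.Bcglo

variable {Ω : Type*} [Group Ω] {S : Subgroup Ω}

/-- Elements of `N_S(P)` induce automorphisms of `U` belonging to the system. -/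
theorem exists_conj_aut {F : FusionSystem S} {P U : Subgroup Ω} (hPU : P ≤ U)
    (hUN : U ≤ normalizerIn S P)
    (hwc : ∀ ψ ∈ F.Hom U, (∀ x : P, ψ (Subgroup.inclusion hPU x) ∈ P) → ψ.range = U)
    (g : Ω) (hg : g ∈ normalizerIn S P) :
    ∃ α ∈ F.autGroup U, ∀ x : U, ((α x : U) : Ω) = g * x * g⁻¹ := by
  have hUS : U ≤ S := hUN.trans normalizerIn_le
  have h1 : conjHom U g ∈ F.Hom U := F.conj_mem hUS hg.1
  have h2 : ∀ x : P, conjHom U g (Subgroup.inclusion hPU x) ∈ P := by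
    intro x
    show g * (x : Ω) * g⁻¹ ∈ P
    exact (Subgroup.mem_normalizer_iff.mp hg.2 x).mp x.2
  obtain ⟨α, hα, hαx⟩ := aut_of_range_eq F h1 (hwc _ h1 h2)
  exact ⟨α, hα, fun x => hαx x⟩

/-- `N_S(P)` normalizes `U`. -/
theorem normalizerIn_le_normalizer {F : FusionSystem S} {P U : Subgroup Ω} (hPU : P ≤ U)
    (hUN : U ≤ normalizerIn S P)
    (hwc : ∀ ψ ∈ F.Hom U, (∀ x : P, ψ (Subgroup.inclusion hPU x) ∈ P) → ψ.range = U)
    (g : Ω) (hg : g ∈ normalizerIn S P) : g ∈ Subgroup.normalizer (U : Set Ω) := by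
  apply mem_normalizer_of_forall
  · intro y hy
    obtain ⟨α, -, hα⟩ := exists_conj_aut hPU hUN hwc g hg
    rw [← hα ⟨y, hy⟩]
    exact (α ⟨y, hy⟩).2
  · intro y hy
    obtain ⟨α, -, hα⟩ := exists_conj_aut hPU hUN hwc g⁻¹ (Subgroup.inv_mem _ hg)
    have := hα ⟨y, hy⟩
    rw [inv_inv] at this
    rw [← this]
    exact (α ⟨y, hy⟩).2

/-- Every automorphism of `P` in the system extends to a map of the system on its extender. -/
theorem exists_extension_aut [Finite S] {p : ℕ} [Fact p.Prime] {F : FusionSystem S} {P : Subgroup Ω}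
    (hS : IsPGroup p S) (hP : P ≤ S) {U : Subgroup Ω} (hPU : P ≤ U)
    (hUN : U ≤ normalizerIn S P)
    (hwc : ∀ ψ ∈ F.Hom U, (∀ x : P, ψ (Subgroup.inclusion hPU x) ∈ P) → ψ.range = U)
    (hsyl : IsSylowIn p (autInducedBy (normalizerIn S P) U) (stabAut F hPU))
    (hrecU : F.IsReceptive U)
    (hext : F.autGroup P ≤ extSub F hPU) (γ : MulAut P) (hγ : γ ∈ F.autGroup P) :
    ∃ Ψ ∈ F.Hom (extender S P (P.subtype.comp γ.toMonoidHom)),
      ∀ (x : Ω) (hx : x ∈ P) (hN : x ∈ extender S P (P.subtype.comp γ.toMonoidHom)),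
        Ψ ⟨x, hN⟩ = γ ⟨x, hx⟩ := by
  classical
  have hUS : U ≤ S := hUN.trans normalizerIn_le
  have : Finite U := finite_of_le_finite hUS
  have : Finite P := finite_of_le_finite hP
  have hconjU := exists_conj_aut hPU hUN hwc
  have hnormU := normalizerIn_le_normalizer hPU hUN hwc
  have hBstab : ∀ α ∈ stabAut F hPU, ∀ x : U, (x : Ω) ∈ P → ((α x : U) : Ω) ∈ P :=
    fun α hα => hα.2.1
  -- the extension β of γ
  obtain ⟨β, hβ, hβγ⟩ := hext hγ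
  have hincl : ∀ (x : U) (hx : (x : Ω) ∈ P), Subgroup.inclusion hPU ⟨(x : Ω), hx⟩ = x :=
    fun x hx => Subtype.ext rfl
  have hβB : β ∈ stabAut F hPU := by
    refine ⟨hβ, ?_, ?_, γ, Subgroup.mem_top _, fun x => ?_⟩
    · intro x hx
      have := hβγ ⟨x, hx⟩
      rw [hincl x hx] at this
      rw [this]
      exact (γ ⟨x, hx⟩).2
    · intro x hx
      have := hβγ (γ⁻¹ ⟨x, hx⟩)
      rw [MulAut.apply_inv_self, hincl x hx] at this
      have h2 : β⁻¹ x = Subgroup.inclusion hPU (γ⁻¹ ⟨x, hx⟩) := by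
        show β.symm x = _
        rw [MulEquiv.symm_apply_eq]
        exact this.symm
      rw [h2]
      exact (γ⁻¹ ⟨x, hx⟩).2
    · rw [hβγ x]; rfl
  set b : ↥(stabAut F hPU) := ⟨β, hβB⟩ with hb
  set res : ↥(stabAut F hPU) →* MulAut P := resHom hPU (stabAut F hPU) hBstab with hres
  obtain ⟨T, hT⟩ := (isSylowIn_iff_exists_sylow hsyl.1).mp hsyl
  set Nγ := extender S P (P.subtype.comp γ.toMonoidHom) with hNγ
  have hNγN : Nγ ≤ normalizerIn S P := by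
    intro g hg
    obtain ⟨hgS, hgN, -⟩ := (mem_extender_iff _ g).mp hg
    exact ⟨hgS, hgN⟩
  set X : Subgroup ↥(stabAut F hPU) :=
    ((autInducedBy Nγ U).subgroupOf (stabAut F hPU)).map (MulAut.conj b).toMonoidHom with hX
  have hXp : IsPGroup p X := by
    apply IsPGroup.map
    apply isPGroup_subgroupOf
    exact (isPGroup_autInducedBy hS U).to_le (autInducedBy_mono (extender_le S _))
  have hXT : X.map res ≤ (T : Subgroup ↥(stabAut F hPU)).map res := by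
    rintro _ ⟨_, ⟨a, ha, rfl⟩, rfl⟩
    obtain ⟨g, hg, hga⟩ := (mem_autInducedBy_iff a.1).mp (Subgroup.mem_subgroupOf.mp ha)
    obtain ⟨hgS, hgN, h, hhS, hh⟩ := (mem_extender_iff _ g).mp hg
    have key : ∀ y : P, ((res ((MulAut.conj b).toMonoidHom a) y : P) : Ω) = h * y * h⁻¹ := by
      intro y
      have e0 : (MulAut.conj b).toMonoidHom a = b * a * b⁻¹ := rfl
      rw [e0, hres, resHom_apply_coe]
      show ((β (a.1 (β⁻¹ (Subgroup.inclusion hPU y))) : U) : Ω) = h * y * h⁻¹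
      have e1 : β⁻¹ (Subgroup.inclusion hPU y) = Subgroup.inclusion hPU (γ⁻¹ y) := by
        have := hβγ (γ⁻¹ y)
        rw [MulAut.apply_inv_self] at this
        rw [← this]; simp
      have hgy : g * ((γ⁻¹ y : P) : Ω) * g⁻¹ ∈ P :=
        (Subgroup.mem_normalizer_iff.mp hgN _).mp (γ⁻¹ y).2
      have e2 : a.1 (Subgroup.inclusion hPU (γ⁻¹ y)) =
          Subgroup.inclusion hPU ⟨g * ((γ⁻¹ y : P) : Ω) * g⁻¹, hgy⟩ := by
        apply Subtype.ext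
        rw [hga]
        rfl
      rw [e1, e2, hβγ]
      have := hh (γ⁻¹ y) hgy
      simp only [MonoidHom.coe_comp, Subgroup.coe_subtype, MulEquiv.coe_toMonoidHom,
        Function.comp_apply, MulAut.apply_inv_self] at this
      exact this
    set δ : MulAut P := res ((MulAut.conj b).toMonoidHom a) with hδ
    have hhN : h ∈ normalizerIn S P := by
      refine ⟨hhS, mem_normalizer_of_forall ?_ ?_⟩
      · intro y hy
        rw [← key ⟨y, hy⟩]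
        exact (δ ⟨y, hy⟩).2
      · intro y hy
        have := key (δ⁻¹ ⟨y, hy⟩)
        rw [MulAut.apply_inv_self] at this
        obtain ⟨z, hz⟩ : ∃ z : P, (y : Ω) = h * (z : Ω) * h⁻¹ := ⟨δ⁻¹ ⟨y, hy⟩, this⟩
        rw [hz]
        have e : h⁻¹ * (h * (z : Ω) * h⁻¹) * h = z := by group
        rw [e]
        exact z.2
    obtain ⟨αh, hαhF, hαh⟩ := hconjU h hhN
    have hαhI : αh ∈ autInducedBy (normalizerIn S P) U :=
      (mem_autInducedBy_iff _).mpr ⟨h, hhN, hαh⟩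
    have hαhB : αh ∈ stabAut F hPU := hsyl.1 hαhI
    refine ⟨⟨αh, hαhB⟩, ?_, ?_⟩
    · rw [SetLike.mem_coe, hT, Subgroup.mem_subgroupOf]
      exact hαhI
    · ext y
      rw [key y, hres, resHom_apply_coe, hαh]
      rfl
  obtain ⟨χ, hχker, hχX⟩ := exists_ker_conj_le res T X hXp hXT
  -- χ restricts to the identity of P
  have hχP : ∀ z : P, χ.1 (Subgroup.inclusion hPU z) = Subgroup.inclusion hPU z := by
    intro z
    have h1 : res χ = 1 := hχker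
    have h2 := resHom_apply_coe hPU (stabAut F hPU) hBstab χ z
    rw [← hres, h1] at h2
    apply Subtype.ext
    exact h2.symm
  set β' : ↥(stabAut F hPU) := χ * b with hβ'
  have hβ'γ : ∀ x : P, β'.1 (Subgroup.inclusion hPU x) = Subgroup.inclusion hPU (γ x) := by
    intro x
    show χ.1 (β (Subgroup.inclusion hPU x)) = _
    rw [hβγ, hχP]
  have hβ'F : β'.1 ∈ F.autGroup U := β'.2.1
  have hNγ_le : Nγ ≤ extender S U (U.subtype.comp β'.1.toMonoidHom) := by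
    intro g hg
    have hgN : g ∈ normalizerIn S P := hNγN hg
    obtain ⟨αg, hαgF, hαg⟩ := hconjU g hgN
    have hαgI : αg ∈ autInducedBy Nγ U := (mem_autInducedBy_iff _).mpr ⟨g, hg, hαg⟩
    have hαgB : αg ∈ stabAut F hPU := hsyl.1 (autInducedBy_mono hNγN hαgI)
    have hx : (MulAut.conj b).toMonoidHom ⟨αg, hαgB⟩ ∈ X :=
      ⟨⟨αg, hαgB⟩, Subgroup.mem_subgroupOf.mpr hαgI, rfl⟩
    have h3 := hχX _ hx
    rw [← SetLike.mem_coe, hT, SetLike.mem_coe, Subgroup.mem_subgroupOf] at h3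
    obtain ⟨h, hhN, hh⟩ := (mem_autInducedBy_iff _).mp h3
    rw [mem_extender_iff]
    refine ⟨hgN.1, hnormU g hgN, h, hhN.1, fun x hx' => ?_⟩
    show ((β'.1 ⟨g * x * g⁻¹, hx'⟩ : U) : Ω) = h * ((β'.1 x : U) : Ω) * h⁻¹
    rw [← hh (β'.1 x)]
    have e1 : (⟨g * (x : Ω) * g⁻¹, hx'⟩ : U) = αg x := Subtype.ext (hαg x).symm
    rw [e1]
    congr 1
    show χ.1 (β (αg x)) = χ.1 (β (αg (β⁻¹ (χ.1⁻¹ (χ.1 (β x))))))
    simp
  have hrange : (U.subtype.comp β'.1.toMonoidHom).range = U := by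
    ext y
    constructor
    · rintro ⟨x, rfl⟩; exact (β'.1 x).2
    · intro hy
      exact ⟨β'.1⁻¹ ⟨y, hy⟩, by simp⟩
  obtain ⟨Ψ₀, hΨ₀, hΨ₀ext⟩ := hrecU.2 U (U.subtype.comp β'.1.toMonoidHom)
    ((mem_autGroup_iff F hUS _).mp hβ'F) hrange
  refine ⟨Ψ₀.comp (Subgroup.inclusion hNγ_le), restrict_mem F hNγ_le hΨ₀, fun x hx hN => ?_⟩
  show Ψ₀ ⟨x, hNγ_le hN⟩ = _
  rw [hΨ₀ext x (hPU hx) (hNγ_le hN)]
  show ((β'.1 ⟨x, hPU hx⟩ : U) : Ω) = _
  have := hβ'γ ⟨x, hx⟩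
  have e : Subgroup.inclusion hPU ⟨x, hx⟩ = (⟨x, hPU hx⟩ : U) := rfl
  rw [e] at this
  rw [this]
  rfl

/-- Piece FR3: `P` is receptive. -/
theorem isReceptive_of_ext [Finite S] {p : ℕ} [Fact p.Prime] {F : FusionSystem S} {P : Subgroup Ω}
    (hS : IsPGroup p S) (hP : P ≤ S) (hA : GoalA F P) {U : Subgroup Ω} (hPU : P ≤ U)
    (hUN : U ≤ normalizerIn S P)
    (hwc : ∀ ψ ∈ F.Hom U, (∀ x : P, ψ (Subgroup.inclusion hPU x) ∈ P) → ψ.range = U)
    (hsyl : IsSylowIn p (autInducedBy (normalizerIn S P) U) (stabAut F hPU))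
    (hrecU : F.IsReceptive U) (hext : F.autGroup P ≤ extSub F hPU) : F.IsReceptive P := by
  refine ⟨hP, fun P' φ hφ hrange => ?_⟩
  have hP'S : P' ≤ S := (F.le_of_mem hφ).1
  have hconj : F.IsConj P P' := isConj_symm F ⟨φ, hφ, hrange⟩
  obtain ⟨σ, hσ, hσN, hσimg⟩ := hA P' hconj
  have hP'N : P' ≤ normalizerIn S P' := le_normalizerIn hP'S
  set σ' : P' →* Ω := σ.comp (Subgroup.inclusion hP'N) with hσ'def
  have hσ' : σ' ∈ F.Hom P' := restrict_mem F hP'N hσ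
  have hσ'range : σ'.range = P := by
    rw [← hσimg]
    ext y
    rw [mem_map_subgroupOf]
    constructor
    · rintro ⟨x, rfl⟩
      exact ⟨x, hP'N x.2, x.2, rfl⟩
    · rintro ⟨x, hxN, hxP, rfl⟩
      exact ⟨⟨x, hxP⟩, rfl⟩
  obtain ⟨μ, hμ, hμv, hμr⟩ := exists_comp_inv F hσ' hφ
  set γ₀ : P →* Ω := μ.comp (Subgroup.inclusion hσ'range.symm.le) with hγ₀def
  have hγ₀ : γ₀ ∈ F.Hom P := hom_transport F hσ'range.symm hμ
  have hγ₀v : ∀ (x : P') (h : σ' x ∈ P), γ₀ ⟨σ' x, h⟩ = φ x := fun x h => hμv x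
  have hγ₀r : γ₀.range = P := by
    refine Eq.trans ?_ (hμr.trans hrange)
    ext y
    constructor
    · rintro ⟨x, rfl⟩; exact ⟨_, rfl⟩
    · rintro ⟨⟨x, hx⟩, rfl⟩
      exact ⟨⟨x, hσ'range ▸ hx⟩, rfl⟩
  obtain ⟨γ, hγ, hγv⟩ := aut_of_range_eq F hγ₀ hγ₀r
  obtain ⟨Ψ, hΨ, hΨext⟩ := exists_extension_aut hS hP hPU hUN hwc hsyl hrecU hext γ hγ
  have hle : extender S P' φ ≤ normalizerIn S P' := by
    intro g hg
    obtain ⟨hgS, hgN, -⟩ := (mem_extender_iff _ g).mp hg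
    exact ⟨hgS, hgN⟩
  have hσNγ : ∀ g : ↥(extender S P' φ), (σ.comp (Subgroup.inclusion hle)) g ∈
      extender S P (P.subtype.comp γ.toMonoidHom) := by
    intro g
    obtain ⟨hgS, hgN, h, hhS, hh⟩ := (mem_extender_iff φ g).mp g.2
    rw [mem_extender_iff]
    refine ⟨(F.le_of_mem hσ).2 _, (hσN _).2, h, hhS, fun y hy => ?_⟩
    have hyr : (y : Ω) ∈ σ'.range := hσ'range ▸ y.2
    obtain ⟨x, hx⟩ := hyr
    have hgx : (g : Ω) * (x : Ω) * (g : Ω)⁻¹ ∈ P' := (Subgroup.mem_normalizer_iff.mp hgN x).mp x.2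
    have e1 : (σ.comp (Subgroup.inclusion hle)) g * (y : Ω) * ((σ.comp (Subgroup.inclusion hle)) g)⁻¹ =
        σ' ⟨(g : Ω) * (x : Ω) * (g : Ω)⁻¹, hgx⟩ := by
      rw [← hx]
      show σ _ * σ _ * (σ _)⁻¹ = σ _
      rw [← map_inv, ← map_mul, ← map_mul]
      rfl
    have hmem : σ' ⟨(g : Ω) * (x : Ω) * (g : Ω)⁻¹, hgx⟩ ∈ P := e1 ▸ hy
    have e2 : (⟨(σ.comp (Subgroup.inclusion hle)) g * (y : Ω) *
        ((σ.comp (Subgroup.inclusion hle)) g)⁻¹, hy⟩ : P) =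
        ⟨σ' ⟨(g : Ω) * (x : Ω) * (g : Ω)⁻¹, hgx⟩, hmem⟩ := Subtype.ext e1
    rw [e2]
    show ((γ ⟨σ' ⟨(g : Ω) * (x : Ω) * (g : Ω)⁻¹, hgx⟩, hmem⟩ : P) : Ω) = h * ((γ y : P) : Ω) * h⁻¹
    rw [hγv, hγv, hγ₀v, hh x hgx]
    have e3 : y = ⟨σ' x, hx ▸ y.2⟩ := Subtype.ext hx.symm
    rw [e3, hγ₀v]
  refine ⟨Ψ.comp ((σ.comp (Subgroup.inclusion hle)).codRestrict _ hσNγ),
    F.comp_mem (restrict_mem F hle hσ) hΨ hσNγ, fun x hx hN => ?_⟩
  have hσxP : σ' ⟨x, hx⟩ ∈ P := hσ'range ▸ ⟨⟨x, hx⟩, rfl⟩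
  show Ψ ⟨σ ⟨x, hle hN⟩, hσNγ ⟨x, hN⟩⟩ = φ ⟨x, hx⟩
  have := hΨext (σ' ⟨x, hx⟩) hσxP (hσNγ ⟨x, hN⟩)
  rw [hγv, hγ₀v] at this
  exact this

end Cfsg.Agent.Helper27.BcgloFR3
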