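import Mathlib
import Cfsg.Agent.Lib.Helper23.S61Defs

/-!
# S2861, piece S61-GLUE: conjugation bookkeeping
-/

set_option autoImplicit false
set_option linter.unusedVariables false

namespace Cfsg.Agent.Helper23.S61

open Cfsg
open scoped Pointwise

theorem s61_glue_mem_conj {T : Type*} [Group T] (g x : T) (S : Subgroup T) :
    x ∈ MulAut.conj g • S ↔ g⁻¹ * x * g ∈ S := by
  rw [Subgroup.mem_pointwise_smul_iff_inv_smul_mem]
  rw [MulAut.smul_def, ← map_inv, MulAut.conj_apply, inv_inv]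

theorem s61_glue_elemAb_conj {T : Type*} [Group T] (p : ℕ) (g : T) (V : Subgroup T)
    (hV : IsElementaryAbelian p V) : IsElementaryAbelian p (MulAut.conj g • V) := by
  obtain ⟨hc, he⟩ := hV
  refine ⟨⟨⟨?_⟩⟩, ?_⟩
  · rintro ⟨a, ha⟩ ⟨b, hb⟩
    apply Subtype.ext
    show a * b = b * a
    rw [s61_glue_mem_conj] at ha hb
    have h := hc.is_comm.comm (⟨_, ha⟩ : V) (⟨_, hb⟩ : V)
    have h' : (g⁻¹ * a * g) * (g⁻¹ * b * g) = (g⁻¹ * b * g) * (g⁻¹ * a * g) :=
      congrArg Subtype.val h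
    have h1 : (g⁻¹ * a * g) * (g⁻¹ * b * g) = g⁻¹ * (a * b) * g := by group
    have h2 : (g⁻¹ * b * g) * (g⁻¹ * a * g) = g⁻¹ * (b * a) * g := by group
    rw [h1, h2] at h'
    exact mul_left_cancel (mul_right_cancel h')
  · intro a ha
    rw [s61_glue_mem_conj] at ha
    have h := he _ ha
    have h1 : (g⁻¹ * a * g) ^ p = g⁻¹ * a ^ p * g := by
      have := conj_pow (a := g⁻¹) (b := a) (i := p)
      rw [inv_inv] at this
      exact this
    rw [h1] at h
    have : a ^ p = g * (g⁻¹ * a ^ p * g) * g⁻¹ := by group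
    rw [this, h]
    group

/-- PIECE S61-GLUE -/
theorem target_of_conj {T : Type*} [Group T] (p q : ℕ) (hq : 2 ≤ q) (U0 B0 : Subgroup T)
    (hstd : ∀ V : Subgroup T, V ≤ B0 → (∀ b ∈ B0, ∀ v ∈ V, b * v * b⁻¹ ∈ V) →
      IsElementaryAbelian p V → V ≠ ⊥ → V = U0)
    (hconj : ∀ B Y : Subgroup T, IsCoatom B → Y ≤ B → (∀ b ∈ B, ∀ y ∈ Y, b * y * b⁻¹ ∈ Y) →
      IsElementaryAbelian p Y → Nat.card Y = q →
      ∃ g : T, Y = MulAut.conj g • U0 ∧ B = MulAut.conj g • B0) :
    Target p q T := by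
  intro B Y hB hYB hBY hYel hYcard hnc
  refine ⟨?_, ?_⟩
  · intro hbot
    rw [hbot, Subgroup.card_bot] at hYcard
    omega
  · intro V hVB hBV hVel hVne
    obtain ⟨g, hY, hBg⟩ := hconj B Y hB hYB hBY hYel hYcard
    have key : MulAut.conj g⁻¹ • V = U0 := by
      apply hstd
      · intro x hx
        rw [s61_glue_mem_conj, inv_inv] at hx
        have hxB := hVB hx
        rw [hBg, s61_glue_mem_conj] at hxB
        have : g⁻¹ * (g * x * g⁻¹) * g = x := by group
        rwa [this] at hxB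
      · intro b hb v hv
        rw [s61_glue_mem_conj, inv_inv] at hv ⊢
        have hbB : g * b * g⁻¹ ∈ B := by
          rw [hBg, s61_glue_mem_conj]
          have : g⁻¹ * (g * b * g⁻¹) * g = b := by group
          rwa [this]
        have h := hBV _ hbB _ hv
        have : g * (b * v * b⁻¹) * g⁻¹ = g * b * g⁻¹ * (g * v * g⁻¹) * (g * b * g⁻¹)⁻¹ := by group
        rwa [this]
      · exact s61_glue_elemAb_conj p g⁻¹ V hVel
      · intro hbot
        apply hVne
        rw [eq_bot_iff]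
        intro x hx
        have : g⁻¹ * x * g ∈ MulAut.conj g⁻¹ • V := by
          rw [s61_glue_mem_conj, inv_inv]
          have : g * (g⁻¹ * x * g) * g⁻¹ = x := by group
          rwa [this]
        rw [hbot, Subgroup.mem_bot] at this
        rw [Subgroup.mem_bot]
        have hx' : x = g * (g⁻¹ * x * g) * g⁻¹ := by group
        rw [hx', this]
        group
    rw [hY, ← key]
    ext x
    rw [s61_glue_mem_conj, s61_glue_mem_conj, inv_inv]
    have : g * (g⁻¹ * x * g) * g⁻¹ = x := by group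
    rw [this]

end Cfsg.Agent.Helper23.S61
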