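import Mathlib
import Cfsg.Agent.Lib.Helper23.S61Defs

/-!
# S2861, piece S61-YEL: `Y_M` is elementary abelian
-/

set_option autoImplicit false
set_option linter.unusedVariables false

namespace Cfsg.Agent.Helper23.S61

open Cfsg

/-- two `p`-reduced normal subgroups centralize each other -/
theorem s61_yel_le_centralizer {L : Type*} [Group L] (p : ℕ) [Fact p.Prime] (V1 V2 : Subgroup L)
    (h1 : IsPReducedNormal p V1) (h2 : IsPReducedNormal p V2) :
    V2 ≤ Subgroup.centralizer (V1 : Set L) := by
  obtain ⟨_, _, hCn, hcore⟩ := h1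
  obtain ⟨hV2n, ⟨_, hV2e⟩, _⟩ := h2
  have hp2 : IsPGroup p V2 := by
    intro g
    refine ⟨1, ?_⟩
    apply Subtype.ext
    rw [pow_one]
    show ((g ^ p : V2) : L) = 1
    rw [Subgroup.coe_pow]
    exact hV2e g.1 g.2
  have hmapn : (V2.map (QuotientGroup.mk' (Subgroup.centralizer (V1 : Set L)))).Normal :=
    Subgroup.Normal.map hV2n _ (QuotientGroup.mk'_surjective _)
  have hmapp : IsPGroup p (V2.map (QuotientGroup.mk' (Subgroup.centralizer (V1 : Set L)))) :=
    hp2.map _
  have hle : V2.map (QuotientGroup.mk' (Subgroup.centralizer (V1 : Set L))) ≤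
      pCore p (L ⧸ Subgroup.centralizer (V1 : Set L)) :=
    le_sSup ⟨hmapn, hmapp⟩
  rw [hcore, le_bot_iff] at hle
  intro x hx
  have hx' : QuotientGroup.mk' (Subgroup.centralizer (V1 : Set L)) x ∈
      V2.map (QuotientGroup.mk' (Subgroup.centralizer (V1 : Set L))) :=
    Subgroup.mem_map_of_mem _ hx
  rw [hle, Subgroup.mem_bot] at hx'
  exact (QuotientGroup.eq_one_iff x).mp hx'

/-- the join of the `p`-reduced normal subgroups is elementary abelian -/
theorem s61_yel_largest {L : Type*} [Group L] (p : ℕ) [Fact p.Prime] :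
    IsElementaryAbelian p (largestPReduced p L) := by
  have hcomm : largestPReduced p L ≤ Subgroup.centralizer (largestPReduced p L : Set L) := by
    apply sSup_le
    intro V1 hV1
    rw [Subgroup.le_centralizer_iff]
    apply sSup_le
    intro V2 hV2
    exact s61_yel_le_centralizer p V1 V2 hV1 hV2
  have hc : IsMulCommutative (largestPReduced p L) :=
    Subgroup.le_centralizer_iff_isMulCommutative.mp hcomm
  refine ⟨hc, ?_⟩
  let S : Subgroup L :=
    { carrier := {x | x ∈ largestPReduced p L ∧ x ^ p = 1}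
      one_mem' := ⟨Subgroup.one_mem _, one_pow _⟩
      mul_mem' := by
        rintro a b ⟨ha, hap⟩ ⟨hb, hbp⟩
        refine ⟨Subgroup.mul_mem _ ha hb, ?_⟩
        have hab : Commute a b := by
          have := hcomm hb
          rw [Subgroup.mem_centralizer_iff] at this
          exact this a ha
        rw [hab.mul_pow, hap, hbp, one_mul]
      inv_mem' := by
        rintro a ⟨ha, hap⟩
        exact ⟨Subgroup.inv_mem _ ha, by rw [inv_pow, hap, inv_one]⟩ }
  have hS : largestPReduced p L ≤ S := by
    apply sSup_le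
    intro V hV
    intro x hx
    exact ⟨(le_sSup hV : V ≤ largestPReduced p L) hx, hV.2.1.2 x hx⟩
  intro a ha
  exact (hS ha).2

/-- PIECE S61-YEL -/
theorem yM_elemAb {G : Type*} [Group G] (p : ℕ) [Fact p.Prime] (M : Subgroup G) :
    IsElementaryAbelian p (largestPReducedOf p M) := by
  obtain ⟨hc, he⟩ := s61_yel_largest (L := ↥M) p
  refine ⟨?_, ?_⟩
  · unfold largestPReducedOf
    exact Subgroup.map_isMulCommutative _ _
  · intro a ha
    unfold largestPReducedOf at ha
    obtain ⟨x, hx, rfl⟩ := Subgroup.mem_map.mp ha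
    have := he x hx
    rw [← map_pow, this, map_one]

end Cfsg.Agent.Helper23.S61
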