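import Mathlib
import Cfsg.Agent.Lib.Helper23.S63Defs

/-!
# S2863, piece S63-CTX: `IsInFrakL` gives the context `Ctx`
-/

set_option autoImplicit false
set_option linter.unusedVariables false

namespace Cfsg.Agent.Helper23.S63

open Cfsg
open scoped Pointwise

/-- an `L`-invariant subgroup, cut down to `L`, is normal in `↥L` -/
theorem s63_ctx_normal_subgroupOf {G : Type*} [Group G] (L W : Subgroup G)
    (hW : ∀ g ∈ L, ∀ w ∈ W, g * w * g⁻¹ ∈ W) : (W.subgroupOf L).Normal := by
  refine ⟨fun w hw l => ?_⟩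
  rw [Subgroup.mem_subgroupOf] at hw ⊢
  exact hW _ l.2 _ hw

theorem s63_ctx_pCore_normal {H : Type*} [Group H] (p : ℕ) : (pCore p H).Normal := by
  unfold pCore
  apply Subgroup.sSup_normal
  rintro N ⟨hN, _⟩
  exact hN

/-- PIECE S63-CTX -/
theorem ctx_of_frakL {G : Type*} [Group G] [Finite G] {p : ℕ} [Fact p.Prime] (M L : Subgroup G)
    (hL : IsInFrakL p M L) (hYel : IsElementaryAbelian p (largestPReducedOf p M)) :
    Ctx L (largestPReducedOf p M) (pCoreOf p L) := by
  obtain ⟨hYL, hAcl, hAN, hmin, _, ⟨hNlt, hmax⟩, _⟩ := hL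
  obtain ⟨hYc, hYe⟩ := hYel
  have hAL : pCoreOf p L ≤ L := by
    unfold pCoreOf
    exact Subgroup.map_subtype_le _
  refine
    { YL := hYL
      Ycomm := ?_
      AL := hAL
      Anorm := ?_
      AY := ?_
      Agen := ?_
      max := ?_
      Nlt := ?_
      ncl := ?_
      CA := ?_ }
  · -- Ycomm
    intro a ha b hb
    have := hYc.is_comm.comm (⟨a, ha⟩ : ↥(largestPReducedOf p M)) ⟨b, hb⟩
    exact congrArg Subtype.val this
  · -- Anorm
    intro g hg a ha
    unfold pCoreOf at ha ⊢
    obtain ⟨a', ha', rfl⟩ := Subgroup.mem_map.1 ha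
    have hn : (pCore p ↥L).Normal := s63_ctx_pCore_normal p
    have := hn.conj_mem a' ha' ⟨g, hg⟩
    exact Subgroup.mem_map.2 ⟨_, this, rfl⟩
  · -- AY
    intro a ha y hy
    have h1 := hAN ha
    rw [Subgroup.mem_normalizer_iff] at h1
    exact (h1 y).1 hy
  · -- Agen
    intro W hW hinv
    have hn := s63_ctx_normal_subgroupOf L W hinv
    have h1 : Subgroup.normalClosure
        (((largestPReducedOf p M ⊓ pCoreOf p L).subgroupOf L : Subgroup ↥L) : Set ↥L) ≤
        W.subgroupOf L := by
      apply Subgroup.normalClosure_le_normal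
      intro x hx
      exact Subgroup.mem_subgroupOf.2 (hW (Subgroup.mem_subgroupOf.1 hx))
    intro a ha
    rw [hAcl] at ha
    obtain ⟨a', ha', rfl⟩ := Subgroup.mem_map.1 ha
    exact Subgroup.mem_subgroupOf.1 (h1 ha')
  · -- max
    intro X hYX hXL hne
    exact (hmax X hYX (lt_of_le_of_ne hXL hne)).trans inf_le_right
  · -- Nlt
    intro hle
    have : L ⊓ Subgroup.normalizer (largestPReducedOf p M : Set G) = L := inf_eq_left.2 hle
    rw [this] at hNlt
    exact lt_irrefl _ hNlt
  · -- ncl
    intro W hW hinv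
    have hn := s63_ctx_normal_subgroupOf L W hinv
    have h1 : Subgroup.normalClosure
        (((largestPReducedOf p M).subgroupOf L : Subgroup ↥L) : Set ↥L) ≤ W.subgroupOf L := by
      apply Subgroup.normalClosure_le_normal
      intro x hx
      exact Subgroup.mem_subgroupOf.2 (hW (Subgroup.mem_subgroupOf.1 hx))
    rw [hmin.1] at h1
    intro l hl
    exact Subgroup.mem_subgroupOf.1 (h1 (Subgroup.mem_top (⟨l, hl⟩ : ↥L)))
  · -- CA
    intro c hc
    have hcL : c ∈ L := hYL hc.1
    have hcent : c ∈ Subgroup.centralizer (L : Set G) := hc.2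
    rw [Subgroup.mem_centralizer_iff] at hcent
    -- the subgroup `C.subgroupOf L`
    have hinv : ∀ g ∈ L, ∀ w ∈ (largestPReducedOf p M ⊓ Subgroup.centralizer (L : Set G) :
        Subgroup G), g * w * g⁻¹ ∈ (largestPReducedOf p M ⊓ Subgroup.centralizer (L : Set G) :
        Subgroup G) := by
      intro g hg w hw
      have hw2 : w ∈ Subgroup.centralizer (L : Set G) := hw.2
      rw [Subgroup.mem_centralizer_iff] at hw2
      have : g * w * g⁻¹ = w := by rw [hw2 g hg, mul_inv_cancel_right]
      rw [this]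
      exact hw
    have hn := s63_ctx_normal_subgroupOf L _ hinv
    have hpg : IsPGroup p ((largestPReducedOf p M ⊓ Subgroup.centralizer (L : Set G) :
        Subgroup G).subgroupOf L) := by
      intro x
      refine ⟨1, ?_⟩
      apply Subtype.ext
      apply Subtype.ext
      rw [pow_one]
      show (((x : ↥L) : G)) ^ p = 1
      have hx := Subgroup.mem_subgroupOf.1 x.2
      exact hYe _ hx.1
    have hle : (largestPReducedOf p M ⊓ Subgroup.centralizer (L : Set G) :
        Subgroup G).subgroupOf L ≤ pCore p ↥L := le_sSup ⟨hn, hpg⟩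
    unfold pCoreOf
    refine Subgroup.mem_map.2 ⟨⟨c, hcL⟩, hle ?_, rfl⟩
    exact Subgroup.mem_subgroupOf.2 hc

end Cfsg.Agent.Helper23.S63
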