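import Mathlib
import Cfsg.Agent.Lib.Helper23.S63Defs

/-!
# S2863, piece S63-Q8
-/

set_option autoImplicit false
set_option linter.unusedVariables false

namespace Cfsg.Agent.Helper23.S63

open Cfsg
open scoped Pointwise

/-- if `x² ≡ z` modulo the abelian normal subgroup `Ab`, `x` is fixed-point-free on `Ab` and `z`
fixes `a ∈ Ab`, then `x` inverts `a` -/
theorem s63_q8_inverts {Q : Type*} [Group Q] (Ab : Subgroup Q)
    (hn : ∀ q : Q, ∀ a ∈ Ab, q * a * q⁻¹ ∈ Ab)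
    (hc : ∀ a ∈ Ab, ∀ b ∈ Ab, a * b = b * a)
    (z x : Q) (hxx : x * x * z⁻¹ ∈ Ab)
    (fx : ∀ a ∈ Ab, x * a * x⁻¹ = a → a = 1)
    (a : Q) (ha : a ∈ Ab) (hz : z * a * z⁻¹ = a) : x * a * x⁻¹ = a⁻¹ := by
  have h1 : (x * x) * a * (x * x)⁻¹ = a := by
    have e1 : (x * x) * a * (x * x)⁻¹ = (x * x * z⁻¹) * (z * a * z⁻¹) * (x * x * z⁻¹)⁻¹ := by group
    rw [e1, hz, hc _ hxx a ha, mul_inv_cancel_right]
  have hxa : x * a * x⁻¹ ∈ Ab := hn x a ha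
  have hb : a * (x * a * x⁻¹) ∈ Ab := Subgroup.mul_mem _ ha hxa
  have h2 : x * (a * (x * a * x⁻¹)) * x⁻¹ = a * (x * a * x⁻¹) := by
    have e2 : x * (a * (x * a * x⁻¹)) * x⁻¹ = (x * a * x⁻¹) * ((x * x) * a * (x * x)⁻¹) := by group
    rw [e2, h1, hc _ hxa a ha]
  have h3 := fx _ hb h2
  exact eq_inv_of_mul_eq_one_right h3

theorem s63_q8_abs {Q : Type*} [Group Q] (Ab : Subgroup Q)
    (hn : ∀ q : Q, ∀ a ∈ Ab, q * a * q⁻¹ ∈ Ab)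
    (hc : ∀ a ∈ Ab, ∀ b ∈ Ab, a * b = b * a)
    (hodd : ∀ a ∈ Ab, a * a = 1 → a = 1)
    (z i j : Q) (hii : i * i * z⁻¹ ∈ Ab) (hjj : j * j * z⁻¹ ∈ Ab)
    (hij : (i * j) * (i * j) * z⁻¹ ∈ Ab)
    (fi : ∀ a ∈ Ab, i * a * i⁻¹ = a → a = 1) (fj : ∀ a ∈ Ab, j * a * j⁻¹ = a → a = 1)
    (fij : ∀ a ∈ Ab, (i * j) * a * (i * j)⁻¹ = a → a = 1) :
    ∀ a ∈ Ab, z * a * z⁻¹ = a → a = 1 := by
  intro a ha hz
  have h1 := s63_q8_inverts Ab hn hc z i hii fi a ha hz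
  have h2 := s63_q8_inverts Ab hn hc z j hjj fj a ha hz
  have h3 := s63_q8_inverts Ab hn hc z (i * j) hij fij a ha hz
  have h4 : (i * j) * a * (i * j)⁻¹ = a := by
    have e : (i * j) * a * (i * j)⁻¹ = i * (j * a * j⁻¹) * i⁻¹ := by group
    rw [e, h2]
    have e2 : i * a⁻¹ * i⁻¹ = (i * a * i⁻¹)⁻¹ := by group
    rw [e2, h1, inv_inv]
  rw [h4] at h3
  apply hodd a ha
  calc a * a = a * a⁻¹ := by rw [← h3]
    _ = 1 := mul_inv_cancel a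

/-- PIECE S63-Q8 -/
theorem fpf_of_q8 {G : Type*} [Group G] {L Y A : Subgroup G} (h : Ctx L Y A)
    (hcomm : ∀ a ∈ A, ∀ b ∈ A, a * b * a⁻¹ * b⁻¹ ∈ Cc L Y)
    (hodd : ∀ a ∈ A, a * a ∈ Cc L Y → a ∈ Cc L Y)
    (z0 i j : G) (hz0 : z0 ∈ L) (hi : i ∈ L) (hj : j ∈ L)
    (hii : i * i * z0⁻¹ ∈ A) (hjj : j * j * z0⁻¹ ∈ A) (hij : (i * j) * (i * j) * z0⁻¹ ∈ A)
    (fi : FPF L Y A i) (fj : FPF L Y A j) (fij : FPF L Y A (i * j)) : FPF L Y A z0 := by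
  -- `C` is central in `L`
  have hCcent : ∀ c ∈ Cc L Y, ∀ l ∈ L, l * c = c * l := by
    intro c hc l hl
    have h1 : c ∈ Subgroup.centralizer (L : Set G) := hc.2
    rw [Subgroup.mem_centralizer_iff] at h1
    exact h1 l hl
  have hnorm : ((Cc L Y).subgroupOf L).Normal := by
    refine ⟨fun c hc l => ?_⟩
    rw [Subgroup.mem_subgroupOf] at hc ⊢
    have h1 : ((l * c * l⁻¹ : ↥L) : G) = (l : G) * (c : G) * (l : G)⁻¹ := rfl
    rw [h1, hCcent _ hc _ l.2, mul_inv_cancel_right]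
    exact hc
  -- the projection
  have key : ∀ x : ↥L, (QuotientGroup.mk' ((Cc L Y).subgroupOf L)) x = 1 ↔ (x : G) ∈ Cc L Y := by
    intro x
    rw [QuotientGroup.mk'_apply, QuotientGroup.eq_one_iff, Subgroup.mem_subgroupOf]
  set π := QuotientGroup.mk' ((Cc L Y).subgroupOf L) with hπ
  -- the image of `A`
  have hAb : ∀ q : ↥L ⧸ (Cc L Y).subgroupOf L, q ∈ (A.subgroupOf L).map π ↔
      ∃ a : G, ∃ ha : a ∈ A, π ⟨a, h.AL ha⟩ = q := by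
    intro q
    constructor
    · rintro ⟨x, hx, rfl⟩
      exact ⟨x.1, Subgroup.mem_subgroupOf.1 hx, rfl⟩
    · rintro ⟨a, ha, rfl⟩
      exact ⟨⟨a, h.AL ha⟩, Subgroup.mem_subgroupOf.2 ha, rfl⟩
  have habs := s63_q8_abs ((A.subgroupOf L).map π)
    (by
      intro q a ha
      obtain ⟨l, rfl⟩ := QuotientGroup.mk'_surjective _ q
      rw [hAb] at ha ⊢
      obtain ⟨a', ha', rfl⟩ := ha
      refine ⟨(l : G) * a' * (l : G)⁻¹, h.Anorm _ l.2 _ ha', ?_⟩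
      rw [← map_inv, ← map_mul, ← map_mul]
      rfl)
    (by
      intro a ha b hb
      rw [hAb] at ha hb
      obtain ⟨a', ha', rfl⟩ := ha
      obtain ⟨b', hb', rfl⟩ := hb
      have h1 := hcomm a' ha' b' hb'
      have h2 : π (⟨a', h.AL ha'⟩ * ⟨b', h.AL hb'⟩ * ⟨a', h.AL ha'⟩⁻¹ * ⟨b', h.AL hb'⟩⁻¹) = 1 :=
        (key _).2 h1
      rw [map_mul, map_mul, map_mul, map_inv, map_inv] at h2
      have h3 := mul_inv_eq_one.1 h2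
      exact mul_inv_eq_iff_eq_mul.1 h3)
    (by
      intro a ha haa
      rw [hAb] at ha
      obtain ⟨a', ha', rfl⟩ := ha
      rw [← map_mul] at haa
      have h1 : a' * a' ∈ Cc L Y := (key _).1 haa
      exact (key _).2 (hodd a' ha' h1))
    (π ⟨z0, hz0⟩) (π ⟨i, hi⟩) (π ⟨j, hj⟩)
    (by
      rw [hAb]
      refine ⟨i * i * z0⁻¹, hii, ?_⟩
      rw [← map_inv, ← map_mul, ← map_mul]
      rfl)
    (by
      rw [hAb]
      refine ⟨j * j * z0⁻¹, hjj, ?_⟩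
      rw [← map_inv, ← map_mul, ← map_mul]
      rfl)
    (by
      rw [hAb]
      refine ⟨(i * j) * (i * j) * z0⁻¹, hij, ?_⟩
      rw [← map_inv, ← map_mul, ← map_mul, ← map_mul]
      rfl)
    (by
      intro a ha hfix
      rw [hAb] at ha
      obtain ⟨a', ha', rfl⟩ := ha
      have h1 : π (⟨i, hi⟩ * ⟨a', h.AL ha'⟩ * ⟨i, hi⟩⁻¹ * ⟨a', h.AL ha'⟩⁻¹) = 1 := by
        rw [map_mul, map_mul, map_mul, map_inv, map_inv, hfix, mul_inv_cancel]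
      have h2 : i * a' * i⁻¹ * a'⁻¹ ∈ Cc L Y := (key _).1 h1
      exact (key _).2 (fi a' ha' h2))
    (by
      intro a ha hfix
      rw [hAb] at ha
      obtain ⟨a', ha', rfl⟩ := ha
      have h1 : π (⟨j, hj⟩ * ⟨a', h.AL ha'⟩ * ⟨j, hj⟩⁻¹ * ⟨a', h.AL ha'⟩⁻¹) = 1 := by
        rw [map_mul, map_mul, map_mul, map_inv, map_inv, hfix, mul_inv_cancel]
      have h2 : j * a' * j⁻¹ * a'⁻¹ ∈ Cc L Y := (key _).1 h1
      exact (key _).2 (fj a' ha' h2))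
    (by
      intro a ha hfix
      rw [hAb] at ha
      obtain ⟨a', ha', rfl⟩ := ha
      have h1 : π ((⟨i, hi⟩ * ⟨j, hj⟩) * ⟨a', h.AL ha'⟩ * (⟨i, hi⟩ * ⟨j, hj⟩)⁻¹ *
          ⟨a', h.AL ha'⟩⁻¹) = 1 := by
        rw [map_mul, map_mul, map_mul, map_inv, map_inv, map_mul, hfix, mul_inv_cancel]
      have h2 : (i * j) * a' * (i * j)⁻¹ * a'⁻¹ ∈ Cc L Y := (key _).1 h1
      exact (key _).2 (fij a' ha' h2))
  intro a ha hfix
  have h1 : π (⟨z0, hz0⟩ * ⟨a, h.AL ha⟩ * ⟨z0, hz0⟩⁻¹ * ⟨a, h.AL ha⟩⁻¹) = 1 := (key _).2 hfix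
  rw [map_mul, map_mul, map_mul, map_inv, map_inv] at h1
  have h2 := mul_inv_eq_one.1 h1
  have h3 := habs (π ⟨a, h.AL ha⟩) ((hAb _).2 ⟨a, ha, rfl⟩) h2
  exact (key _).1 h3

end Cfsg.Agent.Helper23.S63
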