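import Mathlib
import Cfsg.Agent.Lib.Helper23.S63Defs
import Cfsg.Agent.Lib.Helper2.SzPair
import Cfsg.Agent.Lib.Helper2.SzPart2
import Cfsg.Agent.Lib.Helper2.SzAut2
import Cfsg.Agent.Lib.Helper2.SzBorelSub
import Cfsg.Agent.Lib.Helper9.S61SZB

/-!
# S2863, piece S63-SZSTD: in `Sz(q)` every element which is not a `2`-element is the product of two
involutions in general position
-/

set_option autoImplicit false
set_option linter.unusedVariables false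

namespace Cfsg.Agent.Helper23.S63

open Cfsg Cfsg.Agent.Helper2.Sz
open scoped Pointwise

theorem s63_szstd_mem_conj {G : Type*} [Group G] (g x : G) (S : Subgroup G) :
    x ∈ MulAut.conj g • S ↔ g⁻¹ * x * g ∈ S := by
  rw [Subgroup.mem_pointwise_smul_iff_inv_smul_mem]
  rw [MulAut.smul_def, ← map_inv, MulAut.conj_apply, inv_inv]

/-- an element whose order is not a power of `2` does not square to `1` -/
theorem s63_szstd_sq_ne_one {T : Type*} [Group T] (x : T) (hx : ¬ ∃ k : ℕ, orderOf x = 2 ^ k) :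
    x * x ≠ 1 := by
  intro h
  have h1 : orderOf x ∣ 2 := orderOf_dvd_of_pow_eq_one (by rw [pow_two]; exact h)
  rcases (Nat.dvd_prime Nat.prime_two).1 h1 with h2 | h2
  · exact hx ⟨0, by rw [h2, pow_zero]⟩
  · exact hx ⟨1, by rw [h2, pow_one]⟩

/-- the twisted tori: an involution of the normalizer inverts -/
theorem s63_szstd_inv_twisted {F : Type*} [Field F] [Fintype F] {m : ℕ} (S : SzData F m)
    (hm : 1 ≤ m) (hF : Fintype.card F = 2 ^ (2 * m + 1)) {U : Subgroup (Cfsg.Sz F m)}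
    (hU : SzData.IsMem U)
    (hUk : Nat.card U = 2 ^ (2 * m + 1) + 2 ^ (m + 1) + 1 ∨
      Nat.card U = 2 ^ (2 * m + 1) - 2 ^ (m + 1) + 1)
    {x : Cfsg.Sz F m} (hxU : x ∈ U) :
    ∃ τ : Cfsg.Sz F m, τ * τ = 1 ∧ τ * x * τ⁻¹ = x⁻¹ := by
  have hN := S.card_normalizer_twisted hm hF hU.1 hUk
  have h2N : 2 ∣ Nat.card (Subgroup.normalizer (U : Set (Cfsg.Sz F m))) := by
    rw [hN]
    exact Dvd.intro (2 * Nat.card U) (by ring)
  have hfact2 : Fact (Nat.Prime 2) := ⟨Nat.prime_two⟩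
  obtain ⟨g', hg'⟩ := exists_prime_orderOf_dvd_card' 2 h2N
  obtain ⟨g, hgN⟩ := g'
  have hg : orderOf g = 2 := by
    rw [← hg']
    exact (Subgroup.orderOf_mk g hgN).symm
  have hg1 : g ≠ 1 := by
    rintro rfl
    rw [orderOf_one] at hg
    omega
  have hg2 : g * g = 1 := by
    rw [← pow_two, ← hg]
    exact pow_orderOf_eq_one g
  exact ⟨g, hg2, S.inv_inverts hm hF hU hg1 hg2 hgN hxU⟩

/-- every element which is not a `2`-element is inverted by an involution -/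
theorem s63_szstd_exists_inverting {F : Type*} [Field F] [Fintype F] {m : ℕ} (S : SzData F m)
    (hm : 1 ≤ m) (hF : Fintype.card F = 2 ^ (2 * m + 1)) (x : Cfsg.Sz F m)
    (hx : ¬ ∃ k : ℕ, orderOf x = 2 ^ k) :
    ∃ τ : Cfsg.Sz F m, τ * τ = 1 ∧ τ * x * τ⁻¹ = x⁻¹ := by
  have hx1 : x ≠ 1 := by
    rintro rfl
    exact hx ⟨0, by rw [orderOf_one, pow_zero]⟩
  obtain ⟨U, ⟨hU, hxU⟩, -⟩ := S.partition hm hF x hx1
  rcases hU with ⟨P, rfl⟩ | hU
  · exfalso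
    have hfact2 : Fact (Nat.Prime 2) := ⟨Nat.prime_two⟩
    obtain ⟨j, hj⟩ := (IsPGroup.iff_orderOf.1 P.2) ⟨x, hxU⟩
    rw [Subgroup.orderOf_mk] at hj
    exact hx ⟨j, hj⟩
  · have hmem : SzData.IsMem U := hU
    rcases hU.2 with hk | hk | hk
    · -- the split torus
      have hn0 : orderOf x ≠ 0 := (orderOf_pos x).ne'
      have hn1 : orderOf x ≠ 1 := by rwa [Ne, orderOf_eq_one_iff]
      obtain ⟨p, hpdef⟩ : ∃ p, p = (orderOf x).minFac := ⟨_, rfl⟩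
      have hpp : p.Prime := hpdef ▸ Nat.minFac_prime hn1
      have hpn : p ∣ orderOf x := hpdef ▸ Nat.minFac_dvd _
      have hxd : orderOf x ∣ Nat.card U := Subgroup.orderOf_dvd_natCard _ hxU
      have hpq : p ∣ 2 ^ (2 * m + 1) - 1 := by
        rw [← hk]
        exact hpn.trans hxd
      have hp2 : p ≠ 2 := by
        rintro rfl
        exact odd_of_mem hU.2 (hpn.trans hxd)
      have hfact : Fact p.Prime := ⟨hpp⟩
      obtain ⟨y, hydef⟩ : ∃ y, y = x ^ (orderOf x / p) := ⟨_, rfl⟩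
      have hy : orderOf y = p := hydef ▸ orderOf_pow_orderOf_div hn0 hpn
      have hxy : x * y = y * x := by
        rw [hydef]
        exact ((Commute.refl x).pow_right _).eq
      obtain ⟨g, u₀, -, -, hkey⟩ := S.exists_conj_split hm hF hp2 hpq hy
      obtain ⟨v, hv⟩ := hkey x hxy
      have hxe : x = g * S.DgSz v * g⁻¹ := by rw [← hv]; group
      refine ⟨g * S.WgSz * g⁻¹, ?_, ?_⟩
      · calc g * S.WgSz * g⁻¹ * (g * S.WgSz * g⁻¹) = g * (S.WgSz * S.WgSz) * g⁻¹ := by group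
          _ = 1 := by rw [S.WgSz_mul_WgSz]; group
      · have h1 : g * S.WgSz * g⁻¹ * x * (g * S.WgSz * g⁻¹)⁻¹ =
            g * (S.WgSz * (g⁻¹ * x * g) * S.WgSz⁻¹) * g⁻¹ := by group
        rw [h1, hv, S.WgSz_inv, S.WgSz_DgSz_WgSz, hxe, map_inv]
        group
    · exact s63_szstd_inv_twisted S hm hF hmem (Or.inl hk) hxU
    · exact s63_szstd_inv_twisted S hm hF hmem (Or.inr (Set.mem_singleton_iff.1 hk)) hxU

/-- PIECE S63-SZSTD -/
theorem sz_good {F : Type*} [Field F] [Fintype F] {m : ℕ} (S : SzData F m) (hm : 1 ≤ m)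
    (hF : Fintype.card F = 2 ^ (2 * m + 1)) (x : Cfsg.Sz F m)
    (hx : ¬ ∃ k : ℕ, orderOf x = 2 ^ k) :
    IsProd (MulAction.stabilizer (Cfsg.Sz F m) (SzData.pInf F)) S.ZSz x := by
  obtain ⟨τ, hτ2, hτx⟩ := s63_szstd_exists_inverting S hm hF x hx
  have hxx := s63_szstd_sq_ne_one x hx
  have hτ1 : τ ≠ 1 := by
    rintro rfl
    apply hxx
    rw [one_mul, inv_one, mul_one] at hτx
    exact mul_eq_one_iff_eq_inv.2 hτx
  have hτ'2 : (τ * x) * (τ * x) = 1 := by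
    calc (τ * x) * (τ * x) = (τ * x * τ⁻¹) * (τ * τ) * x := by group
      _ = 1 := by rw [hτx, hτ2]; group
  obtain ⟨k, b, hb, hτk⟩ := S.inv_conj_form hm hF hτ1 hτ2
  obtain ⟨t', ht'def⟩ : ∃ t', t' = k⁻¹ * (τ * x) * k := ⟨_, rfl⟩
  have ht'2 : t' * t' = 1 := by
    rw [ht'def]
    calc k⁻¹ * (τ * x) * k * (k⁻¹ * (τ * x) * k) = k⁻¹ * ((τ * x) * (τ * x)) * k := by group
      _ = 1 := by rw [hτ'2]; group
  have hprod : k⁻¹ * x * k⁻¹⁻¹ = S.TgSz 0 b * t' := by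
    have e1 : S.TgSz 0 b = k⁻¹ * τ * k := by rw [hτk]; group
    rw [ht'def, e1]
    calc k⁻¹ * x * k⁻¹⁻¹ = k⁻¹ * ((τ * τ) * x) * k := by rw [hτ2]; group
      _ = k⁻¹ * τ * k * (k⁻¹ * (τ * x) * k) := by group
  -- `t'` moves the point at infinity
  have hmov : t' ∉ MulAction.stabilizer (Cfsg.Sz F m) (SzData.pInf F) := by
    intro hstab
    have hZ : t' ∈ S.ZSz := Cfsg.Agent.Helper23.S61.s61_szb_mem_ZSz S hm hF hstab ht'2
    have htZ : S.TgSz 0 b ∈ S.ZSz := ⟨b, rfl⟩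
    have hprodZ : S.TgSz 0 b * t' ∈ S.ZSz := Subgroup.mul_mem _ htZ hZ
    obtain ⟨b'', hb''⟩ := S.mem_ZSz.1 hprodZ
    have hsq : (S.TgSz 0 b * t') * (S.TgSz 0 b * t') = 1 := by
      rw [hb'']
      exact S.TgSz_zero_mul_self b''
    rw [← hprod] at hsq
    apply hxx
    calc x * x = k * ((k⁻¹ * x * k⁻¹⁻¹) * (k⁻¹ * x * k⁻¹⁻¹)) * k⁻¹ := by group
      _ = 1 := by rw [hsq]; group
  have ht'1 : t' ≠ 1 := by
    rintro rfl
    exact hmov (Subgroup.one_mem _)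
  obtain ⟨g, b', hb', ht'g⟩ := S.inv_conj_form hm hF ht'1 ht'2
  refine ⟨k⁻¹, g, S.TgSz 0 b, ⟨b, rfl⟩, t', ?_, ?_, hmov, hprod⟩
  · rw [s63_szstd_mem_conj, ht'g]
    have : g⁻¹ * (g * S.TgSz 0 b' * g⁻¹) * g = S.TgSz 0 b' := by group
    rw [this]
    exact ⟨b', rfl⟩
  · intro hin
    rw [s63_szstd_mem_conj] at hin
    have hsq : (g⁻¹ * S.TgSz 0 b * g) * (g⁻¹ * S.TgSz 0 b * g) = 1 := by
      calc (g⁻¹ * S.TgSz 0 b * g) * (g⁻¹ * S.TgSz 0 b * g)
          = g⁻¹ * (S.TgSz 0 b * S.TgSz 0 b) * g := by group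
        _ = 1 := by rw [S.TgSz_zero_mul_self]; group
    have hZ := Cfsg.Agent.Helper23.S61.s61_szb_mem_ZSz S hm hF hin hsq
    have hQ := S.ZSz_le_QSz hZ
    have hgB := S.mem_stabilizer_of_conj_mem_QSz (S.TgSz_mem 0 b) (S.TgSz_zero_ne_one hb) hQ
    apply hmov
    rw [ht'g]
    exact Subgroup.mul_mem _ (Subgroup.mul_mem _ hgB (S.QSz_le_stabilizer (S.TgSz_mem 0 b')))
      (Subgroup.inv_mem _ hgB)

end Cfsg.Agent.Helper23.S63
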