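import Mathlib
import Cfsg.Agent.Lib.Helper23.Sp4Defs
import Cfsg.Agent.Lib.Helper13.SemisimpleCharpolyGL
import Cfsg.Agent.Lib.Helper13.SympConj
import Cfsg.Agent.Lib.Helper28.SpSingMax

/-!
# S6002 piece I (helper27): semisimple elements of `Sp₄(F)` with the same characteristic
polynomial are conjugate in `Sp₄(F)`
-/

set_option autoImplicit false

namespace Cfsg.Agent.Helper27.Sp4I

open Matrix Cfsg.Agent.Helper23.Sp4

theorem toGLHom_injective {F : Type*} [Field F] (m : ℕ) :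
    Function.Injective (Cfsg.Agent.Helper28.SpSingMax.toGLHom m F) := by
  intro A B h
  apply Subtype.ext
  have := congrArg (fun g : GL (Fin m ⊕ Fin m) F =>
    (g : Matrix (Fin m ⊕ Fin m) (Fin m ⊕ Fin m) F)) h
  simpa [Cfsg.Agent.Helper28.SpSingMax.toGLHom_val] using this

theorem symp_conj_of_charpoly {F : Type*} [Field F] [Fintype F] {p : ℕ} [Fact p.Prime]
    [CharP F p] (x y : GL I4 F) (hx : x ∈ Cfsg.spGL 2 F) (hy : y ∈ Cfsg.spGL 2 F)
    (M : ℕ) (hM : 1 ≤ M) (hMp : M.Coprime p) (hxM : x ^ M = 1) (hyM : y ^ M = 1)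
    (hc : (x : Matrix I4 I4 F).charpoly = (y : Matrix I4 I4 F).charpoly) :
    ∃ g ∈ Cfsg.spGL 2 F, g⁻¹ * x * g = y := by
  classical
  -- step 1: conjugate in GL
  have hox : (orderOf (rho x)).Coprime p := by
    apply Nat.Coprime.coprime_dvd_left _ hMp
    apply orderOf_dvd_of_pow_eq_one
    rw [← map_pow, hxM, map_one]
  have hoy : (orderOf (rho y)).Coprime p := by
    apply Nat.Coprime.coprime_dvd_left _ hMp
    apply orderOf_dvd_of_pow_eq_one
    rw [← map_pow, hyM, map_one]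
  have hcr : ((rho x : GL (Fin 4) F) : Matrix (Fin 4) (Fin 4) F).charpoly =
      ((rho y : GL (Fin 4) F) : Matrix (Fin 4) (Fin 4) F).charpoly := by
    rw [rho_val, rho_val, Matrix.charpoly_reindex, Matrix.charpoly_reindex, hc]
  have hconj := Cfsg.Agent.Helper13.SS.isConj_of_charpoly_eq (rho x) (rho y) hox hoy hcr
  obtain ⟨c, hcc⟩ := isConj_iff.1 hconj
  set P : GL I4 F := rho.symm c with hP
  have hPx : P * x * P⁻¹ = y := by
    apply rho.injective
    rw [map_mul, map_mul, map_inv, hP, MulEquiv.apply_symm_apply]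
    exact hcc
  -- step 2: symplectic matrices
  obtain ⟨A, hA⟩ := Cfsg.Agent.Helper28.SpSingMax.exists_of_mem_spGL x hx
  obtain ⟨B, hB⟩ := Cfsg.Agent.Helper28.SpSingMax.exists_of_mem_spGL y hy
  have hAM : A ^ M = 1 := by
    apply toGLHom_injective 2
    rw [map_pow, hA, hxM, map_one]
  have hAv : (A : Matrix I4 I4 F) = (x : Matrix I4 I4 F) := by
    rw [← hA]; rfl
  have hBv : (B : Matrix I4 I4 F) = (y : Matrix I4 I4 F) := by
    rw [← hB]; rfl
  -- step 3: the intertwiner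
  have h1 : ((P⁻¹ : GL I4 F) : Matrix I4 I4 F) * (P : Matrix I4 I4 F) = 1 := by
    rw [← Units.val_mul, inv_mul_cancel]; rfl
  have h2 : (P : Matrix I4 I4 F) * ((P⁻¹ : GL I4 F) : Matrix I4 I4 F) = 1 := by
    rw [← Units.val_mul, mul_inv_cancel]; rfl
  set X : (I4 → F) ≃ₗ[F] (I4 → F) := Matrix.toLin'OfInv h1 h2 with hXdef
  have hXv : ∀ v, X v = (P : Matrix I4 I4 F) *ᵥ v := by
    intro v
    rfl
  have hPxm : (P : Matrix I4 I4 F) * (x : Matrix I4 I4 F) = (y : Matrix I4 I4 F) * (P : Matrix I4 I4 F) := by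
    have h3 : P * x = y * P := by
      rw [← hPx]; group
    have := congrArg (fun g : GL I4 F => (g : Matrix I4 I4 F)) h3
    simpa using this
  have hX : ∀ v, X ((A : Matrix I4 I4 F) *ᵥ v) = (B : Matrix I4 I4 F) *ᵥ (X v) := by
    intro v
    rw [hXv, hXv, hAv, hBv, Matrix.mulVec_mulVec, Matrix.mulVec_mulVec, hPxm]
  have hMF : (M : F) ≠ 0 := Cfsg.Agent.Helper13.SS.cast_ne_zero_of_coprime hMp
  have hAB := Cfsg.Agent.Helper13.SympSS.symp_isConj_of_intertwiner A B M hM hMF hAM X hX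
  obtain ⟨c', hc'⟩ := isConj_iff.1 hAB
  refine ⟨Cfsg.Agent.Helper28.SpSingMax.toGLHom 2 F c'⁻¹,
    Cfsg.Agent.Helper28.SpSingMax.toGLHom_mem_spGL _, ?_⟩
  rw [← hA, ← hB, ← map_inv, ← map_mul, ← map_mul, inv_inv, hc']

end Cfsg.Agent.Helper27.Sp4I
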