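import Mathlib
import Cfsg.Agent.Lib.Helper24.IPDefs
import Cfsg.Agent.Lib.Helper24.DlSylD1
import Cfsg.Agent.Lib.Helper24.CharAlgebra
import Cfsg.Agent.Lib.Helper18.CliffordCorr

/-!
Piece FLE of the Isaacs–Passman bound: if `Q'` is abelian and self-centralizing in a group all of whose
nontrivial normal subgroups contain `Q'`, then `|Q : Q'|` is at most the largest character degree.
-/

set_option autoImplicit false
set_option linter.style.haveILetI false

namespace Cfsg.Agent.Helper27.IPFle

open Cfsg Cfsg.Agent.Helper24 Cfsg.Agent.Helper24.IP Cfsg.Agent.Helper5 Cfsg.Agent.Helper18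
open scoped commutatorElement

universe u

theorem index_commutator_le {Q : Type u} [Group Q] [Finite Q] {b : ℕ} (hb : Bdd Q b)
    (hQ : Mono Q) (hab : ∀ a ∈ commutator Q, ∀ c ∈ commutator Q, a * c = c * a)
    (hcent : Subgroup.centralizer (commutator Q : Set Q) ≤ commutator Q) :
    (commutator Q).index ≤ b := by
  classical
  letI : Fintype Q := Fintype.ofFinite Q
  set M : Subgroup Q := commutator Q with hM
  letI : Fintype M := Fintype.ofFinite M
  letI : Fintype (IrrCharacter M) := irrFintype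
  letI : Fintype (IrrCharacter Q) := irrFintype
  haveI hMn : M.Normal := by rw [hM, commutator_def]; infer_instance
  -- a nontrivial element of `M`
  obtain ⟨d, hd⟩ : ∃ d : M, d ≠ 1 := by
    by_contra h
    apply hQ.nab
    rw [Subgroup.eq_bot_iff_forall]
    intro x hx
    by_contra hx1
    exact h ⟨⟨x, hx⟩, fun e => hx1 (congrArg Subtype.val e)⟩
  obtain ⟨lam, hlam, hlamd⟩ := DlSyl.exists_irr_ne hd
  have hMcomm : ∀ a b : M, a * b = b * a := fun a b => Subtype.ext (hab a a.2 b b.2)
  have hdeg1 : charDegree lam = 1 := Cd2.linear_of_comm hMcomm hlam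
  have hlam1 : lam 1 = 1 := by rw [irr_one_eq_charDegree hlam, hdeg1, Nat.cast_one]
  have hlamc := isCharacter_of_isIrrCharacter hlam
  have hmul := char_mul_of_degree_one hlamc hlam1
  obtain ⟨χ, hχ, hcon⟩ := Cd2.exists_over M hlam
  have hdegχ := degree_eq_of_constituent M hχ hlam hcon
  obtain ⟨e, he⟩ := classInner_char_nat
    (isCharacter_restrict M (isCharacter_of_isIrrCharacter hχ)) hlamc
  set Tg : Subgroup Q := inertia M lam with hT
  have hMT : M ≤ Tg := le_inertia M (isClassFunction_of_isIrrCharacter hlam)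
  have hTM : Tg ≤ M := by
    haveI hTn : Tg.Normal := by
      constructor
      intro t ht g
      have e1 : g * t * g⁻¹ = (g * t * g⁻¹ * t⁻¹) * t := by group
      rw [e1]
      refine Tg.mul_mem (hMT ?_) ht
      have := Subgroup.commutator_mem_commutator (Subgroup.mem_top g) (Subgroup.mem_top t)
      rw [← commutator_def, commutatorElement_def] at this
      exact this
    -- the kernel of `lam` as a subgroup of `Q`
    let K : Subgroup Q :=
      { carrier := {x | ∃ hx : x ∈ M, lam ⟨x, hx⟩ = 1}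
        one_mem' := ⟨M.one_mem, hlam1⟩
        mul_mem' := by
          rintro x y ⟨hx, hx1⟩ ⟨hy, hy1⟩
          refine ⟨M.mul_mem hx hy, ?_⟩
          have := hmul ⟨x, hx⟩ ⟨y, hy⟩
          rw [hx1, hy1, mul_one] at this
          exact this
        inv_mem' := by
          rintro x ⟨hx, hx1⟩
          refine ⟨M.inv_mem hx, ?_⟩
          have := hmul ⟨x, hx⟩ ⟨x⁻¹, M.inv_mem hx⟩
          have e2 : (⟨x, hx⟩ * ⟨x⁻¹, M.inv_mem hx⟩ : M) = 1 := Subtype.ext (mul_inv_cancel x)
          rw [e2, hlam1, hx1, one_mul] at this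
          exact this.symm }
    have hNK : ⁅Tg, M⁆ ≤ K := by
      rw [Subgroup.commutator_le]
      intro t ht m hm
      rw [commutatorElement_def]
      have hc : t * m * t⁻¹ ∈ M := hMn.conj_mem m hm t
      refine ⟨M.mul_mem hc (M.inv_mem hm), ?_⟩
      have h1 := hmul ⟨t * m * t⁻¹, hc⟩ ⟨m⁻¹, M.inv_mem hm⟩
      have h2 : lam ⟨t * m * t⁻¹, hc⟩ = lam ⟨m, hm⟩ := by
        have := congrFun ((mem_inertia M lam t).mp ht) ⟨m, hm⟩
        rw [conjFun_apply] at this
        exact this
      have h3 := hmul ⟨m, hm⟩ ⟨m⁻¹, M.inv_mem hm⟩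
      have e2 : (⟨m, hm⟩ * ⟨m⁻¹, M.inv_mem hm⟩ : M) = 1 := Subtype.ext (mul_inv_cancel m)
      rw [e2, hlam1] at h3
      rw [h2, ← h3] at h1
      exact h1
    have hNbot : ⁅Tg, M⁆ = ⊥ := by
      by_contra hne
      have hMN := hQ.min ⁅Tg, M⁆ inferInstance hne
      obtain ⟨hdM, hd1⟩ := hNK (hMN d.2)
      apply hlamd
      rw [hlam1]
      exact hd1
    intro t ht
    apply hcent
    rw [Subgroup.mem_centralizer_iff]
    intro m hm
    have := Subgroup.commutator_mem_commutator ht hm
    rw [hNbot, Subgroup.mem_bot, commutatorElement_eq_one_iff_mul_comm] at this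
    exact this.symm
  rw [he, hlam1, mul_one, irr_one_eq_charDegree hχ] at hdegχ
  have h1 : charDegree χ = e * Tg.index := by exact_mod_cast hdegχ
  have he0 : e ≠ 0 := by
    rintro rfl
    apply hcon
    rw [he]
    simp
  have h2 : M.index ∣ Tg.index := Subgroup.index_dvd_of_le hTM
  have h3 : Tg.index ≠ 0 := Subgroup.index_ne_zero_of_finite
  have h4 := Nat.le_of_dvd (Nat.pos_of_ne_zero h3) h2
  have h5 := hb χ hχ
  calc M.index ≤ Tg.index := h4
    _ ≤ e * Tg.index := Nat.le_mul_of_pos_left _ (Nat.pos_of_ne_zero he0)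
    _ = charDegree χ := h1.symm
    _ ≤ b := h5

end Cfsg.Agent.Helper27.IPFle
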