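import Mathlib
import Cfsg.Agent.Lib.Helper24.IPDefs

/-!
Pieces KMAX and SMALL of the Isaacs–Passman bound.
-/

set_option autoImplicit false

namespace Cfsg.Agent.Helper27.IPKS

open Cfsg Cfsg.Agent.Helper24 Cfsg.Agent.Helper24.IP

universe u

variable {G : Type u} [Group G] [Finite G]

/-- A nonabelian finite group has a normal subgroup maximal subject to nonabelian quotient. -/
theorem exists_maxNA (hna : ∃ x y : G, x * y ≠ y * x) : ∃ K : Subgroup G, MaxNA K := by
  have hwf : WellFounded ((· > ·) : Subgroup G → Subgroup G → Prop) := wellFounded_gt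
  have hne : ({K | K.Normal ∧ ¬ commutator G ≤ K} : Set (Subgroup G)).Nonempty := by
    refine ⟨⊥, inferInstance, fun h => ?_⟩
    obtain ⟨x, y, hxy⟩ := hna
    have h0 := Subgroup.commutator_mem_commutator (Subgroup.mem_top x) (Subgroup.mem_top y)
    rw [← commutator_def] at h0
    have h1 := h h0
    rw [Subgroup.mem_bot, commutatorElement_eq_one_iff_mul_comm] at h1
    exact hxy h1
  obtain ⟨K, hK, hmax⟩ := hwf.has_min _ hne
  refine ⟨K, hK.1, hK.2, fun L hL hKL => ?_⟩
  by_contra h
  exact hmax L ⟨hL, h⟩ hKL

omit [Finite G] in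
theorem map_commutator_mk (K : Subgroup G) [K.Normal] :
    (commutator G).map (QuotientGroup.mk' K) = commutator (G ⧸ K) := by
  rw [commutator_def, commutator_def, Subgroup.map_commutator, ← MonoidHom.range_eq_map,
    MonoidHom.range_eq_top.mpr (QuotientGroup.mk'_surjective K)]

omit [Finite G] in
/-- The quotient by such a subgroup is nonabelian with every nontrivial normal subgroup containing the
commutator subgroup. -/
theorem mono_of_maxNA (K : Subgroup G) [K.Normal] (hK : MaxNA K) : Mono (G ⧸ K) := by
  refine ⟨fun h => ?_, fun L hL hne => ?_⟩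
  · rw [← map_commutator_mk K, Subgroup.map_eq_bot_iff, QuotientGroup.ker_mk'] at h
    exact hK.nab h
  · have hsurj := QuotientGroup.mk'_surjective K
    have hle : K ≤ L.comap (QuotientGroup.mk' K) := by
      intro x hx
      rw [Subgroup.mem_comap]
      have : (QuotientGroup.mk' K) x = 1 := by
        rw [← MonoidHom.mem_ker, QuotientGroup.ker_mk']
        exact hx
      rw [this]
      exact L.one_mem
    have hneq : K ≠ L.comap (QuotientGroup.mk' K) := by
      intro h
      apply hne
      have h1 : (⊥ : Subgroup (G ⧸ K)).comap (QuotientGroup.mk' K) = K := by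
        rw [MonoidHom.comap_bot, QuotientGroup.ker_mk']
      have h2 : L.comap (QuotientGroup.mk' K) = (⊥ : Subgroup (G ⧸ K)).comap (QuotientGroup.mk' K) := by
        rw [h1, ← h]
      exact Subgroup.comap_injective hsurj h2
    have hN : (L.comap (QuotientGroup.mk' K)).Normal := hL.comap _
    have h3 := hK.max _ hN (lt_of_le_of_ne hle hneq)
    rw [← map_commutator_mk K]
    calc (commutator G).map (QuotientGroup.mk' K)
        ≤ (L.comap (QuotientGroup.mk' K)).map (QuotientGroup.mk' K) := Subgroup.map_mono h3
      _ = L := Subgroup.map_comap_eq_self_of_surjective hsurj L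

/-- Small cases are impossible. -/
theorem false_of_small {Q : Type u} [Group Q] [Finite Q] (hQ : Mono Q)
    (hnc : ¬ commutator Q ≤ Subgroup.center Q) (hidx : (commutator Q).index ≤ 2)
    (hcard : Nat.card (commutator Q) ≤ 4) (h3 : Nat.card (commutator Q) ≠ 3) : False := by
  have hmul := Subgroup.card_mul_index (commutator Q)
  have hi0 : (commutator Q).index ≠ 0 := Subgroup.index_ne_zero_of_finite
  have hc0 : Nat.card (commutator Q) ≠ 0 := Nat.card_pos.ne'
  have hpow : ∃ k, Nat.card Q = 2 ^ k := by
    rw [← hmul]
    generalize (commutator Q).index = i at hidx hi0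
    generalize Nat.card (commutator Q) = c at hcard h3 hc0
    interval_cases i <;> interval_cases c <;>
      first
      | exact ⟨0, rfl⟩
      | exact ⟨1, rfl⟩
      | exact ⟨2, rfl⟩
      | exact ⟨3, rfl⟩
      | omega
  obtain ⟨k, hk⟩ := hpow
  have : Fact (Nat.Prime 2) := ⟨Nat.prime_two⟩
  have hp : IsPGroup 2 Q := IsPGroup.of_card hk
  have : Nontrivial Q := by
    by_contra h
    rw [not_nontrivial_iff_subsingleton] at h
    have := Subgroup.subsingleton_iff.mpr h
    exact hQ.nab (Subsingleton.elim _ _)
  have := hp.center_nontrivial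
  have hne : Subgroup.center Q ≠ ⊥ := (Subgroup.nontrivial_iff_ne_bot _).mp inferInstance
  exact hnc (hQ.min _ inferInstance hne)

end Cfsg.Agent.Helper27.IPKS
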