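import Mathlib
import Cfsg.Prelude.Def_Sporadic_a
import Cfsg.Agent.Lib.Helper27.P13Defs

/-!
# S2916 part (D), piece CLASS (helper27 fallback).
-/

set_option autoImplicit false

namespace Cfsg.Agent.Helper27.P13

open Finset

set_option maxRecDepth 100000 in
/-- PIECE CLASS.  A 4-subset of `Fin 13` meeting each of the six sides in exactly one point is one of
the seven other lines. -/
theorem classify_rest : ∀ X : Finset (Fin 13), X.card = 4 →
    (∀ k : Fin 6, (X ∩ sideF k).card = 1) → ∃ j : Fin 7, X = restF j := by
  decide +kernel

end Cfsg.Agent.Helper27.P13
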