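import Mathlib
import Cfsg.Prelude.Def_Sporadic_a
import Cfsg.Agent.Lib.Helper27.P13Defs
import Cfsg.Agent.Lib.Helper27.WittAut

/-!
# S2916 part (D), piece COUNT (helper27 fallback): the standard plane has at most 5616 collineations.
-/

set_option autoImplicit false

namespace Cfsg.Agent.Helper27.P13

open Finset

theorem count_mem_std {b : Finset (Fin 13)} :
    b ∈ std ↔ (∃ k : Fin 6, sideF k = b) ∨ ∃ j : Fin 7, restF j = b := by
  simp [std]

/-- The 13 lines as bit masks. -/
def countMasks : List ℕ := [147, 284, 549, 1066, 2121, 4166, 5377, 2818, 3204, 4744, 6192, 1616, 480]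

/-- Collinearity of three points (Boolean, on bit masks). -/
def countCol (a b c : ℕ) : Bool :=
  countMasks.any (fun m => m.testBit a && m.testBit b && m.testBit c)

/-- Four distinct points, no three collinear. -/
def countOk (t : Fin 13 × Fin 13 × Fin 13 × Fin 13) : Bool :=
  !(countCol t.1.val t.2.1.val t.2.2.1.val) && !(countCol t.1.val t.2.1.val t.2.2.2.val) &&
  !(countCol t.1.val t.2.2.1.val t.2.2.2.val) && !(countCol t.2.1.val t.2.2.1.val t.2.2.2.val)

set_option maxRecDepth 1000000 in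
theorem count_card :
    ((Finset.univ : Finset (Fin 13 × Fin 13 × Fin 13 × Fin 13)).filter
      (fun t => countOk t = true)).card = 5616 := by
  decide +kernel

/-- Collinear (Boolean) points lie on a line of `std`. -/
theorem count_col_spec : ∀ a b c : Fin 13, countCol a.val b.val c.val = true →
    (∃ k : Fin 6, a ∈ sideF k ∧ b ∈ sideF k ∧ c ∈ sideF k) ∨
    (∃ j : Fin 7, a ∈ restF j ∧ b ∈ restF j ∧ c ∈ restF j) := by
  decide +kernel

/-- No line contains three of the points `0, 1, 2, 3`. -/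
theorem count_quad : ∀ i j k : Fin 13, i.val < 4 → j.val < 4 → k.val < 4 → i ≠ j → i ≠ k → j ≠ k →
    (∀ s : Fin 6, ¬ (i ∈ sideF s ∧ j ∈ sideF s ∧ k ∈ sideF s)) ∧
    (∀ s : Fin 7, ¬ (i ∈ restF s ∧ j ∈ restF s ∧ k ∈ restF s)) := by
  decide +kernel

theorem count_noncol (σ : Equiv.Perm (Fin 13)) (hσ : σ ∈ Astd) (i j k : Fin 13) (hi : i.val < 4)
    (hj : j.val < 4) (hk : k.val < 4) (hij : i ≠ j) (hik : i ≠ k) (hjk : j ≠ k) :
    countCol (σ i).val (σ j).val (σ k).val = false := by
  by_contra hcon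
  rw [Bool.not_eq_false] at hcon
  have hσ' := (Cfsg.Agent.Helper27.Witt.mem_setSystemAut_iff σ).1 hσ
  obtain ⟨l, hl, hil, hjl, hkl⟩ : ∃ l ∈ std, σ i ∈ l ∧ σ j ∈ l ∧ σ k ∈ l := by
    rcases count_col_spec _ _ _ hcon with ⟨s, h1, h2, h3⟩ | ⟨s, h1, h2, h3⟩
    · exact ⟨sideF s, count_mem_std.2 (Or.inl ⟨s, rfl⟩), h1, h2, h3⟩
    · exact ⟨restF s, count_mem_std.2 (Or.inr ⟨s, rfl⟩), h1, h2, h3⟩
  set l' : Finset (Fin 13) := l.image σ.symm with hl'
  have himg : l'.image σ = l := by
    rw [hl', image_image]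
    have : (σ ∘ σ.symm : Fin 13 → Fin 13) = id := by
      funext x; simp
    rw [this, image_id]
  have hl'std : l' ∈ std := by
    have : l' ∈ (↑std : Set (Finset (Fin 13))) := by
      rw [← hσ' l', himg]; exact_mod_cast hl
    exact_mod_cast this
  have hmem : ∀ x : Fin 13, σ x ∈ l → x ∈ l' := by
    intro x hx
    rw [hl', mem_image]
    exact ⟨σ x, hx, by simp⟩
  obtain ⟨q1, q2⟩ := count_quad i j k hi hj hk hij hik hjk
  rcases count_mem_std.1 hl'std with ⟨s, hs⟩ | ⟨s, hs⟩
  · exact q1 s ⟨hs ▸ hmem i hil, hs ▸ hmem j hjl, hs ▸ hmem k hkl⟩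
  · exact q2 s ⟨hs ▸ hmem i hil, hs ▸ hmem j hjl, hs ▸ hmem k hkl⟩

/-- PIECE COUNT. -/
theorem card_Astd_le
    (hrigid : ∀ σ : Equiv.Perm (Fin 13), σ ∈ Astd → σ 0 = 0 → σ 1 = 1 → σ 2 = 2 → σ 3 = 3 → σ = 1) :
    Nat.card Astd ≤ 5616 := by
  classical
  set T := (Finset.univ : Finset (Fin 13 × Fin 13 × Fin 13 × Fin 13)).filter
    (fun t => countOk t = true) with hT
  let F : Astd → T := fun σ => ⟨((σ : Equiv.Perm (Fin 13)) 0, (σ : Equiv.Perm (Fin 13)) 1,
    (σ : Equiv.Perm (Fin 13)) 2, (σ : Equiv.Perm (Fin 13)) 3), by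
      rw [hT, mem_filter]
      refine ⟨mem_univ _, ?_⟩
      have e012 := count_noncol σ.1 σ.2 0 1 2 (by decide) (by decide) (by decide) (by decide)
        (by decide) (by decide)
      have e013 := count_noncol σ.1 σ.2 0 1 3 (by decide) (by decide) (by decide) (by decide)
        (by decide) (by decide)
      have e023 := count_noncol σ.1 σ.2 0 2 3 (by decide) (by decide) (by decide) (by decide)
        (by decide) (by decide)
      have e123 := count_noncol σ.1 σ.2 1 2 3 (by decide) (by decide) (by decide) (by decide)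
        (by decide) (by decide)
      simp only [countOk, e012, e013, e023, e123, Bool.not_false, Bool.and_self]⟩
  have hF : Function.Injective F := by
    intro σ τ h
    have h' := congrArg Subtype.val h
    simp only [F, Prod.mk.injEq] at h'
    obtain ⟨a0, a1, a2, a3⟩ := h'
    have hmem : (τ : Equiv.Perm (Fin 13))⁻¹ * σ ∈ Astd := Astd.mul_mem (Astd.inv_mem τ.2) σ.2
    have := hrigid _ hmem (by simp [a0]) (by simp [a1]) (by simp [a2]) (by simp [a3])
    apply Subtype.ext
    have h2 : (σ : Equiv.Perm (Fin 13)) = τ * ((τ : Equiv.Perm (Fin 13))⁻¹ * σ) := by group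
    rw [h2, this, mul_one]
  have h1 := Nat.card_le_card_of_injective F hF
  rw [Nat.card_eq_fintype_card (α := T), Fintype.card_coe, hT, count_card] at h1
  exact h1

end Cfsg.Agent.Helper27.P13
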