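import Mathlib
import Cfsg.Prelude.Def_Sporadic_a
import Cfsg.Agent.Lib.Helper27.P13Defs

/-!
# S2916 part (D), piece INJ: abstract injectivity criterion for a labelling from the six sides.
-/

set_option autoImplicit false
set_option linter.unusedSectionVars false

namespace Cfsg.Agent.Helper27.P13

open Finset

/-- Two points of the standard plane are on a common side of the quadrangle, or on two distinct sides
with a common point. -/
theorem inj_comb : ∀ i j : Fin 13, (∃ k : Fin 6, i ∈ sideF k ∧ j ∈ sideF k) ∨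
    (∃ k m : Fin 6, ∃ c : Fin 13, k ≠ m ∧ i ∈ sideF k ∧ j ∈ sideF m ∧ c ∈ sideF k ∧ c ∈ sideF m) := by
  decide

section Plane

variable {α : Type*} [Fintype α] [DecidableEq α]

/-- PIECE INJ. -/
theorem inj_of_sides (ψ : Fin 13 → α) (side : Fin 6 → Finset α)
    (hmem : ∀ k : Fin 6, ∀ i ∈ sideF k, ψ i ∈ side k)
    (hinj : ∀ k : Fin 6, ∀ i ∈ sideF k, ∀ j ∈ sideF k, ψ i = ψ j → i = j)
    (hmeet : ∀ k m : Fin 6, k ≠ m → (side k ∩ side m).card ≤ 1) : Function.Injective ψ := by
  intro i j hij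
  rcases inj_comb i j with ⟨k, hi, hj⟩ | ⟨k, m, c, hkm, hi, hj, hck, hcm⟩
  · exact hinj k i hi j hj hij
  · have h1 := Finset.card_le_one.1 (hmeet k m hkm)
    have hik : ψ i ∈ side k ∩ side m :=
      mem_inter.2 ⟨hmem k i hi, by rw [hij]; exact hmem m j hj⟩
    have hck' : ψ c ∈ side k ∩ side m := mem_inter.2 ⟨hmem k c hck, hmem m c hcm⟩
    have e1 : ψ i = ψ c := h1 _ hik _ hck'
    have e2 : ψ j = ψ c := by rw [← hij]; exact e1
    have hic : i = c := hinj k i hi c hck e1
    have hjc : j = c := hinj m j hj c hcm e2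
    rw [hic, hjc]

end Plane

end Cfsg.Agent.Helper27.P13
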