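import Mathlib
import Cfsg.Prelude.Def_Sporadic_a
import Cfsg.Agent.Lib.Helper27.P13Defs
import Cfsg.Agent.Lib.Helper27.WittAut

/-!
# S2916 part (D), piece RIGID (helper27 fallback): a collineation of the standard plane fixing the
quadrangle `0, 1, 2, 3` is the identity.
-/

set_option autoImplicit false

namespace Cfsg.Agent.Helper27.P13

open Finset

theorem rigid_mem_std {b : Finset (Fin 13)} :
    b ∈ std ↔ (∃ k : Fin 6, sideF k = b) ∨ ∃ j : Fin 7, restF j = b := by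
  simp [std]

/-- Two vertices of each side. -/
def rigidV1 : Fin 6 → Fin 13 := ![0, 2, 0, 1, 0, 1]

/-- Two vertices of each side. -/
def rigidV2 : Fin 6 → Fin 13 := ![1, 3, 2, 3, 3, 2]

theorem rigid_dec1 : ∀ k k' : Fin 6, rigidV1 k ∈ sideF k' → rigidV2 k ∈ sideF k' → k' = k := by
  decide

theorem rigid_dec2 : ∀ k : Fin 6, ∀ j : Fin 7, rigidV1 k ∈ restF j → rigidV2 k ∈ restF j → False := by
  decide

theorem rigid_dec3 : ∀ k : Fin 6, rigidV1 k ∈ sideF k ∧ rigidV2 k ∈ sideF k ∧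
    (rigidV1 k).val < 4 ∧ (rigidV2 k).val < 4 := by
  decide

theorem rigid_dec4 : (∀ x : Fin 13, x ∈ sideF 0 → x ∈ sideF 1 → x = 4) ∧
    (∀ x : Fin 13, x ∈ sideF 2 → x ∈ sideF 3 → x = 5) ∧
    (∀ x : Fin 13, x ∈ sideF 4 → x ∈ sideF 5 → x = 6) ∧
    (4 : Fin 13) ∈ sideF 0 ∧ (4 : Fin 13) ∈ sideF 1 ∧ (5 : Fin 13) ∈ sideF 2 ∧
    (5 : Fin 13) ∈ sideF 3 ∧ (6 : Fin 13) ∈ sideF 4 ∧ (6 : Fin 13) ∈ sideF 5 := by
  decide

theorem rigid_dec5 : sideF 0 = {0, 1, 4, 7} ∧ sideF 1 = {2, 3, 4, 8} ∧ sideF 2 = {0, 2, 5, 9} ∧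
    sideF 3 = {1, 3, 5, 10} ∧ sideF 4 = {0, 3, 6, 11} ∧ sideF 5 = {1, 2, 6, 12} := by
  decide

theorem rigid_fourth (σ : Equiv.Perm (Fin 13)) (S : Finset (Fin 13)) (hS : S.image σ = S)
    (a b c d : Fin 13) (hSd : S = {a, b, c, d}) (ha : σ a = a) (hb : σ b = b) (hc : σ c = c)
    (hda : d ≠ a) (hdb : d ≠ b) (hdc : d ≠ c) : σ d = d := by
  have hd : σ d ∈ S := by
    rw [← hS]
    exact mem_image_of_mem σ (by rw [hSd]; simp)
  rw [hSd] at hd
  simp only [mem_insert, mem_singleton] at hd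
  rcases hd with h | h | h | h
  · exact absurd (σ.injective (h.trans ha.symm)) hda
  · exact absurd (σ.injective (h.trans hb.symm)) hdb
  · exact absurd (σ.injective (h.trans hc.symm)) hdc
  · exact h

/-- PIECE RIGID. -/
theorem rigid (σ : Equiv.Perm (Fin 13)) (hσ : σ ∈ Astd) (h0 : σ 0 = 0) (h1 : σ 1 = 1)
    (h2 : σ 2 = 2) (h3 : σ 3 = 3) : σ = 1 := by
  have hσ' := (Cfsg.Agent.Helper27.Witt.mem_setSystemAut_iff σ).1 hσ
  have hfix4 : ∀ i : Fin 13, i.val < 4 → σ i = i := by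
    intro i hi
    have : i = 0 ∨ i = 1 ∨ i = 2 ∨ i = 3 := by
      rcases i with ⟨i, hi'⟩
      simp only [Fin.ext_iff] at *
      simp only [Fin.val_zero, Fin.val_one] at *
      have h2' : ((2 : Fin 13) : ℕ) = 2 := rfl
      have h3' : ((3 : Fin 13) : ℕ) = 3 := rfl
      omega
    rcases this with rfl | rfl | rfl | rfl
    · exact h0
    · exact h1
    · exact h2
    · exact h3
  -- every side is fixed
  have hside : ∀ k : Fin 6, (sideF k).image σ = sideF k := by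
    intro k
    obtain ⟨hv1, hv2, hl1, hl2⟩ := rigid_dec3 k
    have hmem : (sideF k).image σ ∈ (↑std : Set (Finset (Fin 13))) := by
      rw [hσ' (sideF k)]
      exact_mod_cast rigid_mem_std.2 (Or.inl ⟨k, rfl⟩)
    have hmem' : (sideF k).image σ ∈ std := by exact_mod_cast hmem
    have m1 : rigidV1 k ∈ (sideF k).image σ := by
      have := mem_image_of_mem σ hv1
      rwa [hfix4 _ hl1] at this
    have m2 : rigidV2 k ∈ (sideF k).image σ := by
      have := mem_image_of_mem σ hv2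
      rwa [hfix4 _ hl2] at this
    rcases rigid_mem_std.1 hmem' with ⟨k', hk'⟩ | ⟨j, hj⟩
    · rw [← hk'] at m1 m2
      rw [← hk', rigid_dec1 k k' m1 m2]
    · rw [← hj] at m1 m2
      exact absurd m2 (fun h => rigid_dec2 k j m1 h)
  obtain ⟨d1, d2, d3, m40, m41, m52, m53, m64, m65⟩ := rigid_dec4
  have himg : ∀ (k : Fin 6) (x : Fin 13), x ∈ sideF k → σ x ∈ sideF k := by
    intro k x hx
    rw [← hside k]
    exact mem_image_of_mem σ hx
  have h4 : σ 4 = 4 := d1 _ (himg 0 4 m40) (himg 1 4 m41)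
  have h5 : σ 5 = 5 := d2 _ (himg 2 5 m52) (himg 3 5 m53)
  have h6 : σ 6 = 6 := d3 _ (himg 4 6 m64) (himg 5 6 m65)
  obtain ⟨s0, s1, s2, s3, s4, s5⟩ := rigid_dec5
  have h7 : σ 7 = 7 := rigid_fourth σ _ (hside 0) 0 1 4 7 s0 h0 h1 h4 (by decide) (by decide) (by decide)
  have h8 : σ 8 = 8 := rigid_fourth σ _ (hside 1) 2 3 4 8 s1 h2 h3 h4 (by decide) (by decide) (by decide)
  have h9 : σ 9 = 9 := rigid_fourth σ _ (hside 2) 0 2 5 9 s2 h0 h2 h5 (by decide) (by decide) (by decide)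
  have h10 : σ 10 = 10 :=
    rigid_fourth σ _ (hside 3) 1 3 5 10 s3 h1 h3 h5 (by decide) (by decide) (by decide)
  have h11 : σ 11 = 11 :=
    rigid_fourth σ _ (hside 4) 0 3 6 11 s4 h0 h3 h6 (by decide) (by decide) (by decide)
  have h12 : σ 12 = 12 :=
    rigid_fourth σ _ (hside 5) 1 2 6 12 s5 h1 h2 h6 (by decide) (by decide) (by decide)
  ext i
  fin_cases i <;> simp only [Equiv.Perm.coe_one, id_eq]
  · exact congrArg Fin.val h0
  · exact congrArg Fin.val h1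
  · exact congrArg Fin.val h2
  · exact congrArg Fin.val h3
  · exact congrArg Fin.val h4
  · exact congrArg Fin.val h5
  · exact congrArg Fin.val h6
  · exact congrArg Fin.val h7
  · exact congrArg Fin.val h8
  · exact congrArg Fin.val h9
  · exact congrArg Fin.val h10
  · exact congrArg Fin.val h11
  · exact congrArg Fin.val h12

end Cfsg.Agent.Helper27.P13
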