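import Mathlib
import Cfsg.Prelude.Def_Sporadic_a
import Cfsg.Agent.Lib.Helper27.P13Defs

/-!
# S2916 part (D), piece STD (helper27 fallback): decidable facts on the standard plane.
-/

set_option autoImplicit false

namespace Cfsg.Agent.Helper27.P13

open Finset

theorem std_mem {b : Finset (Fin 13)} :
    b ∈ std ↔ (∃ k : Fin 6, sideF k = b) ∨ ∃ j : Fin 7, restF j = b := by
  simp [std]

theorem std_inj : Function.Injective sideF ∧ Function.Injective restF ∧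
    (∀ k : Fin 6, ∀ j : Fin 7, sideF k ≠ restF j) ∧
    (∀ k : Fin 6, (sideF k).card = 4) ∧ (∀ j : Fin 7, (restF j).card = 4) := by
  decide +kernel

/-- Two distinct points are on a line. -/
theorem std_ex : ∀ i j : Fin 13, i ≠ j →
    (∃ k : Fin 6, i ∈ sideF k ∧ j ∈ sideF k) ∨ (∃ k : Fin 7, i ∈ restF k ∧ j ∈ restF k) := by
  decide +kernel

/-- Two lines sharing two points are equal. -/
theorem std_uniq1 : ∀ i j : Fin 13, i ≠ j →
    ∀ k k' : Fin 6, (i ∈ sideF k ∧ j ∈ sideF k) ∧ (i ∈ sideF k' ∧ j ∈ sideF k') → k = k' := by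
  decide +kernel

theorem std_uniq2 : ∀ i j : Fin 13, i ≠ j →
    ∀ k : Fin 6, ∀ k' : Fin 7, ¬ ((i ∈ sideF k ∧ j ∈ sideF k) ∧ (i ∈ restF k' ∧ j ∈ restF k')) := by
  decide +kernel

theorem std_uniq3 : ∀ i j : Fin 13, i ≠ j →
    ∀ k k' : Fin 7, (i ∈ restF k ∧ j ∈ restF k) ∧ (i ∈ restF k' ∧ j ∈ restF k') → k = k' := by
  decide +kernel

theorem std_card : std.card = 13 := by
  obtain ⟨h1, h2, h3, -, -⟩ := std_inj
  rw [std, card_union_of_disjoint, card_image_of_injective _ h1, card_image_of_injective _ h2]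
  · simp
  · rw [disjoint_left]
    intro b hb hb'
    obtain ⟨k, -, rfl⟩ := mem_image.1 hb
    obtain ⟨j, -, hj⟩ := mem_image.1 hb'
    exact h3 k j hj.symm

/-- PIECE STD. -/
theorem std_facts : std.card = 13 ∧ Function.Injective sideF ∧ Function.Injective restF ∧
    (∀ k : Fin 6, (sideF k).card = 4) ∧
    Cfsg.IsSteinerSystem 2 4 (↑std : Set (Finset (Fin 13))) := by
  obtain ⟨h1, h2, h3, h4, h5⟩ := std_inj
  refine ⟨std_card, h1, h2, h4, ?_, ?_⟩
  · intro b hb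
    have hb' : b ∈ std := by exact_mod_cast hb
    rcases std_mem.1 hb' with ⟨k, rfl⟩ | ⟨j, rfl⟩
    · exact h4 k
    · exact h5 j
  · intro s hs
    obtain ⟨i, j, hij, rfl⟩ := Finset.card_eq_two.1 hs
    have u1 := fun k k' a b c d => std_uniq1 i j hij k k' ⟨⟨a, b⟩, ⟨c, d⟩⟩
    have u2 := fun k k' a b c d => std_uniq2 i j hij k k' ⟨⟨a, b⟩, ⟨c, d⟩⟩
    have u3 := fun k k' a b c d => std_uniq3 i j hij k k' ⟨⟨a, b⟩, ⟨c, d⟩⟩
    have key : ∀ b : Finset (Fin 13), b ∈ std → ({i, j} : Finset (Fin 13)) ⊆ b → i ∈ b ∧ j ∈ b := by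
      intro b _ hsub
      exact ⟨hsub (mem_insert_self _ _), hsub (mem_insert_of_mem (mem_singleton_self _))⟩
    have sub_of : ∀ b : Finset (Fin 13), i ∈ b → j ∈ b → ({i, j} : Finset (Fin 13)) ⊆ b := by
      intro b hi hj x hx
      rcases mem_insert.mp hx with rfl | hx
      · exact hi
      · rw [mem_singleton.mp hx]; exact hj
    rcases std_ex i j hij with ⟨k, hik, hjk⟩ | ⟨k, hik, hjk⟩
    · refine ⟨sideF k, ⟨by exact_mod_cast std_mem.2 (Or.inl ⟨k, rfl⟩), sub_of _ hik hjk⟩, ?_⟩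
      rintro b' ⟨hb', hsb'⟩
      have hb'' : b' ∈ std := by exact_mod_cast hb'
      obtain ⟨hi', hj'⟩ := key b' hb'' hsb'
      rcases std_mem.1 hb'' with ⟨k', rfl⟩ | ⟨k', rfl⟩
      · rw [u1 k k' hik hjk hi' hj']
      · exact absurd (u2 k k' hik hjk hi' hj') id
    · refine ⟨restF k, ⟨by exact_mod_cast std_mem.2 (Or.inr ⟨k, rfl⟩), sub_of _ hik hjk⟩, ?_⟩
      rintro b' ⟨hb', hsb'⟩
      have hb'' : b' ∈ std := by exact_mod_cast hb'
      obtain ⟨hi', hj'⟩ := key b' hb'' hsb'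
      rcases std_mem.1 hb'' with ⟨k', rfl⟩ | ⟨k', rfl⟩
      · exact absurd (u2 k' k hi' hj' hik hjk) id
      · rw [u3 k k' hik hjk hi' hj']

end Cfsg.Agent.Helper27.P13
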