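import Mathlib
import Cfsg.Prelude.Def_Sporadic_a
import Cfsg.Agent.Lib.Helper27.P13Defs
import Cfsg.Agent.Lib.Helper27.P13CLASS
import Cfsg.Agent.Lib.Helper27.P13STD
import Cfsg.Agent.Lib.Helper27.P13RIGID
import Cfsg.Agent.Lib.Helper27.P13COUNT
import Cfsg.Agent.Lib.Helper27.P13INJ
import Cfsg.Agent.Lib.Helper15.P13BASIC
import Cfsg.Agent.Lib.Helper15.P13QUADEX
import Cfsg.Agent.Lib.Helper14.P13LABPTS
import Cfsg.Agent.Lib.Helper2.P13LABLINES
import Cfsg.Agent.Lib.Helper2.P13EMB
import Cfsg.Agent.Lib.Helper7.P13PROJPTS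
import Cfsg.Agent.Lib.Helper7.P13PROJSTEINER
import Cfsg.Agent.Lib.Helper7.P13PROJINV
import Cfsg.Agent.Lib.Helper9.P13CARD

/-!
# S2916 part (D) (helper27): a group of order 5616 acting faithfully on a Steiner system `S(2,4,13)`
is isomorphic to `PSL(3, ZMod 3)`.
-/

set_option autoImplicit false
set_option linter.unusedVariables false
set_option linter.unusedSectionVars false

namespace Cfsg.Agent.Helper27.P13

open Finset

universe u v

/-- Every Steiner system `S(2,4,13)` is the standard plane. -/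
theorem plane_label {α : Type v} [Fintype α] [DecidableEq α] {L : Set (Finset α)}
    (hL : Cfsg.IsSteinerSystem 2 4 L) (hα : Fintype.card α = 13) :
    ∃ e : α ≃ Fin 13, (fun b : Finset α => b.image e) '' L = (↑std : Set (Finset (Fin 13))) := by
  obtain ⟨q, hq⟩ := exists_quad hL hα
  have hmeet : ∀ l ∈ L, ∀ m ∈ L, l ≠ m → (l ∩ m).card = 1 :=
    fun l hl m hm hlm => lines_meet_card hL hα hl hm hlm
  obtain ⟨ψ, -, hinj, hs⟩ :=
    exists_labelling hL hα q hq (fun ψ side => inj_of_sides ψ side) hmeet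
  obtain ⟨e, -, he⟩ := label_of_points hL hα ψ hinj hs classify_rest std_facts.1
    (fun Bf h => card_lines Bf h hα) hmeet
  exact ⟨e, he⟩

/-- A group of order 5616 acting faithfully on a Steiner system `S(2,4,13)` is `PSL(3, 3)`. -/
theorem iso_psl33_of_plane {G : Type u} [Group G] [Finite G] {α : Type v} [Fintype α]
    [DecidableEq α] [MulAction G α] [FaithfulSMul G α] (L : Set (Finset α))
    (hL : Cfsg.IsSteinerSystem 2 4 L) (hα : Fintype.card α = 13)
    (hinv : ∀ g : G, ∀ l ∈ L, l.image (fun a => g • a) ∈ L) (hcard : Nat.card G = 5616) :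
    Nonempty (G ≃* Matrix.ProjectiveSpecialLinearGroup (Fin 3) (ZMod 3)) := by
  classical
  have hA := card_Astd_le rigid
  obtain ⟨e1⟩ := equiv_Astd L hL hα hinv hcard (plane_label hL hα) hA
  have hb := ppt_bijective
  have hPP : Fintype.card PP = 13 := by
    rw [← Fintype.card_fin 13]; exact (Fintype.card_of_bijective hb).symm
  have hLP := LP_steiner hb
  obtain ⟨e2⟩ := equiv_Astd (H := Matrix.ProjectiveSpecialLinearGroup (Fin 3) (ZMod 3)) LP hLP hPP
    (fun g => LP_inv g) card_PSL33 (plane_label hLP hPP) hA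
  exact ⟨e1.trans e2.symm⟩

end Cfsg.Agent.Helper27.P13
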