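import Mathlib
import Cfsg.Prelude.Def_Blocks
import Cfsg.Agent.Lib.Helper17.M11Defs
import Cfsg.Agent.Lib.Helper24.CharComplete
import Cfsg.Agent.Lib.Helper15.M11UALPHA11

/-!
# S0420: the degree-11 character is 1 at the elements of order 5 (helper27, spare copy of piece ALPHA5)

Same argument as helper15's ALPHA11: an element of order 5 is conjugate into the Sylow subgroup `Q`.
-/

set_option autoImplicit false
set_option linter.unusedSectionVars false
set_option linter.unusedVariables false

namespace Cfsg.Agent.Helper27.M11U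

open Cfsg Cfsg.Agent.Helper24 Cfsg.Agent.Helper17.M11

universe u v

variable {G : Type u} [Group G] [Fintype G]

theorem Asm.alpha_five_bk (hs : IsSimpleGroup G) (hG : Nat.card G = 7920) (P : Sylow 11 G)
    (Q : Sylow 5 G) (T : CT (P : Subgroup G) (Q : Subgroup G)) {a : G} (ha : orderOf a = 5) :
    (T.α : G → ℂ) a = 1 := by
  obtain ⟨g, hgQ, hg1⟩ := ALPHA11.exists_conj_mem Q ha
  have h0 := T.valα (g * a * g⁻¹) hgQ hg1
  have hcf := isClassFunction_of_isIrrCharacter T.α.2 a g
  rw [← hcf]
  exact h0

end Cfsg.Agent.Helper27.M11U
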