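import Mathlib
import Cfsg.Prelude.Def_Blocks
import Cfsg.Agent.Lib.Helper17.M11Defs
import Cfsg.Agent.Lib.Helper17.M11Asm
import Cfsg.Agent.Lib.Helper17.M11Asm2
import Cfsg.Agent.Lib.Helper27.M11UDefs
import Cfsg.Agent.Lib.Helper27.M11UData
import Cfsg.Agent.Lib.Helper27.M11UCLASSIFY
import Cfsg.Agent.Lib.Helper24.M11UALPHA2
import Cfsg.Agent.Lib.Helper27.M11UALPHA5bk
import Cfsg.Agent.Lib.Helper15.M11UALPHA11
import Cfsg.Agent.Lib.Helper15.M11UFRAME
import Cfsg.Agent.Lib.Helper1.M11UFIXVEC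
import Cfsg.Agent.Lib.Helper1.M11UGEN
import Cfsg.Agent.Lib.Helper4.M11USTABNE
import Cfsg.Agent.Lib.Helper4.M11UISO
import Cfsg.Agent.Lib.Helper12.M11USIGN
import Cfsg.Agent.Lib.Helper12.M11USYLCNT
import Cfsg.Agent.Lib.Helper5.M11USNOTK
import Cfsg.Agent.Lib.Helper19.M11UORBIT
import Cfsg.Agent.Lib.Helper19.M11UCOORD
import Cfsg.Agent.Lib.Helper18.M11UCANDS
import Cfsg.Agent.Lib.Helper18.M11UBADKILL

/-!
# Uniqueness of the simple group of order 7920 (S0420): assembly (helper27)

`theorem_U`: every simple group of order `7920` is isomorphic to `X0grp ≤ Perm (Fin 12)`.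
Paper proof: `plans/S0420_proof.md`.
-/

set_option autoImplicit false
set_option linter.unusedSectionVars false
set_option linter.unusedVariables false
set_option linter.style.haveILetI false

namespace Cfsg.Agent.Helper27.M11U

open Cfsg Cfsg.Agent.Helper24 Cfsg.Agent.Helper17.M11

universe u v

section Main

variable {G : Type u} [Group G] [Fintype G]

/-- the stabilizer of a vector in a representation -/
def vecStab {n : ℕ} (ρ : Representation ℂ G (Fin n → ℂ)) (v : Fin n → ℂ) : Subgroup G where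
  carrier := {g | ρ g v = v}
  one_mem' := by simp
  mul_mem' := by
    intro a b ha hb
    simp only [Set.mem_ofPred_eq] at ha hb ⊢
    rw [map_mul, Module.End.mul_apply, hb, ha]
  inv_mem' := by
    intro a ha
    simp only [Set.mem_ofPred_eq] at ha ⊢
    have : ρ a⁻¹ (ρ a v) = v := by
      rw [← Module.End.mul_apply, ← map_mul, inv_mul_cancel, map_one, Module.End.one_apply]
    rw [ha] at this
    exact this

theorem mem_vecStab {n : ℕ} (ρ : Representation ℂ G (Fin n → ℂ)) (v : Fin n → ℂ) (g : G) :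
    g ∈ vecStab ρ v ↔ ρ g v = v := Iff.rfl

/-- conjugation by `u` cubes `x`, so `u` normalizes `⟨x⟩` -/
theorem mem_normalizer_zpowers {x u : G} (hx : orderOf x = 11) (hux : u * x * u⁻¹ = x ^ 3) :
    u ∈ Subgroup.normalizer ((Subgroup.zpowers x : Subgroup G) : Set G) := by
  have hx11 : x ^ 11 = 1 := by rw [← hx]; exact pow_orderOf_eq_one x
  have hconj : ∀ n : ℤ, u * x ^ n * u⁻¹ = (x ^ 3) ^ n := by
    intro n
    rw [← hux]
    exact (conj_zpow).symm
  -- the inverse conjugation: `u⁻¹ x u = x ^ 4`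
  have hinv : u⁻¹ * x * u = x ^ 4 := by
    have hcp : ∀ n : ℕ, (u⁻¹ * x * u) ^ n = u⁻¹ * x ^ n * u := by
      intro n
      have := conj_pow (a := u⁻¹) (b := x) (i := n)
      rwa [inv_inv] at this
    set y := u⁻¹ * x * u with hy
    have hy3 : y ^ 3 = x := by
      rw [hy, hcp 3, ← hux]; group
    have hy11 : y ^ 11 = 1 := by
      rw [hy, hcp 11, hx11]; group
    calc y = y ^ 12 := by rw [pow_succ, hy11, one_mul]
      _ = (y ^ 3) ^ 4 := by rw [← pow_mul]
      _ = x ^ 4 := by rw [hy3]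
  have hconj' : ∀ n : ℤ, u⁻¹ * x ^ n * u = (x ^ 4) ^ n := by
    intro n
    rw [← hinv]
    have := (conj_zpow (a := u⁻¹) (b := x) (i := n))
    rw [inv_inv] at this
    exact this.symm
  rw [Subgroup.mem_normalizer_iff]
  intro h
  constructor
  · rintro ⟨n, rfl⟩
    rw [hconj n]
    exact Subgroup.zpow_mem _ (Subgroup.pow_mem _ (Subgroup.mem_zpowers x) 3) n
  · rintro ⟨n, hn⟩
    have : h = u⁻¹ * x ^ n * u := by
      simp only at hn
      rw [hn]; group
    rw [this, hconj' n]
    exact Subgroup.zpow_mem _ (Subgroup.pow_mem _ (Subgroup.mem_zpowers x) 4) n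

theorem trHom_trans {X : Type v} [MulAction G X] (e : X ≃ Fin 12) (m : Equiv.Perm (Fin 12)) (g : G) :
    trHom (e.trans m) g = m * trHom e g * m⁻¹ := by
  ext i
  rfl

theorem theorem_U (hs : IsSimpleGroup G) (hG : Nat.card G = 7920) : Nonempty (G ≃* X0grp) := by
  classical
  obtain ⟨P, Q, x, u, s, hPx, hQu, hx, hu, hs4, hux, hsu, hN, hNQ⟩ := exists_frame hs hG
  obtain ⟨hP, hC, -⟩ := syl11 hs hG P
  obtain ⟨T⟩ := main_ct hs hG P Q
  -- t = s^2
  have hs44 : s ^ 4 = 1 := by rw [← hs4]; exact pow_orderOf_eq_one s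
  have ht : orderOf (s ^ 2) = 2 := by
    rw [orderOf_pow' s (by norm_num : (2 : ℕ) ≠ 0), hs4]; rfl
  have htu : s ^ 2 * u * (s ^ 2)⁻¹ = u⁻¹ := by
    have h1 : s ^ 2 * u * (s ^ 2)⁻¹ = s * (s * u * s⁻¹) * s⁻¹ := by
      simp only [pow_two, mul_inv_rev, mul_assoc]
    rw [h1, hsu]
    have h2 : s * u ^ 2 * s⁻¹ = (s * u * s⁻¹) ^ 2 := conj_pow.symm
    rw [h2, hsu, ← pow_mul]
    have h5 : u ^ 5 = 1 := by rw [← hu]; exact pow_orderOf_eq_one u
    have : u ^ (2 * 2) * u = 1 := by rw [← pow_succ]; exact h5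
    exact eq_inv_of_mul_eq_one_left this
  have huN : u ∈ Subgroup.normalizer ((P : Subgroup G) : Set G) := by
    rw [hPx]
    exact mem_normalizer_zpowers hx hux
  obtain ⟨ρ, hρ, w, hw, hfix, htw⟩ := exists_fixed_vector hG P hP hC hN T.α T.degα
    (fun a ha => alpha_eleven hs hG P Q T ha) (fun a ha => Asm.alpha_five_bk hs hG P Q T ha)
    (fun a ha => alpha_invol hs hG P Q T ha) hu huN ht htu
  set K : Subgroup G := vecStab ρ w with hKdef
  have hNK : Subgroup.normalizer ((P : Subgroup G) : Set G) ≤ K := fun g hg => hfix g hg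
  have htK : s ^ 2 ∈ K := htw
  have hKtop : K ≠ ⊤ := by
    intro h
    exact not_all_fix ρ hρ w hw (fun g => by
      have : g ∈ K := by rw [h]; trivial
      exact this)
  have hK2 : 2 ∣ Nat.card K := by
    have := Subgroup.orderOf_dvd_natCard K htK
    rwa [ht] at this
  have hK : Nat.card K = 660 := by
    rcases card_of_normalizer_le hG P hP hN K hNK hK2 with h | h
    · exact h
    · exact absurd h hKtop
  have hxK : x ∈ K := hNK (Subgroup.le_normalizer (by rw [hPx]; exact Subgroup.mem_zpowers x))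
  have huK : u ∈ K := hNK huN
  have hsK : s ∉ K := s_not_mem hs hG Q hQu hNQ hu hs4 hsu K hK huK
  -- the action on the cosets
  have hfaith : Function.Injective (MulAction.toPermHom G (G ⧸ K)) := by
    rw [← MonoidHom.ker_eq_bot_iff]
    haveI := hs
    rcases (inferInstance : (MonoidHom.ker (MulAction.toPermHom G (G ⧸ K))).Normal).eq_bot_or_eq_top
      with h | h
    · exact h
    · exfalso
      apply hKtop
      rw [eq_top_iff]
      intro g _
      have hg : g ∈ MonoidHom.ker (MulAction.toPermHom G (G ⧸ K)) := by rw [h]; trivial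
      rw [MonoidHom.mem_ker] at hg
      have h1 : MulAction.toPermHom G (G ⧸ K) g (QuotientGroup.mk 1 : G ⧸ K) = QuotientGroup.mk 1 := by
        rw [hg]; rfl
      have h2 : (QuotientGroup.mk (g * 1) : G ⧸ K) = QuotientGroup.mk 1 := h1
      rw [mul_one, QuotientGroup.eq] at h2
      have : g⁻¹ ∈ K := by simpa using h2
      exact (Subgroup.inv_mem_iff K).1 this
  have hX : Fintype.card (G ⧸ K) = 12 := by
    have h1 := Subgroup.card_eq_card_quotient_mul_card_subgroup K
    rw [hG, hK] at h1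
    rw [← Nat.card_eq_fintype_card]
    omega
  have hfix1 : ∀ g : G, g ∈ K → g • (QuotientGroup.mk 1 : G ⧸ K) = QuotientGroup.mk 1 := by
    intro g hg
    have : g • (QuotientGroup.mk 1 : G ⧸ K) = QuotientGroup.mk (g * 1) := rfl
    rw [this, mul_one, QuotientGroup.eq]
    simpa using (Subgroup.inv_mem_iff K).2 hg
  have hso : s • (QuotientGroup.mk 1 : G ⧸ K) ≠ QuotientGroup.mk 1 := by
    intro h
    have h' : (QuotientGroup.mk (s * 1) : G ⧸ K) = QuotientGroup.mk 1 := h
    rw [mul_one, QuotientGroup.eq] at h'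
    have : s⁻¹ ∈ K := by simpa using h'
    exact hsK ((Subgroup.inv_mem_iff K).1 this)
  obtain ⟨e, heo, hex, heu, hes11, hes0⟩ :=
    exists_coord hX hfaith hx hu hux hsu _ (hfix1 x hxK) (hfix1 u huK) hso
  -- the candidate
  have hSU : trHom e s * U0 = U0 ^ 2 * trHom e s := by
    rw [← heu, ← map_pow, ← map_mul, ← map_mul]
    congr 1
    rw [← hsu]; group
  have hS4 : trHom e s ^ 4 = 1 := by rw [← map_pow, hs44, map_one]
  have hsgn := sign_trivial hs hG (trHom e) s
  have hmem := mem_cands (trHom e s) hes11 hes0 hSU hS4 hsgn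
  rcases classify _ hmem with hbad | ⟨m, k, hk0, hk11, hm11, hmX, hmU, hmS⟩
  · exact (bad_false hG (trHom e) hex heu hbad).elim
  · -- re-coordinatize
    have hcop : Nat.Coprime 11 k := by
      rw [Nat.Prime.coprime_iff_not_dvd (by norm_num)]
      intro hd
      have := Nat.le_of_dvd hk0 hd
      omega
    have hxk : orderOf (x ^ k) = 11 := by
      rw [orderOf_pow' x (by omega : k ≠ 0), hx, hcop.gcd_eq_one, Nat.div_one]
    have hzp : Subgroup.zpowers (x ^ k) = Subgroup.zpowers x := by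
      apply Subgroup.eq_of_le_of_card_ge
      · rw [Subgroup.zpowers_le]
        exact Subgroup.pow_mem _ (Subgroup.mem_zpowers x) k
      · rw [Nat.card_zpowers, Nat.card_zpowers, hx, hxk]
    have huxk : u * x ^ k * u⁻¹ = (x ^ k) ^ 3 := by
      rw [← conj_pow, hux, ← pow_mul, ← pow_mul, mul_comm]
    have hgen : Subgroup.closure {x ^ k, u, s} = ⊤ :=
      closure_eq_top hG P (hPx.trans hzp.symm) hN hxk hu hs4 huxk K hK hNK hsK htK
    refine iso_of_coord hfaith (e.trans m) (x := x ^ k) (u := u) (s := s) ?_ ?_ ?_ hgen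
    · rw [trHom_trans, map_pow, hex, hmX]; group
    · rw [trHom_trans, heu, hmU]; group
    · rw [trHom_trans, hmS]; group

end Main

end Cfsg.Agent.Helper27.M11U
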