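import Mathlib
import Cfsg.Prelude.Def_Spor_Mathieu
import Cfsg.Prelude.Def_Sporadic
import Cfsg.Agent.S0420
import Cfsg.Agent.S5522

/-!
# Bridge between the two descriptions of the smallest Mathieu group (helper27)

* `isoM11_of_isM11`: a simple group of order `7920` is isomorphic to the explicit group `Cfsg.Spor.M11`;
* `sporM11_isM11`: `Cfsg.Spor.M11` is simple of order `7920`;
* `isoM11_iff_isM11`.
-/

set_option autoImplicit false

namespace Cfsg.Agent.Helper27.M11Bridge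

open Cfsg
open scoped Pointwise

theorem zero_mem_squareDodecad : (some 0 : GolayPt) ∈ Cfsg.Spor.squareDodecad := by
  unfold Cfsg.Spor.squareDodecad
  decide +kernel

/-- the two-step stabiliser inside `↥M24`, pushed to `Perm GolayPt`, is `Spor.M11` -/
theorem map_stab_eq :
    (MulAction.stabilizer Cfsg.M24 Cfsg.Spor.squareDodecad ⊓
      MulAction.stabilizer Cfsg.M24 (some 0 : GolayPt)).map Cfsg.M24.subtype = Cfsg.Spor.M11 := by
  ext g
  simp only [Subgroup.mem_map, Subgroup.mem_inf, MulAction.mem_stabilizer_iff, Cfsg.Spor.M11,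
    Cfsg.Spor.M12, Subgroup.coe_subtype]
  constructor
  · rintro ⟨x, ⟨h1, h2⟩, rfl⟩
    exact ⟨⟨x.2, h1⟩, h2⟩
  · rintro ⟨⟨hM, h1⟩, h2⟩
    exact ⟨⟨g, hM⟩, ⟨h1, h2⟩, rfl⟩

/-- the stabiliser description of M11 inside `↥M24` is isomorphic to `Spor.M11` -/
noncomputable def stabEquiv :
    ↥(MulAction.stabilizer Cfsg.M24 Cfsg.Spor.squareDodecad ⊓
      MulAction.stabilizer Cfsg.M24 (some 0 : GolayPt)) ≃* ↥Cfsg.Spor.M11 :=
  ((MulAction.stabilizer Cfsg.M24 Cfsg.Spor.squareDodecad ⊓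
      MulAction.stabilizer Cfsg.M24 (some 0 : GolayPt)).equivMapOfInjective Cfsg.M24.subtype
      Cfsg.M24.subtype_injective).trans (MulEquiv.subgroupCongr map_stab_eq)

/-- a simple group of order `7920` is isomorphic to the explicit `Spor.M11` -/
theorem isoM11_of_isM11 {G : Type*} [Group G] [Finite G] (h : Cfsg.IsM11 G) : Cfsg.Spor.IsoM11 G := by
  obtain ⟨e⟩ := Cfsg.Agent.S0420.result h Cfsg.Spor.squareDodecad Cfsg.Agent.S5522.squareDodecad_mem
    (some 0) zero_mem_squareDodecad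
  exact ⟨e.trans stabEquiv⟩

/-- `Spor.M11` is simple of order `7920` -/
theorem sporM11_isM11 : Cfsg.IsM11 ↥Cfsg.Spor.M11 := by
  have h1 := Cfsg.Agent.S0388.result Cfsg.Spor.squareDodecad Cfsg.Agent.S5522.squareDodecad_mem
    (some 0) zero_mem_squareDodecad
  have h2 := Cfsg.Agent.S0387.result Cfsg.Spor.squareDodecad Cfsg.Agent.S5522.squareDodecad_mem
    (some 0) zero_mem_squareDodecad
  refine ⟨?_, ?_⟩
  · exact (MulEquiv.isSimpleGroup_congr stabEquiv).mp h1
  · rw [← Nat.card_congr stabEquiv.toEquiv]; exact h2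

theorem isoM11_iff_isM11 {G : Type*} [Group G] [Finite G] : Cfsg.Spor.IsoM11 G ↔ Cfsg.IsM11 G := by
  constructor
  · rintro ⟨e⟩
    obtain ⟨hs, hc⟩ := sporM11_isM11
    exact ⟨(MulEquiv.isSimpleGroup_congr e).mpr hs, by rw [Nat.card_congr e.toEquiv]; exact hc⟩
  · exact isoM11_of_isM11

end Cfsg.Agent.Helper27.M11Bridge
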