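import Mathlib
import Cfsg.Agent.Lib.Helper26.MHDefs
import Cfsg.Agent.Lib.Helper22.SharpK

/-!
# S4221 piece BRIDGE (helper27): from the statement of S4221 to `Hall`, and the end for `n ≥ 8`
-/

set_option autoImplicit false

namespace Cfsg.Agent.Helper26.MH

namespace BRIDGE

open MulAction Cfsg.Agent.Helper22.SharpFour

/-- the embedding `![a,b,c,d]` of four distinct points -/
def emb4 {α : Type*} {a b c d : α} (hd : D4 a b c d) : Fin 4 ↪ α :=
  ⟨![a, b, c, d], Cfsg.Agent.Helper22.injective_vec4 hd.ab hd.ac hd.ad hd.bc hd.bd hd.cd⟩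

theorem d4_of_emb {α : Type*} (x : Fin 4 ↪ α) : D4 (x 0) (x 1) (x 2) (x 3) := by
  refine ⟨?_, ?_, ?_, ?_, ?_, ?_⟩ <;>
  · intro h
    have := x.injective h
    revert this
    decide

/-- `St4` is the stabilizer of the corresponding embedding -/
theorem mem_St4_iff_stab {G : Type*} [Group G] {α : Type*} [MulAction G α] (x : Fin 4 ↪ α) (g : G) :
    g ∈ St4 G (x 0) (x 1) (x 2) (x 3) ↔ g ∈ MulAction.stabilizer G x := by
  rw [mem_St4, MulAction.mem_stabilizer_iff]
  constructor
  · rintro ⟨h0, h1, h2, h3⟩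
    apply DFunLike.ext
    intro i
    change g • x i = x i
    fin_cases i
    · exact h0
    · exact h1
    · exact h2
    · exact h3
  · intro h
    have hi : ∀ i, g • x i = x i := fun i => DFunLike.congr_fun h i
    exact ⟨hi 0, hi 1, hi 2, hi 3⟩

theorem St4_eq_stab {G : Type*} [Group G] {α : Type*} [MulAction G α] (x : Fin 4 ↪ α) :
    St4 G (x 0) (x 1) (x 2) (x 3) = MulAction.stabilizer G x := by
  ext g
  exact mem_St4_iff_stab x g

/-- in a pretransitive action all stabilizers have the same order -/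
theorem card_stab_eq {G : Type*} [Group G] {X : Type*} [MulAction G X] [IsPretransitive G X]
    (x y : X) : Nat.card (MulAction.stabilizer G x) = Nat.card (MulAction.stabilizer G y) := by
  obtain ⟨k, hk⟩ := MulAction.exists_smul_eq G x y
  rw [← hk, MulAction.stabilizer_smul_eq_stabilizer_map_conj]
  exact (Subgroup.card_map_of_injective (MulEquiv.injective _)).symm

end BRIDGE

open BRIDGE MulAction Cfsg.Agent.Helper22.SharpFour in
theorem hall_of_hyp {α : Type*} [Fintype α] [DecidableEq α] (G : Subgroup (Equiv.Perm α))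
    (hG : MulAction.IsMultiplyPretransitive G α 4) (x : Fin 4 ↪ α)
    (hodd : Odd (Nat.card (MulAction.stabilizer G x))) : Hall G α := by
  refine ⟨?_, ?_, ?_⟩
  · intro g hg
    apply Subtype.ext
    apply Equiv.ext
    intro a
    exact hg a
  · intro a b c d a' b' c' d' hd hd'
    exact Cfsg.Agent.Helper22.exists_smul_eq_four hG hd.ab hd.ac hd.ad hd.bc hd.bd hd.cd
      hd'.ab hd'.ac hd'.ad hd'.bc hd'.bd hd'.cd
  · intro a b c d hd
    have h1 : St4 G a b c d = MulAction.stabilizer G (emb4 hd) := St4_eq_stab (emb4 hd)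
    rw [h1]
    have e : Nat.card (MulAction.stabilizer G (emb4 hd)) = Nat.card (MulAction.stabilizer G x) :=
      @card_stab_eq G _ (Fin 4 ↪ α) _ hG (emb4 hd) x
    rw [e]
    exact hodd

open BRIDGE MulAction Cfsg.Agent.Helper22.SharpFour in
theorem big {α : Type*} [Fintype α] [DecidableEq α] (G : Subgroup (Equiv.Perm α))
    (hG : MulAction.IsMultiplyPretransitive G α 4) (h8 : 8 ≤ Fintype.card α)
    (hsharp : ∀ p q r s : α, D4 p q r s → St4 G p q r s = ⊥) :
    Fintype.card α = 11 ∧ Nat.card G = 7920 := by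
  have hS : Cfsg.Agent.Helper22.SharpK.Sharp G α 4 := by
    refine ⟨hG, ?_⟩
    intro y g hg
    have hmem : g ∈ St4 G (y 0) (y 1) (y 2) (y 3) := (mem_St4_iff_stab y g).mpr hg
    rw [hsharp _ _ _ _ (d4_of_emb y)] at hmem
    exact Subgroup.mem_bot.mp hmem
  have h4 : 4 ≤ Nat.card α := by rw [Nat.card_eq_fintype_card]; omega
  have hc := Cfsg.Agent.Helper22.SharpK.card_of_sharp_four hS h4
  have hcard := hS.card_eq h4
  rw [Nat.card_eq_fintype_card (α := α)] at hc hcard
  have h11 : Fintype.card α = 11 := by omega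
  refine ⟨h11, ?_⟩
  rw [hcard, h11]
  decide

end Cfsg.Agent.Helper26.MH
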