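import Mathlib
import Cfsg.Agent.Lib.Helper26.MHDefs
import Cfsg.Agent.Lib.Helper22.SharpK

/-!
# S4221 piece SMALL (helper27): degrees at most 7

`G ≤ Perm α` 4-pretransitive, the stabilizer `F` of an injective 4-tuple of odd order, `n = |α| ≤ 7`.
With `j = [Perm α : G]`: `j * |F| = (n-4)!`.
-/

set_option autoImplicit false

namespace Cfsg.Agent.Helper26.MH

namespace SMALL

open MulAction

/-- the stabilizer of an embedding is the fixing subgroup of its range -/
theorem stab_eq_fixing {α : Type*} (G : Subgroup (Equiv.Perm α)) (x : Fin 4 ↪ α) :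
    MulAction.stabilizer G x = fixingSubgroup G (Set.range x) := by
  ext g
  rw [MulAction.mem_stabilizer_iff, mem_fixingSubgroup_iff]
  constructor
  · rintro h y ⟨i, rfl⟩
    have := DFunLike.congr_fun h i
    exact this
  · intro h
    apply DFunLike.ext
    intro i
    exact h (x i) ⟨i, rfl⟩

theorem ncard_range {α : Type*} (x : Fin 4 ↪ α) : (Set.range x).ncard = 4 := by
  rw [← Set.image_univ, Set.ncard_image_of_injective _ x.injective, Set.ncard_univ]
  simp

/-- the key counting identity `[Perm α : G] * |F| = (n-4)!` -/
theorem index_mul_card {α : Type*} [Fintype α] [DecidableEq α] (G : Subgroup (Equiv.Perm α))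
    (hG : MulAction.IsMultiplyPretransitive G α 4) (x : Fin 4 ↪ α) :
    G.index * Nat.card (MulAction.stabilizer G x) = (Fintype.card α - 4).factorial := by
  have h1 := hG.index_of_fixingSubgroup_mul (ncard_range x)
  rw [← stab_eq_fixing G x, Nat.card_eq_fintype_card] at h1
  have h2 : Nat.card G * G.index = (Fintype.card α).factorial := by
    rw [Subgroup.card_mul_index, Nat.card_eq_fintype_card, Fintype.card_perm]
  have h3 := (MulAction.stabilizer G x).index_mul_card
  have hpos : 0 < Nat.card G := Nat.card_pos
  -- |G| * (n-4)! = idx * |F| * (n-4)! = n! * |F| = |G| * j * |F|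
  apply Nat.eq_of_mul_eq_mul_left hpos
  calc Nat.card G * (G.index * Nat.card (MulAction.stabilizer G x))
      = (Nat.card G * G.index) * Nat.card (MulAction.stabilizer G x) := by ring
    _ = (Fintype.card α).factorial * Nat.card (MulAction.stabilizer G x) := by rw [h2]
    _ = ((MulAction.stabilizer G x).index * (Fintype.card α - 4).factorial) *
          Nat.card (MulAction.stabilizer G x) := by rw [h1]
    _ = ((MulAction.stabilizer G x).index * Nat.card (MulAction.stabilizer G x)) *
          (Fintype.card α - 4).factorial := by ring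
    _ = Nat.card G * (Fintype.card α - 4).factorial := by rw [h3]

theorem four_le_card {α : Type*} [Fintype α] (x : Fin 4 ↪ α) : 4 ≤ Fintype.card α := by
  have := Fintype.card_le_of_embedding x
  simpa using this

end SMALL

open SMALL in
theorem small {α : Type*} [Fintype α] [DecidableEq α] (G : Subgroup (Equiv.Perm α))
    (hG : MulAction.IsMultiplyPretransitive G α 4) (x : Fin 4 ↪ α)
    (hodd : Odd (Nat.card (MulAction.stabilizer G x))) (h7 : Fintype.card α ≤ 7) :
    ((Fintype.card α = 4 ∨ Fintype.card α = 5) ∧ G = ⊤) ∨
      ((Fintype.card α = 6 ∨ Fintype.card α = 7) ∧ G = alternatingGroup α) ∨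
      (Fintype.card α = 11 ∧ Nat.card G = 7920) := by
  have h4 := four_le_card x
  have hkey := index_mul_card G hG x
  have hF : 0 < Nat.card (MulAction.stabilizer G x) := Nat.card_pos
  have hj : 0 < G.index := Nat.pos_of_ne_zero (Subgroup.index_ne_zero_of_finite)
  have hkeyall : ∀ y : Fin 4 ↪ α, G.index * Nat.card (MulAction.stabilizer G y) =
      (Fintype.card α - 4).factorial := fun y => index_mul_card G hG y
  obtain ⟨j, hjdef⟩ : ∃ j, j = G.index := ⟨_, rfl⟩
  obtain ⟨f, hfdef⟩ : ∃ f, f = Nat.card (MulAction.stabilizer G x) := ⟨_, rfl⟩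
  rw [← hjdef, ← hfdef] at hkey
  rw [← hfdef] at hodd hF
  rw [← hjdef] at hj
  have hcases : Fintype.card α = 4 ∨ Fintype.card α = 5 ∨ Fintype.card α = 6 ∨ Fintype.card α = 7 := by
    omega
  rcases hcases with h | h | h | h
  · -- n = 4
    left
    refine ⟨Or.inl h, ?_⟩
    rw [h] at hkey
    have : j = 1 := by
      have h1 : j * f = 1 := by simpa using hkey
      exact Nat.eq_one_of_mul_eq_one_right h1
    exact Subgroup.index_eq_one.mp (hjdef ▸ this)
  · left
    refine ⟨Or.inr h, ?_⟩
    rw [h] at hkey
    have : j = 1 := by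
      have h1 : j * f = 1 := by simpa using hkey
      exact Nat.eq_one_of_mul_eq_one_right h1
    exact Subgroup.index_eq_one.mp (hjdef ▸ this)
  · -- n = 6: j * f = 2, f odd
    right; left
    refine ⟨Or.inl h, ?_⟩
    rw [h] at hkey
    have h1 : j * f = 2 := by simpa [Nat.factorial] using hkey
    have hf1 : f = 1 := by
      have hdvd : f ∣ 2 := Dvd.intro_left j h1
      have hle : f ≤ 2 := Nat.le_of_dvd (by norm_num) hdvd
      obtain ⟨k, hk⟩ := hodd
      omega
    have hj2 : j = 2 := by rw [hf1] at h1; omega
    exact Equiv.Perm.eq_alternatingGroup_of_index_eq_two (hjdef ▸ hj2)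
  · -- n = 7: j * f = 6
    rw [h] at hkey
    have h1 : j * f = 6 := by simpa [Nat.factorial] using hkey
    have hf13 : f = 1 ∨ f = 3 := by
      have hdvd : f ∣ 6 := Dvd.intro_left j h1
      have hle : f ≤ 6 := Nat.le_of_dvd (by norm_num) hdvd
      obtain ⟨k, hk⟩ := hodd
      have h5 : f ≠ 5 := by
        rintro rfl
        norm_num at hdvd
      omega
    rcases hf13 with hf1 | hf3
    · -- sharply 4-transitive of degree 7: impossible
      exfalso
      have hsharp : Cfsg.Agent.Helper22.SharpK.Sharp G α 4 := by
        refine ⟨hG, ?_⟩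
        intro y g hg
        -- stabilizers of all embeddings have the same order 1
        have hj6 : j = 6 := by rw [hf1] at h1; omega
        have hcard : Nat.card (MulAction.stabilizer G y) = 1 := by
          have := hkeyall y
          rw [h, ← hjdef, hj6] at this
          have h6 : (7 - 4).factorial = 6 := by decide
          rw [h6] at this
          omega
        have hbot : MulAction.stabilizer G y = ⊥ := Subgroup.card_eq_one.mp hcard
        have : g ∈ MulAction.stabilizer G y := hg
        rw [hbot] at this
        exact Subgroup.mem_bot.mp this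
      have := Cfsg.Agent.Helper22.SharpK.card_of_sharp_four hsharp (by
        rw [Nat.card_eq_fintype_card]; omega)
      rw [Nat.card_eq_fintype_card] at this
      omega
    · right; left
      refine ⟨Or.inr h, ?_⟩
      have hj2 : j = 2 := by rw [hf3] at h1; omega
      exact Equiv.Perm.eq_alternatingGroup_of_index_eq_two (hjdef ▸ hj2)

end Cfsg.Agent.Helper26.MH
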