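import Cfsg.Agent.Lib.Helper27.BGTyA
import Cfsg.Agent.Lib.Helper7.Layer

set_option autoImplicit false
set_option linter.unusedVariables false
set_option linter.unusedSectionVars false

namespace Cfsg.Agent.Helper27.BGTy

open Cfsg Subgroup

variable {G : Type*} [Group G] [Finite G]

theorem commutator_self_le (M : Subgroup G) : ⁅M, M⁆ ≤ M := Cfsg.Agent.Helper7.commutator_self_le M

/-- the self-normalizing cyclic pair `K`, `K*` -/
theorem isSelfNormalizingCyclic_of {K Ks : Subgroup G} (hK1 : K ≠ ⊥) (hKs1 : Ks ≠ ⊥)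
    (hdisj : K ⊓ Ks = ⊥) (hcomm : ∀ a ∈ K, ∀ b ∈ Ks, a * b = b * a)
    (hcyc : IsCyclic ↥(K ⊔ Ks))
    (hTI : IsTISubset ((↑(K ⊔ Ks) : Set G) \ ((K : Set G) ∪ ↑Ks)))
    (hN : Subgroup.normalizer ((↑(K ⊔ Ks) : Set G) \ ((K : Set G) ∪ ↑Ks)) = K ⊔ Ks) :
    IsSelfNormalizingCyclic K Ks := by
  refine ⟨hK1, hKs1, hdisj, hcomm, hcyc, ?_⟩
  intro X hX hXne
  ext g
  constructor
  · intro hg
    obtain ⟨x, hx⟩ := hXne
    have hgx : g * x * g⁻¹ ∈ X := (Subgroup.mem_set_normalizer_iff.mp hg x).mp hx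
    by_contra hgZ
    rw [← hN] at hgZ
    have h1 := hTI g hgZ x (hX hx) (hX hgx)
    have h2 := (hX hx).2
    apply h2
    left
    rw [h1]
    exact K.one_mem
  · intro hg
    rw [Subgroup.mem_set_normalizer_iff]
    intro h
    constructor
    · intro hh
      have h1 : g * h = h * g := Cfsg.Agent.Helper7.comm_of_mem_isCyclic _ hcyc hg (hX hh).1
      have : g * h * g⁻¹ = h := by rw [h1]; group
      rw [this]; exact hh
    · intro hh
      have h0 : g * h * g⁻¹ ∈ K ⊔ Ks := (hX hh).1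
      have h2 : h ∈ K ⊔ Ks := by
        have : h = g⁻¹ * (g * h * g⁻¹) * g := by group
        rw [this]
        exact Subgroup.mul_mem _ (Subgroup.mul_mem _ (Subgroup.inv_mem _ hg) h0) hg
      have h1 : g * h = h * g := Cfsg.Agent.Helper7.comm_of_mem_isCyclic _ hcyc hg h2
      have : g * h * g⁻¹ = h := by rw [h1]; group
      rw [this] at hh; exact hh

/-- `M' ⊓ C(x) = K*` for `x ∈ K#` -/
theorem derived_inf_centralizer {M K U : Subgroup G} (hKU : IsSigmaDecomposition M K U)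
    (h50 : IsPiHallOf (sigma M) (sigmaCore M) M)
    (hder : ⁅M, M⁆ = U ⊔ sigmaCore M)
    (h54 : ∀ k ∈ K, k ≠ 1 → M ⊓ centralizer ({k} : Set G) = K ⊔ (sigmaCore M ⊓ centralizer (K : Set G)))
    (hKsD : (sigmaCore M ⊓ centralizer (K : Set G)) ≤ ⁅M, M⁆) :
    ∀ x ∈ K, x ≠ 1 → ⁅M, M⁆ ⊓ centralizer ({x} : Set G) = sigmaCore M ⊓ centralizer (K : Set G) := by
  intro x hx hx1
  apply le_antisymm
  · rintro y ⟨hy1, hy2⟩
    have hy3 : y ∈ M ⊓ centralizer ({x} : Set G) := ⟨commutator_self_le M hy1, hy2⟩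
    rw [h54 x hx hx1, sup_comm] at hy3
    have hnorm : K ≤ normalizer ((sigmaCore M ⊓ centralizer (K : Set G) : Subgroup G) : Set G) := by
      intro k hk
      rw [Subgroup.mem_normalizer_iff]
      intro h
      have key : ∀ k ∈ K, ∀ h ∈ sigmaCore M ⊓ centralizer (K : Set G), k * h * k⁻¹ = h := by
        intro k hk h hh
        have := (Subgroup.mem_centralizer_iff.mp hh.2) k hk
        rw [this]; group
      constructor
      · intro hh; rw [key k hk h hh]; exact hh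
      · intro hh
        have h1 := key k⁻¹ (K.inv_mem hk) _ hh
        have h2 : k⁻¹ * (k * h * k⁻¹) * k⁻¹⁻¹ = h := by group
        rw [h2] at h1
        rw [h1]; exact hh
    obtain ⟨s, hs, k, hk, rfl⟩ := Cfsg.Agent.Helper1.exists_mul_of_mem_sup hnorm hy3
    have hk1 : k ∈ (U ⊔ sigmaCore M) ⊓ K := by
      refine ⟨?_, hk⟩
      rw [← hder]
      have : k = s⁻¹ * (s * k) := by group
      rw [this]
      exact Subgroup.mul_mem _ (Subgroup.inv_mem _ (hKsD hs)) hy1
    rw [US_inf_K hKU h50, Subgroup.mem_bot] at hk1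
    rw [hk1, mul_one]; exact hs
  · apply le_inf hKsD
    intro y hy
    rw [Subgroup.mem_centralizer_iff]
    intro z hz
    rw [Set.mem_singleton_iff] at hz
    subst hz
    exact (Subgroup.mem_centralizer_iff.mp hy.2) z hx

/-- `K` is a complement of `M' = U M_σ` in `M` -/
theorem isComplIn_derived_K {M K U : Subgroup G} (hKU : IsSigmaDecomposition M K U)
    (h50 : IsPiHallOf (sigma M) (sigmaCore M) M) (hder : ⁅M, M⁆ = U ⊔ sigmaCore M) :
    IsComplIn ⁅M, M⁆ K M := by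
  refine ⟨commutator_self_le M, hKU.hall.1, ?_, ?_⟩
  · rw [hder]; exact US_inf_K hKU h50
  · intro m hm
    obtain ⟨u, hu, s, hs, k, hk, rfl⟩ := exists_factor hKU hm
    refine ⟨u * s, ?_, k, hk, by group⟩
    rw [hder]
    exact Subgroup.mul_mem _ (Subgroup.mem_sup_left hu) (Subgroup.mem_sup_right hs)

/-- `U` is a complement of `M_σ` in `U M_σ` -/
theorem isComplIn_sigmaCore_U {M K U : Subgroup G} (hKU : IsSigmaDecomposition M K U) :
    IsComplIn (sigmaCore M) U (U ⊔ sigmaCore M) := by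
  refine ⟨le_sup_right, le_sup_left, ?_, ?_⟩
  · rw [inf_comm]; exact U_inf_sigmaCore hKU
  · intro m hm
    rw [sup_comm] at hm
    obtain ⟨s, hs, u, hu, rfl⟩ := Cfsg.Agent.Helper1.exists_mul_of_mem_sup (U_le_normalizer_sigmaCore hKU) hm
    exact ⟨s, hs, u, hu, rfl⟩

theorem kappa_nonempty_of_ne_bot {M K : Subgroup G} (hK : IsPiHallOf (kappa M) K M) (hK1 : K ≠ ⊥) :
    (kappa M).Nonempty := by
  have hne : Nat.card K ≠ 1 := by
    intro h
    exact hK1 (Subgroup.card_eq_one.mp h)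
  obtain ⟨p, hp, hpd⟩ := Nat.exists_prime_and_dvd hne
  exact ⟨p, hK.2.1 p hp hpd⟩

end Cfsg.Agent.Helper27.BGTy
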