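import Cfsg.Agent.Lib.Helper27.BGTyB
import Cfsg.Agent.Lib.Helper14.BG1369C

set_option autoImplicit false
set_option linter.unusedVariables false
set_option linter.unusedSectionVars false

namespace Cfsg.Agent.Helper27.BGTy

open Cfsg Subgroup

variable {G : Type*} [Group G] [Finite G]

theorem fittingHallOf_isNilpotent (M : Subgroup G) : Group.IsNilpotent ↥(fittingHallOf M) := by
  haveI := Cfsg.Agent.Helper7.fittingHall_isNilpotent ↥M
  unfold fittingHallOf
  exact Group.nilpotent_of_mulEquiv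
    ((fittingHall ↥M).equivMapOfInjective M.subtype M.subtype_injective)

theorem fittingHall_eq_subgroupOf {D H : Subgroup G} (hF : fittingHallOf D = H) :
    fittingHall ↥D = H.subgroupOf D := by
  rw [← hF]
  unfold fittingHallOf Subgroup.subgroupOf
  exact (Subgroup.comap_map_eq_self_of_injective D.subtype_injective _).symm

/-- `M ≤ N_G((M')_F)` -/
theorem le_normalizer_fittingHallOf_of_normal {M D : Subgroup G} (hDM : D ≤ M)
    (hn : M ≤ normalizer (D : Set G)) : M ≤ normalizer (fittingHallOf D : Set G) := by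
  have key : ∀ m ∈ M, ∀ r ∈ fittingHallOf D, m * r * m⁻¹ ∈ fittingHallOf D := by
    intro m hm r hr
    have h1 := Cfsg.Agent.Helper14.BG1369.conj_mem_fittingHallOf hr m
    have h2 : D.map (MulAut.conj m).toMonoidHom = D :=
      Cfsg.Agent.Helper15.map_conj_eq_of_mem_normalizer (hn hm)
    rw [h2] at h1
    exact h1
  intro m hm
  rw [Subgroup.mem_normalizer_iff]
  intro h
  constructor
  · exact key m hm h
  · intro hh
    have := key m⁻¹ (M.inv_mem hm) _ hh
    have e : m⁻¹ * (m * h * m⁻¹) * m⁻¹⁻¹ = h := by group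
    rwa [e] at this

theorem derived_le_normalizer (M : Subgroup G) : M ≤ normalizer ((⁅M, M⁆ : Subgroup G) : Set G) := by
  intro m hm
  rw [Subgroup.mem_normalizer_iff]
  have key : ∀ m ∈ M, ∀ h ∈ ⁅M, M⁆, m * h * m⁻¹ ∈ ⁅M, M⁆ := by
    intro m hm h hh
    have h1 : (⁅M, M⁆).map (MulAut.conj m).toMonoidHom = ⁅M, M⁆ := by
      rw [Subgroup.map_commutator, Cfsg.Agent.Helper15.map_conj_eq_self_of_mem hm]
    rw [← h1]
    exact ⟨h, hh, rfl⟩
  intro h
  constructor
  · exact key m hm h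
  · intro hh
    have := key m⁻¹ (M.inv_mem hm) _ hh
    have e : m⁻¹ * (m * h * m⁻¹) * m⁻¹⁻¹ = h := by group
    rwa [e] at this

/-- `(M')_F = M_F` when `M_F = M_σ` and `M' = U M_σ` -/
theorem fittingHallOf_derived_eq {M K U : Subgroup G} (hKU : IsSigmaDecomposition M K U)
    (h50 : IsPiHallOf (sigma M) (sigmaCore M) M) (hder : ⁅M, M⁆ = U ⊔ sigmaCore M)
    (hFs : fittingHallOf M = sigmaCore M) : fittingHallOf ⁅M, M⁆ = fittingHallOf M := by
  have hDM : ⁅M, M⁆ ≤ M := commutator_self_le M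
  have hSD : sigmaCore M ≤ ⁅M, M⁆ := by rw [hder]; exact le_sup_right
  apply le_antisymm
  · apply Cfsg.Agent.Helper7.le_fittingHallOf ((Cfsg.Agent.Helper7.fittingHallOf_le _).trans hDM)
    · exact le_normalizer_fittingHallOf_of_normal hDM (derived_le_normalizer M)
    · exact fittingHallOf_isNilpotent _
    · have h1 := Subgroup.relIndex_mul_relIndex (fittingHallOf ⁅M, M⁆) ⁅M, M⁆ M
        (Cfsg.Agent.Helper7.fittingHallOf_le _) hDM
      rw [← h1]
      apply Nat.Coprime.mul_right (Cfsg.Agent.Helper7.fittingHallOf_coprime _)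
      have h2 : (⁅M, M⁆).relIndex M = Nat.card K := by
        have h3 := Cfsg.Agent.Helper7.IsComplIn.card_eq (isComplIn_derived_K hKU h50 hder)
        have h4 := relIndex_mul_card hDM
        rw [h3] at h4
        have hpos : 0 < Nat.card ↥⁅M, M⁆ := Nat.card_pos
        apply Nat.eq_of_mul_eq_mul_right hpos
        rw [h4]; ring
      rw [h2]
      have h5 : Nat.card ↥(fittingHallOf ⁅M, M⁆) ∣ Nat.card ↥⁅M, M⁆ :=
        Subgroup.card_dvd_of_le (Cfsg.Agent.Helper7.fittingHallOf_le _)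
      have h6 : Nat.card ↥⁅M, M⁆ = Nat.card (sigmaCore M) * Nat.card U := by
        rw [hder]; exact Cfsg.Agent.Helper7.IsComplIn.card_eq (isComplIn_sigmaCore_U hKU)
      rw [h6] at h5
      apply Nat.Coprime.coprime_dvd_left h5
      exact Nat.Coprime.mul_left (coprime_K_sigmaCore hKU.hall h50).symm (coprime_K_U hKU h50).symm
  · rw [hFs]
    apply Cfsg.Agent.Helper7.le_fittingHallOf hSD
    · exact hDM.trans (Cfsg.Agent.Helper22.BG13.le_normalizer_sigmaCore M)
    · rw [← hFs]; exact fittingHallOf_isNilpotent _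
    · have h1 := Subgroup.relIndex_mul_relIndex (sigmaCore M) ⁅M, M⁆ M hSD hDM
      have h2 := coprime_sigmaCore_relIndex h50
      rw [← h1] at h2
      exact Nat.Coprime.coprime_mul_right_right h2

/-- transfer of the Frobenius-type conditions to a subgroup viewed as a group -/
theorem isOfTypeF_subgroup {D H U U₁ U₀ : Subgroup G} (hsolv : Group.IsSolvable ↥D)
    (hodd : Odd (Nat.card ↥D)) (hF : fittingHallOf D = H) (hH1 : H ≠ ⊥) (hcompl : IsComplIn H U D)
    (hU1 : U ≠ ⊥) (hU₁ : U₁ ≤ U) (hU₁n : U ≤ normalizer (U₁ : Set G))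
    (hU₁c : ∀ a ∈ U₁, ∀ b ∈ U₁, a * b = b * a)
    (hcent : ∀ x ∈ H, x ≠ 1 → U ⊓ centralizer ({x} : Set G) ≤ U₁)
    (hU₀ : U₀ ≤ U) (hexp : Monoid.exponent ↥U₀ = Monoid.exponent ↥U)
    (hfpf : ∀ u ∈ U₀, u ≠ 1 → ∀ x ∈ H, u * x = x * u → x = 1) : IsOfTypeF ↥D := by
  obtain ⟨hHD, hUD, hHU, hfac⟩ := hcompl
  have hFH := fittingHall_eq_subgroupOf hF
  refine ⟨hsolv, hodd, ?_, ?_, U.subgroupOf D, ?_, ?_, ?_, ?_⟩
  · rw [hFH]
    intro h
    rw [Subgroup.subgroupOf_eq_bot] at h
    apply hH1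
    rw [eq_bot_iff]
    intro x hx
    have := h.le_bot ⟨hx, hHD hx⟩
    exact this
  · rw [hFH]
    intro h
    rw [Subgroup.subgroupOf_eq_top] at h
    apply hU1
    rw [eq_bot_iff, ← hHU]
    exact le_inf (hUD.trans h) le_rfl
  · intro h
    rw [Subgroup.subgroupOf_eq_bot] at h
    apply hU1
    rw [eq_bot_iff]
    intro x hx
    exact h.le_bot ⟨hx, hUD hx⟩
  · rw [hFH]
    apply Subgroup.isComplement'_of_card_mul_and_disjoint
    · rw [Cfsg.Agent.Helper7.card_subgroupOf_of_le hHD, Cfsg.Agent.Helper7.card_subgroupOf_of_le hUD]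
      exact (Cfsg.Agent.Helper7.IsComplIn.card_eq ⟨hHD, hUD, hHU, hfac⟩).symm
    · rw [disjoint_iff, eq_bot_iff]
      rintro x ⟨hx1, hx2⟩
      have h3 : (x : G) ∈ H ⊓ U := ⟨hx1, hx2⟩
      rw [hHU, Subgroup.mem_bot] at h3
      rw [Subgroup.mem_bot]
      exact Subtype.ext h3
  · refine ⟨U₁.subgroupOf D, ?_, ?_, ?_, ?_⟩
    · intro x hx
      exact hU₁ hx
    · intro x hx
      rw [Subgroup.mem_normalizer_iff]
      intro y
      have := Subgroup.mem_normalizer_iff.mp (hU₁n hx) (y : G)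
      exact this
    · exact ⟨⟨fun a b => Subtype.ext (Subtype.ext (hU₁c a.1.1 a.2 b.1.1 b.2))⟩⟩
    · intro x hx hx1 y hy
      rw [hFH] at hx
      have hxH : (x : G) ∈ H := hx
      have hx1' : (x : G) ≠ 1 := fun h => hx1 (Subtype.ext h)
      apply hcent (x : G) hxH hx1'
      refine ⟨hy.1, ?_⟩
      show (y : G) ∈ centralizer ({(x : G)} : Set G)
      rw [Subgroup.mem_centralizer_iff]
      intro z hz
      rw [Set.mem_singleton_iff] at hz
      subst hz
      have := (Subgroup.mem_centralizer_iff.mp hy.2) x (Set.mem_singleton x)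
      exact congrArg Subtype.val this
  · refine ⟨U₀.subgroupOf D, ?_, ?_, ?_⟩
    · intro x hx
      exact hU₀ hx
    · rw [Monoid.exponent_eq_of_mulEquiv (Subgroup.subgroupOfEquivOfLe (hU₀.trans hUD)),
        Monoid.exponent_eq_of_mulEquiv (Subgroup.subgroupOfEquivOfLe hUD)]
      exact hexp
    · intro u hu hu1 x hx hux
      rw [hFH] at hx
      have hxH : (x : G) ∈ H := hx
      have hu1' : (u : G) ≠ 1 := fun h => hu1 (Subtype.ext h)
      have := hfpf (u : G) hu hu1' (x : G) hxH (congrArg Subtype.val hux)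
      exact Subtype.ext this

end Cfsg.Agent.Helper27.BGTy
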