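import Cfsg.Agent.Lib.Helper27.BGTyC
import Cfsg.Agent.Lib.Helper14.BGTransA

set_option autoImplicit false
set_option linter.unusedVariables false
set_option linter.unusedSectionVars false

namespace Cfsg.Agent.Helper27.BGTy

open Cfsg Subgroup

variable {G : Type*} [Group G] [Finite G]

theorem odd_card_subgroup (hG : IsMinSimpleOddOrder G) (H : Subgroup G) : Odd (Nat.card ↥H) :=
  Odd.of_dvd_nat hG.1 (Subgroup.card_subgroup_dvd_card H)

theorem coatom_ne_top {M : Subgroup G} (hM : IsCoatom M) : M ≠ ⊤ := hM.1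

theorem ne_top_of_le {M D : Subgroup G} (hM : IsCoatom M) (hD : D ≤ M) : D ≠ ⊤ := by
  intro h
  apply hM.1
  rw [eq_top_iff, ← h]; exact hD

/-- the common type-P data `(K, U, K*)` for `K ≠ 1`, given `M_F`, `U` with `M' = M_F U`. -/
theorem isTypePWith_of {M K U : Subgroup G} (hKU : IsSigmaDecomposition M K U) (hK1 : K ≠ ⊥)
    (h50 : IsPiHallOf (sigma M) (sigmaCore M) M)
    {V : Subgroup G} (hVnil : Group.IsNilpotent ↥V) (hVn : K ≤ normalizer (V : Set G))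
    (hVc : IsComplIn (fittingHallOf M) V ⁅M, M⁆)
    (hder : ⁅M, M⁆ = U ⊔ sigmaCore M)
    (hKsD2 : (sigmaCore M ⊓ centralizer (K : Set G)) ≤ ⁅⁅M, M⁆, ⁅M, M⁆⁆)
    (h56 : ⁅⁅M, M⁆, ⁅M, M⁆⁆ ≤ fittingOf M ∧
      fittingOf M = (M ⊓ centralizer (fittingHallOf M : Set G)) ⊔ fittingHallOf M ∧
      ((kappa M).Nonempty → fittingOf M ≤ ⁅M, M⁆))
    (h64 : IsCyclic ↥(sigmaCore M ⊓ centralizer (K : Set G)) ∧ (sigmaCore M ⊓ centralizer (K : Set G)) ≠ ⊥ ∧
      (sigmaCore M ⊓ centralizer (K : Set G)) ≤ fittingHallOf M ∧ ¬ IsCyclic (fittingHallOf M))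
    (h54 : ∀ k ∈ K, k ≠ 1 → M ⊓ centralizer ({k} : Set G) = K ⊔ (sigmaCore M ⊓ centralizer (K : Set G)))
    (hcyc : IsCyclic ↥(K ⊔ (sigmaCore M ⊓ centralizer (K : Set G))))
    (h70 : IsTISubset ((↑(K ⊔ (sigmaCore M ⊓ centralizer (K : Set G))) : Set G) \ ((K : Set G) ∪ ↑(sigmaCore M ⊓ centralizer (K : Set G)))) ∧
      Subgroup.normalizer ((↑(K ⊔ (sigmaCore M ⊓ centralizer (K : Set G))) : Set G) \ ((K : Set G) ∪ ↑(sigmaCore M ⊓ centralizer (K : Set G)))) = K ⊔ (sigmaCore M ⊓ centralizer (K : Set G))) :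
    IsTypePWith M K V (sigmaCore M ⊓ centralizer (K : Set G)) := by
  have hKsD : (sigmaCore M ⊓ centralizer (K : Set G)) ≤ ⁅M, M⁆ :=
    hKsD2.trans (commutator_self_le _)
  refine
    { W₁_ne := hK1
      W₁_cyclic := hKU.cyclic
      W₁_hall := coprime_K_relIndex hKU.hall
      W₁_compl := isComplIn_derived_K hKU h50 hder
      U_nilpotent := hVnil
      U_normal := hVn
      U_compl := hVc
      H_not_cyclic := h64.2.2.2
      derived_two_le := ?_
      fitting_eq := ?_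
      fitting_le := h56.2.2 (kappa_nonempty_of_ne_bot hKU.hall hK1)
      W₂_le := le_inf h64.2.2.1 hKsD2
      W₂_centralizer := derived_inf_centralizer hKU h50 hder h54 hKsD
      selfNormalizing := ?_ }
  · rw [sup_comm, ← h56.2.1]; exact h56.1
  · rw [sup_comm, ← h56.2.1]
  · apply isSelfNormalizingCyclic_of hK1 h64.2.1 _ _ hcyc h70.1 h70.2
    · rw [eq_bot_iff, ← K_inf_sigmaCore hKU.hall h50]
      exact inf_le_inf_left _ inf_le_left
    · intro a ha b hb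
      exact ((Subgroup.mem_centralizer_iff.mp hb.2) a ha)

/-- S1381, direction `⇐`. -/
theorem typeII_of (hG : IsMinSimpleOddOrder G) (h50 : H1350 G) (h54 : H1354 G) (h55 : H1355 G)
    (h56 : H1356 G) (h57 : H1357 G) (h60 : H1360 G) (h63 : H1363 G) (h64 : H1364 G) (h65 : H1365 G)
    (h66 : H1366 G) (h68 : H1368 G) (h70 : H1370 G) (h72 : H1372 G)
    (M : Subgroup G) (hM : IsCoatom M) (K U : Subgroup G) (hKU : IsSigmaDecomposition M K U)
    (hK1 : K ≠ ⊥) (hU1 : U ≠ ⊥) : IsOfTypeII M := by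
  have h50' := (h50 M hM).1
  have hFs : fittingHallOf M = sigmaCore M := by
    by_contra hne
    exact hU1 (h57 M hM K U hKU hne).1
  obtain ⟨hder, hKsD2⟩ := h65 M hM K U hKU hK1
  obtain ⟨hUab, hUN⟩ := h63 M hM K U hKU hK1
  obtain ⟨Ms, ⟨hMs, hKeq, hKsH⟩, -⟩ := h66 M hM K U hKU hK1
  have hcyc := (h68 M hM K U hKU hK1 Ms hMs hKeq hKsH).2
  have h54' := (h54 M hM K hKU.cyclic hKU.hall).2 hK1
  obtain ⟨hKprime, hTI, -⟩ := h72 M hM K U hKU hK1 hU1
  have hVc : IsComplIn (fittingHallOf M) U ⁅M, M⁆ := by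
    rw [hFs, hder]; exact isComplIn_sigmaCore_U hKU
  have hUnil : Group.IsNilpotent ↥U := by
    haveI := hUab
    exact Cfsg.Agent.Helper7.isNilpotent_of_isMulCommutative ↥U
  have hP := isTypePWith_of hKU hK1 h50' hUnil hKU.normal hVc hder hKsD2 (h56 M hM)
    (h64 M hM K U hKU hK1) h54' hcyc (h70 M hM K U hKU hK1)
  refine ⟨K, U, _, hP, hU1, hKprime, hTI, hUab, hUN, ?_, fittingHallOf_derived_eq hKU h50' hder hFs⟩
  obtain ⟨U₀, hU₀, hexp, hfpf⟩ := h60 M hM K U hKU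
  have hDM : ⁅M, M⁆ ≤ M := commutator_self_le M
  apply isOfTypeF_subgroup (H := sigmaCore M) (U := U) (U₁ := U) (U₀ := U₀)
    (Cfsg.Agent.Helper14.BGTrans.isSolvable_of_ne_top hG (ne_top_of_le hM hDM))
    (odd_card_subgroup hG _)
  · rw [fittingHallOf_derived_eq hKU h50' hder hFs, hFs]
  · rw [← hFs]; exact (h55 M hM).1
  · rw [hder]; exact isComplIn_sigmaCore_U hKU
  · exact hU1
  · exact le_rfl
  · exact Subgroup.le_normalizer
  · intro a ha b hb
    have := hUab.is_comm.comm (⟨a, ha⟩ : U) ⟨b, hb⟩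
    exact congrArg Subtype.val this
  · intro x hx hx1
    exact inf_le_left
  · exact hU₀
  · exact hexp
  · intro u hu hu1 x hx hux
    by_contra hx1
    apply hu1
    apply hfpf u hu
    exact ⟨U_le hKU (hU₀ hu), x, hx, hx1, hux⟩

end Cfsg.Agent.Helper27.BGTy
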