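import Cfsg.Agent.Lib.Helper27.BGTyD
import Cfsg.Agent.Lib.Helper22.BG13C
import Cfsg.Agent.Lib.Helper19.BG16A

set_option autoImplicit false
set_option linter.unusedVariables false
set_option linter.unusedSectionVars false

namespace Cfsg.Agent.Helper27.BGTy

open Cfsg Subgroup
open Cfsg.Agent.Helper15 (IsSylowIn)

variable {G : Type*} [Group G] [Finite G]

theorem isCyclic_of_le {W T : Subgroup G} (hW : IsCyclic ↥W) (hTW : T ≤ W) : IsCyclic ↥T := by
  haveI := hW
  have h1 : IsCyclic ↥(T.subgroupOf W) := inferInstance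
  exact isCyclic_of_surjective (Subgroup.subgroupOfEquivOfLe hTW).toMonoidHom
    (Subgroup.subgroupOfEquivOfLe hTW).surjective

theorem isCyclic_map_conj {T : Subgroup G} (hT : IsCyclic ↥T) (g : G) :
    IsCyclic ↥(T.map (MulAut.conj g).toMonoidHom) := by
  haveI := hT
  exact isCyclic_of_surjective
    (T.equivMapOfInjective (MulAut.conj g).toMonoidHom (MulAut.conj g).injective).toMonoidHom
    (T.equivMapOfInjective (MulAut.conj g).toMonoidHom (MulAut.conj g).injective).surjective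

theorem mem_map_conj {T : Subgroup G} {g x : G} (hx : x ∈ T) :
    g * x * g⁻¹ ∈ T.map (MulAut.conj g).toMonoidHom := ⟨x, hx, by simp [MulAut.conj_apply]⟩

/-- a prime divisor of `|W₁|` for type-P data lies in `κ(M)` -/
theorem mem_kappa_of_typeP {M W₁ V W₂ : Subgroup G} (hP : IsTypePWith M W₁ V W₂)
    (h50 : IsPiHallOf (sigma M) (sigmaCore M) M)
    (h55 : fittingHallOf M ≤ sigmaCore M ∧ sigmaCore M ≤ ⁅M, M⁆)
    {p : ℕ} (hp : p.Prime) (hpW : p ∣ Nat.card W₁) : p ∈ kappa M := by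
  haveI : Fact p.Prime := ⟨hp⟩
  have hW₁M : W₁ ≤ M := hP.W₁_compl.2.1
  have hpM : p ∣ Nat.card M := hpW.trans (Subgroup.card_dvd_of_le hW₁M)
  have hcard := Cfsg.Agent.Helper7.IsComplIn.card_eq hP.W₁_compl
  have hW₁i : W₁.relIndex M = Nat.card ↥⁅M, M⁆ := by
    have h4 := relIndex_mul_card hW₁M
    rw [hcard] at h4
    have hpos : 0 < Nat.card W₁ := Nat.card_pos
    exact Nat.eq_of_mul_eq_mul_right hpos h4
  have hpD : ¬ p ∣ Nat.card ↥⁅M, M⁆ := by
    intro h
    have := hP.W₁_hall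
    rw [hW₁i] at this
    exact hp.one_lt.ne' (Nat.dvd_one.mp (this ▸ Nat.dvd_gcd hpW h))
  refine ⟨hp, hpM, ?_, ?_⟩
  · intro hps
    have h1 : ¬ p ∣ (sigmaCore M).relIndex M := h50.2.2 p hp hps
    have h2 := relIndex_mul_card (sigmaCore_le M)
    rw [← h2] at hpM
    rcases (Nat.Prime.dvd_mul hp).mp hpM with h | h
    · exact h1 h
    · exact hpD (h.trans (Subgroup.card_dvd_of_le h55.2))
  · intro P
    obtain ⟨T, hT⟩ := Cfsg.Agent.Helper15.exists_isSylowIn (p := p) W₁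
    have hTM : IsSylowIn p T M := by
      apply Cfsg.Agent.Helper15.isSylowIn_of_not_dvd_relIndex hT.isPGroup (hT.le.trans hW₁M)
      rw [← Subgroup.relIndex_mul_relIndex T W₁ M hT.le hW₁M]
      intro h
      rcases (Nat.Prime.dvd_mul hp).mp h with h | h
      · exact hT.not_dvd_relIndex h
      · rw [hW₁i] at h; exact hpD h
    obtain ⟨k, hk, hkT⟩ := hTM.exists_conj (Cfsg.Agent.Helper15.isSylowIn_map_subtype P)
    have hcycT : IsCyclic ↥T := isCyclic_of_le hP.W₁_cyclic hT.le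
    constructor
    · have h1 : IsCyclic ↥((P : Subgroup ↥M).map M.subtype) := by
        rw [← hkT]; exact isCyclic_map_conj hcycT k
      haveI := h1
      exact isCyclic_of_surjective
        (((P : Subgroup ↥M).equivMapOfInjective M.subtype M.subtype_injective).symm).toMonoidHom
        (((P : Subgroup ↥M).equivMapOfInjective M.subtype M.subtype_injective).symm).surjective
    · -- a nonidentity element of T
      have hT1 : T ≠ ⊥ := by
        intro h
        have hc := hT.card_eq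
        rw [h, Subgroup.card_bot] at hc
        have hpos : 0 < (Nat.card ↥W₁).factorization p :=
          hp.factorization_pos_of_dvd Nat.card_pos.ne' hpW
        have : 1 < p ^ (Nat.card ↥W₁).factorization p := Nat.one_lt_pow hpos.ne' hp.one_lt
        omega
      obtain ⟨x₁, hx₁1⟩ := (Subgroup.ne_bot_iff_exists_ne_one.mp hT1)
      have hx₁T : (x₁ : G) ∈ T := x₁.2
      have hx₁ne : (x₁ : G) ≠ 1 := fun h => hx₁1 (Subtype.ext h)
      have hW₂ := hP.W₂_centralizer (x₁ : G) (hT.le hx₁T) hx₁ne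
      obtain ⟨y₁, hy₁1⟩ := (Subgroup.ne_bot_iff_exists_ne_one.mp hP.selfNormalizing.2.1)
      have hy₁W : (y₁ : G) ∈ W₂ := y₁.2
      have hy₁ne : (y₁ : G) ≠ 1 := fun h => hy₁1 (Subtype.ext h)
      have hy₁c : (y₁ : G) ∈ centralizer ({(x₁ : G)} : Set G) := by
        have : (y₁ : G) ∈ ⁅M, M⁆ ⊓ centralizer ({(x₁ : G)} : Set G) := by rw [hW₂]; exact hy₁W
        exact this.2
      have hcomm : (y₁ : G) * x₁ = x₁ * y₁ :=
        ((Subgroup.mem_centralizer_iff.mp hy₁c) x₁ (Set.mem_singleton _)).symm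
      have hy₁s : (y₁ : G) ∈ sigmaCore M := h55.1 (hP.W₂_le hy₁W).1
      have hxP : k * x₁ * k⁻¹ ∈ (P : Subgroup ↥M).map M.subtype := by
        rw [← hkT]; exact mem_map_conj hx₁T
      obtain ⟨x, hxP', hxeq⟩ := hxP
      refine ⟨x, hxP', ?_, k * y₁ * k⁻¹, Cfsg.Agent.Helper19.BG16.conj_mem_sigmaCore hk hy₁s, ?_, ?_⟩
      · intro h
        rw [h] at hxeq
        apply hx₁ne
        have h2 : k * (x₁ : G) * k⁻¹ = 1 := by rw [← hxeq]; rfl
        have h3 : (x₁ : G) = k⁻¹ * (k * x₁ * k⁻¹) * k := by group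
        rw [h3, h2]; group
      · intro h
        apply hy₁ne
        have h3 : (y₁ : G) = k⁻¹ * (k * y₁ * k⁻¹) * k := by group
        rw [h3, h]; group
      · have hxe : (x : G) = k * x₁ * k⁻¹ := hxeq
        rw [hxe]
        calc k * ↑x₁ * k⁻¹ * (k * ↑y₁ * k⁻¹) = k * (x₁ * y₁) * k⁻¹ := by group
          _ = k * (y₁ * x₁) * k⁻¹ := by rw [hcomm]
          _ = k * ↑y₁ * k⁻¹ * (k * ↑x₁ * k⁻¹) := by group

/-- `K ≠ 1` when `M` has type-P data -/
theorem K_ne_bot_of_typeP {M W₁ V W₂ K : Subgroup G} (hP : IsTypePWith M W₁ V W₂)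
    (hK : IsPiHallOf (kappa M) K M)
    (h50 : IsPiHallOf (sigma M) (sigmaCore M) M)
    (h55 : fittingHallOf M ≤ sigmaCore M ∧ sigmaCore M ≤ ⁅M, M⁆) : K ≠ ⊥ := by
  have hne : Nat.card W₁ ≠ 1 := fun h => hP.W₁_ne (Subgroup.card_eq_one.mp h)
  obtain ⟨p, hp, hpd⟩ := Nat.exists_prime_and_dvd hne
  have hpk := mem_kappa_of_typeP hP h50 h55 hp hpd
  intro hbot
  subst hbot
  have h1 : ¬ p ∣ (⊥ : Subgroup G).relIndex M := hK.2.2 p hp hpk
  have h2 := relIndex_mul_card hK.1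
  rw [Subgroup.card_bot, mul_one] at h2
  rw [h2] at h1
  exact h1 hpk.2.1

/-- for type-P data with `M' = M_σ`, `N_G(V) ≤ M` -/
theorem normalizer_le_of_typeP {M W₁ V W₂ : Subgroup G} (hP : IsTypePWith M W₁ V W₂) (hV1 : V ≠ ⊥)
    (h50 : IsPiHallOf (sigma M) (sigmaCore M) M) (hder : ⁅M, M⁆ = sigmaCore M) :
    normalizer (V : Set G) ≤ M := by
  have hne : Nat.card V ≠ 1 := fun h => hV1 (Subgroup.card_eq_one.mp h)
  obtain ⟨p, hp, hpd⟩ := Nat.exists_prime_and_dvd hne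
  haveI : Fact p.Prime := ⟨hp⟩
  obtain ⟨hc1, hc2, hcM⟩ := Cfsg.Agent.Helper7.IsTypePWith.card_facts hP
  have hVD : V ≤ ⁅M, M⁆ := hP.U_compl.2.1
  have hVM : V ≤ M := hVD.trans (commutator_self_le M)
  obtain ⟨T, hT⟩ := Cfsg.Agent.Helper15.exists_isSylowIn (p := p) V
  have hVi : V.relIndex M = Nat.card (fittingHallOf M) * Nat.card W₁ := by
    have h4 := relIndex_mul_card hVM
    rw [hcM] at h4
    have hpos : 0 < Nat.card V := Nat.card_pos
    apply Nat.eq_of_mul_eq_mul_right hpos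
    rw [h4]; ring
  have hTM : IsSylowIn p T M := by
    apply Cfsg.Agent.Helper15.isSylowIn_of_not_dvd_relIndex hT.isPGroup (hT.le.trans hVM)
    rw [← Subgroup.relIndex_mul_relIndex T V M hT.le hVM]
    intro h
    rcases (Nat.Prime.dvd_mul hp).mp h with h | h
    · exact hT.not_dvd_relIndex h
    · rw [hVi] at h
      rcases (Nat.Prime.dvd_mul hp).mp h with h | h
      · exact hp.one_lt.ne' (Nat.dvd_one.mp (hc1 ▸ Nat.dvd_gcd hpd h))
      · exact hp.one_lt.ne' (Nat.dvd_one.mp (hc2 ▸ Nat.dvd_gcd hpd h))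
  have hps : p ∈ sigma M := by
    apply h50.2.1 p hp
    rw [← hder]
    exact hpd.trans (Subgroup.card_dvd_of_le hVD)
  have h1 : normalizer (V : Set G) ≤ normalizer (T : Set G) :=
    Cfsg.Agent.Helper22.BG13.le_normalizer_sylow_of_nilpotent_normal le_rfl hP.U_nilpotent hT
  exact h1.trans (Cfsg.Agent.Helper22.BG13.normalizer_le_of_mem_sigma hps hTM)

/-- S1381, direction `⇒`. -/
theorem of_typeII (h50 : H1350 G) (h55 : H1355 G) (h65 : H1365 G)
    (M : Subgroup G) (hM : IsCoatom M) (K U : Subgroup G) (hKU : IsSigmaDecomposition M K U)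
    (hII : IsOfTypeII M) : K ≠ ⊥ ∧ U ≠ ⊥ := by
  obtain ⟨W₁, V, W₂, hP, hV1, -, -, -, hVN, -, -⟩ := hII
  have h50' := (h50 M hM).1
  have h55' := h55 M hM
  have hK1 : K ≠ ⊥ := K_ne_bot_of_typeP hP hKU.hall h50' ⟨h55'.2.1, h55'.2.2.1⟩
  refine ⟨hK1, ?_⟩
  intro hU
  apply hVN
  apply normalizer_le_of_typeP hP hV1 h50'
  rw [(h65 M hM K U hKU hK1).1, hU, bot_sup_eq]

end Cfsg.Agent.Helper27.BGTy
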