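import Cfsg.Agent.Lib.Helper27.BGTyE
import Cfsg.Agent.Lib.Helper18.BG13P1
import Cfsg.Agent.Lib.Helper1.HallConj

set_option autoImplicit false
set_option linter.unusedVariables false
set_option linter.unusedSectionVars false

namespace Cfsg.Agent.Helper27.BGTy

open Cfsg Subgroup
open Cfsg.Agent.Helper15 (IsSylowIn)

variable {G : Type*} [Group G] [Finite G]

theorem isComplIn_symm {A B M : Subgroup G} (h : IsComplIn A B M) : IsComplIn B A M := by
  obtain ⟨hA, hB, hAB, hfac⟩ := h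
  refine ⟨hB, hA, by rwa [inf_comm], ?_⟩
  intro m hm
  obtain ⟨a, ha, b, hb, hab⟩ := hfac m⁻¹ (M.inv_mem hm)
  refine ⟨b⁻¹, B.inv_mem hb, a⁻¹, A.inv_mem ha, ?_⟩
  rw [← mul_inv_rev, ← hab, inv_inv]

theorem isNilpotent_of_le {V E : Subgroup G} (hE : Group.IsNilpotent ↥E) (hVE : V ≤ E) :
    Group.IsNilpotent ↥V := by
  haveI := hE
  have h1 : Group.IsNilpotent ↥(V.subgroupOf E) := inferInstance
  exact Group.nilpotent_of_mulEquiv (Subgroup.subgroupOfEquivOfLe hVE)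

/-- a `K`-invariant complement of `M_F` in a normal subgroup `S ≥ M_F` of `M`. -/
theorem exists_invariant_compl {M K S : Subgroup G} (hsolv : Group.IsSolvable ↥M) (hKM : K ≤ M)
    (hKF : (Nat.card K).Coprime (Nat.card (fittingHallOf M))) (hFS : fittingHallOf M ≤ S)
    (hSM : S ≤ M) (hSn : M ≤ normalizer (S : Set G)) :
    ∃ V : Subgroup G, IsComplIn (fittingHallOf M) V S ∧ K ≤ normalizer (V : Set G) := by
  obtain ⟨E, hE, hKE⟩ := Cfsg.Agent.Helper18.BG13P.exists_isComplIn_ge hsolv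
    (Cfsg.Agent.Helper7.fittingHallOf_le M) (Cfsg.Agent.Helper7.fittingHallOf_coprime M) hKM hKF
  obtain ⟨hEM, hFM, hEF, hfac⟩ := hE
  refine ⟨E ⊓ S, ⟨hFS, inf_le_right, ?_, ?_⟩, ?_⟩
  · rw [eq_bot_iff, ← hEF]
    intro x hx
    exact ⟨hx.2.1, hx.1⟩
  · intro m hm
    obtain ⟨e, he, n, hn, hen⟩ := hfac m⁻¹ (hSM (S.inv_mem hm))
    refine ⟨n⁻¹, (fittingHallOf M).inv_mem hn, e⁻¹, ⟨E.inv_mem he, ?_⟩, ?_⟩
    · have h1 : e = m⁻¹ * n⁻¹ := by rw [hen]; group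
      rw [h1]
      apply S.inv_mem
      exact S.mul_mem (S.inv_mem hm) (S.inv_mem (hFS hn))
    · rw [← mul_inv_rev, ← hen, inv_inv]
  · intro k hk
    have hkS := hSn (hKM hk)
    rw [Subgroup.mem_set_normalizer_iff] at hkS ⊢
    intro x
    constructor
    · rintro ⟨hxE, hxS⟩
      exact ⟨E.mul_mem (E.mul_mem (hKE hk) hxE) (E.inv_mem (hKE hk)), (hkS x).mp hxS⟩
    · rintro ⟨hxE, hxS⟩
      refine ⟨?_, (hkS x).mpr hxS⟩
      have h1 : x = k⁻¹ * (k * x * k⁻¹) * k := by group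
      rw [h1]
      exact E.mul_mem (E.mul_mem (E.inv_mem (hKE hk)) hxE) (hKE hk)

end Cfsg.Agent.Helper27.BGTy
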