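import Cfsg.Agent.Lib.Helper27.BGTyF

set_option autoImplicit false
set_option linter.unusedVariables false
set_option linter.unusedSectionVars false

namespace Cfsg.Agent.Helper27.BGTy

open Cfsg Subgroup
open Cfsg.Agent.Helper15 (IsSylowIn)

variable {G : Type*} [Group G] [Finite G]

theorem relIndex_eq_card_of_isComplIn {A B M : Subgroup G} (h : IsComplIn A B M) :
    A.relIndex M = Nat.card B := by
  have h1 := relIndex_mul_card h.1
  rw [Cfsg.Agent.Helper7.IsComplIn.card_eq h, mul_comm] at h1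
  have hpos : 0 < Nat.card A := Nat.card_pos
  exact Nat.eq_of_mul_eq_mul_left hpos h1

/-- nilpotency of a complement of `M_F` in `M_σ` from the 15.2-type data -/
theorem nilpotent_compl_of {M V Q : Subgroup G} {q : ℕ} (hq : q.Prime)
    (hsolv : Group.IsSolvable ↥(sigmaCore M))
    (hQF : Q ≤ fittingHallOf M) (hQp : IsPGroup q Q) (hQi : ¬ q ∣ Q.relIndex (sigmaCore M))
    (hD : ∀ D : Subgroup G, IsComplIn Q D (sigmaCore M) → Group.IsNilpotent ↥D)
    (hV : IsComplIn (fittingHallOf M) V (sigmaCore M)) : Group.IsNilpotent ↥V := by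
  have hQS : Q ≤ sigmaCore M := hQF.trans hV.1
  haveI : Fact q.Prime := ⟨hq⟩
  obtain ⟨n, hn⟩ := (IsPGroup.iff_card).mp hQp
  have hcop : (Nat.card ↥Q).Coprime (Q.relIndex (sigmaCore M)) := by
    rw [hn]
    exact Nat.Coprime.pow_left n ((Nat.Prime.coprime_iff_not_dvd hq).mpr hQi)
  have hVd : Nat.card ↥V ∣ Q.relIndex (sigmaCore M) := by
    rw [← Subgroup.relIndex_mul_relIndex Q (fittingHallOf M) (sigmaCore M) hQF hV.1,
      relIndex_eq_card_of_isComplIn hV]
    exact dvd_mul_left _ _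
  have hVQ : (Nat.card ↥V).Coprime (Nat.card ↥Q) :=
    (Nat.Coprime.coprime_dvd_left hVd hcop.symm)
  obtain ⟨E, hE, hVE⟩ := Cfsg.Agent.Helper18.BG13P.exists_isComplIn_ge hsolv hQS hcop hV.2.1 hVQ
  exact isNilpotent_of_le (hD E (isComplIn_symm hE)) hVE

/-- S1382, direction `⇐`. -/
theorem typeIII_or_IV_of (hG : IsMinSimpleOddOrder G) (h50 : H1350 G) (h54 : H1354 G) (h55 : H1355 G)
    (h56 : H1356 G) (h57 : H1357 G) (h64 : H1364 G) (h65 : H1365 G)
    (h66 : H1366 G) (h68 : H1368 G) (h70 : H1370 G) (h37 : H1437 G)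
    (M : Subgroup G) (hM : IsCoatom M) (K U : Subgroup G) (hKU : IsSigmaDecomposition M K U)
    (hK1 : K ≠ ⊥) (hU : U = ⊥) (hne : fittingHallOf M ≠ sigmaCore M) :
    IsOfTypeIII M ∨ IsOfTypeIV M := by
  have h50' := (h50 M hM).1
  obtain ⟨hder, hKsD2⟩ := h65 M hM K U hKU hK1
  have hder' : ⁅M, M⁆ = sigmaCore M := by rw [hder, hU, bot_sup_eq]
  obtain ⟨Ms, ⟨hMs, hKeq, hKsH⟩, -⟩ := h66 M hM K U hKU hK1
  have hcyc := (h68 M hM K U hKU hK1 Ms hMs hKeq hKsH).2
  have h54' := (h54 M hM K hKU.cyclic hKU.hall).2 hK1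
  have h55' := h55 M hM
  have hDM : ⁅M, M⁆ ≤ M := commutator_self_le M
  have hsolvM := Cfsg.Agent.Helper14.BGTrans.isSolvable_of_ne_top hG hM.1
  have hKF : (Nat.card K).Coprime (Nat.card (fittingHallOf M)) :=
    Nat.Coprime.coprime_dvd_right (Subgroup.card_dvd_of_le h55'.2.1)
      (coprime_K_sigmaCore hKU.hall h50')
  obtain ⟨V, hVc, hVn⟩ := exists_invariant_compl hsolvM hKU.hall.1 hKF
    (h55'.2.1.trans h55'.2.2.1) hDM (derived_le_normalizer M)
  obtain ⟨-, hsD, hKp, hKsp, -, -, Q, hQF, hQn, hQp, hQi, hD⟩ := h37 M hM K U hKU hne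
  have hVnil : Group.IsNilpotent ↥V := by
    apply nilpotent_compl_of hKsp
      (Cfsg.Agent.Helper14.BGTrans.isSolvable_of_ne_top hG (ne_top_of_le hM (sigmaCore_le M)))
      hQF hQp hQi (fun D hD' => (hD D hD').1)
    rw [← hder']; exact hVc
  have hV1 : V ≠ ⊥ := by
    intro hV
    apply hne
    have hc := Cfsg.Agent.Helper7.IsComplIn.card_eq hVc
    rw [hV, Subgroup.card_bot, mul_one, hder'] at hc
    exact Subgroup.eq_of_le_of_card_ge h55'.2.1 hc.le
  have hP := isTypePWith_of hKU hK1 h50' hVnil hVn hVc hder hKsD2 (h56 M hM)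
    (h64 M hM K U hKU hK1) h54' hcyc (h70 M hM K U hKU hK1)
  have hN : normalizer (V : Set G) ≤ M := normalizer_le_of_typeP hP hV1 h50' hder'
  obtain ⟨-, hTI, hKprime⟩ := h57 M hM K U hKU hne
  by_cases hab : IsMulCommutative ↥V
  · exact Or.inl ⟨K, V, _, hP, hV1, hKprime, hTI, hab, hN⟩
  · exact Or.inr ⟨K, V, _, hP, hV1, hKprime, hTI, hab, hN⟩

end Cfsg.Agent.Helper27.BGTy
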