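import Cfsg.Agent.Lib.Helper27.BGTyG

set_option autoImplicit false
set_option linter.unusedVariables false
set_option linter.unusedSectionVars false

namespace Cfsg.Agent.Helper27.BGTy

open Cfsg Subgroup
open scoped Pointwise
open Cfsg.Agent.Helper15 (IsSylowIn)

variable {G : Type*} [Group G] [Finite G]

/-- complements of a normal Hall subgroup of a solvable group are conjugate -/
theorem compl_conj {D N A B : Subgroup G} (hsolv : Group.IsSolvable ↥D)
    (hcop : (Nat.card N).Coprime (N.relIndex D))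
    (hA : IsComplIn N A D) (hB : IsComplIn N B D) : ∃ m ∈ D, MulAut.conj m • A = B := by
  haveI := hsolv
  have hcA := relIndex_eq_card_of_isComplIn hA
  have hcB := relIndex_eq_card_of_isComplIn hB
  have hcard : Nat.card ↥D = N.relIndex D * Nat.card ↥N := (relIndex_mul_card hA.1).symm
  obtain ⟨g, hg⟩ := Cfsg.Agent.Helper1.hall_conj (G := ↥D) (N.relIndex D) (Nat.card ↥N) hcard
    hcop.symm (A.subgroupOf D) (B.subgroupOf D)
    (by rw [Cfsg.Agent.Helper7.card_subgroupOf_of_le hA.2.1, hcA])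
    (by rw [Cfsg.Agent.Helper7.card_subgroupOf_of_le hB.2.1, hcB])
  exact ⟨g, g.2, Cfsg.Agent.Helper1.conj_of_conj_subgroupOf hA.2.1 hB.2.1 g hg⟩

theorem normalizer_le_of_conj {M U V : Subgroup G} {m : G} (hm : m ∈ M)
    (hUV : MulAut.conj m • U = V) (hN : normalizer (V : Set G) ≤ M) :
    normalizer (U : Set G) ≤ M := by
  intro x hx
  have h1 : m * x * m⁻¹ ∈ normalizer (V : Set G) := by
    rw [Subgroup.mem_set_normalizer_iff] at hx ⊢
    intro y
    have e1 : ∀ z : G, z ∈ V ↔ m⁻¹ * z * m ∈ U := by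
      intro z
      rw [← hUV]
      exact Cfsg.Agent.Helper1.mem_conj_smul_iff
    have hy1 : (y ∈ (V : Set G)) ↔ m⁻¹ * y * m ∈ U := e1 y
    have hy2 : (m * x * m⁻¹ * y * (m * x * m⁻¹)⁻¹ ∈ (V : Set G)) ↔
        m⁻¹ * (m * x * m⁻¹ * y * (m * x * m⁻¹)⁻¹) * m ∈ U := e1 _
    rw [hy1, hy2]
    have e2 : m⁻¹ * (m * x * m⁻¹ * y * (m * x * m⁻¹)⁻¹) * m = x * (m⁻¹ * y * m) * x⁻¹ := by group
    rw [e2]
    exact hx (m⁻¹ * y * m)
  have h2 := hN h1
  have e : x = m⁻¹ * (m * x * m⁻¹) * m := by group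
  rw [e]
  exact M.mul_mem (M.mul_mem (M.inv_mem hm) h2) hm

/-- the common part of S1382 `⇒`: type-P data with `V ≠ 1`, `N_G(V) ≤ M`. -/
theorem of_typeP_normalizer_le (hG : IsMinSimpleOddOrder G) (h50 : H1350 G) (h55 : H1355 G)
    (h57 : H1357 G) (h63 : H1363 G) (h65 : H1365 G)
    (M : Subgroup G) (hM : IsCoatom M) (K U : Subgroup G) (hKU : IsSigmaDecomposition M K U)
    {W₁ V W₂ : Subgroup G} (hP : IsTypePWith M W₁ V W₂) (hV1 : V ≠ ⊥)
    (hN : normalizer (V : Set G) ≤ M) :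
    K ≠ ⊥ ∧ U = ⊥ ∧ fittingHallOf M ≠ sigmaCore M := by
  have h50' := (h50 M hM).1
  have h55' := h55 M hM
  have hK1 : K ≠ ⊥ := K_ne_bot_of_typeP hP hKU.hall h50' ⟨h55'.2.1, h55'.2.2.1⟩
  obtain ⟨hder, -⟩ := h65 M hM K U hKU hK1
  have hDM : ⁅M, M⁆ ≤ M := commutator_self_le M
  have hU : U = ⊥ := by
    by_contra hU1
    have hFs : fittingHallOf M = sigmaCore M := by
      by_contra hne
      exact hU1 (h57 M hM K U hKU hne).1
    have hUc : IsComplIn (fittingHallOf M) U ⁅M, M⁆ := by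
      rw [hFs, hder]; exact isComplIn_sigmaCore_U hKU
    have hcop : (Nat.card (fittingHallOf M)).Coprime ((fittingHallOf M).relIndex ⁅M, M⁆) := by
      have h1 := Cfsg.Agent.Helper7.fittingHallOf_coprime M
      rw [← Subgroup.relIndex_mul_relIndex (fittingHallOf M) ⁅M, M⁆ M hUc.1 hDM] at h1
      exact Nat.Coprime.coprime_mul_right_right h1
    obtain ⟨m, hm, hmV⟩ := compl_conj
      (Cfsg.Agent.Helper14.BGTrans.isSolvable_of_ne_top hG (ne_top_of_le hM hDM)) hcop hUc hP.U_compl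
    exact (h63 M hM K U hKU hK1).2 (normalizer_le_of_conj (hDM hm) hmV hN)
  refine ⟨hK1, hU, ?_⟩
  intro hFs
  apply hV1
  have hc := Cfsg.Agent.Helper7.IsComplIn.card_eq hP.U_compl
  rw [hder, hU, bot_sup_eq, hFs] at hc
  have hpos : 0 < Nat.card (sigmaCore M) := Nat.card_pos
  have h1 : Nat.card V = 1 := by
    have : Nat.card (sigmaCore M) * 1 = Nat.card (sigmaCore M) * Nat.card V := by rw [mul_one]; exact hc
    exact (Nat.eq_of_mul_eq_mul_left hpos this).symm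
  exact Subgroup.card_eq_one.mp h1

/-- S1382, direction `⇒`. -/
theorem of_typeIII_or_IV (hG : IsMinSimpleOddOrder G) (h50 : H1350 G) (h55 : H1355 G)
    (h57 : H1357 G) (h63 : H1363 G) (h65 : H1365 G)
    (M : Subgroup G) (hM : IsCoatom M) (K U : Subgroup G) (hKU : IsSigmaDecomposition M K U)
    (h : IsOfTypeIII M ∨ IsOfTypeIV M) :
    K ≠ ⊥ ∧ U = ⊥ ∧ fittingHallOf M ≠ sigmaCore M := by
  rcases h with ⟨W₁, V, W₂, hP, hV1, -, -, -, hN⟩ | ⟨W₁, V, W₂, hP, hV1, -, -, -, hN⟩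
  · exact of_typeP_normalizer_le hG h50 h55 h57 h63 h65 M hM K U hKU hP hV1 hN
  · exact of_typeP_normalizer_le hG h50 h55 h57 h63 h65 M hM K U hKU hP hV1 hN

/-- S1383, direction `⇒`. -/
theorem of_typeV (h50 : H1350 G) (h55 : H1355 G) (h65 : H1365 G)
    (M : Subgroup G) (hM : IsCoatom M) (K U : Subgroup G) (hKU : IsSigmaDecomposition M K U)
    (h : IsOfTypeV M) : K ≠ ⊥ ∧ U = ⊥ ∧ fittingHallOf M = sigmaCore M := by
  obtain ⟨W₁, V, W₂, hP, hV, -⟩ := h
  have h50' := (h50 M hM).1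
  have h55' := h55 M hM
  have hK1 : K ≠ ⊥ := K_ne_bot_of_typeP hP hKU.hall h50' ⟨h55'.2.1, h55'.2.2.1⟩
  obtain ⟨hder, -⟩ := h65 M hM K U hKU hK1
  have hc := Cfsg.Agent.Helper7.IsComplIn.card_eq hP.U_compl
  rw [hV, Subgroup.card_bot, mul_one] at hc
  have hFD : fittingHallOf M = ⁅M, M⁆ := Subgroup.eq_of_le_of_card_ge hP.U_compl.1 hc.le
  have hFs : fittingHallOf M = sigmaCore M :=
    le_antisymm h55'.2.1 (by rw [hFD]; exact h55'.2.2.1)
  refine ⟨hK1, ?_, hFs⟩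
  have hUs : U ≤ sigmaCore M := by
    rw [← hFs, hFD, hder]; exact le_sup_left
  rw [eq_bot_iff, ← U_inf_sigmaCore hKU]
  exact le_inf le_rfl hUs

end Cfsg.Agent.Helper27.BGTy
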