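import Cfsg.Agent.Lib.Helper27.BGTyH

set_option autoImplicit false
set_option linter.unusedVariables false
set_option linter.unusedSectionVars false

namespace Cfsg.Agent.Helper27.BGTy

open Cfsg Subgroup
open scoped Pointwise
open Cfsg.Agent.Helper15 (IsSylowIn)

variable {G : Type*} [Group G] [Finite G]

theorem typeCore_of_III_IV {M : Subgroup G} (h : IsOfTypeIII M ∨ IsOfTypeIV M) :
    typeCore M = ⁅M, M⁆ := by
  unfold typeCore
  rw [if_pos h]

theorem typeCore_of_not {M : Subgroup G} (h : ¬ (IsOfTypeIII M ∨ IsOfTypeIV M)) :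
    typeCore M = fittingHallOf M := by
  unfold typeCore
  rw [if_neg h]

/-- Sylow normalizers and the Hall property for a Hall subgroup `S ≤ M_σ` of `M` -/
theorem hall_facts (h50 : H1350 G) {M : Subgroup G} (hM : IsCoatom M) {S : Subgroup G}
    (hS : S ≤ sigmaCore M) (hcop : (Nat.card S).Coprime (S.relIndex M)) :
    (∀ (p : ℕ), p.Prime → ∀ (P : Sylow p ↥S), (P : Subgroup ↥S) ≠ ⊥ →
        Subgroup.normalizer ((((P : Subgroup ↥S).map S.subtype : Subgroup G)) : Set G) ≤ M) ∧
      (Nat.card S).Coprime S.index := by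
  obtain ⟨h50a, h50b, -⟩ := h50 M hM
  have hSM : S ≤ M := hS.trans (sigmaCore_le M)
  have hsig : ∀ p : ℕ, p.Prime → p ∣ Nat.card S → p ∈ sigma M := fun p hp hd =>
    h50a.2.1 p hp (hd.trans (Subgroup.card_dvd_of_le hS))
  constructor
  · intro p hp P hP1
    haveI : Fact p.Prime := ⟨hp⟩
    have hT := Cfsg.Agent.Helper15.isSylowIn_map_subtype P
    have hpd : p ∣ Nat.card S := by
      by_contra hnd
      apply hP1
      have h1 : Nat.card (P : Subgroup ↥S) = 1 := by
        rw [Sylow.card_eq_multiplicity]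
        have : (Nat.card ↥S).factorization p = 0 := Nat.factorization_eq_zero_of_not_dvd hnd
        rw [this, pow_zero]
      exact Subgroup.card_eq_one.mp h1
    have hps : p ∈ sigma M := hsig p hp hpd
    have hTM : IsSylowIn p ((P : Subgroup ↥S).map S.subtype) M := by
      apply Cfsg.Agent.Helper15.isSylowIn_of_not_dvd_relIndex hT.isPGroup (hT.le.trans hSM)
      rw [← Subgroup.relIndex_mul_relIndex _ S M hT.le hSM]
      intro h
      rcases (Nat.Prime.dvd_mul hp).mp h with h | h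
      · exact hT.not_dvd_relIndex h
      · exact hp.one_lt.ne' (Nat.dvd_one.mp (hcop ▸ Nat.dvd_gcd hpd h))
    exact Cfsg.Agent.Helper22.BG13.normalizer_le_of_mem_sigma hps hTM
  · apply Nat.coprime_of_dvd
    intro p hp h1 h2
    have hps := hsig p hp h1
    have h3 : S.index = S.relIndex M * M.index := (Subgroup.relIndex_mul_index hSM).symm
    rw [h3] at h2
    rcases (Nat.Prime.dvd_mul hp).mp h2 with h | h
    · exact hp.one_lt.ne' (Nat.dvd_one.mp (hcop ▸ Nat.dvd_gcd h1 h))
    · apply h50b.2 p hp hps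
      rw [← Subgroup.relIndex_mul_index (sigmaCore_le M)]
      exact h.mul_left _

/-- the statement of S1389 from earlier rows -/
theorem thm_1389 (hG : IsMinSimpleOddOrder G) (h50 : H1350 G) (h51 : H1351 G) (h52 : H1352 G)
    (h55 : H1355 G) (h57 : H1357 G) (h63 : H1363 G) (h65 : H1365 G)
    (M : Subgroup G) (hM : IsCoatom M) :
    (∀ (p : ℕ), p.Prime → ∀ (P : Sylow p ↥(Cfsg.typeCore M)), (P : Subgroup ↥(Cfsg.typeCore M)) ≠ ⊥ →
        Subgroup.normalizer ((((P : Subgroup ↥(Cfsg.typeCore M)).map (Cfsg.typeCore M).subtype : Subgroup G)) : Set G) ≤ M) ∧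
      (Nat.card (Cfsg.fittingHallOf M)).Coprime (Cfsg.fittingHallOf M).index ∧
      (Nat.card (Cfsg.typeCore M)).Coprime (Cfsg.typeCore M).index := by
  have h55' := h55 M hM
  have hF := hall_facts h50 hM h55'.2.1 (Cfsg.Agent.Helper7.fittingHallOf_coprime M)
  by_cases h : IsOfTypeIII M ∨ IsOfTypeIV M
  · obtain ⟨⟨K, hK⟩, hKc⟩ := h51 M hM
    obtain ⟨⟨U, hKU⟩, -⟩ := h52 M hM K (hKc K hK) hK
    obtain ⟨hK1, hU, -⟩ := of_typeIII_or_IV hG h50 h55 h57 h63 h65 M hM K U hKU h
    obtain ⟨hder, -⟩ := h65 M hM K U hKU hK1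
    have hT : typeCore M = sigmaCore M := by
      rw [typeCore_of_III_IV h, hder, hU, bot_sup_eq]
    rw [hT]
    have hS := hall_facts h50 hM le_rfl (coprime_sigmaCore_relIndex (h50 M hM).1)
    exact ⟨hS.1, hF.2, hS.2⟩
  · rw [typeCore_of_not h]
    exact ⟨hF.1, hF.2, hF.2⟩

end Cfsg.Agent.Helper27.BGTy
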