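import Cfsg.Agent.Lib.Helper27.BGTyI

set_option autoImplicit false
set_option linter.unusedVariables false
set_option linter.unusedSectionVars false

namespace Cfsg.Agent.Helper27.BGTy

open Cfsg Subgroup
open scoped Pointwise
open Cfsg.Agent.Helper15 (IsSylowIn)

variable {G : Type*} [Group G] [Finite G]

/-- in a group whose Sylow `p`-subgroups are cyclic, an element of order `p` is conjugate to a
power of any other element of order `p` -/
theorem exists_conj_pow_of_cyclic_sylow {H : Type*} [Group H] [Finite H] {p : ℕ} [Fact p.Prime]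
    (hcyc : ∀ P : Sylow p H, IsCyclic (P : Subgroup H)) {u k : H} (hu : orderOf u = p)
    (hk : orderOf k = p) : ∃ (g : H) (j : ℤ), u = (g * k * g⁻¹) ^ j := by
  have hpu : IsPGroup p (zpowers u) := by
    apply IsPGroup.of_card (n := 1)
    rw [Nat.card_zpowers, hu, pow_one]
  have hpk : IsPGroup p (zpowers k) := by
    apply IsPGroup.of_card (n := 1)
    rw [Nat.card_zpowers, hk, pow_one]
  obtain ⟨P, hP⟩ := hpu.exists_le_sylow
  obtain ⟨Q, hQ⟩ := hpk.exists_le_sylow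
  obtain ⟨g, hg⟩ := MulAction.exists_smul_eq H Q P
  have hv : g * k * g⁻¹ ∈ (P : Subgroup H) := by
    rw [← hg, Sylow.coe_subgroup_smul]
    rw [Subgroup.mem_pointwise_smul_iff_inv_smul_mem]
    have : (MulAut.conj g)⁻¹ • (g * k * g⁻¹) = k := by
      simp [MulAut.smul_def, mul_assoc]
    rw [this]
    exact hQ (Subgroup.mem_zpowers k)
  have hov : orderOf (g * k * g⁻¹) = p := by
    have h1 : g * k * g⁻¹ = MulAut.conj g k := by simp [MulAut.conj_apply]
    rw [h1, MulEquiv.orderOf_eq, hk]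
  have heq : zpowers u = zpowers (g * k * g⁻¹) := by
    apply Cfsg.Agent.Helper7.eq_of_card_eq_of_le_isCyclic (P : Subgroup H) (hcyc P) hP
    · rw [Subgroup.zpowers_le]; exact hv
    · rw [Nat.card_zpowers, Nat.card_zpowers, hu, hov]
  have : u ∈ zpowers (g * k * g⁻¹) := by rw [← heq]; exact Subgroup.mem_zpowers u
  obtain ⟨j, hj⟩ := Subgroup.mem_zpowers_iff.mp this
  exact ⟨g, j, hj.symm⟩

/-- S1380, direction `⇒`. -/
theorem of_typeI (h50 : H1350 G) (h55 : H1355 G) (h64 : H1364 G)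
    (M : Subgroup G) (hM : IsCoatom M) (K U : Subgroup G) (hKU : IsSigmaDecomposition M K U)
    (hI : IsOfTypeI M) : K = ⊥ ∧ U ≠ ⊥ := by
  have h50' := (h50 M hM).1
  have h55' := h55 M hM
  have hK : K = ⊥ := by
    by_contra hK1
    obtain ⟨⟨-, -, -, -, U', hU'1, hcompl, -, U₀, hU₀U, hexp, hfree⟩, -⟩ := hI
    have hne : Nat.card K ≠ 1 := fun h => hK1 (Subgroup.card_eq_one.mp h)
    obtain ⟨p, hp, hpK⟩ := Nat.exists_prime_and_dvd hne
    haveI : Fact p.Prime := ⟨hp⟩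
    have hpκ : p ∈ kappa M := hKU.hall.2.1 p hp hpK
    -- `p ∤ |M_F|`
    have hpF : ¬ p ∣ Nat.card (fittingHall ↥M) := by
      intro h
      have h1 : Nat.card (fittingHallOf M) = Nat.card (fittingHall ↥M) := by
        unfold fittingHallOf
        exact Subgroup.card_map_of_injective M.subtype_injective
      rw [← h1] at h
      have h2 := h.trans (Subgroup.card_dvd_of_le h55'.2.1)
      exact hp.one_lt.ne' (Nat.dvd_one.mp ((coprime_K_sigmaCore hKU.hall h50') ▸ Nat.dvd_gcd hpK h2))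
    have hcardM : Nat.card (fittingHall ↥M) * Nat.card U' = Nat.card ↥M := hcompl.card_mul_card
    have hpU' : p ∣ Nat.card U' := by
      have h1 : p ∣ Nat.card (fittingHall ↥M) * Nat.card U' := by rw [hcardM]; exact hpκ.2.1
      rcases (Nat.Prime.dvd_mul hp).mp h1 with h | h
      · exact absurd h hpF
      · exact h
    -- an element of order `p` in `U₀`
    obtain ⟨a, ha⟩ := exists_prime_orderOf_dvd_card' (G := ↥U') p hpU'
    have hpe : p ∣ Monoid.exponent ↥U₀ := by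
      rw [hexp, ← ha]; exact Monoid.order_dvd_exponent a
    have hpU₀ : p ∣ Nat.card ↥U₀ := hpe.trans (Group.exponent_dvd_nat_card)
    obtain ⟨u₀, hu₀⟩ := exists_prime_orderOf_dvd_card' (G := ↥U₀) p hpU₀
    have hu : orderOf (u₀ : ↥M) = p := by rw [Subgroup.orderOf_coe]; exact hu₀
    -- an element of order `p` in `K`
    obtain ⟨k₀, hk₀⟩ := exists_prime_orderOf_dvd_card' (G := ↥K) p hpK
    have hkM : (k₀ : G) ∈ M := hKU.hall.1 k₀.2
    have hk : orderOf (⟨(k₀ : G), hkM⟩ : ↥M) = p := by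
      rw [← hk₀, ← Subgroup.orderOf_coe k₀, ← Subgroup.orderOf_coe (⟨(k₀ : G), hkM⟩ : ↥M)]
    obtain ⟨g, j, hgj⟩ := exists_conj_pow_of_cyclic_sylow (fun P => (hpκ.2.2.2 P).1) hu hk
    -- a nonidentity element of `K* ≤ M_F`
    obtain ⟨-, hKs1, hKsF, -⟩ := h64 M hM K U hKU hK1
    obtain ⟨x, hx1⟩ := Subgroup.ne_bot_iff_exists_ne_one.mp hKs1
    have hxF : (x : G) ∈ fittingHallOf M := hKsF x.2
    obtain ⟨x₀, hx₀F, hx₀⟩ := hxF
    have hx₀1 : x₀ ≠ 1 := by
      intro h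
      apply hx1
      apply Subtype.ext
      rw [← hx₀, h]; rfl
    have hcomm : (⟨(k₀ : G), hkM⟩ : ↥M) * x₀ = x₀ * ⟨(k₀ : G), hkM⟩ := by
      apply Subtype.ext
      have h1 : (x : G) ∈ centralizer (K : Set G) := x.2.2
      have h2 := (Subgroup.mem_centralizer_iff.mp h1) (k₀ : G) k₀.2
      have h3 : (M.subtype x₀ : G) = (x₀ : G) := rfl
      rw [Subgroup.coe_mul, Subgroup.coe_mul]
      change (k₀ : G) * (x₀ : G) = (x₀ : G) * (k₀ : G)
      rw [← h3, hx₀]; exact h2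
    have hx' : g * x₀ * g⁻¹ ∈ fittingHall ↥M := (fittingHall_normal ↥M).conj_mem x₀ hx₀F g
    have hx'1 : g * x₀ * g⁻¹ ≠ 1 := by
      intro h
      apply hx₀1
      have : x₀ = g⁻¹ * (g * x₀ * g⁻¹) * g := by group
      rw [this, h]; group
    have hcomm' : (g * ⟨(k₀ : G), hkM⟩ * g⁻¹) * (g * x₀ * g⁻¹) = (g * x₀ * g⁻¹) * (g * ⟨(k₀ : G), hkM⟩ * g⁻¹) := by
      calc (g * ⟨(k₀ : G), hkM⟩ * g⁻¹) * (g * x₀ * g⁻¹) = g * (⟨(k₀ : G), hkM⟩ * x₀) * g⁻¹ := by group
        _ = g * (x₀ * ⟨(k₀ : G), hkM⟩) * g⁻¹ := by rw [hcomm]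
        _ = (g * x₀ * g⁻¹) * (g * ⟨(k₀ : G), hkM⟩ * g⁻¹) := by group
    have hcomm'' : (u₀ : ↥M) * (g * x₀ * g⁻¹) = (g * x₀ * g⁻¹) * (u₀ : ↥M) := by
      rw [hgj]
      exact (Commute.zpow_left hcomm' j)
    have hu1 : (u₀ : ↥M) ≠ 1 := by
      intro h
      rw [h, orderOf_one] at hu
      exact hp.one_lt.ne hu
    exact hx'1 (hfree (u₀ : ↥M) (hU₀U u₀.2 |> fun _ => u₀.2) hu1 _ hx' hcomm'')
  refine ⟨hK, ?_⟩
  intro hU
  have hc := hKU.compl
  rw [hK, hU, bot_sup_eq] at hc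
  -- `M ≤ M_σ ≤ M' < M`
  have hMle : M ≤ sigmaCore M := by
    intro m hm
    obtain ⟨a, ha, b, hb, rfl⟩ := hc.2.2.2 m hm
    rw [Subgroup.mem_bot] at ha
    rw [ha, one_mul]; exact hb
  exact absurd (hMle.trans h55'.2.2.1) (not_le_of_gt h55'.2.2.2.1)

end Cfsg.Agent.Helper27.BGTy
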