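import Cfsg.Agent.Lib.Helper27.BGTyJ

set_option autoImplicit false
set_option linter.unusedVariables false
set_option linter.unusedSectionVars false

namespace Cfsg.Agent.Helper27.BGTy

open Cfsg Subgroup
open scoped Pointwise
open Cfsg.Agent.Helper15 (IsSylowIn)

variable {G : Type*} [Group G] [Finite G]

/-- conjugation by `m` as an isomorphism `U₀ ≃* U` -/
def conjEquiv {U₀ U : Subgroup G} (m : G) (h : ∀ x, x ∈ U ↔ m⁻¹ * x * m ∈ U₀) : ↥U₀ ≃* ↥U where
  toFun x := ⟨m * x * m⁻¹, (h _).mpr (by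
    have : m⁻¹ * (m * (x : G) * m⁻¹) * m = x := by group
    rw [this]; exact x.2)⟩
  invFun y := ⟨m⁻¹ * y * m, (h _).mp y.2⟩
  left_inv x := by
    apply Subtype.ext
    show m⁻¹ * (m * (x : G) * m⁻¹) * m = x
    group
  right_inv y := by
    apply Subtype.ext
    show m * (m⁻¹ * (y : G) * m) * m⁻¹ = y
    group
  map_mul' x y := by
    apply Subtype.ext
    show m * ((x : G) * y) * m⁻¹ = (m * x * m⁻¹) * (m * y * m⁻¹)
    group

theorem pRankLE_of_inj {K : Type*} {H : Type*} [Group K] [Group H] {p k : ℕ}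
    (f : K →* H) (hf : Function.Injective f) (h : Cfsg.PRankLE p k H) : Cfsg.PRankLE p k K := by
  intro A hAc hAp
  have h1 : IsMulCommutative ↥(A.map f) := by
    refine ⟨⟨?_⟩⟩
    rintro ⟨_, x, hx, rfl⟩ ⟨_, y, hy, rfl⟩
    apply Subtype.ext
    show f x * f y = f y * f x
    have := hAc.is_comm.comm (⟨x, hx⟩ : A) ⟨y, hy⟩
    have h2 : x * y = y * x := congrArg Subtype.val this
    rw [← map_mul, ← map_mul, h2]
  have h2 : ∀ a ∈ A.map f, a ^ p = 1 := by
    rintro _ ⟨x, hx, rfl⟩
    rw [← map_pow, hAp x hx, map_one]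
  have h3 := h (A.map f) h1 h2
  rwa [Subgroup.card_map_of_injective hf] at h3

/-- transfer of the Sylow statement along an isomorphism -/
theorem sylow_transfer {A B : Type*} [Group A] [Group B] [Finite A] [Finite B] (e : A ≃* B)
    {p : ℕ} [Fact p.Prime]
    (h : ∀ Q : Sylow p A, IsMulCommutative ↥(Q : Subgroup A) ∧ PRankLE p 2 ↥(Q : Subgroup A))
    (P : Sylow p B) : IsMulCommutative ↥(P : Subgroup B) ∧ PRankLE p 2 ↥(P : Subgroup B) := by
  have hr : (P : Subgroup B) ≤ e.toMonoidHom.range := by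
    intro x _
    exact ⟨e.symm x, by simp⟩
  let Q : Sylow p A := P.comapOfInjective e.toMonoidHom e.injective hr
  obtain ⟨hc, hrk⟩ := h Q
  have hQ : ∀ x : B, x ∈ (P : Subgroup B) → e.symm x ∈ (Q : Subgroup A) := by
    intro x hx
    show e.symm x ∈ (P : Subgroup B).comap e.toMonoidHom
    rw [Subgroup.mem_comap]
    simpa using hx
  let f : ↥(P : Subgroup B) →* ↥(Q : Subgroup A) :=
    { toFun := fun x => ⟨e.symm x, hQ x x.2⟩
      map_one' := by apply Subtype.ext; simp
      map_mul' := by intro x y; apply Subtype.ext; simp }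
  have hf : Function.Injective f := by
    intro x y hxy
    have h1 : e.symm (x : B) = e.symm (y : B) := congrArg Subtype.val hxy
    exact Subtype.ext (e.symm.injective h1)
  refine ⟨⟨⟨?_⟩⟩, pRankLE_of_inj f hf hrk⟩
  intro a b
  apply hf
  rw [map_mul, map_mul]
  exact hc.is_comm.comm (f a) (f b)

theorem mem_centralizer_closure_of {S : Set G} {z : G} (h : ∀ s ∈ S, s * z = z * s) :
    z ∈ centralizer ((Subgroup.closure S : Subgroup G) : Set G) := by
  have h1 : Subgroup.closure S ≤ centralizer ({z} : Set G) := by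
    rw [Subgroup.closure_le]
    intro s hs
    rw [SetLike.mem_coe, Subgroup.mem_centralizer_iff]
    intro g hg
    rw [Set.mem_singleton_iff] at hg
    rw [hg]; exact (h s hs).symm
  rw [Subgroup.mem_centralizer_iff]
  intro y hy
  have := Subgroup.mem_centralizer_iff.mp (h1 hy) z (Set.mem_singleton z)
  exact this.symm

end Cfsg.Agent.Helper27.BGTy
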