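import Cfsg.Agent.Lib.Helper27.BGTyK

set_option autoImplicit false
set_option linter.unusedVariables false
set_option linter.unusedSectionVars false

namespace Cfsg.Agent.Helper27.BGTy

open Cfsg Subgroup
open scoped Pointwise
open Cfsg.Agent.Helper15 (IsSylowIn)

variable {G : Type*} [Group G] [Finite G]

/-- the difference set `A(M) - A₁(M)` in terms of the σ-vocabulary -/
theorem typeA_diff_eq {M U₀ D : Subgroup G} (hD : D = U₀ ⊔ sigmaCore M) (hDM : D ≤ M)
    (hFs : fittingHallOf M = sigmaCore M) (hcore : typeCore M = fittingHallOf M)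
    (hA : typeA M = {a | a ∈ D ∧ a ≠ 1 ∧ ∃ x ∈ fittingHallOf M, x ≠ 1 ∧ a * x = x * a}) :
    typeA M \ typeA1 M = sigmaA M U₀ \ (sigmaCore M : Set G) := by
  ext a
  unfold typeA1 sigmaA sigmaHat
  rw [hA, hcore, hFs, ← hD]
  simp only [Set.mem_sdiff, Set.mem_ofPred_eq, Set.mem_inter_iff, SetLike.mem_coe,
    Set.mem_singleton_iff]
  constructor
  · rintro ⟨⟨haD, ha1, x, hx, hx1, hax⟩, hn⟩
    refine ⟨⟨⟨hDM haD, x, hx, hx1, hax⟩, haD⟩, ?_⟩
    intro has
    exact hn ⟨has, ha1⟩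
  · rintro ⟨⟨⟨haM, x, hx, hx1, hax⟩, haD⟩, hn⟩
    refine ⟨⟨haD, ?_, x, hx, hx1, hax⟩, ?_⟩
    · intro h; apply hn; rw [h]; exact Subgroup.one_mem _
    · rintro ⟨has, -⟩; exact hn has

/-- the core of S1390, for `U` conjugate in `M` to the `U₀` of a standard factorisation -/
theorem thm_1390_core {M U₀ U : Subgroup G} (hM : IsCoatom M)
    (h58 : ∀ (p : ℕ), p.Prime → ∀ P : Sylow p U₀,
      IsMulCommutative (P : Subgroup U₀) ∧ Cfsg.PRankLE p 2 (P : Subgroup U₀))
    (h61 : ∀ (X : Subgroup G), X ≤ U₀ → X ≠ ⊥ → sigmaCore M ⊓ centralizer (X : Set G) ≠ ⊥ →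
      centralizer (X : Set G) ≤ M ∧ ∀ L : Subgroup G, IsCoatom L → centralizer (X : Set G) ≤ L → L = M)
    (h62 : IsTISubset (sigmaA M U₀ \ (sigmaCore M : Set G)))
    (hFs : fittingHallOf M = sigmaCore M) {m : G} (hm : m ∈ M) (hmU : MulAut.conj m • U₀ = U)
    (hdiff : typeA M \ typeA1 M = sigmaA M U₀ \ (sigmaCore M : Set G)) :
    (∀ (p : ℕ), p.Prime → ∀ P : Sylow p U, IsMulCommutative (P : Subgroup U) ∧ Cfsg.PRankLE p 2 (P : Subgroup U)) ∧
      (∀ X : Set G, X ⊆ (U : Set G) \ {1} → X.Nonempty → Cfsg.fittingHallOf M ⊓ Subgroup.centralizer X ≠ ⊥ →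
        Subgroup.centralizer X ≤ M ∧ ∀ L : Subgroup G, IsCoatom L → Subgroup.centralizer X ≤ L → L = M) ∧
      Cfsg.IsTISubset (Cfsg.typeA M \ Cfsg.typeA1 M) := by
  have hUm : ∀ x, x ∈ U ↔ m⁻¹ * x * m ∈ U₀ := by
    intro x
    rw [← hmU]
    exact Cfsg.Agent.Helper1.mem_conj_smul_iff
  refine ⟨?_, ?_, ?_⟩
  · intro p hp P
    haveI : Fact p.Prime := ⟨hp⟩
    exact sylow_transfer (conjEquiv m hUm) (h58 p hp) P
  · intro X hXU hXne hXc
    have hminv : m⁻¹ ∈ M := M.inv_mem hm
    set S' : Set G := (fun x => m⁻¹ * x * m) '' X with hS'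
    have hY₀U : Subgroup.closure S' ≤ U₀ := by
      rw [Subgroup.closure_le]
      rintro _ ⟨x, hx, rfl⟩
      exact (hUm x).mp (hXU hx).1
    have hY₀1 : Subgroup.closure S' ≠ ⊥ := by
      obtain ⟨x, hx⟩ := hXne
      intro h
      have h1 : m⁻¹ * x * m ∈ Subgroup.closure S' := Subgroup.subset_closure ⟨x, hx, rfl⟩
      rw [h, Subgroup.mem_bot] at h1
      apply (hXU hx).2
      rw [Set.mem_singleton_iff]
      have : x = m * (m⁻¹ * x * m) * m⁻¹ := by group
      rw [this, h1]; group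
    have hY₀c : sigmaCore M ⊓ centralizer ((Subgroup.closure S' : Subgroup G) : Set G) ≠ ⊥ := by
      obtain ⟨z, hz1⟩ := Subgroup.ne_bot_iff_exists_ne_one.mp hXc
      have hzF : (z : G) ∈ sigmaCore M := hFs ▸ z.2.1
      have hzC : (z : G) ∈ centralizer X := z.2.2
      have hz1' : (z : G) ≠ 1 := fun h => hz1 (Subtype.ext h)
      intro hbot
      have h1 : m⁻¹ * z * m ∈ sigmaCore M ⊓ centralizer ((Subgroup.closure S' : Subgroup G) : Set G) := by
        constructor
        · have := Cfsg.Agent.Helper19.BG16.conj_mem_sigmaCore hminv hzF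
          rwa [inv_inv] at this
        · apply mem_centralizer_closure_of
          rintro _ ⟨x, hx, rfl⟩
          have hxz : (z : G) * x = x * z := (Subgroup.mem_centralizer_iff.mp hzC) x hx |>.symm
          calc m⁻¹ * x * m * (m⁻¹ * ↑z * m) = m⁻¹ * (x * z) * m := by group
            _ = m⁻¹ * (z * x) * m := by rw [hxz]
            _ = m⁻¹ * ↑z * m * (m⁻¹ * x * m) := by group
      rw [hbot, Subgroup.mem_bot] at h1
      apply hz1'
      have : (z : G) = m * (m⁻¹ * z * m) * m⁻¹ := by group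
      rw [this, h1]; group
    obtain ⟨hle, huniq⟩ := h61 _ hY₀U hY₀1 hY₀c
    have key : ∀ c ∈ centralizer X, m⁻¹ * c * m ∈ centralizer ((Subgroup.closure S' : Subgroup G) : Set G) := by
      intro c hc
      apply mem_centralizer_closure_of
      rintro _ ⟨x, hx, rfl⟩
      have hxc : c * x = x * c := (Subgroup.mem_centralizer_iff.mp hc) x hx |>.symm
      calc m⁻¹ * x * m * (m⁻¹ * c * m) = m⁻¹ * (x * c) * m := by group
        _ = m⁻¹ * (c * x) * m := by rw [hxc]
        _ = m⁻¹ * c * m * (m⁻¹ * x * m) := by group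
    constructor
    · intro c hc
      have h1 := hle (key c hc)
      have : c = m * (m⁻¹ * c * m) * m⁻¹ := by group
      rw [this]
      exact M.mul_mem (M.mul_mem hm h1) hminv
    · intro L hL hXL
      have hL₀ := Cfsg.Agent.Helper14.BG1369.isCoatom_map_conj' hL m⁻¹
      have h2 : centralizer ((Subgroup.closure S' : Subgroup G) : Set G) ≤ L.map (MulAut.conj m⁻¹).toMonoidHom := by
        intro c₀ hc₀
        rw [Cfsg.Agent.Helper14.BG1369.mem_map_conj_iff', inv_inv]
        apply hXL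
        rw [Subgroup.mem_centralizer_iff]
        intro x hx
        have h3 : m⁻¹ * x * m ∈ Subgroup.closure S' := Subgroup.subset_closure ⟨x, hx, rfl⟩
        have h4 := (Subgroup.mem_centralizer_iff.mp hc₀) _ h3
        calc x * (m * c₀ * m⁻¹) = m * ((m⁻¹ * x * m) * c₀) * m⁻¹ := by group
          _ = m * (c₀ * (m⁻¹ * x * m)) * m⁻¹ := by rw [h4]
          _ = m * c₀ * m⁻¹ * x := by group
      have h5 := huniq _ hL₀ h2
      ext x
      have h6 : m⁻¹ * x * m ∈ L.map (MulAut.conj m⁻¹).toMonoidHom ↔ x ∈ L := by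
        rw [Cfsg.Agent.Helper14.BG1369.mem_map_conj_iff', inv_inv]
        have : m * (m⁻¹ * x * m) * m⁻¹ = x := by group
        rw [this]
      rw [← h6, h5]
      constructor
      · intro h
        have : x = m * (m⁻¹ * x * m) * m⁻¹ := by group
        rw [this]
        exact M.mul_mem (M.mul_mem hm h) hminv
      · intro h
        exact M.mul_mem (M.mul_mem hminv h) hm
  · rw [hdiff]; exact h62

end Cfsg.Agent.Helper27.BGTy
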