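import Cfsg.Agent.Lib.Helper27.BGTyL

set_option autoImplicit false
set_option linter.unusedVariables false
set_option linter.unusedSectionVars false

namespace Cfsg.Agent.Helper27.BGTy

open Cfsg Subgroup
open scoped Pointwise
open Cfsg.Agent.Helper15 (IsSylowIn)

variable {G : Type*} [Group G] [Finite G]

/-- the statement of S1390 from earlier rows -/
theorem thm_1390 (hG : IsMinSimpleOddOrder G) (h50 : H1350 G) (h51 : H1351 G) (h52 : H1352 G)
    (h55 : H1355 G) (h57 : H1357 G) (h58 : H1358 G) (h61 : H1361 G) (h62 : H1362 G)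
    (h63 : H1363 G) (h64 : H1364 G) (h65 : H1365 G)
    (M : Subgroup G) (hM : IsCoatom M) (U : Subgroup G)
    (hU : (Cfsg.IsOfTypeI M ∧ Cfsg.IsComplIn (Cfsg.fittingHallOf M) U M) ∨
      (Cfsg.IsOfTypeII M ∧ Cfsg.IsComplIn (Cfsg.fittingHallOf M) U ⁅M, M⁆)) :
    (∀ (p : ℕ), p.Prime → ∀ P : Sylow p U, IsMulCommutative (P : Subgroup U) ∧ Cfsg.PRankLE p 2 (P : Subgroup U)) ∧
      (∀ X : Set G, X ⊆ (U : Set G) \ {1} → X.Nonempty → Cfsg.fittingHallOf M ⊓ Subgroup.centralizer X ≠ ⊥ →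
        Subgroup.centralizer X ≤ M ∧ ∀ L : Subgroup G, IsCoatom L → Subgroup.centralizer X ≤ L → L = M) ∧
      Cfsg.IsTISubset (Cfsg.typeA M \ Cfsg.typeA1 M) := by
  obtain ⟨⟨K₀, hK₀⟩, hKc⟩ := h51 M hM
  obtain ⟨⟨U₀, hKU⟩, -⟩ := h52 M hM K₀ (hKc K₀ hK₀) hK₀
  have hDM : ⁅M, M⁆ ≤ M := commutator_self_le M
  rcases hU with ⟨hI, hUc⟩ | ⟨hII, hUc⟩
  · obtain ⟨hK, hU₀1⟩ := of_typeI h50 h55 h64 M hM K₀ U₀ hKU hI
    have hFs : fittingHallOf M = sigmaCore M := by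
      by_contra hne
      exact hU₀1 (h57 M hM K₀ U₀ hKU hne).1
    have hD : M = U₀ ⊔ sigmaCore M := by
      apply le_antisymm
      · intro m hm
        obtain ⟨u, hu, b, hb, rfl⟩ := hKU.compl.2.2.2 m hm
        rw [hK, bot_sup_eq] at hb
        exact Subgroup.mul_mem _ (le_sup_left (b := sigmaCore M) hu) (le_sup_right (a := U₀) hb)
      · exact sup_le (U_le hKU) (sigmaCore_le M)
    have hnot : ¬ (IsOfTypeIII M ∨ IsOfTypeIV M) := fun h =>
      (of_typeIII_or_IV hG h50 h55 h57 h63 h65 M hM K₀ U₀ hKU h).1 hK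
    have hcore := typeCore_of_not hnot
    have hA : typeA M = {a | a ∈ M ∧ a ≠ 1 ∧ ∃ x ∈ fittingHallOf M, x ≠ 1 ∧ a * x = x * a} := by
      unfold typeA
      rw [if_pos hI]
    have hU₀c : IsComplIn (fittingHallOf M) U₀ M := by
      have h1 := isComplIn_sigmaCore_U hKU
      rw [← hD, ← hFs] at h1
      exact h1
    obtain ⟨m, hm, hmU⟩ := compl_conj
      (Cfsg.Agent.Helper14.BGTrans.isSolvable_of_ne_top hG hM.1)
      (Cfsg.Agent.Helper7.fittingHallOf_coprime M) hU₀c hUc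
    exact thm_1390_core hM (h58 M hM K₀ U₀ hKU)
      (fun X hX hX1 hXc => h61 M hM K₀ U₀ hKU X hX hX1 hXc) (h62 M hM K₀ U₀ hKU) hFs hm hmU
      (typeA_diff_eq hD le_rfl hFs hcore hA)
  · obtain ⟨hK1, hU₀1⟩ := of_typeII h50 h55 h65 M hM K₀ U₀ hKU hII
    have hFs : fittingHallOf M = sigmaCore M := by
      by_contra hne
      exact hU₀1 (h57 M hM K₀ U₀ hKU hne).1
    have hder := (h65 M hM K₀ U₀ hKU hK1).1
    have hnotI : ¬ IsOfTypeI M := fun h => hK1 (of_typeI h50 h55 h64 M hM K₀ U₀ hKU h).1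
    have hnot : ¬ (IsOfTypeIII M ∨ IsOfTypeIV M) := fun h =>
      hU₀1 (of_typeIII_or_IV hG h50 h55 h57 h63 h65 M hM K₀ U₀ hKU h).2.1
    have hcore := typeCore_of_not hnot
    have hA : typeA M = {a | a ∈ ⁅M, M⁆ ∧ a ≠ 1 ∧ ∃ x ∈ fittingHallOf M, x ≠ 1 ∧ a * x = x * a} := by
      unfold typeA
      rw [if_neg hnotI, hcore]
    have hU₀c : IsComplIn (fittingHallOf M) U₀ ⁅M, M⁆ := by
      rw [hFs, hder]; exact isComplIn_sigmaCore_U hKU
    have hcop : (Nat.card (fittingHallOf M)).Coprime ((fittingHallOf M).relIndex ⁅M, M⁆) := by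
      have h1 := Cfsg.Agent.Helper7.fittingHallOf_coprime M
      rw [← Subgroup.relIndex_mul_relIndex (fittingHallOf M) ⁅M, M⁆ M hU₀c.1 hDM] at h1
      exact Nat.Coprime.coprime_mul_right_right h1
    obtain ⟨m, hm, hmU⟩ := compl_conj
      (Cfsg.Agent.Helper14.BGTrans.isSolvable_of_ne_top hG (ne_top_of_le hM hDM)) hcop hU₀c hUc
    exact thm_1390_core hM (h58 M hM K₀ U₀ hKU)
      (fun X hX hX1 hXc => h61 M hM K₀ U₀ hKU X hX hX1 hXc) (h62 M hM K₀ U₀ hKU) hFs (hDM hm) hmU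
      (typeA_diff_eq hder hDM hFs hcore hA)

end Cfsg.Agent.Helper27.BGTy
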