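import Cfsg.Agent.Lib.Helper27.BGTyM

set_option autoImplicit false
set_option linter.unusedVariables false
set_option linter.unusedSectionVars false

namespace Cfsg.Agent.Helper27.BGTy

open Cfsg Subgroup
open scoped Pointwise
open Cfsg.Agent.Helper15 (IsSylowIn)

variable {G : Type*} [Group G] [Finite G]

theorem fittingHallOf_le_fittingOf (M : Subgroup G) : fittingHallOf M ≤ fittingOf M := by
  unfold fittingHallOf fittingOf
  apply Subgroup.map_mono
  unfold fittingHall fittingSubgroup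
  apply sSup_le_sSup
  rintro N ⟨h1, h2, -⟩
  exact ⟨h1, h2⟩

/-- if `M_F` is not a TI-subset there is `g ∉ M` with `F(M) ∩ F(M)^g ≠ 1` -/
theorem exists_of_not_TI {M : Subgroup G} (hM : IsCoatom M)
    (hn : M ≤ normalizer ((fittingHallOf M : Subgroup G) : Set G))
    (hTI : ¬ IsTISubset (fittingHallOf M : Set G)) :
    ∃ g : G, g ∉ M ∧ fittingOf M ⊓ (fittingOf M).map (MulAut.conj g).toMonoidHom ≠ ⊥ := by
  unfold IsTISubset at hTI
  push Not at hTI
  obtain ⟨g, hg, x, hx, hgx, hx1⟩ := hTI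
  have hgM : g ∉ M := fun h => hg (hn h)
  refine ⟨g, hgM, ?_⟩
  intro hbot
  have h1 : g * x * g⁻¹ ∈ fittingOf M ⊓ (fittingOf M).map (MulAut.conj g).toMonoidHom := by
    constructor
    · exact fittingHallOf_le_fittingOf M hgx
    · exact ⟨x, fittingHallOf_le_fittingOf M hx, rfl⟩
  rw [hbot, Subgroup.mem_bot] at h1
  apply hx1
  have : x = g⁻¹ * (g * x * g⁻¹) * g := by group
  rw [this, h1]; group

/-- S1383, direction `⇐`, from the type-P half of the trichotomy (B&G 15.8). -/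
theorem typeV_of (hG : IsMinSimpleOddOrder G) (h50 : H1350 G) (h54 : H1354 G) (h55 : H1355 G)
    (h56 : H1356 G) (h64 : H1364 G) (h65 : H1365 G)
    (h66 : H1366 G) (h68 : H1368 G) (h70 : H1370 G)
    (M : Subgroup G) (hM : IsCoatom M) (K U : Subgroup G) (hKU : IsSigmaDecomposition M K U)
    (hK1 : K ≠ ⊥) (hU : U = ⊥) (hFs : fittingHallOf M = sigmaCore M)
    (hTP : ∀ g : G, g ∉ M →
      fittingOf M ⊓ (fittingOf M).map (MulAut.conj g).toMonoidHom ≠ ⊥ →
      ∃ p : ℕ, p.Prime ∧ p ∣ Nat.card (fittingHallOf M) ∧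
        IsCyclic (pPrimeCore p (fittingHallOf M)) ∧
        (Nat.card K ∣ p - 1 ∨
          (Nat.card (pCore p (fittingHallOf M)) = p ^ 3 ∧ Nat.card K ∣ p + 1))) :
    IsOfTypeV M := by
  have h50' := (h50 M hM).1
  obtain ⟨hder, hKsD2⟩ := h65 M hM K U hKU hK1
  have hder' : ⁅M, M⁆ = sigmaCore M := by rw [hder, hU, bot_sup_eq]
  obtain ⟨Ms, ⟨hMs, hKeq, hKsH⟩, -⟩ := h66 M hM K U hKU hK1
  have hcyc := (h68 M hM K U hKU hK1 Ms hMs hKeq hKsH).2
  have h54' := (h54 M hM K hKU.cyclic hKU.hall).2 hK1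
  have hVc : IsComplIn (fittingHallOf M) (⊥ : Subgroup G) ⁅M, M⁆ := by
    rw [hder', hFs]
    refine ⟨le_rfl, bot_le, inf_bot_eq _, ?_⟩
    intro m hm
    exact ⟨m, hm, 1, Subgroup.one_mem _, (mul_one m).symm⟩
  have hVnil : Group.IsNilpotent ↥(⊥ : Subgroup G) := inferInstance
  have hVn : K ≤ normalizer (((⊥ : Subgroup G) : Subgroup G) : Set G) := by
    intro k _
    rw [Subgroup.mem_set_normalizer_iff]
    intro x
    simp only [Subgroup.coe_bot, Set.mem_singleton_iff]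
    constructor
    · intro h; rw [h]; group
    · intro h
      have : x = k⁻¹ * (k * x * k⁻¹) * k := by group
      rw [this, h]; group
  have hP := isTypePWith_of hKU hK1 h50' hVnil hVn hVc hder hKsD2 (h56 M hM)
    (h64 M hM K U hKU hK1) h54' hcyc (h70 M hM K U hKU hK1)
  refine ⟨K, ⊥, _, hP, rfl, ?_⟩
  by_cases hTI : IsTISubset (fittingHallOf M : Set G)
  · exact Or.inl hTI
  · obtain ⟨g, hg, hX⟩ := exists_of_not_TI hM (Cfsg.Agent.Helper7.le_normalizer_fittingHallOf M) hTI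
    obtain ⟨p, hp, hpd, hc, h | ⟨h3, h⟩⟩ := hTP g hg hX
    · exact Or.inr (Or.inl ⟨p, hp, hpd, h, hc⟩)
    · exact Or.inr (Or.inr ⟨p, hp, hpd, h3, h, hc⟩)

end Cfsg.Agent.Helper27.BGTy
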