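import Mathlib
import Cfsg.Prelude.Def_Blocks
import Cfsg.Agent.Lib.Helper24.CharLinear
import Cfsg.Agent.Lib.Helper24.CharInduced
import Cfsg.Agent.Lib.Helper24.CharComplete
import Cfsg.Agent.Lib.Helper10.BR996Defs
import Cfsg.Agent.Lib.Helper13.BR996CC
import Cfsg.Agent.Lib.Helper21.BTDefs
import Cfsg.Agent.Lib.Helper21.BHDefs
import Cfsg.Agent.Lib.Helper27.BHGSIDEA

/-!
# S4504, piece GSIDEB (helper27, for helper21): the `λ`-part of the difference of the two class multiplication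
constants, computed in `G`.
-/

set_option autoImplicit false
set_option linter.unusedSectionVars false
set_option linter.unusedVariables false

namespace Cfsg.Agent.Helper21.BH

open scoped ComplexConjugate
open Cfsg Cfsg.Agent.Helper24 Cfsg.Agent.Helper10.BR996 Cfsg.Agent.Helper21.BT

universe u

namespace GSIDEB

open GSIDEA

variable {G : Type u} [Group G] [Fintype G] [Fintype (IrrCharacter G)]
  [Fintype (Subgroup.center G)]
variable {p : ℕ} [Fact p.Prime] {P : Sylow p G} {w : ℕ} {ζ ζ' : IrrCharacter G} {z₁ z₂ : G}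

theorem one_reg : ¬ p ∣ orderOf (1 : G) := by
  have hpp : p.Prime := Fact.out
  rw [orderOf_one]
  exact fun h => hpp.one_lt.ne' (Nat.dvd_one.1 h)

theorem cch_partner (C : Cfg p P w ζ ζ' z₁ z₂) : cch ζ' = cch ζ := by
  apply cch_eq_of_prop
  intro c hc
  rw [C.hreg c (center_reg C hc), C.hreg 1 one_reg]

theorem ne_partner (C : Cfg p P w ζ ζ' z₁ z₂) : ζ ≠ ζ' := by
  intro h
  have := C.hswap₁
  rw [← h] at this
  exact val_ne C this

/-- the class multiplication constant as a character sum. -/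
theorem nc_eq (a b y : G) :
    (NC a b y : ℂ) = (Nat.card G : ℂ) * ∑ χ : IrrCharacter G,
      (χ : G → ℂ) a * (χ : G → ℂ) b * conj ((χ : G → ℂ) y) / (χ : G → ℂ) 1 :=
  Cfsg.Agent.Helper10.BR996.class_const a b y

end GSIDEB

section GH

variable {G : Type u} [Group G] [Fintype G] [Fintype (IrrCharacter G)]
  [Fintype (Subgroup.center G)]
variable {p : ℕ} [Fact p.Prime] {P : Sylow p G} {w : ℕ} {ζ ζ' : IrrCharacter G} {z₁ z₂ : G}

open GSIDEA GSIDEB in
/-- PIECE GSIDEB. -/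
theorem gside_sum (C : Cfg p P w ζ ζ' z₁ z₂) (x : G) (hx : ¬ p ∣ orderOf x) :
    ∑ c : Subgroup.center G, (ζ : G → ℂ) (c : G) *
        ((NC z₁ z₁ (x * (c : G)) : ℂ) - (NC z₁ z₂ (x * (c : G)) : ℂ)) =
      (Nat.card G : ℂ) * (Nat.card (Subgroup.center G) : ℂ) *
        ((ζ : G → ℂ) z₁ - (ζ : G → ℂ) z₂) ^ 2 * conj ((ζ : G → ℂ) x) := by
  classical
  have hζ1 : (ζ : G → ℂ) 1 ≠ 0 := irr_one_ne_zero' ζ
  let F : IrrCharacter G → ℂ := fun χ =>
    (χ : G → ℂ) z₁ * ((χ : G → ℂ) z₁ - (χ : G → ℂ) z₂) / (χ : G → ℂ) 1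
  -- rewrite each summand
  have hterm : ∀ c : Subgroup.center G, (ζ : G → ℂ) (c : G) *
      ((NC z₁ z₁ (x * (c : G)) : ℂ) - (NC z₁ z₂ (x * (c : G)) : ℂ)) =
      ((ζ : G → ℂ) 1 * (Nat.card G : ℂ)) * (((cch ζ c : ℂˣ) : ℂ) *
        ∑ χ : IrrCharacter G, F χ * conj ((χ : G → ℂ) (x * (c : G)))) := by
    intro c
    rw [nc_eq, nc_eq, cch_val ζ c, ← mul_sub, ← Finset.sum_sub_distrib]
    have : ∀ χ : IrrCharacter G,
        (χ : G → ℂ) z₁ * (χ : G → ℂ) z₁ * conj ((χ : G → ℂ) (x * (c : G))) / (χ : G → ℂ) 1 -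
          (χ : G → ℂ) z₁ * (χ : G → ℂ) z₂ * conj ((χ : G → ℂ) (x * (c : G))) / (χ : G → ℂ) 1 =
        F χ * conj ((χ : G → ℂ) (x * (c : G))) := by
      intro χ
      simp only [F]
      ring
    simp only [this]
    ring
  simp only [hterm]
  rw [← Finset.mul_sum, fourier ζ F x]
  -- only `ζ`, `ζ'` contribute
  have hsub : ({ζ, ζ'} : Finset (IrrCharacter G)) ⊆
      Finset.univ.filter (fun ψ : IrrCharacter G => cch ψ = cch ζ) := by
    intro χ hχ
    simp only [Finset.mem_insert, Finset.mem_singleton] at hχ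
    rw [Finset.mem_filter]
    refine ⟨Finset.mem_univ _, ?_⟩
    rcases hχ with rfl | rfl
    · rfl
    · exact cch_partner C
  rw [← Finset.sum_subset hsub]
  · rw [Finset.sum_pair (ne_partner C)]
    simp only [F]
    rw [C.hswap₁, C.hswap₂, C.hreg x hx, C.hreg 1 one_reg]
    field_simp
    ring
  · intro χ hχ hχ'
    simp only [Finset.mem_insert, Finset.mem_singleton, not_or] at hχ'
    rw [Finset.mem_filter] at hχ
    have hcc : ∀ c ∈ Subgroup.center G,
        (χ : G → ℂ) c * (ζ : G → ℂ) 1 = (ζ : G → ℂ) c * (χ : G → ℂ) 1 := by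
      intro c hc
      have h1 := cch_val χ ⟨c, hc⟩
      have h2 := cch_val ζ ⟨c, hc⟩
      simp only at h1 h2
      rw [h1, h2, hχ.2]
      ring
    have := gside_eq C χ hχ'.1 hχ'.2 hcc
    simp only [F]
    rw [this]
    simp

end GH

end Cfsg.Agent.Helper21.BH
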