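import Mathlib
import Cfsg.Agent.Lib.Helper27.Co1Simple

set_option autoImplicit false
set_option maxRecDepth 8000
open Cfsg

/-! Maximality of the stabiliser of the standard cross, first part: a subgroup properly containing it is transitive on the minimal vectors. -/

namespace Cfsg.Agent.Helper27
open Cfsg.Agent.S0394 (FA FB FC idxA idxB fC mem_idxA mem_idxB mem_octads_iff odd_fC card_FA card_FB
  card_FC disj_AB disj_ABC octF mem_octF instFintypeGolayCode card_golayCode fC_injective)
open scoped Pointwise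
open MulAction



theorem permG_mem_crossStab (σ : Equiv.Perm GolayPt) (hσ : σ ∈ M24) :
    permG σ hσ ∈ crossStab := by
  rw [mem_crossStab]
  intro v hv
  obtain ⟨i, s, hs, hvs⟩ := hv
  show ((permG σ hσ • v : leechLattice) : GolayPt → ℤ) ∈ stdCross
  rw [permG_smul]
  refine ⟨σ.symm i, s, hs, ?_⟩
  funext k
  show v.1 (σ k) = _
  rw [show (v.1 : GolayPt → ℤ) = Pi.single i s from hvs]
  by_cases hk : k = σ.symm i
  · subst hk
    rw [Equiv.apply_symm_apply, Pi.single_eq_same, Pi.single_eq_same]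
  · rw [Pi.single_eq_of_ne hk, Pi.single_eq_of_ne]
    intro h
    apply hk
    rw [← h, Equiv.symm_apply_apply]

theorem epsG_mem_crossStab (c : GolayPt → ZMod 2) (hc : c ∈ golayCode) :
    epsG c hc ∈ crossStab := by
  rw [mem_crossStab]
  intro v hv
  obtain ⟨i, s, hs, hvs⟩ := hv
  show ((epsG c hc • v : leechLattice) : GolayPt → ℤ) ∈ stdCross
  rw [epsG_smul]
  rw [show (v.1 : GolayPt → ℤ) = Pi.single i s from hvs]
  by_cases hi : i ∈ support₂ c
  · refine ⟨i, -s, ?_, ?_⟩
    · rcases hs with rfl | rfl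
      · right; rfl
      · left; norm_num
    · funext k
      unfold signChange
      by_cases hk : k = i
      · subst hk
        rw [if_pos hi, Pi.single_eq_same, Pi.single_eq_same]
      · rw [Pi.single_eq_of_ne hk, Pi.single_eq_of_ne hk]
        split_ifs <;> simp
  · refine ⟨i, s, hs, ?_⟩
    funext k
    unfold signChange
    by_cases hk : k = i
    · subst hk
      rw [if_neg hi]
    · rw [Pi.single_eq_of_ne hk]
      split_ifs <;> simp

theorem mem_crossStab_of_fix {g : Co0} (h1 : g • V44 = V44) (h2 : g • X0 = X0) :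
    g ∈ crossStab := by
  apply stabilizer_le_crossStab
  rw [MulAction.mem_stabilizer_iff, ← V44_add_X0, smul_add', h1, h2]




theorem mem_FA_iff {x : GolayPt → ℤ} (hx : x ∈ F32) : x ∈ FA ↔ ∀ i, (4 : ℤ) ∣ x i := by
  constructor
  · intro h i
    unfold FA at h
    rw [Finset.mem_image] at h
    obtain ⟨q, -, rfl⟩ := h
    unfold shapeVec
    split_ifs <;> norm_num
  · intro h
    unfold F32 at hx
    rw [Finset.mem_union, Finset.mem_union] at hx
    rcases hx with (hA | hB) | hC
    · exact hA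
    · exfalso
      unfold FB at hB
      rw [Finset.mem_image] at hB
      obtain ⟨q, hq, rfl⟩ := hB
      rw [mem_idxB] at hq
      have h8 : q.1.card = 8 := octad_card hq.1
      have hne : q.1.Nonempty := Finset.card_pos.mp (by omega)
      obtain ⟨i, hi⟩ := hne
      have := h i
      unfold shapeVec at this
      rw [if_pos hi] at this
      split_ifs at this <;> omega
    · exfalso
      unfold FC at hC
      rw [Finset.mem_image] at hC
      obtain ⟨q, -, rfl⟩ := hC
      apply odd_fC q none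
      exact dvd_trans (by norm_num) (h none)

theorem crossStab_smul_FA {g : Co0} (hg : g ∈ crossStab) {y : leechLattice}
    (hy : (y : GolayPt → ℤ) ∈ FA) : ((g • y : leechLattice) : GolayPt → ℤ) ∈ FA := by
  have hF : (y : GolayPt → ℤ) ∈ F32 := FA_subset_F32 hy
  have hF' : ((g • y : leechLattice) : GolayPt → ℤ) ∈ F32 := by
    rw [mem_F32]
    exact ⟨(g • y).2, by rw [smul_norm]; exact (mem_F32.mp hF).2⟩
  rw [mem_FA_iff hF']
  rw [mem_FA_iff hF] at hy
  obtain ⟨σ, c, hσ⟩ := Cfsg.Agent.S1571.exists_signedPerm g.1 g.2 (mem_crossStab.mp hg)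
  intro i
  have : ((g • y : leechLattice) : GolayPt → ℤ) = signedPerm σ c y := hσ y
  rw [this]
  unfold signedPerm
  split_ifs
  · exact (dvd_neg).mpr (hy _)
  · exact hy _

theorem vec44_mem_FA {i k : GolayPt} (hik : i ≠ k) {t : ℤ} (ht : t = 1 ∨ t = -1) :
    vec44 i k t ∈ FA := by
  have hF : vec44 i k t ∈ F32 := mem_F32.mpr ⟨vec44_mem i k t ht, sqNorm_vec44 i k hik t ht⟩
  rw [mem_FA_iff hF]
  intro j
  unfold vec44
  rcases ht with rfl | rfl <;> split_ifs <;> norm_num

theorem dotInt_single_left (j : GolayPt) (s : ℤ) (z : GolayPt → ℤ) :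
    dotInt (Pi.single j s : GolayPt → ℤ) z = s * z j := by
  unfold dotInt
  rw [Finset.sum_eq_single j]
  · rw [Pi.single_eq_same]
  · intro k _ hk
    rw [Pi.single_eq_of_ne hk, zero_mul]
  · intro h; exact absurd (Finset.mem_univ _) h

theorem le_crossStab_of_FA {K : Subgroup Co0}
    (h : ∀ g ∈ K, ∀ y : leechLattice, (y : GolayPt → ℤ) ∈ FA →
      ((g • y : leechLattice) : GolayPt → ℤ) ∈ FA) : K ≤ crossStab := by
  intro g hg
  rw [mem_crossStab]
  intro u hu
  obtain ⟨j, s, hs, hus⟩ := hu
  set w : GolayPt → ℤ := ((g • u : leechLattice) : GolayPt → ℤ) with hw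
  have hn : sqNorm w = 64 := by
    rw [hw, smul_norm]
    rw [show (u.1 : GolayPt → ℤ) = Pi.single j s from hus]
    unfold sqNorm
    rw [Finset.sum_eq_single j]
    · rw [Pi.single_eq_same]; rcases hs with rfl | rfl <;> norm_num
    · intro k _ hk
      rw [Pi.single_eq_of_ne hk]; norm_num
    · intro hh; exact absurd (Finset.mem_univ _) hh
  -- the divisibility
  have key : ∀ i k : GolayPt, i ≠ k → ∀ t : ℤ, t = 1 ∨ t = -1 → (8 : ℤ) ∣ w i + t * w k := by
    intro i k hik t ht
    set a : leechLattice := ⟨vec44 i k t, vec44_mem i k t ht⟩ with ha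
    have h1 : ((g⁻¹ • a : leechLattice) : GolayPt → ℤ) ∈ FA :=
      h g⁻¹ (K.inv_mem hg) a (vec44_mem_FA hik ht)
    have h2 : dotInt w (a : GolayPt → ℤ) =
        dotInt (u : GolayPt → ℤ) ((g⁻¹ • a : leechLattice) : GolayPt → ℤ) := by
      have := smul_dot g⁻¹ (g • u) a
      rw [inv_smul_smul] at this
      rw [hw, ← this]
    have h3 : (4 : ℤ) ∣ ((g⁻¹ • a : leechLattice) : GolayPt → ℤ) j :=
      (mem_FA_iff (FA_subset_F32 h1)).mp h1 j
    rw [show (u.1 : GolayPt → ℤ) = Pi.single j s from hus, dotInt_single_left, dotInt_comm'] at h2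
    have h4 : dotInt (a : GolayPt → ℤ) w = 4 * w i + 4 * t * w k := dotInt_vec44_left i k t w
    rw [h4] at h2
    obtain ⟨r, hr⟩ := h3
    rw [hr] at h2
    rcases hs with rfl | rfl
    · exact ⟨r, by linarith⟩
    · exact ⟨-r, by linarith⟩
  -- all coordinates are divisible by 8
  have h8 : ∀ i, (8 : ℤ) ∣ w i := by
    by_contra hcon
    push Not at hcon
    obtain ⟨i, hi⟩ := hcon
    have hall : ∀ k, 16 ≤ w k ^ 2 := by
      intro k
      have hk4 : w k % 8 = 4 ∨ w k % 8 = -4 + 8 := by
        by_cases hik : i = k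
        · subst hik
          obtain ⟨k', hk'⟩ : ∃ k' : GolayPt, i ≠ k' := by
            by_cases h0 : i = none
            · exact ⟨some 0, by rw [h0]; decide⟩
            · exact ⟨none, h0⟩
          have a1 := key i k' hk' 1 (Or.inl rfl)
          have a2 := key i k' hk' (-1) (Or.inr rfl)
          omega
        · obtain ⟨k', hk', hk''⟩ : ∃ k' : GolayPt, i ≠ k' ∧ k ≠ k' := by
            obtain ⟨z, hz, hz1, hz2⟩ : ∃ z : GolayPt, z ≠ i ∧ z ≠ k ∧ True := by
              have hlt : ({i, k} : Finset GolayPt).card < (Finset.univ : Finset GolayPt).card := by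
                rw [Finset.card_univ, card_golayPt]
                have : ({i, k} : Finset GolayPt).card ≤ 2 := Finset.card_le_two
                omega
              obtain ⟨z, -, hz⟩ := Finset.exists_mem_notMem_of_card_lt_card hlt
              rw [Finset.mem_insert, Finset.mem_singleton, not_or] at hz
              exact ⟨z, hz.1, hz.2, trivial⟩
            exact ⟨z, Ne.symm hz, Ne.symm hz1⟩
          have a1 := key i k hik 1 (Or.inl rfl)
          have a2 := key i k hik (-1) (Or.inr rfl)
          omega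
      have : w k ≤ -4 ∨ 4 ≤ w k := by omega
      rcases this with h' | h' <;> nlinarith
    have : (24 : ℤ) * 16 ≤ sqNorm w := by
      unfold sqNorm
      calc (24 : ℤ) * 16 = ∑ _k : GolayPt, (16 : ℤ) := by
            rw [Finset.sum_const, Finset.card_univ, card_golayPt]; norm_num
        _ ≤ ∑ k, w k ^ 2 := Finset.sum_le_sum (fun k _ => hall k)
    rw [hn] at this
    norm_num at this
  -- some coordinate is nonzero
  have hne : ∃ i, w i ≠ 0 := by
    by_contra hcon
    push Not at hcon
    have : sqNorm w = 0 := by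
      unfold sqNorm
      apply Finset.sum_eq_zero
      intro k _
      rw [hcon k]; norm_num
    rw [hn] at this
    norm_num at this
  obtain ⟨i, hi⟩ := hne
  have hle : w i ^ 2 ≤ 64 := by
    rw [← hn]
    unfold sqNorm
    exact Finset.single_le_sum (f := fun k => w k ^ 2) (fun k _ => sq_nonneg _) (Finset.mem_univ i)
  have habs : |w i| = 8 := by
    obtain ⟨r, hr⟩ := h8 i
    have hr2 : r ^ 2 ≤ 1 := by
      rw [hr] at hle
      have : (8 * r) ^ 2 = 64 * r ^ 2 := by ring
      rw [this] at hle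
      omega
    have hr0 : r ≠ 0 := by rintro rfl; exact hi (by rw [hr]; norm_num)
    have : r = 1 ∨ r = -1 := by
      have h1 : -1 ≤ r := by nlinarith
      have h2 : r ≤ 1 := by nlinarith
      omega
    rcases this with rfl | rfl <;> rw [hr] <;> norm_num
  show ((g • u : leechLattice) : GolayPt → ℤ) ∈ stdCross
  rw [stdCross_eq]
  exact mem_fam8_of hn habs




/-- Code words with prescribed values on at most five points. -/
theorem exists_code_vals_on (S : Finset GolayPt) (hS : S.card ≤ 5) (f : GolayPt → ZMod 2) :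
    ∃ c ∈ golayCode, ∀ a ∈ S, c a = f a := by
  obtain ⟨t, hSt, ht5⟩ := Finset.exists_superset_card_eq hS
    (by rw [Fintype.card, Finset.card_univ, card_golayPt]; norm_num : 5 ≤ Fintype.card GolayPt)
  obtain ⟨o, ho, hto⟩ := exists_octad_five ht5
  have hSo : S ⊆ o := fun a ha => hto (hSt ha)
  have h8 := octad_card ho
  set E0 := S.filter (fun a => f a ≠ 0) with hE0
  have hE0S : E0 ⊆ S := Finset.filter_subset _ _
  -- a point of the octad outside S
  have hlt : S.card < o.card := by omega
  obtain ⟨k, hko, hkS⟩ := Finset.exists_mem_notMem_of_card_lt_card hlt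
  have key : ∀ E : Finset GolayPt, E ⊆ o → Even E.card → (∀ a ∈ S, a ∈ E ↔ a ∈ E0) →
      ∃ c ∈ golayCode, ∀ a ∈ S, c a = f a := by
    intro E hEo hEe hES
    obtain ⟨c, hc, hcE⟩ := exists_code_inter ho E.card E rfl hEo hEe
    refine ⟨c, hc, ?_⟩
    intro a ha
    have h1 : a ∈ support₂ c ∩ o ↔ a ∈ E := by rw [hcE]
    rw [Finset.mem_inter, mem_support₂] at h1
    have h2 := hES a ha
    rw [hE0, Finset.mem_filter] at h2
    have hz : ∀ x y : ZMod 2, (x ≠ 0 ↔ y ≠ 0) → x = y := by decide
    apply hz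
    constructor
    · intro h
      exact (h2.mp (h1.mp ⟨h, hSo ha⟩)).2
    · intro h
      exact (h1.mpr (h2.mpr ⟨ha, h⟩)).1
  by_cases hev : Even E0.card
  · exact key E0 (fun a ha => hSo (hE0S ha)) hev (fun a _ => Iff.rfl)
  · have hkE0 : k ∉ E0 := fun h => hkS (hE0S h)
    refine key (insert k E0) ?_ ?_ ?_
    · intro a ha
      rw [Finset.mem_insert] at ha
      rcases ha with rfl | ha
      · exact hko
      · exact hSo (hE0S ha)
    · rw [Finset.card_insert_of_notMem hkE0]
      rw [Nat.not_even_iff_odd] at hev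
      exact hev.add_one
    · intro a ha
      rw [Finset.mem_insert]
      constructor
      · rintro (rfl | h)
        · exact absurd ha hkS
        · exact h
      · intro h; exact Or.inr h

theorem signChange_shapeVec_gen (k : ℤ) (C p N : Finset GolayPt) :
    signChange C (shapeVec k p N) = shapeVec k p (symmDiff N (C ∩ p)) := by
  funext i
  unfold signChange shapeVec
  by_cases hp : i ∈ p
  · rw [if_pos hp, if_pos hp]
    by_cases hC : i ∈ C
    · rw [if_pos hC]
      by_cases hN : i ∈ N
      · rw [if_pos hN, if_neg]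
        · rw [neg_neg]
        · rw [Finset.mem_symmDiff, Finset.mem_inter]; tauto
      · rw [if_neg hN, if_pos]
        rw [Finset.mem_symmDiff, Finset.mem_inter]; tauto
    · rw [if_neg hC]
      by_cases hN : i ∈ N
      · rw [if_pos hN, if_pos]
        rw [Finset.mem_symmDiff, Finset.mem_inter]; tauto
      · rw [if_neg hN, if_neg]
        rw [Finset.mem_symmDiff, Finset.mem_inter]; tauto
  · rw [if_neg hp, if_neg hp]
    split_ifs <;> norm_num

theorem shapeVec_comp_gen (k : ℤ) {σ : Equiv.Perm GolayPt} {p p' N N' : Finset GolayPt}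
    (h : ∀ i, σ i ∈ p ↔ i ∈ p') (hN : ∀ i, σ i ∈ N ↔ i ∈ N') :
    (fun i => shapeVec k p N (σ i)) = shapeVec k p' N' := by
  funext i
  unfold shapeVec
  by_cases hi : i ∈ p'
  · rw [if_pos hi, if_pos ((h i).mpr hi)]
    by_cases hiN : i ∈ N'
    · rw [if_pos hiN, if_pos ((hN i).mpr hiN)]
    · rw [if_neg hiN, if_neg (fun hc => hiN ((hN i).mp hc))]
  · rw [if_neg hi, if_neg (fun hc => hi ((h i).mp hc))]

theorem mem_image_symm (σ : Equiv.Perm GolayPt) (N : Finset GolayPt) (i : GolayPt) :
    σ i ∈ N ↔ i ∈ N.image σ.symm := by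
  rw [Finset.mem_image]
  constructor
  · intro h; exact ⟨σ i, h, σ.symm_apply_apply i⟩
  · rintro ⟨j, hj, rfl⟩; rw [σ.apply_symm_apply]; exact hj

/-- Moving a vector of shape `(±k on p)` by a permutation followed by a sign change. -/
theorem shape_move (k : ℤ) {p p' N N' : Finset GolayPt} {σ : Equiv.Perm GolayPt} (hσ : σ ∈ M24)
    (hσp : ∀ i, σ i ∈ p ↔ i ∈ p') {x y : leechLattice}
    (hx : (x : GolayPt → ℤ) = shapeVec k p N) (hy : (y : GolayPt → ℤ) = shapeVec k p' N')
    {c : GolayPt → ZMod 2} (hc : c ∈ golayCode)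
    (hcE : support₂ c ∩ p' = symmDiff (N.image σ.symm) N') :
    epsG c hc • permG σ hσ • x = y := by
  apply Subtype.ext
  rw [epsG_smul]
  have e1 : ((permG σ hσ • x : leechLattice) : GolayPt → ℤ) = shapeVec k p' (N.image σ.symm) := by
    rw [permG_smul]
    show (fun i => (x : GolayPt → ℤ) (σ i)) = _
    rw [hx]
    exact shapeVec_comp_gen k hσp (mem_image_symm σ N)
  rw [e1, signChange_shapeVec_gen, hcE, symmDiff_symmDiff_cancel_left, hy]

theorem shape_move_sub {p p' N N' : Finset GolayPt} {σ : Equiv.Perm GolayPt}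
    (hσp : ∀ i, σ i ∈ p ↔ i ∈ p') (hN : N ⊆ p) (hN' : N' ⊆ p') :
    symmDiff (N.image σ.symm) N' ⊆ p' := by
  intro i hi
  rw [Finset.mem_symmDiff] at hi
  rcases hi with hi | hi
  · exact (hσp i).mp (hN ((mem_image_symm σ N i).mpr hi.1))
  · exact hN' hi.1

theorem shape_move_even {N N' : Finset GolayPt} (σ : Equiv.Perm GolayPt)
    (hNe : Even N.card) (hNe' : Even N'.card) :
    Even (symmDiff (N.image σ.symm) N').card := by
  have hcard : (N.image σ.symm).card = N.card := Finset.card_image_of_injective _ σ.symm.injective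
  have := Cfsg.Agent.S0363.card_symmDiff_add (N.image σ.symm) N'
  rw [hcard] at this
  obtain ⟨r, hr⟩ := hNe
  obtain ⟨r', hr'⟩ := hNe'
  exact ⟨r + r' - (N.image σ.symm ∩ N').card, by omega⟩

/-- The odd minimal vectors under a coordinate permutation. -/
theorem fC_comp {σ : Equiv.Perm GolayPt} (hσ : σ ∈ M24) {a j : GolayPt} (ha : σ a = j)
    (w : golayCode) : ∃ w' : golayCode, (∀ i, w'.1 i = w.1 (σ i)) ∧
      (fun k => fC (j, w) (σ k)) = fC (a, w') := by
  have hmem : (fun i => w.1 (σ i)) ∈ golayCode := by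
    have := permWord_mem_of_mem_M24 (Subgroup.inv_mem _ hσ) w.2
    have e : permWord σ⁻¹ w.1 = fun i => w.1 (σ i) := by
      funext i
      unfold permWord
      rfl
    rwa [e] at this
  refine ⟨⟨_, hmem⟩, fun i => rfl, ?_⟩
  funext k
  rw [fC_apply, fC_apply]
  by_cases hk : k = a
  · subst hk
    rw [if_pos ha, if_pos rfl]
    show _ = if w.1 (σ k) = 0 then _ else _
    rw [ha]
  · have hk' : σ k ≠ j := fun h => hk ((perm_eq_iff ha k).mp h)
    rw [if_neg hk', if_neg hk]

/-- The odd minimal vectors under a sign change. -/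
theorem signChange_fC_add (j : GolayPt) (w c : golayCode) :
    signChange (support₂ c.1) (fC (j, w)) = fC (j, w + c) := by
  funext i
  unfold signChange
  rw [fC_apply, fC_apply]
  have hadd : ∀ k, (w + c).1 k = w.1 k + c.1 k := fun k => rfl
  rw [hadd, hadd]
  have hz : ∀ x : ZMod 2, x = 0 ∨ x = 1 := by decide
  have h10 : (1 : ZMod 2) ≠ 0 := by decide
  have h11 : (1 : ZMod 2) + 1 = 0 := by decide
  by_cases hij : i = j
  · subst hij
    rcases hz (w.1 i) with h1 | h1 <;> rcases hz (c.1 i) with h2 | h2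
    · have : i ∉ support₂ c.1 := by rw [mem_support₂, h2]; simp
      simp [h1, h2, this]
    · have : i ∈ support₂ c.1 := by rw [mem_support₂, h2]; exact h10
      simp [h1, h2, this]
    · have : i ∉ support₂ c.1 := by rw [mem_support₂, h2]; simp
      simp [h1, h2, this]
    · have : i ∈ support₂ c.1 := by rw [mem_support₂, h2]; exact h10
      simp [h1, h2, this, h11]
  · rcases hz (w.1 i) with h1 | h1 <;> rcases hz (c.1 i) with h2 | h2
    · have : i ∉ support₂ c.1 := by rw [mem_support₂, h2]; simp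
      simp [h1, h2, this, hij]
    · have : i ∈ support₂ c.1 := by rw [mem_support₂, h2]; exact h10
      simp [h1, h2, this, hij]
    · have : i ∉ support₂ c.1 := by rw [mem_support₂, h2]; simp
      simp [h1, h2, this, hij]
    · have : i ∈ support₂ c.1 := by rw [mem_support₂, h2]; exact h10
      simp [h1, h2, this, hij, h11]




theorem v44_eq_shapeVec : v44 = shapeVec 4 {none, some 0} ∅ := by
  funext k
  unfold v44 vec44 shapeVec
  by_cases h1 : k = none
  · subst h1; simp
  · by_cases h2 : k = some 0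
    · subst h2; simp
    · simp [h1, h2]

/-- The stabiliser of the standard cross is transitive on the minimal vectors of shape
`(±4, ±4, 0, …)`. -/
theorem trans_FA {y : leechLattice} (hy : (y : GolayPt → ℤ) ∈ FA) :
    ∃ g ∈ crossStab, g • V44 = y := by
  unfold FA at hy
  rw [Finset.mem_image] at hy
  obtain ⟨q, hq, hqy⟩ := hy
  rw [mem_idxA] at hq
  obtain ⟨a, b, hab, hpab⟩ := Finset.card_eq_two.mp hq.1
  obtain ⟨σ, hσ, hmap⟩ := exists_M24_map_list [a, b] [none, some 0] (by simp [hab]) (by decide)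
    rfl (by simp)
  simp only [List.map_cons, List.map_nil, List.cons.injEq, and_true] at hmap
  have hσp : ∀ i, σ i ∈ ({none, some 0} : Finset GolayPt) ↔ i ∈ q.1 := by
    intro i
    rw [hpab, Finset.mem_insert, Finset.mem_singleton, Finset.mem_insert, Finset.mem_singleton,
      ← hmap.1, ← hmap.2]
    simp only [EmbeddingLike.apply_eq_iff_eq]
  obtain ⟨c, hc, hcv⟩ := exists_code_vals_on q.1 (by rw [hq.1]; norm_num)
    (fun i => if i ∈ q.2 then 1 else 0)
  have hcE : support₂ c ∩ q.1 = symmDiff ((∅ : Finset GolayPt).image σ.symm) q.2 := by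
    rw [Finset.image_empty]
    ext i
    rw [Finset.mem_inter, mem_support₂, Finset.mem_symmDiff]
    constructor
    · rintro ⟨h1, h2⟩
      right
      refine ⟨?_, Finset.notMem_empty _⟩
      by_contra hn
      apply h1
      rw [hcv i h2, if_neg hn]
    · rintro (h | h)
      · exact absurd h.1 (Finset.notMem_empty _)
      · refine ⟨?_, hq.2 h.1⟩
        rw [hcv i (hq.2 h.1), if_pos h.1]
        decide
  refine ⟨epsG c hc * permG σ hσ, Subgroup.mul_mem _ (epsG_mem_crossStab c hc)
    (permG_mem_crossStab σ hσ), ?_⟩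
  rw [mul_smul]
  exact shape_move 4 hσ hσp (show (V44 : GolayPt → ℤ) = _ from v44_eq_shapeVec) hqy.symm hc hcE

/-- The stabiliser of the standard cross is transitive on the minimal vectors of shape
`(±2 on an octad)`. -/
theorem trans_FB {x y : leechLattice} (hx : (x : GolayPt → ℤ) ∈ FB)
    (hy : (y : GolayPt → ℤ) ∈ FB) : ∃ g ∈ crossStab, g • x = y := by
  unfold FB at hx hy
  rw [Finset.mem_image] at hx hy
  obtain ⟨q, hq, hqx⟩ := hx
  obtain ⟨q', hq', hqy⟩ := hy
  rw [mem_idxB] at hq hq'
  obtain ⟨k, hk, -, -⟩ := exists_notMem_octad hq.1 none none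
  obtain ⟨k', hk', -, -⟩ := exists_notMem_octad hq'.1 none none
  obtain ⟨σ, hσ, -, -, hσp⟩ := exists_perm_octad5 hq.1 hq'.1 (L := []) (L' := [])
    List.nodup_nil List.nodup_nil rfl (by simp) (by simp) (by simp) hk hk'
  obtain ⟨c, hc, hcE⟩ := exists_code_inter hq'.1 _ _ rfl
    (shape_move_sub hσp hq.2.1 hq'.2.1) (shape_move_even σ hq.2.2 hq'.2.2)
  refine ⟨epsG c hc * permG σ hσ, Subgroup.mul_mem _ (epsG_mem_crossStab c hc)
    (permG_mem_crossStab σ hσ), ?_⟩
  rw [mul_smul]
  exact shape_move 2 hσ hσp hqx.symm hqy.symm hc hcE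

/-- The standard odd minimal vector. -/
def M3n : leechLattice := ⟨m3 none, m3_mem none⟩

/-- The stabiliser of the standard cross is transitive on the odd minimal vectors. -/
theorem trans_FC {x : leechLattice} (hx : (x : GolayPt → ℤ) ∈ FC) :
    ∃ g ∈ crossStab, g • x = M3n := by
  unfold FC at hx
  rw [Finset.mem_image] at hx
  obtain ⟨⟨j, w⟩, -, hjx⟩ := hx
  obtain ⟨σ, hσ, hmap⟩ := exists_M24_map_list [none] [j] (by simp) (by simp) rfl (by simp)
  simp only [List.map_cons, List.map_nil, List.cons.injEq, and_true] at hmap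
  refine ⟨permG σ hσ * epsG w.1 w.2, Subgroup.mul_mem _ (permG_mem_crossStab σ hσ)
    (epsG_mem_crossStab w.1 w.2), ?_⟩
  rw [mul_smul]
  apply Subtype.ext
  rw [permG_smul]
  show (fun i => ((epsG w.1 w.2 • x : leechLattice) : GolayPt → ℤ) (σ i)) = m3 none
  rw [epsG_smul, ← hjx, signChange_fC]
  exact m3_comp hmap




theorem ncard_split3 {α : Type*} {B S1 S2 S3 : Set α} (hB : B.Finite) (hsub : B ⊆ S1 ∪ S2 ∪ S3)
    (h12 : Disjoint S1 S2) (h13 : Disjoint S1 S3) (h23 : Disjoint S2 S3) :
    B.ncard = (B ∩ S1).ncard + (B ∩ S2).ncard + (B ∩ S3).ncard := by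
  have e : B = (B ∩ S1) ∪ (B ∩ S2) ∪ (B ∩ S3) := by
    ext y
    constructor
    · intro hy
      rcases hsub hy with (h | h) | h
      · left; left; exact ⟨hy, h⟩
      · left; right; exact ⟨hy, h⟩
      · right; exact ⟨hy, h⟩
    · rintro ((h | h) | h) <;> exact h.1
  have f1 : (B ∩ S1).Finite := hB.subset Set.inter_subset_left
  have f2 : (B ∩ S2).Finite := hB.subset Set.inter_subset_left
  have f3 : (B ∩ S3).Finite := hB.subset Set.inter_subset_left
  have d12 : Disjoint (B ∩ S1) (B ∩ S2) :=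
    h12.mono Set.inter_subset_right Set.inter_subset_right
  have d3 : Disjoint ((B ∩ S1) ∪ (B ∩ S2)) (B ∩ S3) := by
    rw [Set.disjoint_union_left]
    exact ⟨h13.mono Set.inter_subset_right Set.inter_subset_right,
      h23.mono Set.inter_subset_right Set.inter_subset_right⟩
  conv_lhs => rw [e]
  rw [Set.ncard_union_eq d3 (f1.union f2) f3, Set.ncard_union_eq d12 f1 f2]

/-- If the orbit of a subgroup containing a transitive group on `S` meets `S`, it contains `S`. -/
theorem inter_empty_or_subset {B S : Set leechLattice} {M : Subgroup Co0}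
    (hinv : ∀ h ∈ M, ∀ y ∈ B, h • y ∈ B)
    (htr : ∀ x ∈ S, ∀ y ∈ S, ∃ g ∈ M, g • x = y) :
    (B ∩ S).ncard = 0 ∨ B ∩ S = S := by
  by_cases hne : (B ∩ S).Nonempty
  · right
    obtain ⟨x, hxB, hxS⟩ := hne
    apply Set.inter_eq_right.mpr
    intro y hy
    obtain ⟨g, hg, rfl⟩ := htr x hxS y hy
    exact hinv g hg x hxB
  · left
    rw [Set.not_nonempty_iff_eq_empty] at hne
    rw [hne, Set.ncard_empty]

theorem level0_arith (b c : ℕ) (hb : b = 0 ∨ b = 97152) (hc : c = 0 ∨ c = 98304)
    (hd : (1104 + b + c) ∣ 8315553613086720000) (hne : ¬ (b = 0 ∧ c = 0)) :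
    b = 97152 ∧ c = 98304 := by
  rcases hb with rfl | rfl <;> rcases hc with rfl | rfl
  · exact absurd ⟨rfl, rfl⟩ hne
  · exfalso; revert hd; norm_num
  · exfalso; revert hd; norm_num
  · exact ⟨rfl, rfl⟩

theorem ncard_SA : {y : leechLattice | (y : GolayPt → ℤ) ∈ FA}.ncard = 1104 := by
  rw [ncard_subtype_eq FA (fun x hx => (mem_F32.mp (FA_subset_F32 hx)).1), card_FA]

theorem ncard_SB : {y : leechLattice | (y : GolayPt → ℤ) ∈ FB}.ncard = 97152 := by
  rw [ncard_subtype_eq FB (fun x hx => (mem_F32.mp (FB_subset_F32 hx)).1), card_FB]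

theorem ncard_SC : {y : leechLattice | (y : GolayPt → ℤ) ∈ FC}.ncard = 98304 := by
  rw [ncard_subtype_eq FC (fun x hx => (mem_F32.mp (FC_subset_F32 hx)).1), card_FC]

/-- A subgroup properly containing the stabiliser of the standard cross is transitive on the
minimal vectors. -/
theorem orbit_level0 {K : Subgroup Co0} (hK : crossStab ≤ K) (hne : ¬ K ≤ crossStab) :
    orbit K V44 = {y : leechLattice | sqNorm (y : GolayPt → ℤ) = 32} := by
  set B := orbit K V44 with hB
  have hV : sqNorm (V44 : GolayPt → ℤ) = 32 := v44_norm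
  have hnorm : ∀ y ∈ B, sqNorm (y : GolayPt → ℤ) = 32 := by
    rintro y ⟨m, rfl⟩
    show sqNorm ((m.1 • V44 : leechLattice) : GolayPt → ℤ) = 32
    rw [smul_norm, hV]
  have hfin : B.Finite := minimal_finite.subset hnorm
  have hinvK : ∀ h ∈ K, ∀ y ∈ B, h • y ∈ B := by
    rintro h hh y ⟨m, rfl⟩
    exact ⟨⟨h * m.1, K.mul_mem hh m.2⟩, by show (h * m.1) • V44 = h • (m.1 • V44); rw [mul_smul]⟩
  have hinv : ∀ h ∈ crossStab, ∀ y ∈ B, h • y ∈ B := fun h hh => hinvK h (hK hh)
  set SA : Set leechLattice := {y | (y : GolayPt → ℤ) ∈ FA} with hSA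
  set SB : Set leechLattice := {y | (y : GolayPt → ℤ) ∈ FB} with hSB
  set SC : Set leechLattice := {y | (y : GolayPt → ℤ) ∈ FC} with hSC
  have hcA : SA.ncard = 1104 := ncard_SA
  have hcB : SB.ncard = 97152 := ncard_SB
  have hcC : SC.ncard = 98304 := ncard_SC
  have hsub : B ⊆ SA ∪ SB ∪ SC := by
    intro y hy
    have hF : (y : GolayPt → ℤ) ∈ F32 := mem_F32.mpr ⟨y.2, hnorm y hy⟩
    unfold F32 at hF
    rw [Finset.mem_union, Finset.mem_union] at hF
    rcases hF with (h | h) | h
    · left; left; exact h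
    · left; right; exact h
    · right; exact h
  have dAB : Disjoint SA SB := by
    rw [Set.disjoint_left]
    intro y h1 h2
    have h1' : (y : GolayPt → ℤ) ∈ FA := h1
    have h2' : (y : GolayPt → ℤ) ∈ FB := h2
    exact Finset.disjoint_left.mp disj_AB h1' h2'
  have dAC : Disjoint SA SC := by
    rw [Set.disjoint_left]
    intro y h1 h2
    have h1' : (y : GolayPt → ℤ) ∈ FA := h1
    have h2' : (y : GolayPt → ℤ) ∈ FC := h2
    exact Finset.disjoint_left.mp disj_ABC (Finset.mem_union_left _ h1') h2'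
  have dBC : Disjoint SB SC := by
    rw [Set.disjoint_left]
    intro y h1 h2
    have h1' : (y : GolayPt → ℤ) ∈ FB := h1
    have h2' : (y : GolayPt → ℤ) ∈ FC := h2
    exact Finset.disjoint_left.mp disj_ABC (Finset.mem_union_right _ h1') h2'
  have hsum := ncard_split3 hfin hsub dAB dAC dBC
  -- the three pieces
  have hA : B ∩ SA = SA := by
    apply Set.inter_eq_right.mpr
    intro y hy
    have hy' : (y : GolayPt → ℤ) ∈ FA := hy
    obtain ⟨g, hg, rfl⟩ := trans_FA hy'
    exact ⟨⟨g, hK hg⟩, rfl⟩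
  have hBc := inter_empty_or_subset (B := B) (S := SB) hinv (fun x hx y hy => by
    have hx' : (x : GolayPt → ℤ) ∈ FB := hx
    have hy' : (y : GolayPt → ℤ) ∈ FB := hy
    exact trans_FB hx' hy')
  have hCc := inter_empty_or_subset (B := B) (S := SC) hinv (fun x hx y hy => by
    have hx' : (x : GolayPt → ℤ) ∈ FC := hx
    have hy' : (y : GolayPt → ℤ) ∈ FC := hy
    obtain ⟨g1, hg1, e1⟩ := trans_FC hx'
    obtain ⟨g2, hg2, e2⟩ := trans_FC hy'
    refine ⟨g2⁻¹ * g1, Subgroup.mul_mem _ (Subgroup.inv_mem _ hg2) hg1, ?_⟩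
    rw [mul_smul, e1, ← e2, inv_smul_smul])
  -- the orbit is not inside SA
  have hnot : ¬ ((B ∩ SB).ncard = 0 ∧ (B ∩ SC).ncard = 0) := by
    rintro ⟨z1, z2⟩
    apply hne
    apply le_crossStab_of_FA
    intro g hg y hy
    obtain ⟨h, hh, rfl⟩ := trans_FA hy
    have hmem : g • h • V44 ∈ B := hinvK g hg _ (hinv h hh _ (mem_orbit_self _))
    rcases hsub hmem with (h1 | h1) | h1
    · have h1' : ((g • h • V44 : leechLattice) : GolayPt → ℤ) ∈ FA := h1
      exact h1'
    · exfalso
      have : (B ∩ SB).Nonempty := ⟨_, hmem, h1⟩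
      rw [(Set.ncard_eq_zero (hfin.subset Set.inter_subset_left)).mp z1] at this
      exact Set.not_nonempty_empty this
    · exfalso
      have : (B ∩ SC).Nonempty := ⟨_, hmem, h1⟩
      rw [(Set.ncard_eq_zero (hfin.subset Set.inter_subset_left)).mp z2] at this
      exact Set.not_nonempty_empty this
  -- divisibility
  have hdvd : B.ncard ∣ 8315553613086720000 := by
    rw [← card_co0]
    have h1 := card_subgroup_inf_stab K V44
    exact dvd_trans (Dvd.intro _ h1) (Subgroup.card_subgroup_dvd_card K)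
  have kB : (B ∩ SB).ncard = 0 ∨ (B ∩ SB).ncard = 97152 := by
    rcases hBc with h | h
    · left; exact h
    · right; rw [h, hcB]
  have kC : (B ∩ SC).ncard = 0 ∨ (B ∩ SC).ncard = 98304 := by
    rcases hCc with h | h
    · left; exact h
    · right; rw [h, hcC]
  rw [hA, hcA] at hsum
  rw [hsum] at hdvd
  obtain ⟨r1, r2⟩ := level0_arith _ _ kB kC hdvd hnot
  have hB' : B ∩ SB = SB := by
    rcases hBc with h | h
    · rw [h] at r1; norm_num at r1
    · exact h
  have hC' : B ∩ SC = SC := by
    rcases hCc with h | h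
    · rw [h] at r2; norm_num at r2
    · exact h
  apply Set.Subset.antisymm hnorm
  intro y hy
  have hF : (y : GolayPt → ℤ) ∈ F32 := mem_F32.mpr ⟨y.2, hy⟩
  unfold F32 at hF
  rw [Finset.mem_union, Finset.mem_union] at hF
  rcases hF with (h | h) | h
  · have h' : y ∈ SA := h
    rw [← hA] at h'
    exact h'.1
  · have h' : y ∈ SB := h
    rw [← hB'] at h'
    exact h'.1
  · have h' : y ∈ SC := h
    rw [← hC'] at h'
    exact h'.1


end Cfsg.Agent.Helper27
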