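import Mathlib
import Cfsg.Agent.Lib.Helper27.CrossMax1

set_option autoImplicit false
set_option maxRecDepth 8000
open Cfsg

/-! Maximality of the stabiliser of the standard cross, second part: the classes of minimal vectors orthogonal to a fixed one under the monomial group, their sizes, and the final counting argument. -/

namespace Cfsg.Agent.Helper27
open Cfsg.Agent.S0394 (FA FB FC idxA idxB fC mem_idxA mem_idxB mem_octads_iff odd_fC card_FA card_FB
  card_FC disj_AB disj_ABC octF mem_octF instFintypeGolayCode card_golayCode fC_injective)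
open scoped Pointwise
open MulAction



set_option maxRecDepth 100000 in
theorem cntA1_idx : (idxA.filter (fun q => shapeVec 4 q.1 q.2 none + shapeVec 4 q.1 q.2 (some 0) = 0 ∧
    shapeVec 4 q.1 q.2 none ≠ 0)).card = 2 := by
  decide +kernel

set_option maxRecDepth 100000 in
theorem cntA2_idx : (idxA.filter (fun q => shapeVec 4 q.1 q.2 none + shapeVec 4 q.1 q.2 (some 0) = 0 ∧
    shapeVec 4 q.1 q.2 none = 0)).card = 924 := by
  decide +kernel

theorem cntA1 : (FA.filter (fun z => z none + z (some 0) = 0 ∧ z none ≠ 0)).card = 2 := by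
  rw [card_filter_FA]; exact cntA1_idx

theorem cntA2 : (FA.filter (fun z => z none + z (some 0) = 0 ∧ z none = 0)).card = 924 := by
  rw [card_filter_FA]; exact cntA2_idx




theorem card_octF_avoid2 :
    (octF.filter (fun p => none ∉ p ∧ some 0 ∉ p)).card = 330 := by
  have h := card_code8_filter (fun p => decide (none ∈ p) = false ∧ decide (some 0 ∈ p) = false)
  have e : (Finset.univ : Finset golayCode).filter
      (fun c => (support₂ c.1).card = 8 ∧ (decide (none ∈ support₂ c.1) = false ∧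
        decide (some 0 ∈ support₂ c.1) = false)) = codeF 8 false false := rfl
  rw [e, card_codeF_8_ff] at h
  rw [h]
  congr 1
  apply Finset.filter_congr
  intro p _
  simp only [decide_eq_false_iff_not]

theorem shapeVec_two_eq_zero_iff (p N : Finset GolayPt) (i : GolayPt) :
    shapeVec 2 p N i = 0 ↔ i ∉ p := by
  unfold shapeVec
  by_cases hi : i ∈ p
  · rw [if_pos hi]
    split_ifs <;> simp [hi]
  · rw [if_neg hi]; simp [hi]

theorem cntB1 : (FB.filter (fun z => z none + z (some 0) = 0 ∧ z none = 0)).card = 42240 := by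
  have himg : FB.filter (fun z => z none + z (some 0) = 0 ∧ z none = 0) =
      ((octF.filter (fun p => none ∉ p ∧ some 0 ∉ p)).sigma
        (fun p => p.powerset.filter (fun N => Even N.card))).image
        (fun q => shapeVec 2 q.1 q.2) := by
    ext z
    rw [Finset.mem_filter, Finset.mem_image]
    constructor
    · rintro ⟨hz, h1, h2⟩
      unfold FB at hz
      rw [Finset.mem_image] at hz
      obtain ⟨q, hq, rfl⟩ := hz
      rw [mem_idxB] at hq
      rw [h2, zero_add] at h1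
      rw [shapeVec_two_eq_zero_iff] at h1 h2
      refine ⟨q, ?_, rfl⟩
      rw [Finset.mem_sigma, Finset.mem_filter, mem_octF, Finset.mem_filter, Finset.mem_powerset]
      exact ⟨⟨hq.1, h2, h1⟩, hq.2.1, hq.2.2⟩
    · rintro ⟨q, hq, rfl⟩
      rw [Finset.mem_sigma, Finset.mem_filter, mem_octF, Finset.mem_filter,
        Finset.mem_powerset] at hq
      refine ⟨?_, ?_, ?_⟩
      · unfold FB
        rw [Finset.mem_image]
        exact ⟨q, mem_idxB.mpr ⟨hq.1.1, hq.2.1, hq.2.2⟩, rfl⟩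
      · rw [(shapeVec_two_eq_zero_iff _ _ _).mpr hq.1.2.1, (shapeVec_two_eq_zero_iff _ _ _).mpr hq.1.2.2]
        norm_num
      · exact (shapeVec_two_eq_zero_iff _ _ _).mpr hq.1.2.1
  rw [himg, Finset.card_image_of_injOn]
  · rw [Finset.card_sigma]
    rw [Finset.sum_congr rfl (g := fun _ => 128)]
    · rw [Finset.sum_const, card_octF_avoid2, smul_eq_mul]
    · intro p hp
      rw [Finset.mem_filter, mem_octF] at hp
      have h8 := octad_card hp.1
      have hne : p.Nonempty := by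
        rw [← Finset.card_pos, h8]; norm_num
      have := card_even_subsets p hne
      rw [h8] at this
      omega
  · intro q hq q' hq' h
    rw [Finset.mem_coe, Finset.mem_sigma, Finset.mem_filter, Finset.mem_filter,
      Finset.mem_powerset] at hq hq'
    obtain ⟨h1, h2⟩ := shapeVec_injective (by norm_num : (0 : ℤ) < 2) hq.2.1 hq'.2.1 h
    exact Sigma.ext h1 (heq_of_eq h2)

/-- A code word containing `0` but not `∞`. -/
def d0 : GolayPt → ZMod 2 := ofMask (cw 347)

theorem d0_mem : d0 ∈ golayCode := Cfsg.Agent.Helper29.cw_mem 347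

theorem d0_none : d0 none = 0 := by unfold d0; decide
theorem d0_zero : d0 (some 0) = 1 := by unfold d0; decide
theorem d0_disj : ∀ i, d0 i ≠ 0 → oct30 i = 0 := by unfold d0 oct30; decide

theorem card_code_ne :
    ((Finset.univ : Finset golayCode).filter (fun c => c.1 none ≠ c.1 (some 0))).card = 2048 := by
  have hz : ∀ x y : ZMod 2, x ≠ y → x + 0 = y + 1 := by decide
  have hz' : ∀ x y : ZMod 2, ¬ x ≠ y → x + 0 ≠ y + 1 := by decide
  have h1 : ((Finset.univ : Finset golayCode).filter (fun c => c.1 none ≠ c.1 (some 0))).card =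
      ((Finset.univ : Finset golayCode).filter (fun c => ¬ c.1 none ≠ c.1 (some 0))).card := by
    refine Finset.card_bij' (fun c _ => c + ⟨d0, d0_mem⟩)
      (fun c _ => c + ⟨d0, d0_mem⟩) ?_ ?_ ?_ ?_
    · intro c hc
      rw [Finset.mem_filter] at hc ⊢
      refine ⟨Finset.mem_univ _, ?_⟩
      show ¬ (c.1 + d0) none ≠ (c.1 + d0) (some 0)
      rw [Pi.add_apply, Pi.add_apply, d0_none, d0_zero, not_not]
      exact hz _ _ hc.2
    · intro c hc
      rw [Finset.mem_filter] at hc ⊢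
      refine ⟨Finset.mem_univ _, ?_⟩
      show (c.1 + d0) none ≠ (c.1 + d0) (some 0)
      rw [Pi.add_apply, Pi.add_apply, d0_none, d0_zero]
      exact hz' _ _ hc.2
    · intro c _
      apply Subtype.ext
      show c.1 + d0 + d0 = c.1
      funext i
      simp only [Pi.add_apply]
      have : ∀ a b : ZMod 2, a + b + b = a := by decide
      exact this _ _
    · intro c _
      apply Subtype.ext
      show c.1 + d0 + d0 = c.1
      funext i
      simp only [Pi.add_apply]
      have : ∀ a b : ZMod 2, a + b + b = a := by decide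
      exact this _ _
  have h2 := Finset.card_filter_add_card_filter_not (s := (Finset.univ : Finset golayCode))
    (fun c => c.1 none ≠ c.1 (some 0))
  rw [Finset.card_univ, card_golayCode] at h2
  omega

theorem cntC : (FC.filter (fun z => z none + z (some 0) = 0)).card = 45056 := by
  rw [card_filter_FC]
  have e : (Finset.univ : Finset (GolayPt × golayCode)).filter
      (fun q => fC q none + fC q (some 0) = 0) =
      (((Finset.univ : Finset GolayPt).erase none).erase (some 0)) ×ˢ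
        ((Finset.univ : Finset golayCode).filter (fun c => c.1 none ≠ c.1 (some 0))) := by
    ext ⟨j, c⟩
    rw [Finset.mem_filter, Finset.mem_product, Finset.mem_erase, Finset.mem_erase,
      Finset.mem_filter, fC_apply, fC_apply]
    have hz : ∀ x : ZMod 2, x = 0 ∨ x = 1 := by decide
    have h01 : (0 : ZMod 2) ≠ 1 := by decide
    have hns : (none : GolayPt) ≠ some 0 := by decide
    constructor
    · rintro ⟨-, h⟩
      by_cases hj : j = none
      · subst hj
        rw [if_pos rfl, if_neg (Ne.symm hns)] at h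
        exfalso
        split_ifs at h <;> omega
      · by_cases hj0 : j = some 0
        · subst hj0
          rw [if_neg hns, if_pos rfl] at h
          exfalso
          split_ifs at h <;> omega
        · rw [if_neg (Ne.symm hj), if_neg (Ne.symm hj0)] at h
          refine ⟨⟨hj0, hj, Finset.mem_univ _⟩, Finset.mem_univ _, ?_⟩
          intro heq
          rw [heq] at h
          split_ifs at h <;> omega
    · rintro ⟨⟨hj0, hj, -⟩, -, hne⟩
      refine ⟨Finset.mem_univ _, ?_⟩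
      rw [if_neg (Ne.symm hj), if_neg (Ne.symm hj0)]
      rcases hz (c.1 none) with h1 | h1 <;> rcases hz (c.1 (some 0)) with h2 | h2
      · exact absurd (h1.trans h2.symm) hne
      · rw [h1, h2]; simp
      · rw [h1, h2]; simp
      · exact absurd (h1.trans h2.symm) hne
  rw [e, Finset.card_product, card_code_ne, Finset.card_erase_of_mem, Finset.card_erase_of_mem
    (Finset.mem_univ _), Finset.card_univ, card_golayPt]
  rw [Finset.mem_erase]
  exact ⟨by decide, Finset.mem_univ _⟩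




theorem filter_v44_eq (F : Finset (GolayPt → ℤ)) :
    F.filter (fun w => dotInt v44 w = 0) = F.filter (fun z => z none + z (some 0) = 0) := by
  apply Finset.filter_congr
  intro z _
  rw [dotInt_v44]
  constructor <;> intro h <;> omega

theorem card_filter_split (F : Finset (GolayPt → ℤ)) :
    (F.filter (fun z => z none + z (some 0) = 0)).card =
      (F.filter (fun z => z none + z (some 0) = 0 ∧ z none = 0)).card +
      (F.filter (fun z => z none + z (some 0) = 0 ∧ z none ≠ 0)).card := by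
  have h := Finset.card_filter_add_card_filter_not
    (s := F.filter (fun z => z none + z (some 0) = 0)) (fun z => z none = 0)
  rw [Finset.filter_filter, Finset.filter_filter] at h
  exact h.symm

theorem cntB2 : (FB.filter (fun z => z none + z (some 0) = 0 ∧ z none ≠ 0)).card = 4928 := by
  have h0 : (F32.filter (fun w => dotInt v44 w = 0)).card = 93150 :=
    cntDot_zero (mem_F32.mpr ⟨v44_mem, v44_norm⟩)
  rw [filter_v44_eq F32] at h0
  have hF : F32 = FA ∪ FB ∪ FC := rfl
  rw [hF, Finset.filter_union, Finset.filter_union, Finset.card_union_of_disjoint,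
    Finset.card_union_of_disjoint] at h0
  · rw [card_filter_split FA, card_filter_split FB, cntA1, cntA2, cntB1, cntC] at h0
    generalize (FB.filter (fun z => z none + z (some 0) = 0 ∧ z none ≠ 0)).card = X at h0 ⊢
    omega
  · exact Finset.disjoint_filter_filter disj_AB
  · rw [← Finset.filter_union]
    exact Finset.disjoint_filter_filter disj_ABC




theorem shape_move_val (k : ℤ) {p p' N N' : Finset GolayPt} {σ : Equiv.Perm GolayPt}
    (hσ : σ ∈ M24) (hσp : ∀ i, σ i ∈ p ↔ i ∈ p') {x : leechLattice}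
    (hx : (x : GolayPt → ℤ) = shapeVec k p N)
    {c : GolayPt → ZMod 2} (hc : c ∈ golayCode)
    (hcE : support₂ c ∩ p' = symmDiff (N.image σ.symm) N') :
    ((epsG c hc • permG σ hσ • x : leechLattice) : GolayPt → ℤ) = shapeVec k p' N' := by
  rw [epsG_smul]
  have e1 : ((permG σ hσ • x : leechLattice) : GolayPt → ℤ) = shapeVec k p' (N.image σ.symm) := by
    rw [permG_smul]
    show (fun i => (x : GolayPt → ℤ) (σ i)) = _
    rw [hx]
    exact shapeVec_comp_gen k hσp (mem_image_symm σ N)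
  rw [e1, signChange_shapeVec_gen, hcE, symmDiff_symmDiff_cancel_left]

theorem permG_fixV {σ : Equiv.Perm GolayPt} (hσ : σ ∈ M24)
    (h : (σ none = none ∧ σ (some 0) = some 0) ∨ (σ none = some 0 ∧ σ (some 0) = none)) :
    permG σ hσ • V44 = V44 := by
  rcases h with h | h
  · exact (permG_fix3 hσ h.1 h.2).2.2
  · apply Subtype.ext
    rw [permG_smul]
    show (fun k => vec44 none (some 0) 1 (σ k)) = vec44 none (some 0) 1
    rw [vec44_comp h.2 h.1]
    funext k
    unfold vec44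
    by_cases hk1 : k = none <;> by_cases hk2 : k = some 0 <;> simp [hk1, hk2]

theorem permG_swapX {σ : Equiv.Perm GolayPt} (hσ : σ ∈ M24)
    (h1 : σ none = some 0) (h2 : σ (some 0) = none) : permG σ hσ • X0 = -X0 := by
  apply Subtype.ext
  rw [permG_smul]
  show (fun k => vec44 none (some 0) (-1) (σ k)) = -vec44 none (some 0) (-1)
  rw [vec44_comp h2 h1]
  funext k
  rw [Pi.neg_apply]
  unfold vec44
  by_cases hk1 : k = none <;> by_cases hk2 : k = some 0 <;> simp [hk1, hk2]

theorem epsG_fixV {c : GolayPt → ZMod 2} (hc : c ∈ golayCode) (h1 : c none = 0)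
    (h2 : c (some 0) = 0) : epsG c hc • V44 = V44 := (epsG_fix2 hc h1 h2).1

/-- The stabiliser of the standard cross and of the first standard vector exchanges the second
standard vector with its negative. -/
theorem exists_swapX : ∃ g ∈ crossStab, g • V44 = V44 ∧ g • X0 = -X0 := by
  obtain ⟨σ, hσ, hmap⟩ := exists_M24_map_list [none, some 0] [some 0, none] (by decide) (by decide)
    rfl (by simp)
  simp only [List.map_cons, List.map_nil, List.cons.injEq, and_true] at hmap
  exact ⟨permG σ hσ, permG_mem_crossStab σ hσ, permG_fixV hσ (Or.inr hmap),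
    permG_swapX hσ hmap.1 hmap.2⟩

/-- Transitivity on the vectors of shape `(0, 0, ±4, ±4, 0, …)`. -/
theorem trans_A2 {y y' : leechLattice} (hy : (y : GolayPt → ℤ) ∈ FA)
    (h0 : (y : GolayPt → ℤ) none = 0) (h1 : (y : GolayPt → ℤ) (some 0) = 0)
    (hy' : (y' : GolayPt → ℤ) ∈ FA)
    (h0' : (y' : GolayPt → ℤ) none = 0) (h1' : (y' : GolayPt → ℤ) (some 0) = 0) :
    ∃ g ∈ crossStab, g • V44 = V44 ∧ g • y = y' := by
  unfold FA at hy hy'
  rw [Finset.mem_image] at hy hy'
  obtain ⟨q, hq, hqy⟩ := hy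
  obtain ⟨q', hq', hqy'⟩ := hy'
  rw [mem_idxA] at hq hq'
  have h4 : (4 : ℤ) ≠ 0 := by norm_num
  have hn : none ∉ q.1 := by
    rw [← shapeVec_ne_zero_iff h4 q.1 q.2, hqy, h0]; simp
  have hz : some 0 ∉ q.1 := by
    rw [← shapeVec_ne_zero_iff h4 q.1 q.2, hqy, h1]; simp
  have hn' : none ∉ q'.1 := by
    rw [← shapeVec_ne_zero_iff h4 q'.1 q'.2, hqy', h0']; simp
  have hz' : some 0 ∉ q'.1 := by
    rw [← shapeVec_ne_zero_iff h4 q'.1 q'.2, hqy', h1']; simp
  obtain ⟨a, b, hab, hpab⟩ := Finset.card_eq_two.mp hq.1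
  obtain ⟨a', b', hab', hpab'⟩ := Finset.card_eq_two.mp hq'.1
  have ha : a ∈ q.1 := by rw [hpab]; simp
  have hb : b ∈ q.1 := by rw [hpab]; simp
  have ha' : a' ∈ q'.1 := by rw [hpab']; simp
  have hb' : b' ∈ q'.1 := by rw [hpab']; simp
  have n1 : a ≠ none := fun h => hn (h ▸ ha)
  have n2 : b ≠ none := fun h => hn (h ▸ hb)
  have n3 : a ≠ some 0 := fun h => hz (h ▸ ha)
  have n4 : b ≠ some 0 := fun h => hz (h ▸ hb)
  have n1' : a' ≠ none := fun h => hn' (h ▸ ha')
  have n2' : b' ≠ none := fun h => hn' (h ▸ hb')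
  have n3' : a' ≠ some 0 := fun h => hz' (h ▸ ha')
  have n4' : b' ≠ some 0 := fun h => hz' (h ▸ hb')
  obtain ⟨σ, hσ, hmap⟩ := exists_M24_map_list [none, some 0, a', b'] [none, some 0, a, b]
    (by simp [Ne.symm n1', Ne.symm n2', Ne.symm n3', Ne.symm n4', hab'])
    (by simp [Ne.symm n1, Ne.symm n2, Ne.symm n3, Ne.symm n4, hab]) rfl (by simp)
  simp only [List.map_cons, List.map_nil, List.cons.injEq, and_true] at hmap
  obtain ⟨e1, e2, e3, e4⟩ := hmap
  have hσp : ∀ i, σ i ∈ q.1 ↔ i ∈ q'.1 := by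
    intro i
    rw [hpab, hpab', Finset.mem_insert, Finset.mem_singleton, Finset.mem_insert,
      Finset.mem_singleton, ← e3, ← e4]
    simp only [EmbeddingLike.apply_eq_iff_eq]
  set E := symmDiff (q.2.image σ.symm) q'.2 with hE
  have hEp : E ⊆ q'.1 := shape_move_sub hσp hq.2 hq'.2
  obtain ⟨c, hc, hcv⟩ := exists_code_vals_on (insert none (insert (some 0) q'.1))
    (by
      have h1 := Finset.card_insert_le none (insert (some 0) q'.1)
      have h2 := Finset.card_insert_le (some 0) q'.1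
      omega)
    (fun i => if i ∈ E then 1 else 0)
  have hcn : c none = 0 := by
    rw [hcv none (by simp), if_neg (fun h => hn' (hEp h))]
  have hcz : c (some 0) = 0 := by
    rw [hcv (some 0) (by simp), if_neg (fun h => hz' (hEp h))]
  have hcE : support₂ c ∩ q'.1 = E := by
    ext i
    rw [Finset.mem_inter, mem_support₂]
    constructor
    · rintro ⟨h1, h2⟩
      by_contra hn
      apply h1
      rw [hcv i (by simp [h2]), if_neg hn]
    · intro h
      refine ⟨?_, hEp h⟩
      rw [hcv i (by simp [hEp h]), if_pos h]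
      decide
  refine ⟨epsG c hc * permG σ hσ, Subgroup.mul_mem _ (epsG_mem_crossStab c hc)
    (permG_mem_crossStab σ hσ), ?_, ?_⟩
  · rw [mul_smul, permG_fixV hσ (Or.inl ⟨e1, e2⟩), epsG_fixV hc hcn hcz]
  · rw [mul_smul]
    exact shape_move 4 hσ hσp hqy.symm hqy'.symm hc hcE




theorem oct30_octad : support₂ oct30 ∈ octads :=
  (mem_octads_iff _).mpr ⟨oct30, oct30_mem, rfl, oct30_card⟩

/-- Code words with prescribed even intersection with the standard octad avoiding the base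
points, vanishing at both base points. -/
theorem exists_code_inter_oct30 {E : Finset GolayPt} (hE : E ⊆ support₂ oct30)
    (hev : Even E.card) :
    ∃ c ∈ golayCode, support₂ c ∩ support₂ oct30 = E ∧ c none = 0 ∧ c (some 0) = 0 := by
  obtain ⟨c, hc, hcE, hcn⟩ := exists_code_inter' oct30_octad oct30_none hE hev
  by_cases h : c (some 0) = 0
  · exact ⟨c, hc, hcE, hcn, h⟩
  · have h1 : c (some 0) = 1 := by
      have : ∀ x : ZMod 2, x ≠ 0 → x = 1 := by decide
      exact this _ h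
    refine ⟨c + d0, golayCode.add_mem hc d0_mem, ?_, ?_, ?_⟩
    · rw [← hcE]
      ext i
      rw [Finset.mem_inter, Finset.mem_inter]
      constructor
      · rintro ⟨h2, hi⟩
        refine ⟨?_, hi⟩
        have hd : d0 i = 0 := by
          by_contra hne
          exact (mem_support₂.mp hi) (d0_disj i hne)
        rw [mem_support₂, Pi.add_apply, hd, add_zero] at h2
        exact mem_support₂.mpr h2
      · rintro ⟨h2, hi⟩
        refine ⟨?_, hi⟩
        have hd : d0 i = 0 := by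
          by_contra hne
          exact (mem_support₂.mp hi) (d0_disj i hne)
        rw [mem_support₂, Pi.add_apply, hd, add_zero]
        exact mem_support₂.mp h2
    · rw [Pi.add_apply, hcn, d0_none]; decide
    · rw [Pi.add_apply, h1, d0_zero]; decide

/-- Normal form of the vectors of shape `(±2 on an octad)` vanishing at both base points. -/
theorem nf_B1 {y : leechLattice} (hy : (y : GolayPt → ℤ) ∈ FB)
    (h0 : (y : GolayPt → ℤ) none = 0) (h1 : (y : GolayPt → ℤ) (some 0) = 0) :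
    ∃ g ∈ crossStab, g • V44 = V44 ∧
      ((g • y : leechLattice) : GolayPt → ℤ) = shapeVec 2 (support₂ oct30) ∅ := by
  unfold FB at hy
  rw [Finset.mem_image] at hy
  obtain ⟨q, hq, hqy⟩ := hy
  rw [mem_idxB] at hq
  have hn : none ∉ q.1 := by
    rw [← shapeVec_two_eq_zero_iff q.1 q.2, hqy, h0]
  have hz : some 0 ∉ q.1 := by
    rw [← shapeVec_two_eq_zero_iff q.1 q.2, hqy, h1]
  obtain ⟨σ, hσ, e1, e2, e3⟩ := m22_trans_330 (p := none) (q := some 0) (by decide) oct30_octad
    hq.1 oct30_none oct30_zero hn hz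
  have hσp : ∀ i, σ i ∈ q.1 ↔ i ∈ support₂ oct30 := by
    intro i
    rw [← e3]
    exact Finset.smul_mem_smul_finset_iff σ
  have hsub := shape_move_sub (N' := ∅) hσp hq.2.1 (Finset.empty_subset _)
  have hev := shape_move_even (N' := ∅) σ hq.2.2 (by simp)
  obtain ⟨c, hc, hcE, hcn, hcz⟩ := exists_code_inter_oct30 hsub hev
  refine ⟨epsG c hc * permG σ hσ, Subgroup.mul_mem _ (epsG_mem_crossStab c hc)
    (permG_mem_crossStab σ hσ), ?_, ?_⟩
  · rw [mul_smul, permG_fixV hσ (Or.inl ⟨e1, e2⟩), epsG_fixV hc hcn hcz]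
  · rw [mul_smul]
    exact shape_move_val 2 hσ hσp hqy.symm hc hcE

theorem trans_B1 {y y' : leechLattice} (hy : (y : GolayPt → ℤ) ∈ FB)
    (h0 : (y : GolayPt → ℤ) none = 0) (h1 : (y : GolayPt → ℤ) (some 0) = 0)
    (hy' : (y' : GolayPt → ℤ) ∈ FB)
    (h0' : (y' : GolayPt → ℤ) none = 0) (h1' : (y' : GolayPt → ℤ) (some 0) = 0) :
    ∃ g ∈ crossStab, g • V44 = V44 ∧ g • y = y' := by
  obtain ⟨g1, hg1, a1, b1⟩ := nf_B1 hy h0 h1
  obtain ⟨g2, hg2, a2, b2⟩ := nf_B1 hy' h0' h1'
  refine ⟨g2⁻¹ * g1, Subgroup.mul_mem _ (Subgroup.inv_mem _ hg2) hg1, ?_, ?_⟩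
  · rw [mul_smul, a1, inv_smul_eq_iff, a2]
  · rw [mul_smul, inv_smul_eq_iff]
    exact Subtype.ext (b1.trans b2.symm)

theorem prop1 (A B A' B' : Prop) (h1 : A ↔ ¬B) (h2 : A' ↔ ¬B') (h3 : A ↔ A') : (B ↔ B') := by
  tauto

theorem prop2 (A B A' B' : Prop) (h1 : A ↔ ¬B) (h2 : A' ↔ ¬B') (h3 : ¬(A ↔ A')) :
    (B ↔ A') ∧ (A ↔ B') := by
  tauto

theorem prop3 (A B : Prop) (h : A ↔ B) : ¬ (A ∧ ¬ B ∨ B ∧ ¬ A) := by
  tauto

theorem shape_data (p N : Finset GolayPt) (h0 : shapeVec 2 p N none ≠ 0)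
    (hs : shapeVec 2 p N none + shapeVec 2 p N (some 0) = 0) :
    none ∈ p ∧ some 0 ∈ p ∧ (none ∈ N ↔ some 0 ∉ N) := by
  have hn : none ∈ p := by
    by_contra h
    exact h0 ((shapeVec_two_eq_zero_iff p N none).mpr h)
  have hz : some 0 ∈ p := by
    by_contra h
    rw [(shapeVec_two_eq_zero_iff p N (some 0)).mpr h, add_zero] at hs
    exact h0 hs
  refine ⟨hn, hz, ?_⟩
  unfold shapeVec at hs
  rw [if_pos hn, if_pos hz] at hs
  by_cases a1 : none ∈ N <;> by_cases a2 : some 0 ∈ N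
  · rw [if_pos a1, if_pos a2] at hs; norm_num at hs
  · exact ⟨fun _ => a2, fun _ => a1⟩
  · exact ⟨fun h => absurd h a1, fun h => absurd a2 h⟩
  · rw [if_neg a1, if_neg a2] at hs; norm_num at hs

/-- Transitivity on the vectors of shape `(±2 on an octad)` with opposite signs at the two base
points. -/
theorem trans_B2 {y y' : leechLattice} (hy : (y : GolayPt → ℤ) ∈ FB)
    (h0 : (y : GolayPt → ℤ) none ≠ 0)
    (hs : (y : GolayPt → ℤ) none + (y : GolayPt → ℤ) (some 0) = 0)
    (hy' : (y' : GolayPt → ℤ) ∈ FB) (h0' : (y' : GolayPt → ℤ) none ≠ 0)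
    (hs' : (y' : GolayPt → ℤ) none + (y' : GolayPt → ℤ) (some 0) = 0) :
    ∃ g ∈ crossStab, g • V44 = V44 ∧ g • y = y' := by
  unfold FB at hy hy'
  rw [Finset.mem_image] at hy hy'
  obtain ⟨q, hq, hqy⟩ := hy
  obtain ⟨q', hq', hqy'⟩ := hy'
  rw [mem_idxB] at hq hq'
  obtain ⟨hn, hz, hN⟩ := shape_data q.1 q.2 (by rw [hqy]; exact h0) (by rw [hqy]; exact hs)
  obtain ⟨hn', hz', hN'⟩ := shape_data q'.1 q'.2 (by rw [hqy']; exact h0')
    (by rw [hqy']; exact hs')
  -- the points a, b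
  obtain ⟨a, b, hab, hap, hbp, hfix, haN, hbN⟩ : ∃ a b : GolayPt, a ≠ b ∧ a ∈ q.1 ∧ b ∈ q.1 ∧
      ((a = none ∧ b = some 0) ∨ (a = some 0 ∧ b = none)) ∧ (a ∈ q.2 ↔ none ∈ q'.2) ∧
      (b ∈ q.2 ↔ some 0 ∈ q'.2) := by
    by_cases hc : none ∈ q.2 ↔ none ∈ q'.2
    · exact ⟨none, some 0, by decide, hn, hz, Or.inl ⟨rfl, rfl⟩, hc, prop1 _ _ _ _ hN hN' hc⟩
    · exact ⟨some 0, none, by decide, hz, hn, Or.inr ⟨rfl, rfl⟩, (prop2 _ _ _ _ hN hN' hc).1,
        (prop2 _ _ _ _ hN hN' hc).2⟩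
  obtain ⟨k, hk, -, -⟩ := exists_notMem_octad hq.1 none none
  obtain ⟨k', hk', -, -⟩ := exists_notMem_octad hq'.1 none none
  obtain ⟨σ, hσ, hmap, -, hσp⟩ := exists_perm_octad5 hq.1 hq'.1 (L := [a, b])
    (L' := [none, some 0]) (by simp [hab]) (by decide) rfl (by simp)
    (by intro i hi; simp only [List.mem_cons, List.not_mem_nil, or_false] at hi
        rcases hi with rfl | rfl
        · exact hap
        · exact hbp)
    (by intro i hi; simp only [List.mem_cons, List.not_mem_nil, or_false] at hi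
        rcases hi with rfl | rfl
        · exact hn'
        · exact hz') hk hk'
  simp only [List.map_cons, List.map_nil, List.cons.injEq, and_true] at hmap
  obtain ⟨e1, e2⟩ := hmap
  have hfix' : (σ none = none ∧ σ (some 0) = some 0) ∨ (σ none = some 0 ∧ σ (some 0) = none) := by
    rcases hfix with ⟨rfl, rfl⟩ | ⟨rfl, rfl⟩
    · exact Or.inl ⟨e1, e2⟩
    · exact Or.inr ⟨e1, e2⟩
  set E := symmDiff (q.2.image σ.symm) q'.2 with hE
  have hEp : E ⊆ q'.1 := shape_move_sub hσp hq.2.1 hq'.2.1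
  have hEe : Even E.card := shape_move_even σ hq.2.2 hq'.2.2
  obtain ⟨c, hc, hcE⟩ := exists_code_inter hq'.1 _ _ rfl hEp hEe
  have hnE : none ∉ E := by
    rw [hE, Finset.mem_symmDiff, ← mem_image_symm, e1]
    exact prop3 _ _ haN
  have hzE : some 0 ∉ E := by
    rw [hE, Finset.mem_symmDiff, ← mem_image_symm, e2]
    exact prop3 _ _ hbN
  have hcn : c none = 0 := by
    by_contra hne
    apply hnE
    rw [← hcE]
    exact Finset.mem_inter.mpr ⟨mem_support₂.mpr hne, hn'⟩
  have hcz : c (some 0) = 0 := by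
    by_contra hne
    apply hzE
    rw [← hcE]
    exact Finset.mem_inter.mpr ⟨mem_support₂.mpr hne, hz'⟩
  refine ⟨epsG c hc * permG σ hσ, Subgroup.mul_mem _ (epsG_mem_crossStab c hc)
    (permG_mem_crossStab σ hσ), ?_, ?_⟩
  · rw [mul_smul, permG_fixV hσ hfix', epsG_fixV hc hcn hcz]
  · rw [mul_smul]
    exact shape_move 2 hσ hσp hqy.symm hqy'.symm hc hcE




theorem fC_data (j : GolayPt) (w : golayCode)
    (hs : fC (j, w) none + fC (j, w) (some 0) = 0) :
    j ≠ none ∧ j ≠ some 0 ∧ w.1 none ≠ w.1 (some 0) := by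
  rw [fC_apply, fC_apply] at hs
  have hns : (none : GolayPt) ≠ some 0 := by decide
  by_cases hj : j = none
  · subst hj
    rw [if_pos rfl, if_neg (Ne.symm hns)] at hs
    exfalso
    split_ifs at hs <;> omega
  · by_cases hj0 : j = some 0
    · subst hj0
      rw [if_neg hns, if_pos rfl] at hs
      exfalso
      split_ifs at hs <;> omega
    · rw [if_neg (Ne.symm hj), if_neg (Ne.symm hj0)] at hs
      refine ⟨hj, hj0, ?_⟩
      intro heq
      rw [heq] at hs
      split_ifs at hs <;> omega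

theorem zmod2_pair {x y x' y' : ZMod 2} (h : x ≠ y) (h' : x' ≠ y') :
    (x = x' ∧ y = y') ∨ (y = x' ∧ x = y') := by
  revert x y x' y'
  decide

/-- Transitivity on the odd minimal vectors orthogonal to the first standard vector. -/
theorem trans_C {y y' : leechLattice} (hy : (y : GolayPt → ℤ) ∈ FC)
    (hs : (y : GolayPt → ℤ) none + (y : GolayPt → ℤ) (some 0) = 0)
    (hy' : (y' : GolayPt → ℤ) ∈ FC)
    (hs' : (y' : GolayPt → ℤ) none + (y' : GolayPt → ℤ) (some 0) = 0) :
    ∃ g ∈ crossStab, g • V44 = V44 ∧ g • y = y' := by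
  unfold FC at hy hy'
  rw [Finset.mem_image] at hy hy'
  obtain ⟨⟨j, w⟩, -, hjy⟩ := hy
  obtain ⟨⟨j', w'⟩, -, hjy'⟩ := hy'
  obtain ⟨hjn, hjz, hw⟩ := fC_data j w (by rw [hjy]; exact hs)
  obtain ⟨hjn', hjz', hw'⟩ := fC_data j' w' (by rw [hjy']; exact hs')
  obtain ⟨a, b, hab, haj, hbj, hfix, hwa, hwb⟩ : ∃ a b : GolayPt, a ≠ b ∧ a ≠ j ∧ b ≠ j ∧
      ((a = none ∧ b = some 0) ∨ (a = some 0 ∧ b = none)) ∧ w.1 a = w'.1 none ∧
      w.1 b = w'.1 (some 0) := by
    rcases zmod2_pair hw hw' with h | h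
    · exact ⟨none, some 0, by decide, Ne.symm hjn, Ne.symm hjz, Or.inl ⟨rfl, rfl⟩, h.1, h.2⟩
    · exact ⟨some 0, none, by decide, Ne.symm hjz, Ne.symm hjn, Or.inr ⟨rfl, rfl⟩, h.1, h.2⟩
  obtain ⟨σ, hσ, hmap⟩ := exists_M24_map_list [none, some 0, j'] [a, b, j]
    (by simp [Ne.symm hjn', Ne.symm hjz']) (by simp [hab, haj, hbj]) rfl (by simp)
  simp only [List.map_cons, List.map_nil, List.cons.injEq, and_true] at hmap
  obtain ⟨e1, e2, e3⟩ := hmap
  have hfix' : (σ none = none ∧ σ (some 0) = some 0) ∨ (σ none = some 0 ∧ σ (some 0) = none) := by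
    rcases hfix with ⟨rfl, rfl⟩ | ⟨rfl, rfl⟩
    · exact Or.inl ⟨e1, e2⟩
    · exact Or.inr ⟨e1, e2⟩
  obtain ⟨w1, hw1, hcomp⟩ := fC_comp hσ e3 w
  set c : golayCode := w1 + w' with hc
  have hz : ∀ x y : ZMod 2, x = y → x + y = 0 := by decide
  have hcn : c.1 none = 0 := by
    show w1.1 none + w'.1 none = 0
    rw [hw1, e1]
    exact hz _ _ hwa
  have hcz : c.1 (some 0) = 0 := by
    show w1.1 (some 0) + w'.1 (some 0) = 0
    rw [hw1, e2]
    exact hz _ _ hwb
  refine ⟨epsG c.1 c.2 * permG σ hσ, Subgroup.mul_mem _ (epsG_mem_crossStab c.1 c.2)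
    (permG_mem_crossStab σ hσ), ?_, ?_⟩
  · rw [mul_smul, permG_fixV hσ hfix', epsG_fixV c.2 hcn hcz]
  · rw [mul_smul]
    apply Subtype.ext
    rw [epsG_smul]
    have e4 : ((permG σ hσ • y : leechLattice) : GolayPt → ℤ) = fC (j', w1) := by
      rw [permG_smul]
      show (fun i => (y : GolayPt → ℤ) (σ i)) = _
      rw [← hjy]
      exact hcomp
    rw [e4, signChange_fC_add, ← hjy']
    congr 2
    apply Subtype.ext
    funext i
    show w1.1 i + (w1.1 i + w'.1 i) = w'.1 i
    have : ∀ x y : ZMod 2, x + (x + y) = y := by decide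
    exact this _ _




theorem ncard_split5 {α : Type*} {B S1 S2 S3 S4 S5 : Set α} (hB : B.Finite)
    (hsub : B ⊆ S1 ∪ S2 ∪ S3 ∪ S4 ∪ S5)
    (h12 : Disjoint S1 S2) (h13 : Disjoint S1 S3) (h14 : Disjoint S1 S4) (h15 : Disjoint S1 S5)
    (h23 : Disjoint S2 S3) (h24 : Disjoint S2 S4) (h25 : Disjoint S2 S5)
    (h34 : Disjoint S3 S4) (h35 : Disjoint S3 S5) (h45 : Disjoint S4 S5) :
    B.ncard = (B ∩ S1).ncard + (B ∩ S2).ncard + (B ∩ S3).ncard + (B ∩ S4).ncard +
      (B ∩ S5).ncard := by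
  have e : B = (B ∩ S1) ∪ (B ∩ S2) ∪ (B ∩ S3) ∪ (B ∩ S4) ∪ (B ∩ S5) := by
    ext y
    constructor
    · intro hy
      rcases hsub hy with (((h | h) | h) | h) | h
      · left; left; left; left; exact ⟨hy, h⟩
      · left; left; left; right; exact ⟨hy, h⟩
      · left; left; right; exact ⟨hy, h⟩
      · left; right; exact ⟨hy, h⟩
      · right; exact ⟨hy, h⟩
    · rintro ((((h | h) | h) | h) | h) <;> exact h.1
  have f : ∀ S : Set α, (B ∩ S).Finite := fun S => hB.subset Set.inter_subset_left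
  have d : ∀ {S T : Set α}, Disjoint S T → Disjoint (B ∩ S) (B ∩ T) := fun h =>
    h.mono Set.inter_subset_right Set.inter_subset_right
  have d12 : Disjoint (B ∩ S1) (B ∩ S2) := d h12
  have d3 : Disjoint ((B ∩ S1) ∪ (B ∩ S2)) (B ∩ S3) := by
    rw [Set.disjoint_union_left]; exact ⟨d h13, d h23⟩
  have d4 : Disjoint ((B ∩ S1) ∪ (B ∩ S2) ∪ (B ∩ S3)) (B ∩ S4) := by
    rw [Set.disjoint_union_left, Set.disjoint_union_left]; exact ⟨⟨d h14, d h24⟩, d h34⟩
  have d5 : Disjoint ((B ∩ S1) ∪ (B ∩ S2) ∪ (B ∩ S3) ∪ (B ∩ S4)) (B ∩ S5) := by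
    rw [Set.disjoint_union_left, Set.disjoint_union_left, Set.disjoint_union_left]
    exact ⟨⟨⟨d h15, d h25⟩, d h35⟩, d h45⟩
  conv_lhs => rw [e]
  rw [Set.ncard_union_eq d5 ((((f S1).union (f S2)).union (f S3)).union (f S4)) (f S5),
    Set.ncard_union_eq d4 (((f S1).union (f S2)).union (f S3)) (f S4),
    Set.ncard_union_eq d3 ((f S1).union (f S2)) (f S3), Set.ncard_union_eq d12 (f S1) (f S2)]

/-- The five classes of minimal vectors orthogonal to the first standard vector. -/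
noncomputable def TF (t : Fin 5) : Finset (GolayPt → ℤ) :=
  match t with
  | 0 => FA.filter (fun z => z none + z (some 0) = 0 ∧ z none ≠ 0)
  | 1 => FA.filter (fun z => z none + z (some 0) = 0 ∧ z none = 0)
  | 2 => FB.filter (fun z => z none + z (some 0) = 0 ∧ z none = 0)
  | 3 => FB.filter (fun z => z none + z (some 0) = 0 ∧ z none ≠ 0)
  | 4 => FC.filter (fun z => z none + z (some 0) = 0)

theorem TF_sub (t : Fin 5) {x : GolayPt → ℤ} (hx : x ∈ TF t) : x ∈ leechLattice := by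
  fin_cases t
  · exact (mem_F32.mp (FA_subset_F32 (Finset.mem_filter.mp hx).1)).1
  · exact (mem_F32.mp (FA_subset_F32 (Finset.mem_filter.mp hx).1)).1
  · exact (mem_F32.mp (FB_subset_F32 (Finset.mem_filter.mp hx).1)).1
  · exact (mem_F32.mp (FB_subset_F32 (Finset.mem_filter.mp hx).1)).1
  · exact (mem_F32.mp (FC_subset_F32 (Finset.mem_filter.mp hx).1)).1

/-- The classes as sets of lattice vectors. -/
def TS (t : Fin 5) : Set leechLattice := {y | (y : GolayPt → ℤ) ∈ TF t}

theorem ncard_TS (t : Fin 5) : (TS t).ncard = (TF t).card :=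
  ncard_subtype_eq (TF t) (fun _ hx => TF_sub t hx)

theorem card_TF : (TF 0).card = 2 ∧ (TF 1).card = 924 ∧ (TF 2).card = 42240 ∧
    (TF 3).card = 4928 ∧ (TF 4).card = 45056 :=
  ⟨cntA1, cntA2, cntB1, cntB2, cntC⟩




theorem mem_TS {t : Fin 5} {y : leechLattice} : y ∈ TS t ↔ (y : GolayPt → ℤ) ∈ TF t := Iff.rfl

theorem mem_TF0 {z : GolayPt → ℤ} :
    z ∈ TF 0 ↔ z ∈ FA ∧ (z none + z (some 0) = 0 ∧ z none ≠ 0) := Finset.mem_filter
theorem mem_TF1 {z : GolayPt → ℤ} :
    z ∈ TF 1 ↔ z ∈ FA ∧ (z none + z (some 0) = 0 ∧ z none = 0) := Finset.mem_filter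
theorem mem_TF2 {z : GolayPt → ℤ} :
    z ∈ TF 2 ↔ z ∈ FB ∧ (z none + z (some 0) = 0 ∧ z none = 0) := Finset.mem_filter
theorem mem_TF3 {z : GolayPt → ℤ} :
    z ∈ TF 3 ↔ z ∈ FB ∧ (z none + z (some 0) = 0 ∧ z none ≠ 0) := Finset.mem_filter
theorem mem_TF4 {z : GolayPt → ℤ} :
    z ∈ TF 4 ↔ z ∈ FC ∧ z none + z (some 0) = 0 := Finset.mem_filter

theorem TF_fam (t : Fin 5) {z : GolayPt → ℤ} (hz : z ∈ TF t) :
    (t.val < 2 → z ∈ FA) ∧ (2 ≤ t.val → t.val < 4 → z ∈ FB) ∧ (t.val = 4 → z ∈ FC) := by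
  fin_cases t
  · exact ⟨fun _ => (mem_TF0.mp hz).1, fun h => absurd h (by decide), fun h => absurd h (by decide)⟩
  · exact ⟨fun _ => (mem_TF1.mp hz).1, fun h => absurd h (by decide), fun h => absurd h (by decide)⟩
  · exact ⟨fun h => absurd h (by decide), fun _ _ => (mem_TF2.mp hz).1, fun h => absurd h (by decide)⟩
  · exact ⟨fun h => absurd h (by decide), fun _ _ => (mem_TF3.mp hz).1, fun h => absurd h (by decide)⟩
  · exact ⟨fun h => absurd h (by decide), fun _ h => absurd h (by decide), fun _ => (mem_TF4.mp hz).1⟩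

theorem notMem_AB {z : GolayPt → ℤ} (h1 : z ∈ FA) (h2 : z ∈ FB) : False :=
  Finset.disjoint_left.mp disj_AB h1 h2
theorem notMem_AC {z : GolayPt → ℤ} (h1 : z ∈ FA) (h2 : z ∈ FC) : False :=
  Finset.disjoint_left.mp disj_ABC (Finset.mem_union_left _ h1) h2
theorem notMem_BC {z : GolayPt → ℤ} (h1 : z ∈ FB) (h2 : z ∈ FC) : False :=
  Finset.disjoint_left.mp disj_ABC (Finset.mem_union_right _ h1) h2

theorem TS_disj01 : Disjoint (TS 0) (TS 1) := by
  rw [Set.disjoint_left]; intro y h1 h2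
  rw [mem_TS] at h1 h2
  exact (mem_TF0.mp h1).2.2 (mem_TF1.mp h2).2.2
theorem TS_disj02 : Disjoint (TS 0) (TS 2) := by
  rw [Set.disjoint_left]; intro y h1 h2
  rw [mem_TS] at h1 h2
  exact notMem_AB (mem_TF0.mp h1).1 (mem_TF2.mp h2).1
theorem TS_disj03 : Disjoint (TS 0) (TS 3) := by
  rw [Set.disjoint_left]; intro y h1 h2
  rw [mem_TS] at h1 h2
  exact notMem_AB (mem_TF0.mp h1).1 (mem_TF3.mp h2).1
theorem TS_disj04 : Disjoint (TS 0) (TS 4) := by
  rw [Set.disjoint_left]; intro y h1 h2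
  rw [mem_TS] at h1 h2
  exact notMem_AC (mem_TF0.mp h1).1 (mem_TF4.mp h2).1
theorem TS_disj12 : Disjoint (TS 1) (TS 2) := by
  rw [Set.disjoint_left]; intro y h1 h2
  rw [mem_TS] at h1 h2
  exact notMem_AB (mem_TF1.mp h1).1 (mem_TF2.mp h2).1
theorem TS_disj13 : Disjoint (TS 1) (TS 3) := by
  rw [Set.disjoint_left]; intro y h1 h2
  rw [mem_TS] at h1 h2
  exact notMem_AB (mem_TF1.mp h1).1 (mem_TF3.mp h2).1
theorem TS_disj14 : Disjoint (TS 1) (TS 4) := by
  rw [Set.disjoint_left]; intro y h1 h2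
  rw [mem_TS] at h1 h2
  exact notMem_AC (mem_TF1.mp h1).1 (mem_TF4.mp h2).1
theorem TS_disj23 : Disjoint (TS 2) (TS 3) := by
  rw [Set.disjoint_left]; intro y h1 h2
  rw [mem_TS] at h1 h2
  exact (mem_TF3.mp h2).2.2 (mem_TF2.mp h1).2.2
theorem TS_disj24 : Disjoint (TS 2) (TS 4) := by
  rw [Set.disjoint_left]; intro y h1 h2
  rw [mem_TS] at h1 h2
  exact notMem_BC (mem_TF2.mp h1).1 (mem_TF4.mp h2).1
theorem TS_disj34 : Disjoint (TS 3) (TS 4) := by
  rw [Set.disjoint_left]; intro y h1 h2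
  rw [mem_TS] at h1 h2
  exact notMem_BC (mem_TF3.mp h1).1 (mem_TF4.mp h2).1

/-- Every minimal vector orthogonal to the first standard vector lies in one of the classes. -/
theorem TS_cover {y : leechLattice} (hn : sqNorm (y : GolayPt → ℤ) = 32)
    (hd : dotInt v44 (y : GolayPt → ℤ) = 0) :
    y ∈ TS 0 ∪ TS 1 ∪ TS 2 ∪ TS 3 ∪ TS 4 := by
  have hF : (y : GolayPt → ℤ) ∈ F32 := mem_F32.mpr ⟨y.2, hn⟩
  rw [dotInt_v44] at hd
  have hs : (y : GolayPt → ℤ) none + (y : GolayPt → ℤ) (some 0) = 0 := by omega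
  unfold F32 at hF
  rw [Finset.mem_union, Finset.mem_union] at hF
  rcases hF with (h | h) | h
  · by_cases h0 : (y : GolayPt → ℤ) none = 0
    · left; left; left; right; exact mem_TS.mpr (mem_TF1.mpr ⟨h, hs, h0⟩)
    · left; left; left; left; exact mem_TS.mpr (mem_TF0.mpr ⟨h, hs, h0⟩)
  · by_cases h0 : (y : GolayPt → ℤ) none = 0
    · left; left; right; exact mem_TS.mpr (mem_TF2.mpr ⟨h, hs, h0⟩)
    · left; right; exact mem_TS.mpr (mem_TF3.mpr ⟨h, hs, h0⟩)
  · right; exact mem_TS.mpr (mem_TF4.mpr ⟨h, hs⟩)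

theorem X0_mem_TS : X0 ∈ TS 0 := by
  rw [mem_TS]
  apply mem_TF0.mpr
  refine ⟨vec44_mem_FA (by decide) (Or.inr rfl), ?_, ?_⟩
  · show vec44 none (some 0) (-1) none + vec44 none (some 0) (-1) (some 0) = 0
    unfold vec44; simp
  · show vec44 none (some 0) (-1) none ≠ 0
    unfold vec44; simp

theorem neg_X0_mem_TS : -X0 ∈ TS 0 := by
  rw [mem_TS]
  apply mem_TF0.mpr
  have hF : ((-X0 : leechLattice) : GolayPt → ℤ) ∈ F32 := by
    rw [mem_F32]
    refine ⟨(-X0).2, ?_⟩
    show sqNorm (-(X0 : GolayPt → ℤ)) = 32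
    rw [sqNorm_neg']
    exact X0_norm
  refine ⟨?_, ?_, ?_⟩
  · rw [mem_FA_iff hF]
    intro i
    show (4 : ℤ) ∣ -(vec44 none (some 0) (-1) i)
    unfold vec44
    split_ifs <;> norm_num
  · show -(vec44 none (some 0) (-1) none) + -(vec44 none (some 0) (-1) (some 0)) = 0
    unfold vec44; simp
  · show -(vec44 none (some 0) (-1) none) ≠ 0
    unfold vec44; simp

theorem X0_ne_neg : X0 ≠ -X0 := by
  intro h
  have := congrArg (fun v : leechLattice => (v : GolayPt → ℤ) none) h
  change (X0 : GolayPt → ℤ) none = ((-X0 : leechLattice) : GolayPt → ℤ) none at this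
  have e1 : (X0 : GolayPt → ℤ) none = 4 := by
    show vec44 none (some 0) (-1) none = 4
    unfold vec44; simp
  have e2 : ((-X0 : leechLattice) : GolayPt → ℤ) none = -4 := by
    show -(vec44 none (some 0) (-1) none) = -4
    unfold vec44; simp
  rw [e1, e2] at this
  norm_num at this

theorem TS0_eq : TS 0 = {X0, -X0} := by
  symm
  apply Set.eq_of_subset_of_ncard_le
  · intro y hy
    rcases hy with rfl | rfl
    · exact X0_mem_TS
    · exact neg_X0_mem_TS
  · rw [ncard_TS, card_TF.1, Set.ncard_pair X0_ne_neg]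
  · apply Set.finite_of_ncard_ne_zero
    rw [ncard_TS, card_TF.1]; norm_num




theorem level1_arith (x1 x2 x3 x4 : ℕ) (h1 : x1 = 0 ∨ x1 = 924) (h2 : x2 = 0 ∨ x2 = 42240)
    (h3 : x3 = 0 ∨ x3 = 4928) (h4 : x4 = 0 ∨ x4 = 45056)
    (hd : 4096 * 244823040 ∣ 196560 * ((2 + x1 + x2 + x3 + x4) * 454164480)) :
    x1 = 924 ∧ x2 = 42240 ∧ x3 = 4928 ∧ x4 = 45056 := by
  rcases h1 with rfl | rfl <;> rcases h2 with rfl | rfl <;> rcases h3 with rfl | rfl <;>
    rcases h4 with rfl | rfl <;>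
    first
      | exact ⟨rfl, rfl, rfl, rfl⟩
      | (exfalso; revert hd; norm_num)

/-- Transitivity of the stabiliser of the standard cross and the first standard vector on each
of the four large classes. -/
theorem TS_trans (t : Fin 5) (ht : t ≠ 0) {x y : leechLattice} (hx : x ∈ TS t) (hy : y ∈ TS t) :
    ∃ g ∈ crossStab ⊓ stabilizer Co0 V44, g • x = y := by
  rw [mem_TS] at hx hy
  have fin : (∃ g ∈ crossStab, g • V44 = V44 ∧ g • x = y) →
      ∃ g ∈ crossStab ⊓ stabilizer Co0 V44, g • x = y := by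
    rintro ⟨g, hg, h1, h2⟩
    exact ⟨g, Subgroup.mem_inf.mpr ⟨hg, mem_stabilizer_iff.mpr h1⟩, h2⟩
  apply fin
  fin_cases t
  · exact absurd rfl ht
  · obtain ⟨a1, a2, a3⟩ := mem_TF1.mp hx
    obtain ⟨b1, b2, b3⟩ := mem_TF1.mp hy
    exact trans_A2 a1 a3 (by omega) b1 b3 (by omega)
  · obtain ⟨a1, a2, a3⟩ := mem_TF2.mp hx
    obtain ⟨b1, b2, b3⟩ := mem_TF2.mp hy
    exact trans_B1 a1 a3 (by omega) b1 b3 (by omega)
  · obtain ⟨a1, a2, a3⟩ := mem_TF3.mp hx
    obtain ⟨b1, b2, b3⟩ := mem_TF3.mp hy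
    exact trans_B2 a1 a3 a2 b1 b3 b2
  · obtain ⟨a1, a2⟩ := mem_TF4.mp hx
    obtain ⟨b1, b2⟩ := mem_TF4.mp hy
    exact trans_C a1 a2 b1 b2

theorem dot_V44_X0 : dotInt (V44 : GolayPt → ℤ) (X0 : GolayPt → ℤ) = 0 := by
  show dotInt v44 (vec44 none (some 0) (-1)) = 0
  rw [dotInt_v44]
  unfold vec44
  simp

/-- A subgroup containing the stabiliser of the standard cross and transitive on the minimal
vectors is the whole group. -/
theorem eq_top_of_orbit {K : Subgroup Co0} (hK : crossStab ≤ K)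
    (h0 : orbit K V44 = {y : leechLattice | sqNorm (y : GolayPt → ℤ) = 32}) : K = ⊤ := by
  have hV : sqNorm (V44 : GolayPt → ℤ) = 32 := v44_norm
  set S := stabilizer Co0 V44 with hS
  set K1 := K ⊓ S with hK1
  set B := orbit K1 X0 with hB
  have hBO : ∀ y ∈ B, sqNorm (y : GolayPt → ℤ) = 32 ∧ dotInt v44 (y : GolayPt → ℤ) = 0 := by
    rintro y ⟨m, rfl⟩
    have hm : m.1 • V44 = V44 := mem_stabilizer_iff.mp (Subgroup.mem_inf.mp m.2).2
    constructor
    · show sqNorm ((m.1 • X0 : leechLattice) : GolayPt → ℤ) = 32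
      rw [smul_norm, X0_norm]
    · show dotInt (V44 : GolayPt → ℤ) ((m.1 • X0 : leechLattice) : GolayPt → ℤ) = 0
      rw [dot_fix hm, dot_V44_X0]
  have hfin : B.Finite := minimal_finite.subset (fun y hy => (hBO y hy).1)
  have hsub : B ⊆ TS 0 ∪ TS 1 ∪ TS 2 ∪ TS 3 ∪ TS 4 := fun y hy =>
    TS_cover (hBO y hy).1 (hBO y hy).2
  have hinvK : ∀ h ∈ K1, ∀ y ∈ B, h • y ∈ B := by
    rintro h hh y ⟨m, rfl⟩
    exact ⟨⟨h * m.1, K1.mul_mem hh m.2⟩, by show (h * m.1) • X0 = h • (m.1 • X0); rw [mul_smul]⟩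
  have hle1 : crossStab ⊓ S ≤ K1 := inf_le_inf_right S hK
  have hinv : ∀ h ∈ crossStab ⊓ S, ∀ y ∈ B, h • y ∈ B := fun h hh => hinvK h (hle1 hh)
  have hsum := ncard_split5 hfin hsub TS_disj01 TS_disj02 TS_disj03 TS_disj04 TS_disj12 TS_disj13
    TS_disj14 TS_disj23 TS_disj24 TS_disj34
  have hXB : X0 ∈ B := mem_orbit_self _
  have hnXB : -X0 ∈ B := by
    obtain ⟨g, hg, g1, g2⟩ := exists_swapX
    rw [← g2]
    exact hinv g (Subgroup.mem_inf.mpr ⟨hg, mem_stabilizer_iff.mpr g1⟩) X0 hXB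
  have h00 : B ∩ TS 0 = TS 0 := by
    apply Set.inter_eq_right.mpr
    rw [TS0_eq]
    intro y hy
    rcases hy with rfl | rfl
    · exact hXB
    · exact hnXB
  have hcls : ∀ t : Fin 5, t ≠ 0 → (B ∩ TS t).ncard = 0 ∨ B ∩ TS t = TS t := fun t ht =>
    inter_empty_or_subset (B := B) (S := TS t) hinv (fun x hx y hy => TS_trans t ht hx hy)
  obtain ⟨n0, n1, n2, n3, n4⟩ := card_TF
  have k1 : (B ∩ TS 1).ncard = 0 ∨ (B ∩ TS 1).ncard = 924 := by
    rcases hcls 1 (by decide) with h | h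
    · left; exact h
    · right; rw [h, ncard_TS, n1]
  have k2 : (B ∩ TS 2).ncard = 0 ∨ (B ∩ TS 2).ncard = 42240 := by
    rcases hcls 2 (by decide) with h | h
    · left; exact h
    · right; rw [h, ncard_TS, n2]
  have k3 : (B ∩ TS 3).ncard = 0 ∨ (B ∩ TS 3).ncard = 4928 := by
    rcases hcls 3 (by decide) with h | h
    · left; exact h
    · right; rw [h, ncard_TS, n3]
  have k4 : (B ∩ TS 4).ncard = 0 ∨ (B ∩ TS 4).ncard = 45056 := by
    rcases hcls 4 (by decide) with h | h
    · left; exact h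
    · right; rw [h, ncard_TS, n4]
  rw [h00, ncard_TS, n0] at hsum
  -- orders
  have c1 := card_subgroup_inf_stab K V44
  rw [h0, ncard_norm32] at c1
  have c2 := card_subgroup_inf_stab K1 X0
  have hstab : K1 ⊓ stabilizer Co0 X0 = S ⊓ stabilizer Co0 X0 := by
    apply le_antisymm
    · exact inf_le_inf_right _ inf_le_right
    · apply le_inf _ inf_le_right
      intro g hg
      rw [Subgroup.mem_inf] at hg
      refine Subgroup.mem_inf.mpr ⟨hK ?_, hg.1⟩
      exact mem_crossStab_of_fix (mem_stabilizer_iff.mp hg.1) (mem_stabilizer_iff.mp hg.2)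
  rw [hstab, card_stab_orth hV X0_norm dot_V44_X0] at c2
  have c3 : Nat.card crossStab ∣ Nat.card K := Subgroup.card_dvd_of_le hK
  rw [card_crossStab, ← c1, ← hK1, ← c2, ← hB, hsum] at c3
  obtain ⟨r1, r2, r3, r4⟩ := level1_arith _ _ _ _ k1 k2 k3 k4 c3
  have full : ∀ t : Fin 5, TS t ⊆ B := by
    intro t
    have key : ∀ t : Fin 5, t ≠ 0 → (B ∩ TS t).ncard ≠ 0 → TS t ⊆ B := by
      intro t ht hn
      rcases hcls t ht with h | h
      · exact absurd h hn
      · rw [← h]; exact Set.inter_subset_left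
    fin_cases t
    · show TS 0 ⊆ B
      rw [← h00]; exact Set.inter_subset_left
    · exact key 1 (by decide) (by rw [r1]; norm_num)
    · exact key 2 (by decide) (by rw [r2]; norm_num)
    · exact key 3 (by decide) (by rw [r3]; norm_num)
    · exact key 4 (by decide) (by rw [r4]; norm_num)
  -- the final argument
  rw [eq_top_iff]
  intro g _
  have hg1 : g • V44 ∈ orbit K V44 := by
    rw [h0]
    show sqNorm ((g • V44 : leechLattice) : GolayPt → ℤ) = 32
    rw [smul_norm, hV]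
  obtain ⟨k1', hk1'⟩ := hg1
  have hk1 : k1'.1 • V44 = g • V44 := hk1'
  set g1 := k1'.1⁻¹ * g with hg1def
  have hg1V : g1 • V44 = V44 := by
    rw [hg1def, mul_smul, ← hk1, inv_smul_smul]
  have hg1X : g1 • X0 ∈ B := by
    have hn : sqNorm ((g1 • X0 : leechLattice) : GolayPt → ℤ) = 32 := by
      rw [smul_norm, X0_norm]
    have hd : dotInt v44 ((g1 • X0 : leechLattice) : GolayPt → ℤ) = 0 := by
      show dotInt (V44 : GolayPt → ℤ) ((g1 • X0 : leechLattice) : GolayPt → ℤ) = 0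
      rw [dot_fix hg1V, dot_V44_X0]
    rcases TS_cover hn hd with (((h | h) | h) | h) | h
    · exact full 0 h
    · exact full 1 h
    · exact full 2 h
    · exact full 3 h
    · exact full 4 h
  obtain ⟨k2', hk2'⟩ := hg1X
  have hk2 : k2'.1 • X0 = g1 • X0 := hk2'
  have hk2V : k2'.1 • V44 = V44 := mem_stabilizer_iff.mp (Subgroup.mem_inf.mp k2'.2).2
  set g2 := k2'.1⁻¹ * g1 with hg2def
  have hg2V : g2 • V44 = V44 := by
    rw [hg2def, mul_smul, hg1V, inv_smul_eq_iff, hk2V]
  have hg2X : g2 • X0 = X0 := by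
    rw [hg2def, mul_smul, ← hk2, inv_smul_smul]
  have hg2K : g2 ∈ K := hK (mem_crossStab_of_fix hg2V hg2X)
  have hk2K : k2'.1 ∈ K := (Subgroup.mem_inf.mp k2'.2).1
  have : g = k1'.1 * (k2'.1 * g2) := by
    rw [hg2def, hg1def]; group
  rw [this]
  exact K.mul_mem k1'.2 (K.mul_mem hk2K hg2K)

/-- The stabiliser of the standard cross is a maximal subgroup. -/
theorem crossStab_isCoatom : IsCoatom crossStab := by
  constructor
  · intro h
    have := index_crossStab
    rw [h, Subgroup.index_top] at this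
    norm_num at this
  · intro K hK
    apply eq_top_of_orbit hK.le
    exact orbit_level0 hK.le (fun h => absurd (le_antisymm h hK.le) (ne_of_gt hK))


end Cfsg.Agent.Helper27
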