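import Mathlib
import Cfsg.Agent.Lib.Helper11.DicksonIdx

/-!
# S0679 piece PSLCARD (helper27): `|PSL(2, ZMod 11)| = 660`
-/

set_option autoImplicit false

namespace Cfsg.Agent.Helper27.D11

/-- PIECE PSLCARD. -/
theorem card_psl11 : Nat.card (Matrix.ProjectiveSpecialLinearGroup (Fin 2) (ZMod 11)) = 660 := by
  have hp : Fact (Nat.Prime 11) := ⟨by norm_num⟩
  have h := Cfsg.Agent.Helper11.Dickson.card_PSL2_mul (F := ZMod 11)
  rw [ZMod.card] at h
  have h2 : Nat.gcd 2 (11 - 1) = 2 := by decide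
  rw [h2] at h
  omega

end Cfsg.Agent.Helper27.D11
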