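import Mathlib
import Cfsg.Agent.Lib.Helper27.PSLpGen

set_option autoImplicit false

/-! The finite check for `p = 11` and the resulting recognition of `PSL₂(11)` by its order `660`. -/

namespace Cfsg.Agent.Helper27.PSLp

set_option maxRecDepth 100000 in
theorem stmt11 : Stmt 11 [0, 0, 1, 8, 2, 4, 9, 7, 3, 6, 5] := by decide +kernel

theorem dl11 : DL 11 2 [0, 0, 1, 8, 2, 4, 9, 7, 3, 6, 5] := by decide +kernel

theorem syl11 : SylArith 11 5 := by decide +kernel

theorem psl11 {G : Type*} [Group G] [Finite G] [IsSimpleGroup G] (hG : Nat.card G = 660)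
    {F : Type*} [Field F] [Fintype F] (hF : Fintype.card F = 11) :
    Nonempty (G ≃* Matrix.ProjectiveSpecialLinearGroup (Fin 2) F) := by
  haveI : Fact (Nat.Prime 11) := ⟨by norm_num⟩
  exact transfer (main_generic (p := 11) (m := 5) (by norm_num) dl11 stmt11 syl11
    (by rw [hG])) hF

end Cfsg.Agent.Helper27.PSLp
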