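import Mathlib
import Cfsg.Prelude.Def_Characters
import Cfsg.Prelude.Def_Blocks
import Cfsg.Agent.Lib.Helper5.D11ECASES
import Cfsg.Agent.Lib.Helper5.D11SYL2
import Cfsg.Agent.Lib.Helper24.D11EVEN
import Cfsg.Agent.Lib.Helper3.D11SIEVE
import Cfsg.Agent.Lib.Helper19.D11C25
import Cfsg.Agent.Lib.Helper25.D11J5
import Cfsg.Agent.Lib.Helper25.D11C7J7
import Cfsg.Agent.Lib.Helper25.D11ODDINV
import Cfsg.Agent.Lib.Helper22.D11DT
import Cfsg.Agent.Lib.Helper22.D11EVENPART
import Cfsg.Agent.Lib.Helper17.D11M11CASE
import Cfsg.Agent.Lib.Helper17.D11NO15840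
import Cfsg.Agent.Lib.Helper27.D11PSLCARD
import Cfsg.Agent.S0675
import Cfsg.Agent.S0676
import Cfsg.Agent.S1013

/-!
# S0679 (helper27): assembly.  Paper proof: `plans/S0679_proof.md`.
-/

set_option autoImplicit false
set_option linter.style.haveILetI false
set_option linter.unusedSectionVars false
set_option linter.unusedVariables false

namespace Cfsg.Agent.Helper27.D11

open Cfsg Equiv MulAction

universe u

variable {α : Type u} [Fintype α] [DecidableEq α]

theorem Asm.card_alt (hα : Fintype.card α = 11) : Nat.card (alternatingGroup α) = 19958400 := by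
  haveI : Nontrivial α := by
    rw [← Fintype.one_lt_card_iff_nontrivial, hα]; norm_num
  rw [nat_card_alternatingGroup, Nat.card_eq_fintype_card, hα]
  decide

/-- the case `|N_G(P)| = 55` -/
theorem Asm.main5 (hα : Fintype.card α = 11) (H : Subgroup (Perm α)) [IsPretransitive H α]
    (hH : ¬ Group.IsSolvable H) (hA' : ¬ alternatingGroup α ≤ H)
    (P : Sylow 11 H) (hP : Nat.card (P : Subgroup H) = 11) (hn : 1 < Nat.card (Sylow 11 H))
    (hN : Nat.card (Subgroup.normalizer ((P : Subgroup H) : Set H)) = 55) :
    (Nat.card H = 7920 ∧ IsSimpleGroup H ∧ IsMultiplyPretransitive H α 2 ∧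
        IsMultiplyPretransitive H α 4 ∧ ∀ x : Fin 4 ↪ α, stabilizer H x = ⊥) ∨
      Nonempty (H ≃* Matrix.ProjectiveSpecialLinearGroup (Fin 2) (ZMod 11)) := by
  haveI : Fact (Nat.Prime 11) := ⟨by norm_num⟩
  -- simplicity
  have hidx : ((P : Subgroup H).subgroupOf
      (Subgroup.normalizer ((P : Subgroup H) : Set H))).index = 5 := by
    have h1 := Subgroup.index_mul_card ((P : Subgroup H).subgroupOf
      (Subgroup.normalizer ((P : Subgroup H) : Set H)))
    have h2 : Nat.card ((P : Subgroup H).subgroupOf
        (Subgroup.normalizer ((P : Subgroup H) : Set H))) = 11 :=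
      (Nat.card_congr (Subgroup.subgroupOfEquivOfLe Subgroup.le_normalizer).toEquiv).trans hP
    rw [h2, hN] at h1
    omega
  have hs : IsSimpleGroup H := Cfsg.Agent.S1013.result hα H P hn (by rw [hidx]; norm_num)
  have hA := le_alternating H hs hH
  have h2 : IsMultiplyPretransitive H α 2 := by
    rcases Cfsg.Agent.S0675.result (by rw [hα]; norm_num) H with h | h
    · exact absurd h hH
    · exact h
  rcases sieve hα H hs hH hA P hP hn hN with h | h
  · exact Or.inr h
  · left
    have kill25 : 25 ∣ Nat.card H → False := fun h25 => by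
      obtain ⟨g, hg, hc⟩ := exists_five_cycle hα H h25
      exact hA' (alt_le_of_five_cycle hα H hg hc)
    have kill64 : 64 ∣ Nat.card H → False := fun h64 => by
      obtain ⟨g, hg, hc⟩ := exists_double_transposition hα H hA h64
      exact hA' (alt_le_of_double_transposition hα H h2 hg hc)
    have kill7 : 7 ∣ Nat.card H → ¬ 55440 ∣ Nat.card H → False := fun h7 h =>
      h (dvd_of_seven hα H h7)
    simp only [Finset.mem_insert, Finset.mem_singleton] at h
    rcases h with h | h | h | h | h | h | h | h | h | h | h | h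
    · exact ⟨h, hs, h2, sharply_four hα H hs h h2 hA hA'⟩
    · exact (kill25 (by rw [h]; norm_num)).elim
    · exact (kill25 (by rw [h]; norm_num)).elim
    · exact (kill25 (by rw [h]; norm_num)).elim
    · exact (kill7 (by rw [h]; norm_num) (by rw [h]; norm_num)).elim
    · exact (kill7 (by rw [h]; norm_num) (by rw [h]; norm_num)).elim
    · exact (kill64 (by rw [h]; norm_num)).elim
    · exact (kill25 (by rw [h]; norm_num)).elim
    · exact (kill25 (by rw [h]; norm_num)).elim
    · exact (kill64 (by rw [h]; norm_num)).elim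
    · exact (kill25 (by rw [h]; norm_num)).elim
    · -- `H` is the alternating group
      exfalso
      apply hA'
      have hcard : Nat.card (alternatingGroup α) = Nat.card H := by rw [h, Asm.card_alt hα]
      have : H = alternatingGroup α := by
        apply Subgroup.eq_of_le_of_card_ge hA
        rw [hcard]
      rw [this]

/-- S0679 -/
theorem main (hα : Fintype.card α = 11) (G : Subgroup (Perm α)) [IsPretransitive G α]
    (hG : ¬ Group.IsSolvable G) (hA : ¬ alternatingGroup α ≤ G) :
    (IsMultiplyPretransitive G α 4 ∧ ∀ x : Fin 4 ↪ α, stabilizer G x = ⊥) ∨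
      Nonempty (G ≃* Matrix.ProjectiveSpecialLinearGroup (Fin 2) (ZMod 11)) := by
  haveI : Fact (Nat.Prime 11) := ⟨by norm_num⟩
  obtain ⟨P⟩ : Nonempty (Sylow 11 G) := inferInstance
  obtain ⟨hP, hn, h55 | h110⟩ := normalizer_cases hα G hG P
  · rcases Asm.main5 hα G hG hA P hP hn h55 with ⟨-, -, -, h4, hst⟩ | h
    · exact Or.inl ⟨h4, hst⟩
    · exact Or.inr h
  · exfalso
    have hodd := not_le_alternating_of_card_normalizer hα G P h110
    obtain ⟨htr, hsolv, hcard⟩ := even_part hα G hG hodd
    haveI := htr
    have hA'H : ¬ alternatingGroup α ≤ G ⊓ alternatingGroup α := fun h => hA (h.trans inf_le_left)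
    obtain ⟨P'⟩ : Nonempty (Sylow 11 ↥(G ⊓ alternatingGroup α)) := inferInstance
    obtain ⟨hP', hn', h55' | h110'⟩ := normalizer_cases hα (G ⊓ alternatingGroup α) hsolv P'
    · rcases Asm.main5 hα (G ⊓ alternatingGroup α) hsolv hA'H P' hP' hn' h55' with
        ⟨hc, -, -, h4, hst⟩ | ⟨⟨e⟩⟩
      · exact no_double_of_sharp hα G (by rw [hcard, hc]) hc h4 hst hA
      · -- order 1320, but triply transitive
        have hc : Nat.card ↥(G ⊓ alternatingGroup α) = 660 := by
          rw [Nat.card_congr e.toEquiv, card_psl11]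
        have hG1320 : Nat.card G = 1320 := by rw [hcard, hc]
        have h3 : IsMultiplyPretransitive G α 3 :=
          Cfsg.Agent.S0676.result hα G hG P (by rw [h110]; decide)
        obtain ⟨s, hs3⟩ : ∃ s : Set α, s.ncard = 3 := by
          have : 3 ≤ (Set.univ : Set α).ncard := by
            rw [Set.ncard_univ, Nat.card_eq_fintype_card, hα]; norm_num
          obtain ⟨s, -, hs⟩ := Set.exists_subset_card_eq this
          exact ⟨s, hs⟩
        have hidx := h3.index_of_fixingSubgroup_mul hs3
        rw [Nat.card_eq_fintype_card (α := α), hα] at hidx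
        have h990 : (fixingSubgroup G s).index = 990 := by
          have e1 : (11 - 3 : ℕ).factorial = 40320 := by decide
          have e2 : (11 : ℕ).factorial = 39916800 := by decide
          rw [e1, e2] at hidx
          omega
        have hdvd := Subgroup.index_dvd_card (fixingSubgroup G s)
        rw [h990, hG1320] at hdvd
        omega
    · exact not_le_alternating_of_card_normalizer hα (G ⊓ alternatingGroup α) P' h110' inf_le_right

end Cfsg.Agent.Helper27.D11
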