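import Mathlib
import Cfsg.Agent.S0215
import Cfsg.Agent.Lib.Helper9.CyclicTransfer
import Cfsg.Agent.Lib.Helper21.PGroupFrattini
import Cfsg.Agent.Lib.Helper3.Dihedral
import Cfsg.Agent.Lib.Helper10.OmegaLemma

set_option autoImplicit false

/-! A simple group in which the centraliser of an involution `z` is a Sylow 2-subgroup `R` with
Frattini subgroup generated by `z` has `R` dihedral of order 8. Uses the Z*-theorem and the
Thompson transfer lemma in its sharper form. -/

namespace Cfsg.Agent.Helper27.D8Syl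

section

variable {L : Type*} [Group L]

theorem mem_zpowers_two {z : L} (hz : orderOf z = 2) {x : L} :
    x ∈ Subgroup.zpowers z ↔ x = 1 ∨ x = z := by
  constructor
  · rintro ⟨k, rfl⟩
    have h2 : z ^ (2 : ℤ) = 1 := by
      have := pow_orderOf_eq_one z
      rw [hz] at this
      exact_mod_cast this
    rcases Int.emod_two_eq_zero_or_one k with h | h
    · left
      have : k = 2 * (k / 2) := by omega
      show z ^ k = 1
      rw [this, zpow_mul, h2, one_zpow]
    · right
      have : k = 2 * (k / 2) + 1 := by omega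
      show z ^ k = z
      rw [this, zpow_add, zpow_mul, h2, one_zpow, one_mul, zpow_one]
  · rintro (rfl | rfl)
    · exact Subgroup.one_mem _
    · exact Subgroup.mem_zpowers _

theorem z_ne_one {z : L} (hz : orderOf z = 2) : z ≠ 1 := by
  intro h
  rw [h, orderOf_one] at hz
  omega

theorem z_mul_self {z : L} (hz : orderOf z = 2) : z * z = 1 := by
  have := pow_orderOf_eq_one z
  rwa [hz, pow_two] at this

variable [Finite L]

/-- squares of elements of `P` lie in `{1, z}`. -/
theorem sq_cases (P : Subgroup L) (hP : IsPGroup 2 P) {z : L} (hz : orderOf z = 2)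
    (hΦ : (frattini ↥P).map P.subtype = Subgroup.zpowers z) {x : L} (hx : x ∈ P) :
    x * x = 1 ∨ x * x = z := by
  have : Fact (Nat.Prime 2) := ⟨Nat.prime_two⟩
  have h1 := Cfsg.Agent.Helper21.pow_mem_frattini_of_isPGroup hP (⟨x, hx⟩ : P)
  have h2 : x * x ∈ (frattini ↥P).map P.subtype := by
    refine ⟨_, h1, ?_⟩
    simp [pow_two]
  rw [hΦ] at h2
  exact (mem_zpowers_two hz).mp h2

/-- commutators of elements of `P` lie in `{1, z}`. -/
theorem comm_cases (P : Subgroup L) (hP : IsPGroup 2 P) {z : L} (hz : orderOf z = 2)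
    (hΦ : (frattini ↥P).map P.subtype = Subgroup.zpowers z) {x y : L} (hx : x ∈ P) (hy : y ∈ P) :
    x * y * x⁻¹ * y⁻¹ = 1 ∨ x * y * x⁻¹ * y⁻¹ = z := by
  have : Fact (Nat.Prime 2) := ⟨Nat.prime_two⟩
  have h1 := Cfsg.Agent.Helper21.commutator_mem_frattini_of_isPGroup hP (⟨x, hx⟩ : P) ⟨y, hy⟩
  have h2 : x * y * x⁻¹ * y⁻¹ ∈ (frattini ↥P).map P.subtype := by
    refine ⟨_, h1, ?_⟩
    simp
  rw [hΦ] at h2
  exact (mem_zpowers_two hz).mp h2

/-- an element outside the Frattini subgroup avoids a maximal subgroup. -/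
theorem exists_max_not_mem (P : Subgroup L) (hP : IsPGroup 2 P) {z : L}
    (hΦ : (frattini ↥P).map P.subtype = Subgroup.zpowers z) {u : L} (hu : u ∈ P)
    (hu' : u ∉ Subgroup.zpowers z) :
    ∃ A : Subgroup L, A ≤ P ∧ (A.subgroupOf P).Normal ∧ A.relIndex P = 2 ∧ u ∉ A := by
  have : Fact (Nat.Prime 2) := ⟨Nat.prime_two⟩
  have h1 : (⟨u, hu⟩ : P) ∉ frattini ↥P := by
    intro h
    apply hu'
    rw [← hΦ]
    exact ⟨_, h, rfl⟩
  rw [frattini, Order.radical, Subgroup.mem_iInf] at h1
  push Not at h1
  obtain ⟨M, hM⟩ := h1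
  rw [Subgroup.mem_iInf] at hM
  push Not at hM
  obtain ⟨hMc, hMu⟩ := hM
  have hMc' : IsCoatom (M : Subgroup P) := hMc
  have hn := Cfsg.Agent.Helper21.coatom_normal_of_isPGroup hP M hMc'
  have hi := Cfsg.Agent.Helper21.coatom_index_of_isPGroup hP M hMc'
  have hsub : (M.map P.subtype).subgroupOf P = M := by
    ext x
    rw [Subgroup.mem_subgroupOf]
    constructor
    · rintro ⟨y, hy, hxy⟩
      have : y = x := Subtype.ext hxy
      rwa [← this]
    · intro hx
      exact ⟨x, hx, rfl⟩
  refine ⟨M.map P.subtype, Subgroup.map_subtype_le _, ?_, ?_, ?_⟩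
  · rw [hsub]; exact hn
  · rw [Subgroup.relIndex, hsub]; exact hi
  · rintro ⟨y, hy, hyu⟩
    apply hMu
    have : y = ⟨u, hu⟩ := Subtype.ext hyu
    rwa [← this]

end

section

variable {L : Type*} [Group L]

/-- the normalizer of `R` is `R`. -/
theorem normalizer_le (R : Sylow 2 L) {z : L} (hz : orderOf z = 2)
    (hR : (R : Subgroup L) = Subgroup.centralizer ({z} : Set L))
    (hΦ : (frattini ↥(R : Subgroup L)).map (R : Subgroup L).subtype = Subgroup.zpowers z) :
    Subgroup.normalizer ((R : Subgroup L) : Set L) ≤ (R : Subgroup L) := by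
  intro n hn
  have h1 := Cfsg.Agent.Helper10.conj_mem_map_frattini (R : Subgroup L) hn
    (x := z) (by rw [hΦ]; exact Subgroup.mem_zpowers z)
  rw [hΦ, mem_zpowers_two hz] at h1
  rw [hR, Subgroup.mem_centralizer_iff]
  intro y hy
  rw [Set.mem_singleton_iff] at hy
  subst hy
  rcases h1 with h1 | h1
  · exfalso
    apply z_ne_one hz
    have : n * y * n⁻¹ = n * 1 * n⁻¹ := by rw [h1]; group
    exact mul_left_cancel (mul_right_cancel this)
  · calc y * n = (n * y * n⁻¹) * n := by rw [h1]
      _ = n * y := by group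

/-- Burnside: central elements of `R` that are conjugate are equal. -/
theorem eq_of_conj_center [Finite L] (R : Sylow 2 L) {z : L} (hz : orderOf z = 2)
    (hR : (R : Subgroup L) = Subgroup.centralizer ({z} : Set L))
    (hΦ : (frattini ↥(R : Subgroup L)).map (R : Subgroup L).subtype = Subgroup.zpowers z)
    {x : L} (hx : x ∈ Subgroup.centralizer ((R : Subgroup L) : Set L)) (g : L)
    (hy : g * x * g⁻¹ ∈ Subgroup.centralizer ((R : Subgroup L) : Set L)) :
    g * x * g⁻¹ = x := by
  have : Fact (Nat.Prime 2) := ⟨Nat.prime_two⟩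
  obtain ⟨n, hn, hn'⟩ := Sylow.conj_eq_normalizer_conj_of_mem_centralizer R x g⁻¹ hx
    (by rwa [inv_inv])
  rw [inv_inv] at hn'
  rw [hn']
  have hnR : n ∈ (R : Subgroup L) := normalizer_le R hz hR hΦ hn
  rw [Subgroup.mem_centralizer_iff] at hx
  have := hx n hnR
  calc n⁻¹ * x * n = n⁻¹ * (x * n) := by group
    _ = n⁻¹ * (n * x) := by rw [this]
    _ = x := by group

theorem z_mem_center (R : Sylow 2 L) {z : L}
    (hR : (R : Subgroup L) = Subgroup.centralizer ({z} : Set L)) :
    z ∈ Subgroup.centralizer ((R : Subgroup L) : Set L) := by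
  rw [Subgroup.mem_centralizer_iff]
  intro y hy
  rw [SetLike.mem_coe, hR, Subgroup.mem_centralizer_iff] at hy
  exact (hy z rfl).symm

theorem z_mem (R : Sylow 2 L) {z : L}
    (hR : (R : Subgroup L) = Subgroup.centralizer ({z} : Set L)) : z ∈ (R : Subgroup L) := by
  rw [hR, Subgroup.mem_centralizer_iff]
  intro y hy
  rw [Set.mem_singleton_iff] at hy
  rw [hy]

end

section

open scoped commutatorElement

variable {L : Type*} [Group L] [Finite L]

omit [Finite L] in
theorem commutator_eq_top [IsSimpleGroup L] (hL : ¬ IsMulCommutative L) : commutator L = ⊤ := by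
  rcases (inferInstance : (commutator L).Normal).eq_bot_or_eq_top with h | h
  · exfalso
    apply hL
    constructor
    constructor
    intro a b
    have : ⁅a, b⁆ ∈ commutator L := Subgroup.commutator_mem_commutator (Subgroup.mem_top a) (Subgroup.mem_top b)
    rw [h, Subgroup.mem_bot, commutatorElement_eq_one_iff_mul_comm] at this
    exact this
  · exact h

/-- a subgroup of `C` that is a `2`-group of odd index and sits in a Sylow `R` which has a conjugate inside `C`
contains all of ... : if `R ⊓ C` has odd index in `C` and some conjugate of `R` lies in `C` then `R ≤ C`. -/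
theorem le_of_odd_relIndex (R : Sylow 2 L) (C : Subgroup L) (g : L)
    (hg : ∀ x ∈ (R : Subgroup L), g * x * g⁻¹ ∈ C)
    (hodd : ¬ 2 ∣ ((R : Subgroup L) ⊓ C).relIndex C) : (R : Subgroup L) ≤ C := by
  have : Fact (Nat.Prime 2) := ⟨Nat.prime_two⟩
  -- |R| divides |C|
  have h1 : Nat.card (R : Subgroup L) ∣ Nat.card C := by
    let f : (R : Subgroup L) →* C :=
      { toFun := fun x => ⟨g * x * g⁻¹, hg x x.2⟩
        map_one' := by ext; simp
        map_mul' := fun a b => by ext; simp }
    have hf : Function.Injective f := by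
      intro a b hab
      have : g * (a : L) * g⁻¹ = g * b * g⁻¹ := congrArg Subtype.val hab
      exact Subtype.ext (mul_left_cancel (mul_right_cancel this))
    exact Subgroup.card_dvd_of_injective f hf
  have h2 : Nat.card (((R : Subgroup L) ⊓ C : Subgroup L)) * ((R : Subgroup L) ⊓ C).relIndex C = Nat.card C := by
    have := Subgroup.card_mul_index (((R : Subgroup L) ⊓ C).subgroupOf C)
    rw [Subgroup.relIndex]
    rw [← this]
    congr 1
    exact (Nat.card_congr (Subgroup.subgroupOfEquivOfLe inf_le_right).toEquiv).symm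
  obtain ⟨n, hn⟩ := R.2.exists_card_eq
  have h3 : Nat.card (R : Subgroup L) ∣ Nat.card (((R : Subgroup L) ⊓ C : Subgroup L)) := by
    rw [← h2] at h1
    rw [hn] at h1 ⊢
    apply Nat.Coprime.dvd_of_dvd_mul_right _ h1
    apply Nat.Coprime.pow_left
    rw [Nat.coprime_comm]
    exact (Nat.Prime.coprime_iff_not_dvd Nat.prime_two).mpr hodd |>.symm
  have h4 : ((R : Subgroup L) ⊓ C : Subgroup L) = (R : Subgroup L) :=
    Subgroup.eq_of_le_of_card_ge inf_le_left (Nat.le_of_dvd Nat.card_pos h3)
  rw [← h4]
  exact inf_le_right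

end

section

variable {L : Type*} [Group L] [Finite L]

/-- `z` is the only involution in the centre of `R`. -/
theorem center_invol [IsSimpleGroup L] (hL : ¬ IsMulCommutative L) (R : Sylow 2 L) {z : L}
    (hz : orderOf z = 2)
    (hR : (R : Subgroup L) = Subgroup.centralizer ({z} : Set L))
    (hΦ : (frattini ↥(R : Subgroup L)).map (R : Subgroup L).subtype = Subgroup.zpowers z)
    {u : L} (hu : orderOf u = 2) (huR : u ∈ (R : Subgroup L))
    (huZ : u ∈ Subgroup.centralizer ((R : Subgroup L) : Set L)) : u = z := by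
  by_contra hne
  have hu' : u ∉ Subgroup.zpowers z := by
    rw [mem_zpowers_two hz]
    rintro (h | h)
    · exact z_ne_one hu h
    · exact hne h
  obtain ⟨A, hAR, hAn, hAi, huA⟩ := exists_max_not_mem (R : Subgroup L) R.2 hΦ huR hu'
  have hcyc : IsCyclic (↥(R : Subgroup L) ⧸ A.subgroupOf (R : Subgroup L)) := by
    have hc2 : Nat.card (↥(R : Subgroup L) ⧸ A.subgroupOf (R : Subgroup L)) = 2 := hAi
    have : Fact (Nat.Prime 2) := ⟨Nat.prime_two⟩
    exact isCyclic_of_prime_card hc2
  obtain ⟨g, hgA, hodd, -⟩ := Cfsg.Agent.Helper9.exists_extremal_conj R A hAR hAn hcyc u hu huR huA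
    (commutator_eq_top hL)
  have hle : (R : Subgroup L) ≤ Subgroup.centralizer {g * u * g⁻¹} := by
    apply le_of_odd_relIndex R _ g _ hodd
    intro x hx
    rw [Subgroup.mem_centralizer_iff]
    intro y hy
    rw [Set.mem_singleton_iff] at hy
    subst hy
    rw [Subgroup.mem_centralizer_iff] at huZ
    have := huZ x hx
    calc g * u * g⁻¹ * (g * x * g⁻¹) = g * (u * x) * g⁻¹ := by group
      _ = g * (x * u) * g⁻¹ := by rw [this]
      _ = g * x * g⁻¹ * (g * u * g⁻¹) := by group
  have hcen : g * u * g⁻¹ ∈ Subgroup.centralizer ((R : Subgroup L) : Set L) := by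
    rw [Subgroup.mem_centralizer_iff]
    intro y hy
    have := hle hy
    rw [Subgroup.mem_centralizer_iff] at this
    exact (this _ rfl).symm
  have := eq_of_conj_center R hz hR hΦ huZ g hcen
  rw [this] at hgA
  exact huA hgA

/-- `z` has another conjugate in `R`. -/
theorem exists_conj [IsSimpleGroup L] (hL : ¬ IsMulCommutative L) (R : Sylow 2 L) {z : L}
    (hz : orderOf z = 2)
    (hR : (R : Subgroup L) = Subgroup.centralizer ({z} : Set L)) :
    ∃ g : L, g * z * g⁻¹ ∈ (R : Subgroup L) ∧ g * z * g⁻¹ ≠ z := by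
  by_contra hcon
  push Not at hcon
  obtain ⟨N, hN, hodd, hNz⟩ := Cfsg.Agent.S0215.result R z hz (z_mem R hR) hcon
  rcases hN.eq_bot_or_eq_top with h | h
  · -- z central
    apply hL
    have hzc : z ∈ Subgroup.center L := by
      rw [Subgroup.mem_center_iff]
      intro g
      have := hNz g
      rw [h, Subgroup.mem_bot] at this
      calc g * z = (z * g * z⁻¹ * g⁻¹)⁻¹ * (z * g) := by group
        _ = z * g := by rw [this]; group
    have hct : Subgroup.center L = ⊤ := by
      rcases (inferInstance : (Subgroup.center L).Normal).eq_bot_or_eq_top with h' | h'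
      · exfalso
        rw [h', Subgroup.mem_bot] at hzc
        exact z_ne_one hz hzc
      · exact h'
    constructor
    constructor
    intro a b
    have : a ∈ Subgroup.center L := by rw [hct]; exact Subgroup.mem_top a
    rw [Subgroup.mem_center_iff] at this
    exact (this b).symm
  · rw [h, Subgroup.card_top] at hodd
    have h2 : 2 ∣ Nat.card L := by rw [← hz]; exact orderOf_dvd_natCard z
    rw [← Nat.not_even_iff_odd] at hodd
    exact hodd (even_iff_two_dvd.mpr h2)

end

section

variable {L : Type*} [Group L]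

omit [Group L] in
theorem ncard8 (a b c d e f g h : L) : ({a, b, c, d, e, f, g, h} : Set L).ncard ≤ 8 := by
  refine (Set.ncard_insert_le _ _).trans (Nat.succ_le_succ ?_)
  refine (Set.ncard_insert_le _ _).trans (Nat.succ_le_succ ?_)
  refine (Set.ncard_insert_le _ _).trans (Nat.succ_le_succ ?_)
  refine (Set.ncard_insert_le _ _).trans (Nat.succ_le_succ ?_)
  refine (Set.ncard_insert_le _ _).trans (Nat.succ_le_succ ?_)
  refine (Set.ncard_insert_le _ _).trans (Nat.succ_le_succ ?_)
  refine (Set.ncard_insert_le _ _).trans (Nat.succ_le_succ ?_)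
  rw [Set.ncard_singleton]

variable [Finite L]

/-- the elements of `R` are listed. -/
theorem elements [IsSimpleGroup L] (hL : ¬ IsMulCommutative L) (R : Sylow 2 L) {z : L}
    (hz : orderOf z = 2)
    (hR : (R : Subgroup L) = Subgroup.centralizer ({z} : Set L))
    (hΦ : (frattini ↥(R : Subgroup L)).map (R : Subgroup L).subtype = Subgroup.zpowers z) :
    ∃ s t : L, s ∈ (R : Subgroup L) ∧ t ∈ (R : Subgroup L) ∧ s * s = 1 ∧ s ≠ z ∧
      t * s * t⁻¹ * s⁻¹ = z ∧ (t * t = 1 ∨ t * t = z) ∧
      ∀ x ∈ (R : Subgroup L), x ∈ ({1, z, s, s * z, t, t * z, t * s, t * s * z} : Set L) := by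
  obtain ⟨g, hsR, hsz⟩ := exists_conj hL R hz hR
  set s := g * z * g⁻¹ with hs
  have hzz := z_mul_self hz
  have hz1 := z_ne_one hz
  have hss : s * s = 1 := by
    rw [hs]
    calc g * z * g⁻¹ * (g * z * g⁻¹) = g * (z * z) * g⁻¹ := by group
      _ = 1 := by rw [hzz]; group
  have hs1 : s ≠ 1 := by
    intro h
    apply hz1
    have : g * z * g⁻¹ = g * 1 * g⁻¹ := by rw [← hs, h]; group
    exact mul_left_cancel (mul_right_cancel this)
  have hsinv : s⁻¹ = s := inv_eq_of_mul_eq_one_left hss
  have hzinv : z⁻¹ = z := inv_eq_of_mul_eq_one_left hzz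
  -- z commutes with elements of R
  have hzc : ∀ x ∈ (R : Subgroup L), x * z = z * x := by
    intro x hx
    rw [hR, Subgroup.mem_centralizer_iff] at hx
    exact (hx z rfl).symm
  -- squares in R ⊓ C(s)
  have hsq : ∀ x ∈ (R : Subgroup L), x * s = s * x → x * x = 1 := by
    intro x hx hxs
    have hx' : g⁻¹ * x * g ∈ (R : Subgroup L) := by
      rw [hR, Subgroup.mem_centralizer_iff]
      intro y hy
      rw [Set.mem_singleton_iff] at hy
      subst hy
      have : x * (g * y * g⁻¹) = (g * y * g⁻¹) * x := hxs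
      calc y * (g⁻¹ * x * g) = g⁻¹ * ((g * y * g⁻¹) * x) * g := by group
        _ = g⁻¹ * (x * (g * y * g⁻¹)) * g := by rw [this]
        _ = g⁻¹ * x * g * y := by group
    rcases sq_cases (R : Subgroup L) R.2 hz hΦ hx with h1 | h1
    · exact h1
    · exfalso
      rcases sq_cases (R : Subgroup L) R.2 hz hΦ hx' with h2 | h2
      · apply hz1
        have : g⁻¹ * (x * x) * g = 1 := by rw [← h2]; group
        rw [h1] at this
        have h3 : g⁻¹ * z * g = g⁻¹ * 1 * g := by rw [this]; group
        exact mul_left_cancel (mul_right_cancel h3)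
      · apply hsz
        have : g⁻¹ * (x * x) * g = z := by rw [← h2]; group
        rw [h1] at this
        rw [hs]
        calc g * z * g⁻¹ = g * (g⁻¹ * z * g) * g⁻¹ := by rw [this]
          _ = z := by group
  -- s is not central
  have hsnc : ∃ t ∈ (R : Subgroup L), t * s ≠ s * t := by
    by_contra hcon
    push Not at hcon
    have hscen : s ∈ Subgroup.centralizer ((R : Subgroup L) : Set L) := by
      rw [Subgroup.mem_centralizer_iff]
      intro y hy
      exact hcon y hy
    exact hsz (eq_of_conj_center R hz hR hΦ (z_mem_center R hR) g hscen)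
  obtain ⟨t, htR, hts⟩ := hsnc
  have htcomm : t * s * t⁻¹ * s⁻¹ = z := by
    rcases comm_cases (R : Subgroup L) R.2 hz hΦ htR hsR with h | h
    · exfalso
      apply hts
      calc t * s = (t * s * t⁻¹ * s⁻¹) * (s * t) := by group
        _ = s * t := by rw [h, one_mul]
    · exact h
  have htt := sq_cases (R : Subgroup L) R.2 hz hΦ htR
  -- elements of D commuting with t
  have hDt : ∀ x ∈ (R : Subgroup L), x * s = s * x → x * t = t * x → x = 1 ∨ x = z := by
    intro x hx hxs hxt
    by_cases hx1 : x = 1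
    · left; exact hx1
    right
    have hxx := hsq x hx hxs
    have hxo : orderOf x = 2 := orderOf_eq_prime (by rw [pow_two]; exact hxx) hx1
    apply center_invol hL R hz hR hΦ hxo hx
    rw [Subgroup.mem_centralizer_iff]
    intro y hy
    -- y ∈ D or t⁻¹ y ∈ D
    have hcomm_of : ∀ w ∈ (R : Subgroup L), w * s = s * w → w * x = x * w := by
      intro w hw hws
      have hww := hsq w hw hws
      have hwx := hsq (w * x) (mul_mem hw hx) (by
        calc w * x * s = w * (x * s) := by group
          _ = w * (s * x) := by rw [hxs]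
          _ = (w * s) * x := by group
          _ = s * w * x := by rw [hws]
          _ = s * (w * x) := by group)
      have hxinv : x⁻¹ = x := inv_eq_of_mul_eq_one_left hxx
      have hwinv : w⁻¹ = w := inv_eq_of_mul_eq_one_left hww
      calc w * x = (w * x)⁻¹ := eq_inv_of_mul_eq_one_left hwx
        _ = x⁻¹ * w⁻¹ := by group
        _ = x * w := by rw [hxinv, hwinv]
    rcases comm_cases (R : Subgroup L) R.2 hz hΦ hy hsR with h | h
    · apply hcomm_of y hy
      calc y * s = (y * s * y⁻¹ * s⁻¹) * (s * y) := by group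
        _ = s * y := by rw [h, one_mul]
    · have h' : (t⁻¹ * y) * s = s * (t⁻¹ * y) := by
        have e1 : y * s * y⁻¹ = t * s * t⁻¹ := by
          calc y * s * y⁻¹ = (y * s * y⁻¹ * s⁻¹) * s := by group
            _ = (t * s * t⁻¹ * s⁻¹) * s := by rw [h, htcomm]
            _ = t * s * t⁻¹ := by group
        calc t⁻¹ * y * s = t⁻¹ * (y * s * y⁻¹) * y := by group
          _ = t⁻¹ * (t * s * t⁻¹) * y := by rw [e1]
          _ = s * (t⁻¹ * y) := by group
      have h2 := hcomm_of (t⁻¹ * y) (mul_mem (inv_mem htR) hy) h'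
      calc y * x = t * ((t⁻¹ * y) * x) := by group
        _ = t * (x * (t⁻¹ * y)) := by rw [h2]
        _ = (t * x) * t⁻¹ * y := by group
        _ = (x * t) * t⁻¹ * y := by rw [hxt]
        _ = x * y := by group
  -- elements of D
  have hD : ∀ x ∈ (R : Subgroup L), x * s = s * x → x = 1 ∨ x = z ∨ x = s ∨ x = s * z := by
    intro x hx hxs
    rcases comm_cases (R : Subgroup L) R.2 hz hΦ hx htR with h | h
    · have : x * t = t * x := by
        calc x * t = (x * t * x⁻¹ * t⁻¹) * (t * x) := by group
          _ = t * x := by rw [h, one_mul]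
      rcases hDt x hx hxs this with h1 | h1
      · left; exact h1
      · right; left; exact h1
    · -- s⁻¹ x commutes with t
      have hst : s * t * s⁻¹ * t⁻¹ = z := by
        calc s * t * s⁻¹ * t⁻¹ = (t * s * t⁻¹ * s⁻¹)⁻¹ := by group
          _ = z := by rw [htcomm, hzinv]
      have h3 : (s⁻¹ * x) * t = t * (s⁻¹ * x) := by
        have e1 : x * t * x⁻¹ = s * t * s⁻¹ := by
          calc x * t * x⁻¹ = (x * t * x⁻¹ * t⁻¹) * t := by group
            _ = (s * t * s⁻¹ * t⁻¹) * t := by rw [h, hst]
            _ = s * t * s⁻¹ := by group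
        calc s⁻¹ * x * t = s⁻¹ * (x * t * x⁻¹) * x := by group
          _ = s⁻¹ * (s * t * s⁻¹) * x := by rw [e1]
          _ = t * (s⁻¹ * x) := by group
      have h4 : (s⁻¹ * x) * s = s * (s⁻¹ * x) := by
        calc s⁻¹ * x * s = s⁻¹ * (x * s) := by group
          _ = s⁻¹ * (s * x) := by rw [hxs]
          _ = s * (s⁻¹ * x) := by group
      rcases hDt (s⁻¹ * x) (mul_mem (inv_mem hsR) hx) h4 h3 with h1 | h1
      · right; right; left
        calc x = s * (s⁻¹ * x) := by group
          _ = s := by rw [h1, mul_one]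
      · right; right; right
        calc x = s * (s⁻¹ * x) := by group
          _ = s * z := by rw [h1]
  refine ⟨s, t, hsR, htR, hss, hsz, htcomm, htt, ?_⟩
  intro x hx
  simp only [Set.mem_insert_iff, Set.mem_singleton_iff]
  rcases comm_cases (R : Subgroup L) R.2 hz hΦ hx hsR with h | h
  · have hxs : x * s = s * x := by
      calc x * s = (x * s * x⁻¹ * s⁻¹) * (s * x) := by group
        _ = s * x := by rw [h, one_mul]
    rcases hD x hx hxs with h1 | h1 | h1 | h1
    · left; exact h1
    · right; left; exact h1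
    · right; right; left; exact h1
    · right; right; right; left; exact h1
  · have h' : (t⁻¹ * x) * s = s * (t⁻¹ * x) := by
      have e1 : x * s * x⁻¹ = t * s * t⁻¹ := by
        calc x * s * x⁻¹ = (x * s * x⁻¹ * s⁻¹) * s := by group
          _ = (t * s * t⁻¹ * s⁻¹) * s := by rw [h, htcomm]
          _ = t * s * t⁻¹ := by group
      calc t⁻¹ * x * s = t⁻¹ * (x * s * x⁻¹) * x := by group
        _ = t⁻¹ * (t * s * t⁻¹) * x := by rw [e1]
        _ = s * (t⁻¹ * x) := by group
    have hx' : x = t * (t⁻¹ * x) := by group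
    rcases hD (t⁻¹ * x) (mul_mem (inv_mem htR) hx) h' with h1 | h1 | h1 | h1
    · right; right; right; right; left
      rw [hx', h1, mul_one]
    · right; right; right; right; right; left
      rw [hx', h1]
    · right; right; right; right; right; right; left
      rw [hx', h1]
    · right; right; right; right; right; right; right
      rw [hx', h1, ← mul_assoc]

end

section

open Cfsg.Agent.Helper3

variable {L : Type*} [Group L] [Finite L]

theorem exists_gens [IsSimpleGroup L] (hL : ¬ IsMulCommutative L) (R : Sylow 2 L) {z : L}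
    (hz : orderOf z = 2)
    (hR : (R : Subgroup L) = Subgroup.centralizer ({z} : Set L))
    (hΦ : (frattini ↥(R : Subgroup L)).map (R : Subgroup L).subtype = Subgroup.zpowers z) :
    Nat.card (R : Subgroup L) ≤ 8 ∧ ∃ ρ σ : L, ρ ∈ (R : Subgroup L) ∧ σ ∈ (R : Subgroup L) ∧
      ρ * ρ = z ∧ σ * σ = 1 ∧ σ * ρ * σ = ρ⁻¹ := by
  obtain ⟨s, t, hsR, htR, hss, hsz, htcomm, htt, hall⟩ := elements hL R hz hR hΦ
  have hzz := z_mul_self hz
  have hzc : ∀ x ∈ (R : Subgroup L), x * z = z * x := by
    intro x hx
    rw [hR, Subgroup.mem_centralizer_iff] at hx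
    exact (hx z rfl).symm
  constructor
  · have h1 : ((R : Subgroup L) : Set L) ⊆ ({1, z, s, s * z, t, t * z, t * s, t * s * z} : Set L) :=
      fun x hx => hall x hx
    have h2 := Set.ncard_le_ncard h1 (Set.toFinite _)
    have h3 : Nat.card (R : Subgroup L) = ((R : Subgroup L) : Set L).ncard := rfl
    rw [h3]
    exact h2.trans (ncard8 _ _ _ _ _ _ _ _)
  · have hts : t * s = z * s * t := by
      rw [← htcomm]; group
    have hsz' := hzc s hsR
    have htz' := hzc t htR
    rcases htt with h | h
    · -- t involution: ρ = t * s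
      refine ⟨t * s, s, mul_mem htR hsR, hsR, ?_, hss, ?_⟩
      · calc t * s * (t * s) = t * s * (z * s * t) := by rw [← hts]
          _ = t * (s * z) * s * t := by group
          _ = t * (z * s) * s * t := by rw [hsz']
          _ = (t * z) * (s * s) * t := by group
          _ = z * (t * t) := by rw [hss, htz']; group
          _ = z := by rw [h, mul_one]
      · have hsinv : s⁻¹ = s := inv_eq_of_mul_eq_one_left hss
        have htinv : t⁻¹ = t := inv_eq_of_mul_eq_one_left h
        calc s * (t * s) * s = s * t * (s * s) := by group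
          _ = s * t := by rw [hss, mul_one]
          _ = s⁻¹ * t⁻¹ := by rw [hsinv, htinv]
          _ = (t * s)⁻¹ := by group
    · refine ⟨t, s, htR, hsR, h, hss, ?_⟩
      have h1 : s * t * s = z * t := by
        calc s * t * s = s * (t * s) := by group
          _ = s * (z * s * t) := by rw [hts]
          _ = (s * z) * s * t := by group
          _ = (z * s) * s * t := by rw [hsz']
          _ = z * (s * s) * t := by group
          _ = z * t := by rw [hss, mul_one]
      rw [h1]
      apply eq_inv_of_mul_eq_one_left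
      calc z * t * t = z * (t * t) := by group
        _ = 1 := by rw [h, hzz]

theorem final [IsSimpleGroup L] (hL : ¬ IsMulCommutative L) (R : Sylow 2 L) {z : L}
    (hz : orderOf z = 2)
    (hR : (R : Subgroup L) = Subgroup.centralizer ({z} : Set L))
    (hΦ : (frattini ↥(R : Subgroup L)).map (R : Subgroup L).subtype = Subgroup.zpowers z) :
    Nonempty (↥(R : Subgroup L) ≃* DihedralGroup 4) := by
  obtain ⟨hcard, ρ, σ, hρR, hσR, hρρ, hσσ, hσρ⟩ := exists_gens hL R hz hR hΦ
  have hzz := z_mul_self hz
  have hz1 := z_ne_one hz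
  set ρ' : (R : Subgroup L) := ⟨ρ, hρR⟩ with hρ'
  set σ' : (R : Subgroup L) := ⟨σ, hσR⟩ with hσ'
  have h4 : ρ' ^ 4 = 1 := by
    apply Subtype.ext
    show ρ ^ 4 = 1
    calc ρ ^ 4 = (ρ * ρ) * (ρ * ρ) := by simp only [pow_succ, pow_zero, one_mul, mul_assoc]
      _ = 1 := by rw [hρρ, hzz]
  have h2 : ρ' ^ 2 ≠ 1 := by
    intro h
    apply hz1
    have : ρ ^ 2 = 1 := congrArg Subtype.val h
    rw [← hρρ, ← pow_two]; exact this
  have hs : σ' * σ' = 1 := Subtype.ext hσσ
  have hsx : σ' * ρ' * σ' = ρ'⁻¹ := Subtype.ext hσρ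
  have hord : orderOf ρ' = 4 := by
    have := orderOf_eq_prime_pow (x := ρ') (p := 2) (n := 1) (by simpa using h2) (by simpa using h4)
    simpa using this
  set φ : DihedralGroup 4 →* (R : Subgroup L) := dihedralLift ρ' σ' h4 hs hsx with hφ
  have hinj : Function.Injective φ := by
    rw [injective_iff_map_eq_one]
    rintro (i | i) h
    · have h1 : ρ' ^ i.val = 1 := h
      have h2 : i.val < orderOf ρ' := by rw [hord]; exact ZMod.val_lt i
      have h3 : i.val = 0 := by
        by_contra hne
        exact pow_ne_one_of_lt_orderOf hne h2 h1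
      have h4 : i = 0 := (ZMod.val_eq_zero i).mp h3
      rw [h4]; rfl
    · exfalso
      have h1 : σ' * ρ' ^ i.val = 1 := h
      have h5 : σ' = (ρ' ^ i.val)⁻¹ := eq_inv_of_mul_eq_one_left h1
      have h6 : σ' * ρ' = ρ' * σ' := by
        rw [h5, ← inv_pow]
        exact ((Commute.refl ρ').inv_left.pow_left _).eq
      apply h2
      have h7 : ρ' = ρ'⁻¹ := by
        calc ρ' = ρ' * (σ' * σ') := by rw [hs, mul_one]
          _ = (ρ' * σ') * σ' := by group
          _ = σ' * ρ' * σ' := by rw [← h6]
          _ = ρ'⁻¹ := hsx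
      calc ρ' ^ 2 = ρ' * ρ' := pow_two _
        _ = ρ' * ρ'⁻¹ := by rw [← h7]
        _ = 1 := mul_inv_cancel _
  have hbij : Function.Bijective φ := by
    apply Function.Injective.bijective_of_nat_card_le hinj
    rw [DihedralGroup.nat_card]
    exact hcard
  exact ⟨(MulEquiv.ofBijective φ hbij).symm⟩

end

end Cfsg.Agent.Helper27.D8Syl
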