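import Mathlib
import Cfsg.Agent.Lib.Helper3.DPDefs
import Cfsg.Agent.Lib.Helper3.DPBasA
import Cfsg.Agent.Lib.Helper3.DPBasB

set_option autoImplicit false
set_option linter.unusedSectionVars false
set_option linter.unusedVariables false
open scoped Pointwise
open MulAction

/-!
# S2205, piece SEMI (helper27)
-/

namespace Cfsg.Agent.Helper3.DP

variable {G Ω : Type*} [Group G] [Finite G] [Fintype Ω] [MulAction G Ω] [FaithfulSMul G Ω] {p : ℕ}

/-- `x ∈ B` is not the base point -/
theorem semi_ne {S : Setup G Ω p} {B : Set Ω} (hK : KData S B) {x : Ω} (hx : x ∈ B) : x ≠ S.a :=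
  fun h => hK.blk.1 (h ▸ hx)

/-- an element of `H` fixing a point of `B` fixes `B` -/
theorem semi_smul_B {S : Setup G Ω p} {B : Set Ω} (hK : KData S B) {x : Ω} (hx : x ∈ B)
    {δ : G} (hδ : δ ∈ stabilizer G S.a) (hδx : δ • x = x) : δ • B = B := by
  rcases hK.blk.2.2 δ hδ with h | h
  · exact h
  · exfalso
    have h1 : x ∈ δ • B := by
      rw [← hδx]; exact Set.smul_mem_smul_set hx
    exact Set.disjoint_left.1 h h1 hx

/-- elements of `P0` fix `B` -/
theorem semi_P0_smul_B {S : Setup G Ω p} {B : Set Ω} {z : G} (hz : z ∈ S.P ⊓ kern G S.a B) :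
    z • B = B := by
  have h1 := (mem_kern.1 hz.2).2 1 (Subgroup.one_mem _)
  rwa [one_smul] at h1

/-- conjugation by `D` preserves `P0` -/
theorem semi_conj_P0 {S : Setup G Ω p} {B : Set Ω} (hK : KData S B)
    (hPn : ∀ h ∈ stabilizer G S.a, ∀ v ∈ S.P, h * v * h⁻¹ ∈ S.P)
    {δ : G} (hδ : δ ∈ stabilizer G S.a) {z : G} (hz : z ∈ S.P ⊓ kern G S.a B) :
    δ * z * δ⁻¹ ∈ S.P ⊓ kern G S.a B :=
  ⟨hPn δ hδ z hz.1, hK.normal δ hδ z hz.2⟩

/-- every element of `P` is `v ^ i * z` with `z ∈ P0`, for any `v ∈ P ∖ P0` -/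
theorem semi_decomp {S : Setup G Ω p} {B : Set Ω} (hK : KData S B) {v : G} (hv : v ∈ S.P)
    (hv0 : v ∉ S.P ⊓ kern G S.a B) {w : G} (hw : w ∈ S.P) :
    ∃ (i : ℤ) (z : G), z ∈ S.P ⊓ kern G S.a B ∧ w = v ^ i * z := by
  classical
  have hp : p.Prime := S.prime
  have : Fact p.Prime := ⟨hp⟩
  set Q : Subgroup ↥S.P := (S.P ⊓ kern G S.a B).subgroupOf S.P with hQ
  have : Q.Normal := by
    constructor
    intro n hn g
    have hcomm : g * n * g⁻¹ = n := by
      apply Subtype.ext
      have := S.P_comm (g : G) g.2 (n : G) n.2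
      simp only [Subgroup.coe_mul, Subgroup.coe_inv]
      rw [this, mul_inv_cancel_right]
    rw [hcomm]; exact hn
  have hcQ : Nat.card Q = p := by
    rw [hQ, Nat.card_congr (Subgroup.subgroupOfEquivOfLe (inf_le_left)).toEquiv]
    exact hK.card_P0
  have hcquot : Nat.card (↥S.P ⧸ Q) = p := by
    have h1 := Subgroup.card_eq_card_quotient_mul_card_subgroup Q
    rw [S.P_card, hcQ] at h1
    have hp0 : 0 < p := hp.pos
    have : p * p = Nat.card (↥S.P ⧸ Q) * p := by rw [← h1]; ring
    exact (Nat.eq_of_mul_eq_mul_right hp0 this).symm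
  set vb : ↥S.P ⧸ Q := QuotientGroup.mk (⟨v, hv⟩ : ↥S.P) with hvb
  have hvb1 : vb ≠ 1 := by
    intro h
    rw [hvb, QuotientGroup.eq_one_iff] at h
    exact hv0 (Subgroup.mem_subgroupOf.1 h)
  have hmem : (QuotientGroup.mk (⟨w, hw⟩ : ↥S.P) : ↥S.P ⧸ Q) ∈ Subgroup.zpowers vb :=
    mem_zpowers_of_prime_card hcquot hvb1
  obtain ⟨i, hi⟩ := Subgroup.mem_zpowers_iff.1 hmem
  rw [hvb, ← QuotientGroup.mk_zpow, QuotientGroup.eq] at hi
  have hz := Subgroup.mem_subgroupOf.1 hi
  refine ⟨i, (v ^ i)⁻¹ * w, ?_, ?_⟩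
  · simpa using hz
  · rw [mul_inv_cancel_left]

/-- PIECE SEMI. -/
theorem caseII_semireg (S : Setup G Ω p) {B : Set Ω} (hK : KData S B) {x : Ω} (hx : x ∈ B)
    (hK1 : ∀ k ∈ kern G S.a B, k • x = x → k = 1)
    (hPn : ∀ h ∈ stabilizer G S.a, ∀ v ∈ S.P, h * v * h⁻¹ ∈ S.P)
    (hJ : ∀ δ ∈ stabilizer G S.a ⊓ stabilizer G x,
      (∀ z ∈ S.P ⊓ kern G S.a B, δ * z = z * δ) → δ = 1) :
    (∀ δ ∈ stabilizer G S.a ⊓ stabilizer G x, δ ≠ 1 → ∀ y : Ω, δ • y = y → y = S.a ∨ y = x) ∧
    Nat.card ↥(stabilizer G S.a ⊓ stabilizer G x) ∣ p - 1 := by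
  classical
  have hp : p.Prime := S.prime
  have : Fact p.Prime := ⟨hp⟩
  have hxa : x ≠ S.a := semi_ne hK hx
  constructor
  · intro δ hδ hδ1 y hy
    by_contra hcon
    push Not at hcon
    obtain ⟨hya, hyx⟩ := hcon
    have hδa : δ ∈ stabilizer G S.a := hδ.1
    have hδx : δ • x = x := mem_stabilizer_iff.1 hδ.2
    obtain ⟨v, hv, hvx⟩ := S.exists_P_smul hxa hya
    have hconj : δ * v * δ⁻¹ = v := by
      apply S.P_smul_inj hxa (hPn δ hδa v hv) hv
      rw [mul_smul, mul_smul, inv_smul_eq_iff.2 hδx.symm, hvx, hy]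
    have hcomm : δ * v = v * δ := by
      rw [← hconj, inv_mul_cancel_right, hconj]
    have hcommz : ∀ i : ℤ, δ * v ^ i = v ^ i * δ := fun i =>
      (Commute.zpow_right (show Commute δ v from hcomm) i).eq
    apply hδ1
    by_cases hv0 : v ∈ S.P ⊓ kern G S.a B
    · -- δ centralizes P0
      apply hJ δ hδ
      intro z hz
      have hv1 : (⟨v, hv0⟩ : ↥(S.P ⊓ kern G S.a B)) ≠ 1 := by
        intro h
        have h1 : v = 1 := congrArg Subtype.val h
        apply hyx
        rw [← hvx, h1, one_smul]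
      have hmem : (⟨z, hz⟩ : ↥(S.P ⊓ kern G S.a B)) ∈
          Subgroup.zpowers (⟨v, hv0⟩ : ↥(S.P ⊓ kern G S.a B)) :=
        mem_zpowers_of_prime_card hK.card_P0 hv1
      obtain ⟨i, hi⟩ := Subgroup.mem_zpowers_iff.1 hmem
      have hzi : z = v ^ i := by
        have := congrArg Subtype.val hi
        simpa using this.symm
      rw [hzi]; exact hcommz i
    · -- δ lies in the kernel
      apply hK1 δ _ hδx
      refine mem_kern.2 ⟨mem_stabilizer_iff.1 hδa, fun h hh => ?_⟩
      obtain ⟨w, hw, hwB⟩ := S.blk_exists_P hK.blk hh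
      obtain ⟨i, z, hz, hwz⟩ := semi_decomp hK hv hv0 hw
      have hδB : δ • B = B := semi_smul_B hK hx hδa hδx
      have hzB : z • B = B := semi_P0_smul_B hz
      have hz' : δ * z * δ⁻¹ ∈ S.P ⊓ kern G S.a B := semi_conj_P0 hK hPn hδa hz
      have hz'B : (δ * z * δ⁻¹) • B = B := semi_P0_smul_B hz'
      have h1 : w • B = v ^ i • B := by rw [hwz, mul_smul, hzB]
      have h2 : δ * w = v ^ i * (δ * z * δ⁻¹) * δ := by
        rw [hwz, ← mul_assoc, hcommz i]; group
      rw [hwB, ← mul_smul, h2, mul_smul, mul_smul, hδB, hz'B, h1]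
  · -- D embeds in the automorphism group of P0
    set D : Subgroup G := stabilizer G S.a ⊓ stabilizer G x with hD
    set P0 : Subgroup G := S.P ⊓ kern G S.a B with hP0
    have hnorm : ∀ δ ∈ D, ∀ z ∈ P0, δ * z * δ⁻¹ ∈ P0 := fun δ hδ z hz =>
      semi_conj_P0 hK hPn hδ.1 hz
    let f : ↥D →* MulAut ↥P0 :=
      { toFun := fun δ =>
          { toFun := fun z => ⟨(δ : G) * z * (δ : G)⁻¹, hnorm δ δ.2 z z.2⟩
            invFun := fun z => ⟨(δ : G)⁻¹ * z * (δ : G), by
              have := hnorm (δ : G)⁻¹ (D.inv_mem δ.2) z z.2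
              rwa [inv_inv] at this⟩
            left_inv := fun z => by
              apply Subtype.ext
              simp only
              group
            right_inv := fun z => by
              apply Subtype.ext
              simp only
              group
            map_mul' := fun z z' => by
              apply Subtype.ext
              simp only [Subgroup.coe_mul]
              group }
        map_one' := by
          apply MulEquiv.ext
          intro z
          apply Subtype.ext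
          simp
        map_mul' := fun δ δ' => by
          apply MulEquiv.ext
          intro z
          apply Subtype.ext
          simp only [Subgroup.coe_mul, MulAut.mul_apply, MulEquiv.coe_mk, Equiv.coe_fn_mk]
          group }
    have hinj : Function.Injective f := by
      rw [injective_iff_map_eq_one]
      intro δ hδ
      apply Subtype.ext
      apply hJ δ δ.2
      intro z hz
      have h1 := congrArg (fun φ : MulAut ↥P0 => ((φ ⟨z, hz⟩ : ↥P0) : G)) hδ
      simp only [MulAut.one_apply] at h1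
      have h2 : (δ : G) * z * (δ : G)⁻¹ = z := h1
      rw [← h2, inv_mul_cancel_right, h2]
    have : IsCyclic ↥P0 := isCyclic_of_prime_card hK.card_P0
    have hcard : Nat.card (MulAut ↥P0) = p - 1 := by
      rw [IsCyclic.card_mulAut, hK.card_P0, Nat.totient_prime hp]
    rw [← hcard]
    exact Subgroup.card_dvd_of_injective f hinj

end Cfsg.Agent.Helper3.DP
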