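import Mathlib
import Cfsg.Agent.Lib.Helper3.DPDefs
import Cfsg.Agent.Lib.Helper3.DPBasA
import Cfsg.Agent.Lib.Helper3.DPBasB
import Cfsg.Agent.Lib.Helper27.DPSEMI

set_option autoImplicit false
set_option linter.unusedSectionVars false
set_option linter.unusedVariables false
open scoped Pointwise
open MulAction

/-!
# S2205, piece BLK2 (helper27)
-/

namespace Cfsg.Agent.Helper3.DP

variable {G Ω : Type*} [Group G] [Finite G] [Fintype Ω] [MulAction G Ω] [FaithfulSMul G Ω] {p : ℕ}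

/-- `P0` is a proper subgroup of `P` -/
theorem blk2_exists_v0 {S : Setup G Ω p} {B : Set Ω} (hK : KData S B) :
    ∃ v0 ∈ S.P, v0 ∉ S.P ⊓ kern G S.a B := by
  by_contra hcon
  push Not at hcon
  have heq : S.P ⊓ kern G S.a B = S.P := le_antisymm inf_le_left (fun v hv => hcon v hv)
  have h1 := hK.card_P0
  rw [heq, S.P_card] at h1
  have hp := S.prime
  have h2 : p * p = p * 1 := by rw [mul_one, ← sq]; exact h1
  have h3 := Nat.eq_of_mul_eq_mul_left hp.pos h2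
  exact hp.one_lt.ne' h3

/-- the action of `D` on the translates in the coordinate `v0` -/
theorem blk2_coord {S : Setup G Ω p} {B : Set Ω} (hK : KData S B) {x : Ω} (hx : x ∈ B)
    (hPn : ∀ h ∈ stabilizer G S.a, ∀ v ∈ S.P, h * v * h⁻¹ ∈ S.P)
    {v0 : G} (hv0 : v0 ∈ S.P) (hv00 : v0 ∉ S.P ⊓ kern G S.a B)
    {δ : G} (hδ : δ ∈ stabilizer G S.a) (hδx : δ • x = x) :
    ∃ m : ℤ, ∀ i : ℤ, δ • (v0 ^ i • B) = v0 ^ (m * i) • B := by
  obtain ⟨m, z1, hz1, hm⟩ := semi_decomp hK hv0 hv00 (hPn δ hδ v0 hv0)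
  refine ⟨m, fun i => ?_⟩
  have hδB : δ • B = B := semi_smul_B hK hx hδ hδx
  have h1 : δ * v0 ^ i = (v0 ^ m * z1) ^ i * δ := by
    rw [← hm, conj_zpow]; group
  have hcomm : Commute (v0 ^ m) z1 := S.P_comm _ (S.P.zpow_mem hv0 m) _ hz1.1
  have h2 : (v0 ^ m * z1) ^ i = v0 ^ (m * i) * z1 ^ i := by
    rw [hcomm.mul_zpow, zpow_mul]
  have hzi : z1 ^ i ∈ S.P ⊓ kern G S.a B := Subgroup.zpow_mem _ hz1 i
  rw [← mul_smul, h1, h2, mul_smul, mul_smul, hδB, semi_P0_smul_B hzi]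

/-- every translate is `v0 ^ i • B` -/
theorem blk2_translate {S : Setup G Ω p} {B : Set Ω} (hK : KData S B)
    {v0 : G} (hv0 : v0 ∈ S.P) (hv00 : v0 ∉ S.P ⊓ kern G S.a B)
    {h : G} (hh : h ∈ stabilizer G S.a) : ∃ i : ℤ, h • B = v0 ^ i • B := by
  obtain ⟨w, hw, hwB⟩ := S.blk_exists_P hK.blk hh
  obtain ⟨i, z, hz, hwz⟩ := semi_decomp hK hv0 hv00 hw
  exact ⟨i, by rw [hwB, hwz, mul_smul, semi_P0_smul_B hz]⟩

/-- `D` is abelian -/
theorem blk2_comm {S : Setup G Ω p} {B : Set Ω} (hK : KData S B) {x : Ω} (hx : x ∈ B)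
    (hK1 : ∀ k ∈ kern G S.a B, k • x = x → k = 1)
    (hPn : ∀ h ∈ stabilizer G S.a, ∀ v ∈ S.P, h * v * h⁻¹ ∈ S.P)
    {δ δ' : G} (hδ : δ ∈ stabilizer G S.a ⊓ stabilizer G x)
    (hδ' : δ' ∈ stabilizer G S.a ⊓ stabilizer G x) : δ * δ' = δ' * δ := by
  obtain ⟨v0, hv0, hv00⟩ := blk2_exists_v0 hK
  obtain ⟨m, hm⟩ := blk2_coord hK hx hPn hv0 hv00 hδ.1 (mem_stabilizer_iff.1 hδ.2)
  obtain ⟨m', hm'⟩ := blk2_coord hK hx hPn hv0 hv00 hδ'.1 (mem_stabilizer_iff.1 hδ'.2)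
  have hcD : (δ' * δ)⁻¹ * (δ * δ') ∈ stabilizer G S.a ⊓ stabilizer G x :=
    Subgroup.mul_mem _ (Subgroup.inv_mem _ (Subgroup.mul_mem _ hδ' hδ)) (Subgroup.mul_mem _ hδ hδ')
  have hc : (δ' * δ)⁻¹ * (δ * δ') ∈ kern G S.a B := by
    refine mem_kern.2 ⟨mem_stabilizer_iff.1 hcD.1, fun h hh => ?_⟩
    obtain ⟨i, hi⟩ := blk2_translate hK hv0 hv00 hh
    rw [hi, mul_smul, inv_smul_eq_iff, mul_smul, mul_smul, hm', hm, hm, hm',
      show m * (m' * i) = m' * (m * i) by ring]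
  have h1 := hK1 _ hc (mem_stabilizer_iff.1 hcD.2)
  have h2 : δ * δ' = (δ' * δ) * ((δ' * δ)⁻¹ * (δ * δ')) := by group
  rw [h2, h1, mul_one]

/-- PIECE BLK2. -/
theorem caseII_second_block (S : Setup G Ω p) {B : Set Ω} (hK : KData S B) {x : Ω} (hx : x ∈ B)
    (hK1 : ∀ k ∈ kern G S.a B, k • x = x → k = 1)
    (hPn : ∀ h ∈ stabilizer G S.a, ∀ v ∈ S.P, h * v * h⁻¹ ∈ S.P)
    (j : G) (hj : j ∈ stabilizer G S.a ⊓ stabilizer G x) (hj1 : j ≠ 1)
    (hjc : ∀ z ∈ S.P ⊓ kern G S.a B, j * z = z * j) :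
    ∃ B' : Set Ω, IsBlk G p S.a B' ∧ x ∈ B' ∧ j ∈ kern G S.a B' := by
  classical
  have hp : p.Prime := S.prime
  have hxa : x ≠ S.a := semi_ne hK hx
  have hja : j ∈ stabilizer G S.a := hj.1
  have hjx : j • x = x := mem_stabilizer_iff.1 hj.2
  -- the commutator map
  have hκP : ∀ v ∈ S.P, j * v * j⁻¹ * v⁻¹ ∈ S.P := fun v hv =>
    S.P.mul_mem (hPn j hja v hv) (S.P.inv_mem hv)
  let κ : ↥S.P →* G :=
    { toFun := fun v => j * v * j⁻¹ * (v : G)⁻¹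
      map_one' := by simp
      map_mul' := fun v w => by
        have hcomm := S.P_comm (v : G)⁻¹ (S.P.inv_mem v.2) _ (hκP w w.2)
        simp only [Subgroup.coe_mul]
        calc j * ((v : G) * (w : G)) * j⁻¹ * ((v : G) * (w : G))⁻¹
            = j * v * j⁻¹ * ((j * w * j⁻¹ * (w : G)⁻¹) * (v : G)⁻¹) := by group
          _ = j * v * j⁻¹ * ((v : G)⁻¹ * (j * w * j⁻¹ * (w : G)⁻¹)) := by rw [hcomm]
          _ = _ := by group }
  have hκ : ∀ v : ↥S.P, κ v = j * v * j⁻¹ * (v : G)⁻¹ := fun v => rfl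
  set P1 : Subgroup G := κ.range with hP1
  have hP1le : P1 ≤ S.P := by
    rintro _ ⟨v, rfl⟩
    exact hκP v v.2
  have hmemP1 : ∀ v ∈ S.P, j * v * j⁻¹ * v⁻¹ ∈ P1 := fun v hv => ⟨⟨v, hv⟩, rfl⟩
  -- the order of `P1`
  have hcardP1 : Nat.card P1 = p := by
    have h1 : Nat.card ↥S.P = Nat.card (↥S.P ⧸ κ.ker) * Nat.card κ.ker :=
      Subgroup.card_eq_card_quotient_mul_card_subgroup κ.ker
    have h2 : Nat.card (↥S.P ⧸ κ.ker) = Nat.card P1 :=
      Nat.card_congr (QuotientGroup.quotientKerEquivRange κ).toEquiv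
    have hQle : (S.P ⊓ kern G S.a B).subgroupOf S.P ≤ κ.ker := by
      intro z hz
      rw [MonoidHom.mem_ker, hκ, hjc z (Subgroup.mem_subgroupOf.1 hz)]
      group
    have hQcard : Nat.card ((S.P ⊓ kern G S.a B).subgroupOf S.P) = p := by
      rw [Nat.card_congr (Subgroup.subgroupOfEquivOfLe (inf_le_left)).toEquiv]
      exact hK.card_P0
    have hker_ne : κ.ker ≠ ⊤ := by
      intro htop
      apply hj1
      have hcomm : ∀ v ∈ S.P, j * v = v * j := by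
        intro v hv
        have hmem : (⟨v, hv⟩ : ↥S.P) ∈ κ.ker := by rw [htop]; trivial
        rw [MonoidHom.mem_ker, hκ] at hmem
        have h3 : j * v * j⁻¹ = v := by rwa [mul_inv_eq_one] at hmem
        rw [← h3, inv_mul_cancel_right, h3]
      apply FaithfulSMul.eq_of_smul_eq_smul (α := Ω)
      intro y
      rw [one_smul]
      by_cases hya : y = S.a
      · rw [hya]; exact mem_stabilizer_iff.1 hja
      · obtain ⟨v, hv, rfl⟩ := S.exists_P_smul hxa hya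
        rw [← mul_smul, hcomm v hv, mul_smul, hjx]
    have hdvd : Nat.card κ.ker ∣ p ^ 2 := by
      rw [← S.P_card]; exact Subgroup.card_subgroup_dvd_card _
    obtain ⟨k, hk2, hk⟩ := (Nat.dvd_prime_pow hp).1 hdvd
    have hpk : p ∣ Nat.card κ.ker := by
      have h5 := Subgroup.card_dvd_of_le hQle
      rwa [hQcard] at h5
    have hk1 : k = 1 := by
      interval_cases k
      · exfalso
        rw [hk, pow_zero] at hpk
        exact hp.one_lt.ne' (Nat.dvd_one.1 hpk)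
      · rfl
      · exfalso
        apply hker_ne
        rw [← Subgroup.card_eq_iff_eq_top, hk, S.P_card]
    rw [S.P_card, h2, hk, hk1, pow_one] at h1
    have h3 : p * p = Nat.card P1 * p := by rw [← h1]; ring
    exact (Nat.eq_of_mul_eq_mul_right hp.pos h3).symm
  -- `D` normalizes `P1`
  have hDinv : ∀ δ ∈ stabilizer G S.a ⊓ stabilizer G x, ∀ u ∈ P1, δ * u * δ⁻¹ ∈ P1 := by
    rintro δ hδ _ ⟨v, rfl⟩
    have hc : δ * j = j * δ := blk2_comm hK hx hK1 hPn hδ hj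
    have h1 : δ * κ v * δ⁻¹ = j * (δ * v * δ⁻¹) * j⁻¹ * (δ * v * δ⁻¹)⁻¹ := by
      rw [hκ]
      calc δ * (j * v * j⁻¹ * (v : G)⁻¹) * δ⁻¹
          = (δ * j) * v * (δ * j)⁻¹ * (δ * v * δ⁻¹)⁻¹ := by group
        _ = (j * δ) * v * (j * δ)⁻¹ * (δ * v * δ⁻¹)⁻¹ := by rw [hc]
        _ = _ := by group
    rw [h1]
    exact hmemP1 _ (hPn δ hδ.1 v v.2)
  -- the new block
  set B' : Set Ω := (fun w : G => w • x) '' (P1 : Set G) with hB'
  have hxB' : x ∈ B' := ⟨1, P1.one_mem, one_smul _ _⟩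
  have hncard : B'.ncard = p := by
    have hinj : Set.InjOn (fun w : G => w • x) (P1 : Set G) := by
      intro v hv w hw h
      exact S.P_smul_inj hxa (hP1le hv) (hP1le hw) h
    rw [hB', hinj.ncard_image, ← hcardP1]
    exact (Nat.card_coe_set_eq (P1 : Set G)).symm
  have hP1B' : ∀ u ∈ P1, u • B' = B' := by
    intro u hu
    ext y
    constructor
    · rintro ⟨_, ⟨w, hw, rfl⟩, rfl⟩
      exact ⟨u * w, P1.mul_mem hu hw, mul_smul _ _ _⟩
    · rintro ⟨w, hw, rfl⟩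
      refine ⟨(u⁻¹ * w) • x, ⟨u⁻¹ * w, P1.mul_mem (P1.inv_mem hu) hw, rfl⟩, ?_⟩
      show u • (u⁻¹ * w) • x = w • x
      rw [← mul_smul, mul_inv_cancel_left]
  have hDB'sub : ∀ δ ∈ stabilizer G S.a ⊓ stabilizer G x, δ • B' ⊆ B' := by
    rintro δ hδ _ ⟨_, ⟨w, hw, rfl⟩, rfl⟩
    refine ⟨δ * w * δ⁻¹, hDinv δ hδ w hw, ?_⟩
    show (δ * w * δ⁻¹) • x = δ • w • x
    rw [mul_smul, mul_smul, inv_smul_eq_iff.2 (mem_stabilizer_iff.1 hδ.2).symm]
  have hDB' : ∀ δ ∈ stabilizer G S.a ⊓ stabilizer G x, δ • B' = B' := by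
    intro δ hδ
    apply Set.Subset.antisymm (hDB'sub δ hδ)
    rw [Set.subset_smul_set_iff]
    exact hDB'sub δ⁻¹ (Subgroup.inv_mem _ hδ)
  have htr : ∀ h ∈ stabilizer G S.a, ∃ v ∈ S.P, h • B' = v • B' := by
    intro h hh
    obtain ⟨v, hv, δ, hδ, rfl⟩ := S.stab_eq_mul hxa hh
    exact ⟨v, hv, by rw [mul_smul, hDB' δ hδ]⟩
  have hblk : IsBlk G p S.a B' := by
    refine ⟨?_, hncard, ?_⟩
    · rintro ⟨w, hw, h⟩
      exact S.P_smul_ne hxa (hP1le hw) h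
    · intro h hh
      obtain ⟨v, hv, hvB⟩ := htr h hh
      rw [hvB]
      by_cases hv1 : v ∈ P1
      · left; exact hP1B' v hv1
      · right
        rw [Set.disjoint_left]
        rintro _ ⟨_, ⟨w, hw, rfl⟩, rfl⟩ ⟨w', hw', h'⟩
        apply hv1
        have h'' : w' • x = (v * w) • x := by rw [mul_smul]; exact h'
        have h2 : w' = v * w :=
          S.P_smul_inj hxa (hP1le hw') (S.P.mul_mem hv (hP1le hw)) h''
        have h3 : v = w' * w⁻¹ := by rw [h2, mul_inv_cancel_right]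
        rw [h3]; exact P1.mul_mem hw' (P1.inv_mem hw)
  refine ⟨B', hblk, hxB', mem_kern.2 ⟨mem_stabilizer_iff.1 hja, fun h hh => ?_⟩⟩
  obtain ⟨v, hv, hvB⟩ := htr h hh
  have h1 : j * v = (j * v * j⁻¹ * v⁻¹) * v * j := by group
  rw [hvB, ← mul_smul, h1, mul_smul, mul_smul, hDB' j hj, ← mul_smul,
    S.P_comm _ (hκP v hv) v hv, mul_smul, hP1B' _ (hmemP1 v hv)]

end Cfsg.Agent.Helper3.DP
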