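import Mathlib
import Cfsg.Agent.Lib.Helper3.DPDefs
import Cfsg.Agent.Lib.Helper3.DPBasA
import Cfsg.Agent.Lib.Helper3.DPBasB
import Cfsg.Agent.Lib.Helper27.DPSEMI

set_option autoImplicit false
set_option linter.unusedSectionVars false
set_option linter.unusedVariables false
open scoped Pointwise
open MulAction

/-!
# S2205, piece TWO (helper27)
-/

namespace Cfsg.Agent.Helper3.DP

/-- Sylow: a subgroup of order `p ^ 2` in a group of order `p ^ 2 * d`, `d ∣ p - 1`, is normal -/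
theorem two_normal_of_small {p : ℕ} (hp : p.Prime) {H' : Type*} [Group H'] [Finite H']
    (Q : Subgroup H') (hQ : Nat.card Q = p ^ 2) (d : ℕ) (hd : Nat.card H' = p ^ 2 * d)
    (hdp : d ∣ p - 1) : Q.Normal := by
  have : Fact p.Prime := ⟨hp⟩
  have hidx : Q.index = d := by
    have h1 := Q.card_mul_index
    rw [hQ, hd] at h1
    exact Nat.eq_of_mul_eq_mul_left (pow_pos hp.pos 2) h1
  have hp1 : 0 < p - 1 := Nat.sub_pos_of_lt hp.one_lt
  have hdle : d ≤ p - 1 := Nat.le_of_dvd hp1 hdp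
  have hdpos : 0 < d := Nat.pos_of_dvd_of_pos hdp hp1
  have hnd : ¬ p ∣ Q.index := by
    rw [hidx]
    exact Nat.not_dvd_of_pos_of_lt hdpos (by omega)
  let PS : Sylow p H' := (IsPGroup.of_card hQ).toSylow hnd
  have h1 : Nat.card (Sylow p H') ∣ d := by
    have h0 := PS.card_dvd_index
    rwa [show (PS : Subgroup H').index = Q.index from rfl, hidx] at h0
  have h2 := card_sylow_modEq_one p H'
  have hn : Nat.card (Sylow p H') = 1 := by
    have hle : Nat.card (Sylow p H') ≤ d := Nat.le_of_dvd hdpos h1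
    have hlt : Nat.card (Sylow p H') < p := by omega
    have h3 : Nat.card (Sylow p H') % p = 1 % p := h2
    rw [Nat.mod_eq_of_lt hlt, Nat.mod_eq_of_lt hp.one_lt] at h3
    exact h3
  have : Subsingleton (Sylow p H') := (Nat.card_eq_one_iff_unique.1 hn).1
  have h4 := PS.normal_of_subsingleton
  exact h4

variable {G Ω : Type*} [Group G] [Finite G] [Fintype Ω] [MulAction G Ω] [FaithfulSMul G Ω] {p : ℕ}

/-- `D` embeds in the automorphism group of `P0` when no nontrivial element centralizes `P0` -/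
theorem two_card_dvd {S : Setup G Ω p} {B : Set Ω} (hK : KData S B) {x : Ω}
    (hnorm : ∀ δ ∈ stabilizer G S.a ⊓ stabilizer G x, ∀ z ∈ S.P ⊓ kern G S.a B,
      δ * z * δ⁻¹ ∈ S.P ⊓ kern G S.a B)
    (hJ : ∀ δ ∈ stabilizer G S.a ⊓ stabilizer G x,
      (∀ z ∈ S.P ⊓ kern G S.a B, δ * z = z * δ) → δ = 1) :
    Nat.card ↥(stabilizer G S.a ⊓ stabilizer G x) ∣ p - 1 := by
  classical
  have hp : p.Prime := S.prime
  have : Fact p.Prime := ⟨hp⟩
  set D : Subgroup G := stabilizer G S.a ⊓ stabilizer G x with hD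
  set P0 : Subgroup G := S.P ⊓ kern G S.a B with hP0
  let f : ↥D →* MulAut ↥P0 :=
    { toFun := fun δ =>
        { toFun := fun z => ⟨(δ : G) * z * (δ : G)⁻¹, hnorm δ δ.2 z z.2⟩
          invFun := fun z => ⟨(δ : G)⁻¹ * z * (δ : G), by
            have := hnorm (δ : G)⁻¹ (D.inv_mem δ.2) z z.2
            rwa [inv_inv] at this⟩
          left_inv := fun z => by
            apply Subtype.ext
            simp only
            group
          right_inv := fun z => by
            apply Subtype.ext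
            simp only
            group
          map_mul' := fun z z' => by
            apply Subtype.ext
            simp only [Subgroup.coe_mul]
            group }
      map_one' := by
        apply MulEquiv.ext
        intro z
        apply Subtype.ext
        simp
      map_mul' := fun δ δ' => by
        apply MulEquiv.ext
        intro z
        apply Subtype.ext
        simp only [Subgroup.coe_mul, MulAut.mul_apply, MulEquiv.coe_mk, Equiv.coe_fn_mk]
        group }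
  have hinj : Function.Injective f := by
    rw [injective_iff_map_eq_one]
    intro δ hδ
    apply Subtype.ext
    apply hJ δ δ.2
    intro z hz
    have h1 := congrArg (fun φ : MulAut ↥P0 => ((φ ⟨z, hz⟩ : ↥P0) : G)) hδ
    simp only [MulAut.one_apply] at h1
    have h2 : (δ : G) * z * (δ : G)⁻¹ = z := h1
    rw [← h2, inv_mul_cancel_right, h2]
  have : IsCyclic ↥P0 := isCyclic_of_prime_card hK.card_P0
  have hcard : Nat.card (MulAut ↥P0) = p - 1 := by
    rw [IsCyclic.card_mulAut, hK.card_P0, Nat.totient_prime hp]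
  rw [← hcard]
  exact Subgroup.card_dvd_of_injective f hinj

/-- an element of `H` fixing a point of a block fixes the block -/
theorem two_smul_blk {a : Ω} {B' : Set Ω} (hB' : IsBlk G p a B') {y : Ω} (hy : y ∈ B')
    {δ : G} (hδ : δ ∈ stabilizer G a) (hδy : δ • y = y) : δ • B' = B' := by
  rcases hB'.2.2 δ hδ with h | h
  · exact h
  · exfalso
    have h1 : y ∈ δ • B' := by
      rw [← hδy]; exact Set.smul_mem_smul_set hy
    exact Set.disjoint_left.1 h h1 hy

/-- `D` normalizes `P0 = K` in case II -/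
theorem two_norm {S : Setup G Ω p} {B : Set Ω} (hK : KData S B) {x : Ω} (hx : x ∈ B)
    (hK1 : ∀ k ∈ kern G S.a B, k • x = x → k = 1)
    {δ : G} (hδ : δ ∈ stabilizer G S.a) {z : G} (hz : z ∈ S.P ⊓ kern G S.a B) :
    δ * z * δ⁻¹ ∈ S.P ⊓ kern G S.a B :=
  ⟨kern_le_P S hK hx hK1 (hK.normal δ hδ z hz.2), hK.normal δ hδ z hz.2⟩

/-- some nontrivial element of `D` centralizes `P0` when `P` is not normal in `H` -/
theorem two_exists_J {S : Setup G Ω p} {B : Set Ω} (hK : KData S B) {x : Ω} (hx : x ∈ B)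
    (hK1 : ∀ k ∈ kern G S.a B, k • x = x → k = 1)
    (hPnn : ¬ ∀ h ∈ stabilizer G S.a, ∀ v ∈ S.P, h * v * h⁻¹ ∈ S.P) :
    ∃ j ∈ stabilizer G S.a ⊓ stabilizer G x, j ≠ 1 ∧
      ∀ z ∈ S.P ⊓ kern G S.a B, j * z = z * j := by
  have hp : p.Prime := S.prime
  have hxa : x ≠ S.a := semi_ne hK hx
  by_contra hcon
  push Not at hcon
  have hJ : ∀ δ ∈ stabilizer G S.a ⊓ stabilizer G x,
      (∀ z ∈ S.P ⊓ kern G S.a B, δ * z = z * δ) → δ = 1 := by
    intro δ hδ hc
    by_contra h1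
    obtain ⟨z, hz, hne⟩ := hcon δ hδ h1
    exact hne (hc z hz)
  have hdvd : Nat.card ↥(stabilizer G S.a ⊓ stabilizer G x) ∣ p - 1 :=
    two_card_dvd hK (fun δ hδ z hz => two_norm hK hx hK1 hδ.1 hz) hJ
  apply hPnn
  have hcQ : Nat.card (S.P.subgroupOf (stabilizer G S.a)) = p ^ 2 := by
    rw [Nat.card_congr (Subgroup.subgroupOfEquivOfLe S.P_le).toEquiv]
    exact S.P_card
  have hN : (S.P.subgroupOf (stabilizer G S.a)).Normal :=
    two_normal_of_small hp _ hcQ _ (S.card_stab hxa) hdvd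
  intro h hh v hv
  have h1 := hN.conj_mem ⟨v, S.P_le hv⟩ (Subgroup.mem_subgroupOf.2 hv) ⟨h, hh⟩
  exact Subgroup.mem_subgroupOf.1 h1

/-- `D` is transitive on the translates other than `B` -/
theorem two_D_trans {S : Setup G Ω p} {B : Set Ω} (hK : KData S B) {x : Ω} (hx : x ∈ B)
    (h2t : ∀ h ∈ stabilizer G S.a, ∀ h' ∈ stabilizer G S.a, h • B ≠ B → h' • B ≠ B →
      ∃ m ∈ stabilizer G S.a, m • B = B ∧ m • (h • B) = h' • B)
    {h h' : G} (hh : h ∈ stabilizer G S.a) (hh' : h' ∈ stabilizer G S.a)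
    (hne : h • B ≠ B) (hne' : h' • B ≠ B) :
    ∃ δ ∈ stabilizer G S.a ⊓ stabilizer G x, δ • (h • B) = h' • B := by
  obtain ⟨m, hm, hmB, hmh⟩ := h2t h hh h' hh' hne hne'
  have hmx : m • x ∈ B := by rw [← hmB]; exact Set.smul_mem_smul_set hx
  have h1B : (1 : G) • B = B := one_smul _ _
  obtain ⟨k, hk, hkx⟩ := hK.trans 1 (Subgroup.one_mem _) (m • x) (by rw [h1B]; exact hmx) x
    (by rw [h1B]; exact hx)
  refine ⟨k * m, Subgroup.mem_inf.2 ⟨?_, ?_⟩, ?_⟩
  · exact (stabilizer G S.a).mul_mem (S.P_le hk.1) hm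
  · rw [mem_stabilizer_iff, mul_smul, hkx]
  · rw [mul_smul, hmh]; exact (mem_kern.1 hk.2).2 h' hh'

/-- a normal subset of `D` fixing one translate other than `B` is trivial -/
theorem two_normal_trivial {S : Setup G Ω p} {B : Set Ω} (hK : KData S B) {x : Ω} (hx : x ∈ B)
    (hK1 : ∀ k ∈ kern G S.a B, k • x = x → k = 1)
    (h2t : ∀ h ∈ stabilizer G S.a, ∀ h' ∈ stabilizer G S.a, h • B ≠ B → h' • B ≠ B →
      ∃ m ∈ stabilizer G S.a, m • B = B ∧ m • (h • B) = h' • B)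
    (N : Set G) (hND : ∀ n ∈ N, n ∈ stabilizer G S.a ⊓ stabilizer G x)
    (hNn : ∀ δ ∈ stabilizer G S.a ⊓ stabilizer G x, ∀ n ∈ N, δ⁻¹ * n * δ ∈ N)
    {h0 : G} (hh0 : h0 ∈ stabilizer G S.a) (hne : h0 • B ≠ B)
    (hfix : ∀ n ∈ N, n • (h0 • B) = h0 • B) : ∀ n ∈ N, n = 1 := by
  intro n hn
  have hnD := hND n hn
  apply hK1 n _ (mem_stabilizer_iff.1 hnD.2)
  refine mem_kern.2 ⟨mem_stabilizer_iff.1 hnD.1, fun h hh => ?_⟩
  by_cases hB : h • B = B
  · rw [hB]; exact semi_smul_B hK hx hnD.1 (mem_stabilizer_iff.1 hnD.2)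
  · obtain ⟨δ, hδ, hδh⟩ := two_D_trans hK hx h2t hh0 hh hne hB
    have h1 : n * δ = δ * (δ⁻¹ * n * δ) := by group
    rw [← hδh, ← mul_smul, h1, mul_smul, hfix _ (hNn δ hδ n hn)]

/-- PIECE TWO. -/
theorem caseII_two_trans (S : Setup G Ω p) {B : Set Ω} (hK : KData S B) {x : Ω} (hx : x ∈ B)
    (hK1 : ∀ k ∈ kern G S.a B, k • x = x → k = 1)
    (h2t : ∀ h ∈ stabilizer G S.a, ∀ h' ∈ stabilizer G S.a, h • B ≠ B → h' • B ≠ B →
      ∃ m ∈ stabilizer G S.a, m • B = B ∧ m • (h • B) = h' • B)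
    (hPnn : ¬ ∀ h ∈ stabilizer G S.a, ∀ v ∈ S.P, h * v * h⁻¹ ∈ S.P) : False := by
  classical
  have hp : p.Prime := S.prime
  have : Fact p.Prime := ⟨hp⟩
  have hxa : x ≠ S.a := semi_ne hK hx
  have h1B : (1 : G) • B = B := one_smul _ _
  obtain ⟨j0, hj0D, hj01, hj0c⟩ := two_exists_J hK hx hK1 hPnn
  -- the centralizer of `P0` in `D`, as a set
  let J : Set G := {δ | δ ∈ stabilizer G S.a ⊓ stabilizer G x ∧
    ∀ z ∈ S.P ⊓ kern G S.a B, δ * z = z * δ}
  have hJD : ∀ n ∈ J, n ∈ stabilizer G S.a ⊓ stabilizer G x := fun n hn => hn.1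
  have hJn : ∀ δ ∈ stabilizer G S.a ⊓ stabilizer G x, ∀ n ∈ J, δ⁻¹ * n * δ ∈ J := by
    intro δ hδ n hn
    refine ⟨Subgroup.mul_mem _ (Subgroup.mul_mem _ (Subgroup.inv_mem _ hδ) hn.1) hδ,
      fun z hz => ?_⟩
    have h1 := hn.2 _ (two_norm hK hx hK1 hδ.1 hz)
    calc δ⁻¹ * n * δ * z = δ⁻¹ * (n * (δ * z * δ⁻¹)) * δ := by group
      _ = δ⁻¹ * ((δ * z * δ⁻¹) * n) * δ := by rw [h1]
      _ = z * (δ⁻¹ * n * δ) := by group
  -- `J` fixes `B` pointwise
  have hJB : ∀ n ∈ J, ∀ y ∈ B, n • y = y := by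
    intro n hn y hy
    obtain ⟨z, hz, hzy⟩ := hK.trans 1 (Subgroup.one_mem _) x (by rw [h1B]; exact hx) y
      (by rw [h1B]; exact hy)
    rw [← hzy, ← mul_smul, hn.2 z hz, mul_smul, mem_stabilizer_iff.1 hn.1.2]
  -- the fixed points of `J`
  have hF1 : ∀ y, (∀ n ∈ J, n • y = y) → y ∈ insert S.a B := by
    intro y hy
    by_cases hya : y = S.a
    · exact Or.inl hya
    · right
      obtain ⟨h0, hh0, hyh0⟩ := S.blk_cover hK.blk hya
      by_cases hB0 : h0 • B = B
      · rwa [hB0] at hyh0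
      · exfalso
        apply hj01
        apply two_normal_trivial hK hx hK1 h2t J hJD hJn hh0 hB0 _ j0 ⟨hj0D, hj0c⟩
        intro n hn
        exact two_smul_blk (S.blk_smul hK.blk hh0) hyh0 hn.1.1 (hy n hn)
  have hF1' : ∀ y ∈ insert S.a B, ∀ n ∈ J, n • y = y := by
    rintro y (rfl | hy) n hn
    · exact mem_stabilizer_iff.1 hn.1.1
    · exact hJB n hn y hy
  obtain ⟨t, hta, htx⟩ := S.exists_swap hxa
  have htia : t⁻¹ • S.a = x := by rw [inv_smul_eq_iff, htx]
  have htix : t⁻¹ • x = S.a := by rw [inv_smul_eq_iff, hta]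
  have hconjD : ∀ δ ∈ stabilizer G S.a ⊓ stabilizer G x,
      t * δ * t⁻¹ ∈ stabilizer G S.a ⊓ stabilizer G x := by
    intro δ hδ
    have hδa : δ • S.a = S.a := mem_stabilizer_iff.1 hδ.1
    have hδx : δ • x = x := mem_stabilizer_iff.1 hδ.2
    refine Subgroup.mem_inf.2 ⟨?_, ?_⟩
    · rw [mem_stabilizer_iff, mul_smul, mul_smul, htia, hδx, htx]
    · rw [mem_stabilizer_iff, mul_smul, mul_smul, htix, hδa, hta]
  have hconjD' : ∀ δ ∈ stabilizer G S.a ⊓ stabilizer G x,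
      t⁻¹ * δ * t ∈ stabilizer G S.a ⊓ stabilizer G x := by
    intro δ hδ
    have hδa : δ • S.a = S.a := mem_stabilizer_iff.1 hδ.1
    have hδx : δ • x = x := mem_stabilizer_iff.1 hδ.2
    refine Subgroup.mem_inf.2 ⟨?_, ?_⟩
    · rw [mem_stabilizer_iff, mul_smul, mul_smul, hta, hδx, htix]
    · rw [mem_stabilizer_iff, mul_smul, mul_smul, htx, hδa, htia]
  by_cases hcase : ∀ n ∈ J, t * n * t⁻¹ ∈ J
  · -- the conjugate of `J` is `J`: `t` preserves the line
    have hsub : insert S.a B ⊆ t • insert S.a B := by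
      intro y hy
      rw [Set.mem_smul_set_iff_inv_smul_mem]
      apply hF1
      intro n hn
      have h1 := hF1' y hy _ (hcase n hn)
      rw [mul_smul, mul_smul] at h1
      exact (smul_eq_iff_eq_inv_smul t).1 h1
    have heq : t • insert S.a B = insert S.a B := by
      symm
      apply Set.eq_of_subset_of_ncard_le hsub _ (Set.toFinite _)
      rw [Set.ncard_smul_set]
    exact hxa (hta.symm.trans (S.centre B hK.blk t heq))
  · push Not at hcase
    obtain ⟨n0, hn0, hr0⟩ := hcase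
    have hr0D : t * n0 * t⁻¹ ∈ stabilizer G S.a ⊓ stabilizer G x := hconjD n0 hn0.1
    have hr0x : (t * n0 * t⁻¹) • x = x := mem_stabilizer_iff.1 hr0D.2
    have hr0c : ¬ ∀ z ∈ S.P ⊓ kern G S.a B, (t * n0 * t⁻¹) * z = z * (t * n0 * t⁻¹) :=
      fun h => hr0 ⟨hr0D, h⟩
    -- `r0` fixes no point of `B` other than `x`
    have hr0B : ∀ y ∈ B, (t * n0 * t⁻¹) • y = y → y = x := by
      intro y hy hry
      by_contra hyx
      apply hr0c
      obtain ⟨z, hz, hzy⟩ := hK.trans 1 (Subgroup.one_mem _) x (by rw [h1B]; exact hx) y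
        (by rw [h1B]; exact hy)
      have hz1 : z ≠ 1 := by
        rintro rfl
        exact hyx (by rw [← hzy, one_smul])
      have hconj : (t * n0 * t⁻¹) * z * (t * n0 * t⁻¹)⁻¹ = z := by
        apply S.P_smul_inj hxa (two_norm hK hx hK1 hr0D.1 hz).1 hz.1
        rw [mul_smul, mul_smul, inv_smul_eq_iff.2 hr0x.symm, hzy, hry]
      have hcomm : (t * n0 * t⁻¹) * z = z * (t * n0 * t⁻¹) := by
        rw [← hconj, inv_mul_cancel_right, hconj]
      intro z' hz'
      have hz1' : (⟨z, hz⟩ : ↥(S.P ⊓ kern G S.a B)) ≠ 1 := by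
        intro h
        exact hz1 (congrArg Subtype.val h)
      have hmem : (⟨z', hz'⟩ : ↥(S.P ⊓ kern G S.a B)) ∈
          Subgroup.zpowers (⟨z, hz⟩ : ↥(S.P ⊓ kern G S.a B)) :=
        mem_zpowers_of_prime_card hK.card_P0 hz1'
      obtain ⟨i, hi⟩ := Subgroup.mem_zpowers_iff.1 hmem
      have hzi : z' = z ^ i := by
        have := congrArg Subtype.val hi
        simpa using this.symm
      rw [hzi]
      exact (Commute.zpow_right (show Commute (t * n0 * t⁻¹) z from hcomm) i).eq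
    -- a fixed point of the conjugate of `J` outside `B`
    have htB : (t • B).ncard = p := by rw [Set.ncard_smul_set, hK.blk.2.1]
    obtain ⟨y, hytB, hya⟩ := Set.exists_ne_of_one_lt_ncard (by rw [htB]; exact hp.one_lt) S.a
    have hRy : ∀ n ∈ J, (t * n * t⁻¹) • y = y := by
      intro n hn
      obtain ⟨b, hb, rfl⟩ := hytB
      show (t * n * t⁻¹) • t • b = t • b
      rw [mul_smul, mul_smul, inv_smul_smul, hJB n hn b hb]
    have hyx : y ≠ x := by
      obtain ⟨b, hb, rfl⟩ := hytB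
      intro h
      have h3 : t • b = t • S.a := h.trans hta.symm
      have h4 : b = S.a := smul_left_cancel t h3
      exact hK.blk.1 (h4 ▸ hb)
    have hyB : y ∉ B := fun hyB => hyx (hr0B y hyB (hRy n0 hn0))
    obtain ⟨h0, hh0, hyh0⟩ := S.blk_cover hK.blk hya
    have hB0 : h0 • B ≠ B := fun h => hyB (h ▸ hyh0)
    let R : Set G := {r | ∃ n ∈ J, r = t * n * t⁻¹}
    have hRD : ∀ r ∈ R, r ∈ stabilizer G S.a ⊓ stabilizer G x := by
      rintro _ ⟨n, hn, rfl⟩
      exact hconjD n hn.1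
    have hRn : ∀ δ ∈ stabilizer G S.a ⊓ stabilizer G x, ∀ r ∈ R, δ⁻¹ * r * δ ∈ R := by
      rintro δ hδ _ ⟨n, hn, rfl⟩
      refine ⟨(t⁻¹ * δ * t)⁻¹ * n * (t⁻¹ * δ * t), hJn _ (hconjD' δ hδ) n hn, by group⟩
    have hRfix : ∀ r ∈ R, r • (h0 • B) = h0 • B := by
      rintro _ ⟨n, hn, rfl⟩
      exact two_smul_blk (S.blk_smul hK.blk hh0) hyh0 (hconjD n hn.1).1 (hRy n hn)
    have hR1 := two_normal_trivial hK hx hK1 h2t R hRD hRn hh0 hB0 hRfix
    apply hj01
    have h5 := hR1 (t * j0 * t⁻¹) ⟨j0, ⟨hj0D, hj0c⟩, rfl⟩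
    have h6 : j0 = t⁻¹ * (t * j0 * t⁻¹) * t := by group
    rw [h6, h5]; group

end Cfsg.Agent.Helper3.DP
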