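import Mathlib
import Cfsg.Prelude.Def_SporadicB
import Cfsg.Agent.S0051
import Cfsg.Agent.Lib.Helper17.DblAlt3

set_option autoImplicit false
set_option linter.unusedSectionVars false

/-! Involutions in double covers of small alternating groups: dihedral normal forms and sections (`mem_closure_pair_dihedral`, `card_closure_pair_dihedral`, `closure_inf_ker_eq_bot`), conjugacy of involutions in alternating groups of degree at most seven (`alt_invol_conj`), a non-split double cover of such a group has a unique involution (`part_one`, via the complement theorem for abelian normal subgroups), a central subgroup meeting the commutator subgroup has no complement (`not_isComplement'_center`), and the Clifford double cover of degree eight is non-split with a non-central involution (`nonsplit_Gam`, `part_two`). -/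

namespace Cfsg.Agent.Helper27.DblCov


variable {H : Type*} [Group H]

theorem dihedral_rel {r s : H} (hs : s * s = 1) (hsr : (s * r) * (s * r) = 1) :
    s * r = r⁻¹ * s := by
  have hsinv : s⁻¹ = s := inv_eq_of_mul_eq_one_right hs
  have h1 : s * r * s = r⁻¹ := by
    have : s * r * s * r = 1 := by rw [← hsr]; group
    exact eq_inv_of_mul_eq_one_left this
  calc s * r = s * r * s * s⁻¹ := by group
    _ = r⁻¹ * s := by rw [h1, hsinv]

theorem dihedral_rel_zpow {r s : H} (hs : s * s = 1) (hsr : (s * r) * (s * r) = 1) (i : ℤ) :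
    s * r ^ i = r ^ (-i) * s := by
  have hsinv : s⁻¹ = s := inv_eq_of_mul_eq_one_right hs
  have h1 : s * r * s⁻¹ = r⁻¹ := by
    rw [dihedral_rel hs hsr, mul_assoc, hsinv, hs, mul_one]
  have h2 : s * r ^ i * s⁻¹ = (r⁻¹) ^ i := by rw [← h1, conj_zpow]
  calc s * r ^ i = s * r ^ i * s⁻¹ * s := by group
    _ = r ^ (-i) * s := by rw [h2, inv_zpow', ]

/-- normal form of the elements of the subgroup generated by `r` and `s` -/
theorem mem_closure_pair_dihedral {r s : H} (hs : s * s = 1) (hsr : (s * r) * (s * r) = 1) :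
    ∀ x ∈ Subgroup.closure ({r, s} : Set H), ∃ i : ℤ, x = r ^ i ∨ x = r ^ i * s := by
  have hsinv : s⁻¹ = s := inv_eq_of_mul_eq_one_right hs
  intro x hx
  induction hx using Subgroup.closure_induction with
  | mem x hx =>
    simp only [Set.mem_insert_iff, Set.mem_singleton_iff] at hx
    rcases hx with rfl | rfl
    · exact ⟨1, Or.inl (zpow_one _).symm⟩
    · exact ⟨0, Or.inr (by rw [zpow_zero, one_mul])⟩
  | one => exact ⟨0, Or.inl (zpow_zero _).symm⟩
  | mul x y _ _ ihx ihy =>
    obtain ⟨i, hi⟩ := ihx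
    obtain ⟨j, hj⟩ := ihy
    rcases hi with rfl | rfl <;> rcases hj with rfl | rfl
    · exact ⟨i + j, Or.inl (zpow_add r i j).symm⟩
    · exact ⟨i + j, Or.inr (by rw [zpow_add, mul_assoc])⟩
    · refine ⟨i + -j, Or.inr ?_⟩
      rw [mul_assoc, dihedral_rel_zpow hs hsr, ← mul_assoc, zpow_add]
    · refine ⟨i + -j, Or.inl ?_⟩
      rw [mul_assoc, ← mul_assoc s, dihedral_rel_zpow hs hsr, mul_assoc (r ^ (-j)), hs, mul_one,
        zpow_add]
  | inv x _ ihx =>
    obtain ⟨i, hi⟩ := ihx
    rcases hi with rfl | rfl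
    · exact ⟨-i, Or.inl (zpow_neg r i).symm⟩
    · refine ⟨i, Or.inr ?_⟩
      rw [mul_inv_rev, hsinv, ← zpow_neg, dihedral_rel_zpow hs hsr, neg_neg]

/-- the order of the subgroup generated by `r` and `s` -/
theorem card_closure_pair_dihedral [Finite H] {r s : H} (hs : s * s = 1)
    (hsr : (s * r) * (s * r) = 1) (hns : s ∉ Subgroup.zpowers r) :
    Nat.card ↥(Subgroup.closure ({r, s} : Set H)) = 2 * orderOf r := by
  have hrC : r ∈ Subgroup.closure ({r, s} : Set H) := Subgroup.subset_closure (by simp)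
  have hsC : s ∈ Subgroup.closure ({r, s} : Set H) := Subgroup.subset_closure (by simp)
  have hset : ((Subgroup.closure ({r, s} : Set H) : Subgroup H) : Set H) =
      (Subgroup.zpowers r : Set H) ∪ (fun x => x * s) '' (Subgroup.zpowers r : Set H) := by
    ext x
    constructor
    · intro hx
      obtain ⟨i, hi⟩ := mem_closure_pair_dihedral hs hsr x hx
      rcases hi with rfl | rfl
      · exact Or.inl (Subgroup.zpow_mem_zpowers r i)
      · exact Or.inr ⟨r ^ i, Subgroup.zpow_mem_zpowers r i, rfl⟩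
    · rintro (hx | ⟨y, hy, rfl⟩)
      · obtain ⟨i, rfl⟩ := Subgroup.mem_zpowers_iff.1 hx
        exact Subgroup.zpow_mem _ hrC i
      · obtain ⟨i, rfl⟩ := Subgroup.mem_zpowers_iff.1 hy
        exact Subgroup.mul_mem _ (Subgroup.zpow_mem _ hrC i) hsC
  have hdisj : Disjoint (Subgroup.zpowers r : Set H)
      ((fun x => x * s) '' (Subgroup.zpowers r : Set H)) := by
    rw [Set.disjoint_left]
    rintro x hx ⟨y, hy, hxy⟩
    apply hns
    have : s = y⁻¹ * x := by rw [← hxy]; group
    rw [this]
    exact Subgroup.mul_mem _ (Subgroup.inv_mem _ hy) hx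
  have h1 : Nat.card ↥(Subgroup.closure ({r, s} : Set H)) =
      ((Subgroup.closure ({r, s} : Set H) : Subgroup H) : Set H).ncard := rfl
  have h2 : ((fun x => x * s) '' (Subgroup.zpowers r : Set H)).ncard =
      (Subgroup.zpowers r : Set H).ncard :=
    Set.ncard_image_of_injective _ (mul_left_injective s)
  have h3 : (Subgroup.zpowers r : Set H).ncard = orderOf r := by
    have : (Subgroup.zpowers r : Set H).ncard = Nat.card ↥(Subgroup.zpowers r) := rfl
    rw [this, Nat.card_zpowers]
  rw [h1, hset, Set.ncard_union_eq hdisj (Set.toFinite _) (Set.toFinite _), h2, h3]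
  ring

variable {G : Type*} [Group G]

/-- a dihedral section meets the kernel trivially -/
theorem closure_inf_ker_eq_bot (π : H →* G) {r s : H} (hm : r ^ orderOf (π r) = 1)
    (hs : s * s = 1) (hsr : (s * r) * (s * r) = 1) (hns : π s ∉ Subgroup.zpowers (π r)) :
    Subgroup.closure ({r, s} : Set H) ⊓ π.ker = ⊥ := by
  rw [eq_bot_iff]
  rintro x ⟨hx, hxk⟩
  have hxk : π x = 1 := MonoidHom.mem_ker.1 hxk
  rw [Subgroup.mem_bot]
  obtain ⟨i, hi⟩ := mem_closure_pair_dihedral hs hsr x hx
  rcases hi with rfl | rfl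
  · rw [map_zpow] at hxk
    obtain ⟨k, hk⟩ := (orderOf_dvd_iff_zpow_eq_one).2 hxk
    rw [hk, zpow_mul, zpow_natCast, hm, one_zpow]
  · exfalso
    apply hns
    rw [map_mul, map_zpow] at hxk
    have : π s = (π r) ^ (-i) := by
      rw [zpow_neg]
      exact eq_inv_of_mul_eq_one_right hxk
    rw [this]
    exact Subgroup.zpow_mem_zpowers _ _

theorem ker_sup_closure (π : H →* G) (r s : H) :
    π.ker ⊔ Subgroup.closure ({r, s} : Set H) =
      (Subgroup.closure ({π r, π s} : Set G)).comap π := by
  apply le_antisymm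
  · apply sup_le
    · intro x hx
      rw [Subgroup.mem_comap, MonoidHom.mem_ker.1 hx]
      exact Subgroup.one_mem _
    · rw [Subgroup.closure_le]
      intro x hx
      simp only [Set.mem_insert_iff, Set.mem_singleton_iff] at hx
      rw [SetLike.mem_coe, Subgroup.mem_comap]
      rcases hx with rfl | rfl
      · exact Subgroup.subset_closure (by simp)
      · exact Subgroup.subset_closure (by simp)
  · intro x hx
    rw [Subgroup.mem_comap] at hx
    have himg : Subgroup.closure ({π r, π s} : Set G) =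
        (Subgroup.closure ({r, s} : Set H)).map π := by
      rw [MonoidHom.map_closure]
      congr 1
      ext y
      simp only [Set.mem_insert_iff, Set.mem_singleton_iff, Set.mem_image]
      constructor
      · rintro (rfl | rfl)
        · exact ⟨r, Or.inl rfl, rfl⟩
        · exact ⟨s, Or.inr rfl, rfl⟩
      · rintro ⟨w, rfl | rfl, rfl⟩
        · exact Or.inl rfl
        · exact Or.inr rfl
    rw [himg] at hx
    obtain ⟨a, ha, hax⟩ := hx
    have hk : x * a⁻¹ ∈ π.ker := by
      rw [MonoidHom.mem_ker, map_mul, map_inv, hax, mul_inv_cancel]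
    have e : x = (x * a⁻¹) * a := by group
    rw [e]
    exact Subgroup.mul_mem_sup hk ha




open Equiv

/-- an even involution on at most seven points has cycle type `2²` -/
theorem cycleType_of_even_invol {n : ℕ} (hn : n ≤ 7) (σ : Perm (Fin n)) (hσ : σ * σ = 1)
    (hσ1 : σ ≠ 1) (hsign : Perm.sign σ = 1) : σ.cycleType = {2, 2} := by
  have : Fact (Nat.Prime 2) := ⟨Nat.prime_two⟩
  have ho : orderOf σ = 2 := orderOf_eq_prime (by rw [pow_two]; exact hσ) hσ1
  obtain ⟨k, hk⟩ := Perm.cycleType_prime_order (σ := σ) (by rw [ho]; exact Nat.prime_two)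
  rw [ho] at hk
  have hsum := Perm.sum_cycleType σ
  rw [hk, Multiset.sum_replicate, smul_eq_mul] at hsum
  have hle : σ.support.card ≤ n := by
    have := Finset.card_le_univ σ.support
    rwa [Fintype.card_fin] at this
  have hs := Perm.sign_of_cycleType σ
  rw [hk, hsign, Multiset.sum_replicate, Multiset.card_replicate, smul_eq_mul] at hs
  have hk1 : k = 1 := by
    have hk2 : k ≤ 2 := by omega
    interval_cases k
    · exfalso
      revert hs; decide
    · rfl
    · exfalso
      revert hs; decide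
  rw [hk, hk1]
  rfl

theorem swap_commute_of_invol {n : ℕ} (σ : Perm (Fin n)) (hσ : σ * σ = 1) (a : Fin n) :
    Equiv.swap a (σ a) * σ = σ * Equiv.swap a (σ a) := by
  have hσσ : ∀ x, σ (σ x) = x := fun x => by
    have := congrArg (fun f : Perm (Fin n) => f x) hσ
    simpa using this
  ext x
  simp only [Perm.mul_apply]
  by_cases hxa : x = a
  · rw [hxa, Equiv.swap_apply_right, Equiv.swap_apply_left, hσσ]
  · by_cases hxs : x = σ a
    · rw [hxs, hσσ, Equiv.swap_apply_left, Equiv.swap_apply_right]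
    · rw [Equiv.swap_apply_of_ne_of_ne hxa hxs]
      have h1 : σ x ≠ a := fun h => hxs (by rw [← h, hσσ])
      have h2 : σ x ≠ σ a := fun h => hxa (σ.injective h)
      rw [Equiv.swap_apply_of_ne_of_ne h1 h2]

/-- the involutions of an alternating group of degree at most seven are conjugate -/
theorem alt_invol_conj {n : ℕ} (hn : n ≤ 7) (σ τ : alternatingGroup (Fin n)) (hσ : σ * σ = 1)
    (hσ1 : σ ≠ 1) (hτ : τ * τ = 1) (hτ1 : τ ≠ 1) :
    ∃ g : alternatingGroup (Fin n), g * σ * g⁻¹ = τ := by
  have hσ' : (σ : Perm (Fin n)) * σ = 1 := congrArg Subtype.val hσ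
  have hτ' : (τ : Perm (Fin n)) * τ = 1 := congrArg Subtype.val hτ
  have hσ1' : (σ : Perm (Fin n)) ≠ 1 := fun h => hσ1 (Subtype.ext h)
  have hτ1' : (τ : Perm (Fin n)) ≠ 1 := fun h => hτ1 (Subtype.ext h)
  have c1 := cycleType_of_even_invol hn σ hσ' hσ1' (Perm.mem_alternatingGroup.1 σ.2)
  have c2 := cycleType_of_even_invol hn τ hτ' hτ1' (Perm.mem_alternatingGroup.1 τ.2)
  obtain ⟨g, hg⟩ := isConj_iff.1 ((Perm.isConj_iff_cycleType_eq).2 (c1.trans c2.symm))
  rcases Int.units_eq_one_or (Perm.sign g) with hs | hs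
  · exact ⟨⟨g, Perm.mem_alternatingGroup.2 hs⟩, Subtype.ext hg⟩
  · obtain ⟨a, ha⟩ : ∃ a, (σ : Perm (Fin n)) a ≠ a := by
      by_contra hcon
      push Not at hcon
      exact hσ1' (Perm.ext hcon)
    have hc := swap_commute_of_invol (σ : Perm (Fin n)) hσ' a
    have hsc : Perm.sign (Equiv.swap a ((σ : Perm (Fin n)) a)) = -1 :=
      Perm.sign_swap (fun h => ha h.symm)
    have hs' : Perm.sign (g * Equiv.swap a ((σ : Perm (Fin n)) a)) = 1 := by
      rw [map_mul, hs, hsc]
      rfl
    refine ⟨⟨g * Equiv.swap a ((σ : Perm (Fin n)) a), Perm.mem_alternatingGroup.2 hs'⟩,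
      Subtype.ext ?_⟩
    change g * Equiv.swap a ((σ : Perm (Fin n)) a) * σ *
      (g * Equiv.swap a ((σ : Perm (Fin n)) a))⁻¹ = τ
    rw [← hg, mul_inv_rev, mul_assoc g, hc]
    simp only [mul_assoc, Equiv.swap_inv, Equiv.swap_mul_self_mul]




open Equiv

/-- the projection of a double cover onto the alternating group -/
noncomputable def proj {H : Type*} [Group H] {n : ℕ}
    (φ : H ⧸ Subgroup.center H ≃* alternatingGroup (Fin n)) : H →* alternatingGroup (Fin n) :=
  φ.toMonoidHom.comp (QuotientGroup.mk' (Subgroup.center H))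

theorem proj_surjective {H : Type*} [Group H] {n : ℕ}
    (φ : H ⧸ Subgroup.center H ≃* alternatingGroup (Fin n)) : Function.Surjective (proj φ) := by
  intro σ
  obtain ⟨q, hq⟩ := φ.surjective σ
  obtain ⟨h, hh⟩ := QuotientGroup.mk'_surjective (Subgroup.center H) q
  exact ⟨h, by rw [← hq, ← hh]; rfl⟩

theorem proj_ker {H : Type*} [Group H] {n : ℕ}
    (φ : H ⧸ Subgroup.center H ≃* alternatingGroup (Fin n)) :
    (proj φ).ker = Subgroup.center H := by
  ext h
  rw [MonoidHom.mem_ker]
  change φ (QuotientGroup.mk' (Subgroup.center H) h) = 1 ↔ _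
  rw [MulEquiv.map_eq_one_iff, ← MonoidHom.mem_ker, QuotientGroup.ker_mk']

theorem center_sq {H : Type*} [Group H] [Finite H] (hZ : Nat.card (Subgroup.center H) = 2)
    {c : H} (hc : c ∈ Subgroup.center H) : c * c = 1 := by
  have h := pow_card_eq_one' (G := Subgroup.center H) (x := ⟨c, hc⟩)
  rw [hZ, pow_two] at h
  exact congrArg Subtype.val h

/-- the core of the argument: a dihedral Sylow 2-subgroup whose involutions all lift to
involutions gives a complement to the centre -/
theorem invol_mem_center {H : Type*} [Group H] [Finite H] {n : ℕ}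
    (hZ : Nat.card (Subgroup.center H) = 2)
    (φ : H ⧸ Subgroup.center H ≃* alternatingGroup (Fin n))
    (hns : ∀ L : Subgroup H, ¬ (Subgroup.center H).IsComplement' L)
    (hconj : ∀ σ τ : alternatingGroup (Fin n), σ * σ = 1 → σ ≠ 1 → τ * τ = 1 → τ ≠ 1 →
      ∃ g : alternatingGroup (Fin n), g * σ * g⁻¹ = τ)
    (r s : alternatingGroup (Fin n)) (k q : ℕ) (hk : 0 < k) (hro : orderOf r = 2 * k)
    (hs : s * s = 1) (hs1 : s ≠ 1) (hsr : (s * r) * (s * r) = 1) (hsr1 : s * r ≠ 1)
    (hsz : s ∉ Subgroup.zpowers r)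
    (hcard : Nat.card (alternatingGroup (Fin n)) = q * (2 * (2 * k))) (hq : Odd q)
    (x : H) (hx : orderOf x = 2) : x ∈ Subgroup.center H := by
  by_contra hxc
  have hxx : x * x = 1 := by
    have := pow_orderOf_eq_one x
    rwa [hx, pow_two] at this
  set π := proj φ with hπ
  have hsurj := proj_surjective φ
  have hker : π.ker = Subgroup.center H := proj_ker φ
  have hσ0 : π x * π x = 1 := by rw [← map_mul, hxx, map_one]
  have hσ01 : π x ≠ 1 := by
    intro h
    apply hxc
    rw [← hker]
    exact MonoidHom.mem_ker.2 h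
  -- every lift of an involution is an involution
  have hlift : ∀ τ : alternatingGroup (Fin n), τ * τ = 1 → τ ≠ 1 → ∀ h : H, π h = τ →
      h * h = 1 := by
    intro τ hτ hτ1 h hh
    obtain ⟨g, hg⟩ := hconj (π x) τ hσ0 hσ01 hτ hτ1
    obtain ⟨g', rfl⟩ := hsurj g
    have h1 : π (g' * x * g'⁻¹) = τ := by rw [map_mul, map_mul, map_inv, hg]
    have hc : h * (g' * x * g'⁻¹)⁻¹ ∈ Subgroup.center H := by
      rw [← hker, MonoidHom.mem_ker, map_mul, map_inv, h1, hh, mul_inv_cancel]
    have hcc := center_sq hZ hc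
    have hcomm := Subgroup.mem_center_iff.1 hc
    have e : h = (h * (g' * x * g'⁻¹)⁻¹) * (g' * x * g'⁻¹) := by group
    have h2 : (g' * x * g'⁻¹) * (g' * x * g'⁻¹) = 1 := by
      calc (g' * x * g'⁻¹) * (g' * x * g'⁻¹) = g' * (x * x) * g'⁻¹ := by group
        _ = 1 := by rw [hxx, mul_one, mul_inv_cancel]
    rw [e]
    generalize h * (g' * x * g'⁻¹)⁻¹ = c at hcc hcomm
    generalize g' * x * g'⁻¹ = y at h2
    calc c * y * (c * y) = c * (y * c) * y := by group
      _ = c * (c * y) * y := by rw [hcomm y]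
      _ = (c * c) * (y * y) := by group
      _ = 1 := by rw [hcc, h2, mul_one]
  obtain ⟨r', hr'⟩ := hsurj r
  obtain ⟨s', hs'⟩ := hsurj s
  have hs's' : s' * s' = 1 := hlift s hs hs1 s' hs'
  have hsr' : (s' * r') * (s' * r') = 1 :=
    hlift (s * r) hsr hsr1 (s' * r') (by rw [map_mul, hs', hr'])
  have hrk1 : r ^ k ≠ 1 := pow_ne_one_of_lt_orderOf hk.ne' (by rw [hro]; omega)
  have hrk2 : r ^ k * r ^ k = 1 := by
    rw [← pow_add, ← two_mul, ← hro, pow_orderOf_eq_one]
  have hr'k : r' ^ orderOf (π r') = 1 := by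
    rw [hr', hro, two_mul, pow_add]
    exact hlift (r ^ k) hrk2 hrk1 (r' ^ k) (by rw [map_pow, hr'])
  have hA1 : Subgroup.closure ({r', s'} : Set H) ⊓ Subgroup.center H = ⊥ := by
    rw [← hker]
    apply closure_inf_ker_eq_bot π hr'k hs's' hsr'
    rw [hs', hr']
    exact hsz
  have hA2 : Subgroup.center H ⊔ Subgroup.closure ({r', s'} : Set H) =
      (Subgroup.closure ({r, s} : Set (alternatingGroup (Fin n)))).comap π := by
    rw [← hker, ker_sup_closure, hr', hs']
  have hidx : ((Subgroup.closure ({r, s} : Set (alternatingGroup (Fin n)))).comap π).index = q := by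
    rw [Subgroup.index_comap_of_surjective _ hsurj]
    have h1 := Subgroup.index_mul_card (Subgroup.closure ({r, s} : Set (alternatingGroup (Fin n))))
    rw [card_closure_pair_dihedral hs hsr hsz, hro, hcard] at h1
    exact Nat.eq_of_mul_eq_mul_right (by omega) h1
  have hcop : (Nat.card (Subgroup.center H)).Coprime
      ((Subgroup.closure ({r, s} : Set (alternatingGroup (Fin n)))).comap π).index := by
    rw [hZ, hidx]
    exact Nat.coprime_two_left.2 hq
  obtain ⟨L, hL⟩ := Cfsg.Agent.S0051.result (Subgroup.center H)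
    ((Subgroup.closure ({r, s} : Set (alternatingGroup (Fin n)))).comap π)
    (by rw [← hA2]; exact le_sup_left) hcop (Subgroup.closure ({r', s'} : Set H))
    (by rw [← hA2]; exact le_sup_right) hA1 hA2
  exact hns L hL




open Equiv

theorem card_alt (n : ℕ) (hn : 2 ≤ n) :
    2 * Nat.card (alternatingGroup (Fin n)) = n.factorial := by
  haveI : Nontrivial (Fin n) := Fin.nontrivial_iff_two_le.2 hn
  rw [Nat.card_eq_fintype_card, two_mul_card_alternatingGroup, Fintype.card_perm, Fintype.card_fin]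

/-- generators of a Sylow 2-subgroup in degree 4 -/
def gr4 : alternatingGroup (Fin 4) :=
  ⟨Equiv.swap 0 1 * Equiv.swap 2 3, Perm.mem_alternatingGroup.2 (by decide)⟩

/-- generators of a Sylow 2-subgroup in degree 4 -/
def gs4 : alternatingGroup (Fin 4) :=
  ⟨Equiv.swap 0 2 * Equiv.swap 1 3, Perm.mem_alternatingGroup.2 (by decide)⟩

theorem orderOf_gr4 : orderOf gr4 = 2 := by
  rw [orderOf_eq_iff (by norm_num)]
  refine ⟨by decide, ?_⟩
  intro m hm hm0
  interval_cases m
  decide

theorem gs4_notMem : gs4 ∉ Subgroup.zpowers gr4 := by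
  rw [mem_zpowers_iff_mem_range_orderOf, orderOf_gr4]
  decide

theorem case4 {H : Type*} [Group H] [Finite H]
    (hZ : Nat.card (Subgroup.center H) = 2)
    (φ : H ⧸ Subgroup.center H ≃* alternatingGroup (Fin 4))
    (hns : ∀ L : Subgroup H, ¬ (Subgroup.center H).IsComplement' L)
    (x : H) (hx : orderOf x = 2) : x ∈ Subgroup.center H := by
  have hc := card_alt 4 (by norm_num)
  have hf : Nat.factorial 4 = 24 := by decide
  have hcard : Nat.card (alternatingGroup (Fin 4)) = 3 * (2 * (2 * 1)) := by omega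
  exact invol_mem_center hZ φ hns (alt_invol_conj (by norm_num)) gr4 gs4 1 3
    (by norm_num) orderOf_gr4 (by decide) (by decide) (by decide) (by decide) gs4_notMem hcard
    (by decide) x hx

/-- generators of a Sylow 2-subgroup in degree 5 -/
def gr5 : alternatingGroup (Fin 5) :=
  ⟨Equiv.swap 0 1 * Equiv.swap 2 3, Perm.mem_alternatingGroup.2 (by decide)⟩

/-- generators of a Sylow 2-subgroup in degree 5 -/
def gs5 : alternatingGroup (Fin 5) :=
  ⟨Equiv.swap 0 2 * Equiv.swap 1 3, Perm.mem_alternatingGroup.2 (by decide)⟩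

theorem orderOf_gr5 : orderOf gr5 = 2 := by
  rw [orderOf_eq_iff (by norm_num)]
  refine ⟨by decide, ?_⟩
  intro m hm hm0
  interval_cases m
  decide

theorem gs5_notMem : gs5 ∉ Subgroup.zpowers gr5 := by
  rw [mem_zpowers_iff_mem_range_orderOf, orderOf_gr5]
  decide

theorem case5 {H : Type*} [Group H] [Finite H]
    (hZ : Nat.card (Subgroup.center H) = 2)
    (φ : H ⧸ Subgroup.center H ≃* alternatingGroup (Fin 5))
    (hns : ∀ L : Subgroup H, ¬ (Subgroup.center H).IsComplement' L)
    (x : H) (hx : orderOf x = 2) : x ∈ Subgroup.center H := by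
  have hc := card_alt 5 (by norm_num)
  have hf : Nat.factorial 5 = 120 := by decide
  have hcard : Nat.card (alternatingGroup (Fin 5)) = 15 * (2 * (2 * 1)) := by omega
  exact invol_mem_center hZ φ hns (alt_invol_conj (by norm_num)) gr5 gs5 1 15
    (by norm_num) orderOf_gr5 (by decide) (by decide) (by decide) (by decide) gs5_notMem hcard
    (by decide) x hx

/-- generators of a Sylow 2-subgroup in degree 6 -/
def gr6 : alternatingGroup (Fin 6) :=
  ⟨Equiv.swap 0 1 * Equiv.swap 1 2 * Equiv.swap 2 3 * Equiv.swap 4 5, Perm.mem_alternatingGroup.2 (by decide)⟩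

/-- generators of a Sylow 2-subgroup in degree 6 -/
def gs6 : alternatingGroup (Fin 6) :=
  ⟨Equiv.swap 0 2 * Equiv.swap 4 5, Perm.mem_alternatingGroup.2 (by decide)⟩

theorem orderOf_gr6 : orderOf gr6 = 4 := by
  rw [orderOf_eq_iff (by norm_num)]
  refine ⟨by decide, ?_⟩
  intro m hm hm0
  interval_cases m
  · decide
  · decide
  · decide

theorem gs6_notMem : gs6 ∉ Subgroup.zpowers gr6 := by
  rw [mem_zpowers_iff_mem_range_orderOf, orderOf_gr6]
  decide

theorem case6 {H : Type*} [Group H] [Finite H]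
    (hZ : Nat.card (Subgroup.center H) = 2)
    (φ : H ⧸ Subgroup.center H ≃* alternatingGroup (Fin 6))
    (hns : ∀ L : Subgroup H, ¬ (Subgroup.center H).IsComplement' L)
    (x : H) (hx : orderOf x = 2) : x ∈ Subgroup.center H := by
  have hc := card_alt 6 (by norm_num)
  have hf : Nat.factorial 6 = 720 := by decide
  have hcard : Nat.card (alternatingGroup (Fin 6)) = 45 * (2 * (2 * 2)) := by omega
  exact invol_mem_center hZ φ hns (alt_invol_conj (by norm_num)) gr6 gs6 2 45
    (by norm_num) orderOf_gr6 (by decide) (by decide) (by decide) (by decide) gs6_notMem hcard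
    (by decide) x hx

/-- generators of a Sylow 2-subgroup in degree 7 -/
def gr7 : alternatingGroup (Fin 7) :=
  ⟨Equiv.swap 0 1 * Equiv.swap 1 2 * Equiv.swap 2 3 * Equiv.swap 4 5, Perm.mem_alternatingGroup.2 (by decide)⟩

/-- generators of a Sylow 2-subgroup in degree 7 -/
def gs7 : alternatingGroup (Fin 7) :=
  ⟨Equiv.swap 0 2 * Equiv.swap 4 5, Perm.mem_alternatingGroup.2 (by decide)⟩

theorem orderOf_gr7 : orderOf gr7 = 4 := by
  rw [orderOf_eq_iff (by norm_num)]
  refine ⟨by decide, ?_⟩
  intro m hm hm0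
  interval_cases m
  · decide
  · decide
  · decide

theorem gs7_notMem : gs7 ∉ Subgroup.zpowers gr7 := by
  rw [mem_zpowers_iff_mem_range_orderOf, orderOf_gr7]
  decide

theorem case7 {H : Type*} [Group H] [Finite H]
    (hZ : Nat.card (Subgroup.center H) = 2)
    (φ : H ⧸ Subgroup.center H ≃* alternatingGroup (Fin 7))
    (hns : ∀ L : Subgroup H, ¬ (Subgroup.center H).IsComplement' L)
    (x : H) (hx : orderOf x = 2) : x ∈ Subgroup.center H := by
  have hc := card_alt 7 (by norm_num)
  have hf : Nat.factorial 7 = 5040 := by decide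
  have hcard : Nat.card (alternatingGroup (Fin 7)) = 315 * (2 * (2 * 2)) := by omega
  exact invol_mem_center hZ φ hns (alt_invol_conj (by norm_num)) gr7 gs7 2 315
    (by norm_num) orderOf_gr7 (by decide) (by decide) (by decide) (by decide) gs7_notMem hcard
    (by decide) x hx




open Equiv

theorem four_le_of_invol {n : ℕ} (hn : n ≤ 7) (σ : alternatingGroup (Fin n)) (hσ : σ * σ = 1)
    (hσ1 : σ ≠ 1) : 4 ≤ n := by
  have hσ' : (σ : Perm (Fin n)) * σ = 1 := congrArg Subtype.val hσ
  have hσ1' : (σ : Perm (Fin n)) ≠ 1 := fun h => hσ1 (Subtype.ext h)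
  have c1 := cycleType_of_even_invol hn σ hσ' hσ1' (Perm.mem_alternatingGroup.1 σ.2)
  have hsum := Perm.sum_cycleType (σ : Perm (Fin n))
  rw [c1] at hsum
  have hle : (σ : Perm (Fin n)).support.card ≤ n := by
    have := Finset.card_le_univ (σ : Perm (Fin n)).support
    rwa [Fintype.card_fin] at this
  have : ({2, 2} : Multiset ℕ).sum = 4 := by decide
  omega

theorem invol_mem_center_of_le {H : Type*} [Group H] [Finite H] {n : ℕ} (hn : n ≤ 7)
    (hcov : Cfsg.IsNonsplitDoubleCover H (alternatingGroup (Fin n)))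
    (x : H) (hx : orderOf x = 2) : x ∈ Subgroup.center H := by
  obtain ⟨hZ, ⟨φ⟩, hns⟩ := hcov
  by_contra hxc
  have hxx : x * x = 1 := by
    have := pow_orderOf_eq_one x
    rwa [hx, pow_two] at this
  have h1 : proj φ x * proj φ x = 1 := by rw [← map_mul, hxx, map_one]
  have h2 : proj φ x ≠ 1 := by
    intro h
    apply hxc
    rw [← proj_ker φ]
    exact MonoidHom.mem_ker.2 h
  have h4 := four_le_of_invol hn _ h1 h2
  interval_cases n
  · exact hxc (case4 hZ φ hns x hx)
  · exact hxc (case5 hZ φ hns x hx)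
  · exact hxc (case6 hZ φ hns x hx)
  · exact hxc (case7 hZ φ hns x hx)

theorem part_one {H : Type*} [Group H] [Finite H] {n : ℕ} (hn : n ≤ 7)
    (hcov : Cfsg.IsNonsplitDoubleCover H (alternatingGroup (Fin n)))
    (x y : H) (hx : orderOf x = 2) (hy : orderOf y = 2) : x = y := by
  have hxc := invol_mem_center_of_le hn hcov x hx
  have hyc := invol_mem_center_of_le hn hcov y hy
  obtain ⟨w, -, hw⟩ := (Nat.card_eq_two_iff' (1 : Subgroup.center H)).1 hcov.1
  have hx1 : (⟨x, hxc⟩ : Subgroup.center H) ≠ 1 := by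
    intro h
    have : x = 1 := congrArg Subtype.val h
    rw [this, orderOf_one] at hx
    omega
  have hy1 : (⟨y, hyc⟩ : Subgroup.center H) ≠ 1 := by
    intro h
    have : y = 1 := congrArg Subtype.val h
    rw [this, orderOf_one] at hy
    omega
  have := (hw _ hx1).trans (hw _ hy1).symm
  exact congrArg Subtype.val this




open Equiv Cfsg.Agent.Helper17.DblAlt

/-- four pairwise anticommuting square roots of one have a product squaring to one -/
theorem sq_prod_four {R : Type*} [Ring R] {a b c d : R} (ha : a * a = 1) (hb : b * b = 1)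
    (hc : c * c = 1) (hd : d * d = 1) (hab : a * b = -(b * a)) (hac : a * c = -(c * a))
    (had : a * d = -(d * a)) (hbc : b * c = -(c * b)) (hbd : b * d = -(d * b))
    (hcd : c * d = -(d * c)) : (a * b * (c * d)) * (a * b * (c * d)) = 1 := by
  have hba : b * a = -(a * b) := by rw [hab, neg_neg]
  have hca : c * a = -(a * c) := by rw [hac, neg_neg]
  have hda : d * a = -(a * d) := by rw [had, neg_neg]
  have hcb : c * b = -(b * c) := by rw [hbc, neg_neg]
  have hdb : d * b = -(b * d) := by rw [hbd, neg_neg]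
  have hdc : d * c = -(c * d) := by rw [hcd, neg_neg]
  have e3 : (c * d) * (c * d) = -1 := by
    calc (c * d) * (c * d) = c * (d * c) * d := by simp only [mul_assoc]
      _ = -(c * c * (d * d)) := by rw [hdc]; simp only [mul_assoc, mul_neg, neg_mul]
      _ = -1 := by rw [hc, hd, mul_one]
  have e2 : (c * d) * b = b * (c * d) := by
    calc (c * d) * b = c * (d * b) := by simp only [mul_assoc]
      _ = -(c * b * d) := by rw [hdb]; simp only [mul_assoc, mul_neg]
      _ = b * (c * d) := by rw [hcb]; simp only [mul_assoc, neg_mul, neg_neg]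
  have e2' : (c * d) * a = a * (c * d) := by
    calc (c * d) * a = c * (d * a) := by simp only [mul_assoc]
      _ = -(c * a * d) := by rw [hda]; simp only [mul_assoc, mul_neg]
      _ = a * (c * d) := by rw [hca]; simp only [mul_assoc, neg_mul, neg_neg]
  have e1 : (a * b) * (a * b) = -1 := by
    calc (a * b) * (a * b) = a * (b * a) * b := by simp only [mul_assoc]
      _ = -(a * a * (b * b)) := by rw [hba]; simp only [mul_assoc, mul_neg, neg_mul]
      _ = -1 := by rw [ha, hb, mul_one]
  have e4 : (c * d) * (a * b) = (a * b) * (c * d) := by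
    calc (c * d) * (a * b) = ((c * d) * a) * b := by simp only [mul_assoc]
      _ = a * ((c * d) * b) := by rw [e2']; simp only [mul_assoc]
      _ = (a * b) * (c * d) := by rw [e2]; simp only [mul_assoc]
  calc (a * b * (c * d)) * (a * b * (c * d)) = (a * b) * ((c * d) * (a * b)) * (c * d) := by
        simp only [mul_assoc]
    _ = ((a * b) * (a * b)) * ((c * d) * (c * d)) := by rw [e4]; simp only [mul_assoc]
    _ = 1 := by rw [e1, e3]; simp

theorem center_Gam (n : ℕ) (hn : 4 ≤ n) :
    Subgroup.center (Gam n) = Subgroup.zpowers (zG n) := by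
  apply le_antisymm
  · intro p hp
    rw [← ker_rho, MonoidHom.mem_ker]
    have h1 : rho n p ∈ Subgroup.center (alternatingGroup (Fin n)) := by
      rw [Subgroup.mem_center_iff]
      intro σ
      obtain ⟨q, rfl⟩ := rho_surjective n σ
      rw [← map_mul, ← map_mul, Subgroup.mem_center_iff.1 hp q]
    rw [alternatingGroup.center_eq_bot (by rw [Nat.card_eq_fintype_card, Fintype.card_fin]; exact hn)]
      at h1
    exact Subgroup.mem_bot.1 h1
  · rw [Subgroup.zpowers_le, Subgroup.mem_center_iff]
    exact zG_comm n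

open scoped commutatorElement in
theorem commutator_central_left {G : Type*} [Group G] {u : G} (hu : ∀ g : G, g * u = u * g)
    (x b : G) : ⁅u * x, b⁆ = ⁅x, b⁆ := by
  rw [commutatorElement_def, commutatorElement_def]
  calc u * x * b * (u * x)⁻¹ * b⁻¹ = u * (x * b * x⁻¹) * u⁻¹ * b⁻¹ := by group
    _ = (x * b * x⁻¹) * u * u⁻¹ * b⁻¹ := by rw [← hu]
    _ = x * b * x⁻¹ * b⁻¹ := by group

open scoped commutatorElement in
theorem commutator_central_right {G : Type*} [Group G] {v : G} (hv : ∀ g : G, g * v = v * g)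
    (a y : G) : ⁅a, v * y⁆ = ⁅a, y⁆ := by
  rw [commutatorElement_def, commutatorElement_def]
  calc a * (v * y) * a⁻¹ * (v * y)⁻¹ = (a * v) * y * a⁻¹ * y⁻¹ * v⁻¹ := by group
    _ = (v * a) * y * a⁻¹ * y⁻¹ * v⁻¹ := by rw [hv a]
    _ = v * (a * y * a⁻¹ * y⁻¹) * v⁻¹ := by group
    _ = (a * y * a⁻¹ * y⁻¹) * v * v⁻¹ := by rw [← hv]
    _ = a * y * a⁻¹ * y⁻¹ := by group

open scoped commutatorElement in
/-- a central subgroup meeting the commutator subgroup nontrivially has no complement -/
theorem not_isComplement'_center {G : Type*} [Group G] {z : G} (hz : z ∈ Subgroup.center G)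
    (hz1 : z ≠ 1) (hzc : z ∈ commutator G) (L : Subgroup G) :
    ¬ (Subgroup.center G).IsComplement' L := by
  intro hL
  have hcomm : commutator G ≤ L := by
    rw [commutator_eq_closure, Subgroup.closure_le]
    rintro x ⟨a, b, rfl⟩
    obtain ⟨⟨c₁, l₁⟩, h1⟩ := hL.2 a
    obtain ⟨⟨c₂, l₂⟩, h2⟩ := hL.2 b
    simp only at h1 h2
    have hc1 := Subgroup.mem_center_iff.1 c₁.2
    have hc2 := Subgroup.mem_center_iff.1 c₂.2
    rw [SetLike.mem_coe, ← h1, ← h2, commutator_central_left hc1, commutator_central_right hc2]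
    exact Subgroup.commutator_mem_commutator l₁.2 l₂.2 |> fun h =>
      (Subgroup.commutator_le_self L) h
  have hzL : z ∈ L := hcomm hzc
  have hinj := hL.1
  have : ((⟨z, hz⟩, 1) : Subgroup.center G × L) = (1, ⟨z, hzL⟩) := by
    apply hinj
    simp
  have h3 := congrArg (fun p : Subgroup.center G × L => (p.1 : G)) this
  exact hz1 h3

theorem nonsplit_Gam (n : ℕ) (hn : 4 ≤ n) :
    Cfsg.IsNonsplitDoubleCover (Gam n) (alternatingGroup (Fin n)) := by
  have hcen := center_Gam n hn
  refine ⟨?_, ?_, ?_⟩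
  · rw [hcen, Nat.card_zpowers, orderOf_zG]
  · have hker : Subgroup.center (Gam n) = (rho n).ker := by rw [hcen, ker_rho]
    exact ⟨(QuotientGroup.quotientMulEquivOfEq hker).trans
      (QuotientGroup.quotientKerEquivOfSurjective (rho n) (rho_surjective n))⟩
  · intro L
    apply not_isComplement'_center (z := zG n) _ (zG_ne_one n) (zG_mem_commutator n hn)
    rw [Subgroup.mem_center_iff]
    exact zG_comm n




open Equiv Cfsg.Agent.Helper17.DblAlt

theorem f01 : (0 : Fin 8) ≠ 1 := by decide
theorem f23 : (2 : Fin 8) ≠ 3 := by decide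
theorem f45 : (4 : Fin 8) ≠ 5 := by decide
theorem f67 : (6 : Fin 8) ≠ 7 := by decide

/-- a lift of a fixed-point-free involution -/
noncomputable def yG : Gam 8 :=
  (⟨_, tt_mem 8 f01 f23⟩ : Gam 8) * ⟨_, tt_mem 8 f45 f67⟩

theorem yG_snd : (yG : Gam 8).1.2 =
    Equiv.swap (0 : Fin 8) 1 * Equiv.swap 2 3 * (Equiv.swap 4 5 * Equiv.swap 6 7) := rfl

theorem yG_fst : (((yG : Gam 8).1.1 : (Cl 8)ˣ) : Cl 8) =
    t 8 0 1 * t 8 2 3 * (t 8 4 5 * t 8 6 7) := rfl

theorem yG_mul_self : yG * yG = 1 := by
  apply Subtype.ext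
  apply Prod.ext
  · apply Units.ext
    change (((yG : Gam 8).1.1 : (Cl 8)ˣ) : Cl 8) * (((yG : Gam 8).1.1 : (Cl 8)ˣ) : Cl 8) = 1
    rw [yG_fst]
    exact sq_prod_four (t_mul_t 8 f01) (t_mul_t 8 f23) (t_mul_t 8 f45) (t_mul_t 8 f67)
      (t_anticomm 8 (by decide) (by decide) (by decide) (by decide))
      (t_anticomm 8 (by decide) (by decide) (by decide) (by decide))
      (t_anticomm 8 (by decide) (by decide) (by decide) (by decide))
      (t_anticomm 8 (by decide) (by decide) (by decide) (by decide))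
      (t_anticomm 8 (by decide) (by decide) (by decide) (by decide))
      (t_anticomm 8 (by decide) (by decide) (by decide) (by decide))
  · change (yG : Gam 8).1.2 * (yG : Gam 8).1.2 = 1
    rw [yG_snd]
    decide

theorem yG_snd_ne_one : (yG : Gam 8).1.2 ≠ 1 := by
  rw [yG_snd]
  decide

theorem orderOf_yG : orderOf yG = 2 := by
  have : Fact (Nat.Prime 2) := ⟨Nat.prime_two⟩
  apply orderOf_eq_prime
  · rw [pow_two, yG_mul_self]
  · intro h
    apply yG_snd_ne_one
    rw [h]
    rfl

theorem yG_ne_zG : yG ≠ zG 8 := by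
  intro h
  apply yG_snd_ne_one
  rw [h]
  rfl

theorem part_two : ∃ (H : Type) (_ : Group H) (_ : Finite H),
    Cfsg.IsNonsplitDoubleCover H (alternatingGroup (Fin 8)) ∧
      ∃ x y : H, x ≠ y ∧ orderOf x = 2 ∧ orderOf y = 2 := by
  have hcov := nonsplit_Gam 8 (by norm_num)
  have hfin : Finite (Gam 8) := by
    obtain ⟨hZ, ⟨f⟩, -⟩ := hcov
    have h1 : Finite (Gam 8 ⧸ Subgroup.center (Gam 8)) := Finite.of_equiv _ f.symm.toEquiv
    have h2 : Finite (Subgroup.center (Gam 8)) := by
      apply Nat.finite_of_card_ne_zero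
      rw [hZ]
      norm_num
    exact Finite.of_equiv _
      (Subgroup.groupEquivQuotientProdSubgroup (s := Subgroup.center (Gam 8))).symm
  exact ⟨Gam 8, inferInstance, hfin, hcov, yG, zG 8, yG_ne_zG, orderOf_yG, orderOf_zG 8⟩


end Cfsg.Agent.Helper27.DblCov
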