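import Mathlib
import Cfsg.Agent.Lib.Helper10.EODefs

/-! EO-NT1 (S2264, design helper10): `nt_chain`. -/

set_option autoImplicit false

open Polynomial

namespace Cfsg.Agent.Helper10.EO

theorem eo_nt1_step1 (A B y : ℕ) (h : A * (y + 1) ≤ B * y) :
    A * ((y + 1) * (y + 1)) ≤ B * ((y + 1) * (y + 1) - 1) := by
  have h1 : (y + 1) * (y + 1) - 1 = y * (y + 2) := by
    apply Nat.sub_eq_of_eq_add; ring
  rw [h1]
  calc A * ((y + 1) * (y + 1)) = (A * (y + 1)) * (y + 1) := by ring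
    _ ≤ (B * y) * (y + 1) := Nat.mul_le_mul_right _ h
    _ ≤ (B * y) * (y + 2) := Nat.mul_le_mul_left _ (by omega)
    _ = B * (y * (y + 2)) := by ring

theorem eo_nt1_step2 (A B y w : ℕ) (hw : y + 1 ≤ w) (h : A * (y + 1) ≤ B * y) :
    A * (w + 1) * ((y + 1) * (y + 1)) ≤ B * w * ((y + 1) * (y + 1) - 1) := by
  have h1 : (y + 1) * (y + 1) - 1 = y * (y + 2) := by
    apply Nat.sub_eq_of_eq_add; ring
  rw [h1]
  have h2 : (w + 1) * (y + 1) ≤ w * (y + 2) := by nlinarith
  calc A * (w + 1) * ((y + 1) * (y + 1)) = (A * (y + 1)) * ((w + 1) * (y + 1)) := by ring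
    _ ≤ (B * y) * ((w + 1) * (y + 1)) := Nat.mul_le_mul_right _ h
    _ ≤ (B * y) * (w * (y + 2)) := Nat.mul_le_mul_left _ h2
    _ = B * w * (y * (y + 2)) := by ring

/-- PIECE EO-NT1. -/
theorem nt_chain (q : ℕ) (hq : 2 ≤ q) (V : ℕ) (C : Finset ℕ) (hC : ∀ v ∈ C, v < V) (s : ℕ → ℕ)
    (hs : ∀ v ∈ C, 2 ^ v ≤ s v) :
    (q - 1) * (∏ v ∈ C, (q ^ s v + 1)) * q ^ (2 ^ V) ≤
      q ^ ((∑ v ∈ C, s v) + 1) * (q ^ (2 ^ V) - 1) := by
  induction V generalizing C with
  | zero =>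
    have hCe : C = ∅ := by
      apply Finset.eq_empty_of_forall_notMem
      intro v hv
      exact absurd (hC v hv) (Nat.not_lt_zero _)
    subst hCe
    simp only [Finset.prod_empty, mul_one, pow_zero, pow_one, Finset.sum_empty, zero_add]
    exact le_of_eq (Nat.mul_comm _ _)
  | succ V ih =>
    have hx1 : 1 ≤ q ^ (2 ^ V) := Nat.one_le_pow _ _ (by omega)
    have hx2 : q ^ (2 ^ (V + 1)) = q ^ (2 ^ V) * q ^ (2 ^ V) := by
      rw [pow_succ, mul_two, pow_add]
    obtain ⟨y, hy⟩ : ∃ y, q ^ (2 ^ V) = y + 1 := ⟨q ^ (2 ^ V) - 1, by omega⟩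
    by_cases hV : V ∈ C
    · have hC' : ∀ v ∈ C.erase V, v < V := by
        intro v hv
        have h1 := hC v (Finset.mem_of_mem_erase hv)
        have h2 := Finset.ne_of_mem_erase hv
        omega
      have hs' : ∀ v ∈ C.erase V, 2 ^ v ≤ s v := fun v hv => hs v (Finset.mem_of_mem_erase hv)
      have h := ih (C.erase V) hC' hs'
      have hw : y + 1 ≤ q ^ s V := by
        rw [← hy]
        exact Nat.pow_le_pow_right (by omega) (hs V hV)
      rw [← Finset.mul_prod_erase C _ hV, ← Finset.add_sum_erase C _ hV, hx2, hy]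
      rw [hy] at h
      have hsub : y + 1 - 1 = y := by omega
      rw [hsub] at h
      have key := eo_nt1_step2 ((q - 1) * ∏ v ∈ C.erase V, (q ^ s v + 1))
        (q ^ ((∑ v ∈ C.erase V, s v) + 1)) y (q ^ s V) hw h
      calc (q - 1) * ((q ^ s V + 1) * ∏ v ∈ C.erase V, (q ^ s v + 1)) * ((y + 1) * (y + 1))
          = (q - 1) * (∏ v ∈ C.erase V, (q ^ s v + 1)) * (q ^ s V + 1) * ((y + 1) * (y + 1)) := by
            ring
        _ ≤ q ^ ((∑ v ∈ C.erase V, s v) + 1) * q ^ s V * ((y + 1) * (y + 1) - 1) := key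
        _ = q ^ (s V + ∑ v ∈ C.erase V, s v + 1) * ((y + 1) * (y + 1) - 1) := by
            rw [← pow_add]
            congr 2
            ring
    · have hC' : ∀ v ∈ C, v < V := by
        intro v hv
        have h1 := hC v hv
        have h2 : v ≠ V := fun h => hV (h ▸ hv)
        omega
      have h := ih C hC' hs
      rw [hx2, hy]
      rw [hy] at h
      have hsub : y + 1 - 1 = y := by omega
      rw [hsub] at h
      exact eo_nt1_step1 _ _ y h

end Cfsg.Agent.Helper10.EO
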