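import Mathlib
import Cfsg.Prelude.Def_KGroupFacts
import Cfsg.Prelude.Def_Classical
import Cfsg.Agent.Lib.Helper20.ExMinusF

set_option autoImplicit false
set_option linter.unusedSectionVars false

/-! Outer automorphisms of an extraspecial 2-group from coordinates: a surjection `κ` onto the space of vectors over the field with two elements with kernel `{1, z}` turning the squaring map into a quadratic form `Q` (`Coord`) gives an isomorphism of the outer automorphism group with the isometry group of `Q` (`Coord.out_equiv`): automorphisms act linearly, the kernel of the action is the inner automorphism group (counting), and every isometry lifts (a maximal subgroup of the fibre product avoiding `(1, z)`). -/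

namespace Cfsg.Agent.Helper27.ExOut


open Cfsg.Agent.Helper20.ExMinus

variable {P : Type*} [Group P] {z : P}

open Classical in
/-- the commutator pairing with values in `ZMod 2` -/
noncomputable def cc (a b : P) : ZMod 2 := if Commute a b then 0 else 1

open Classical in
/-- the squaring map with values in `ZMod 2` -/
noncomputable def qq (a : P) : ZMod 2 := if a * a = 1 then 0 else 1

theorem cc_pos {a b : P} (h : Commute a b) : cc a b = 0 := by unfold cc; exact if_pos h
theorem cc_neg {a b : P} (h : ¬ Commute a b) : cc a b = 1 := by unfold cc; exact if_neg h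
theorem qq_pos {a : P} (h : a * a = 1) : qq a = 0 := by unfold qq; exact if_pos h
theorem qq_neg {a : P} (h : ¬ a * a = 1) : qq a = 1 := by unfold qq; exact if_neg h

theorem cc_eq_zero_iff {a b : P} : cc a b = 0 ↔ Commute a b := by
  by_cases h : Commute a b
  · simp [cc_pos h, h]
  · simp [cc_neg h, h]

theorem cc_eq_one_iff {a b : P} : cc a b = 1 ↔ ¬ Commute a b := by
  by_cases h : Commute a b
  · simp [cc_pos h, h]
  · simp [cc_neg h, h]

theorem qq_eq_zero_iff {a : P} : qq a = 0 ↔ a * a = 1 := by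
  by_cases h : a * a = 1
  · simp [qq_pos h, h]
  · simp [qq_neg h, h]

theorem qq_eq_one_iff {a : P} : qq a = 1 ↔ ¬ a * a = 1 := by
  by_cases h : a * a = 1
  · simp [qq_pos h, h]
  · simp [qq_neg h, h]

theorem zmod2_eq_iff {x y : ZMod 2} : x = y ↔ (x = 0 ↔ y = 0) := by
  revert x y; decide

theorem zmod2_add_self (x : ZMod 2) : x + x = 0 := by
  revert x; decide

theorem cc_symm (a b : P) : cc a b = cc b a := by
  rw [zmod2_eq_iff, cc_eq_zero_iff, cc_eq_zero_iff]
  exact ⟨fun h => h.symm, fun h => h.symm⟩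

theorem cc_self (a : P) : cc a a = 0 := cc_pos (Commute.refl a)

theorem cc_one_left (a : P) : cc 1 a = 0 := cc_pos (Commute.one_left a)

theorem cc_one_right (a : P) : cc a 1 = 0 := cc_pos (Commute.one_right a)

theorem cc_z_right (D : Data z) (a : P) : cc a z = 0 := cc_pos (D.commute_z a)

theorem cc_z_left (D : Data z) (a : P) : cc z a = 0 := cc_pos (D.z_commute a)

theorem cc_mul_right (D : Data z) (a b c : P) : cc a (b * c) = cc a b + cc a c := by
  have h := D.commute_mul_iff a b c
  by_cases h1 : Commute a b <;> by_cases h2 : Commute a c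
  · rw [cc_pos h1, cc_pos h2, cc_pos (h.2 (by simp [h1, h2]))]; rfl
  · rw [cc_pos h1, cc_neg h2, cc_neg (fun hh => by have := h.1 hh; simp [h1, h2] at this)]; rfl
  · rw [cc_neg h1, cc_pos h2, cc_neg (fun hh => by have := h.1 hh; simp [h1, h2] at this)]; rfl
  · rw [cc_neg h1, cc_neg h2, cc_pos (h.2 (by simp [h1, h2]))]; rfl

theorem cc_mul_left (D : Data z) (a b c : P) : cc (a * b) c = cc a c + cc b c := by
  rw [cc_symm, cc_mul_right D, cc_symm c a, cc_symm c b]

theorem cc_inv_right (a b : P) : cc a b⁻¹ = cc a b := by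
  rw [zmod2_eq_iff, cc_eq_zero_iff, cc_eq_zero_iff]
  exact ⟨fun h => by simpa using h.inv_right, fun h => h.inv_right⟩

theorem cc_inv_left (a b : P) : cc a⁻¹ b = cc a b := by
  rw [cc_symm, cc_inv_right, cc_symm]

theorem qq_one : qq (1 : P) = 0 := qq_pos (one_mul 1)

theorem qq_z (D : Data z) : qq z = 0 := qq_pos D.zz

theorem qq_mul (D : Data z) (a b : P) : qq (a * b) = qq a + qq b + cc a b := by
  have h := D.sq_mul_iff a b
  by_cases h1 : a * a = 1 <;> by_cases h2 : b * b = 1 <;> by_cases h3 : Commute a b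
  all_goals
    first
    | (have h4 : (a * b) * (a * b) = 1 := h.2 (by simp [h1, h2, h3])
       simp only [qq_pos, qq_neg, cc_pos, cc_neg, h1, h2, h3, h4, not_false_eq_true]
       decide)
    | (have h4 : ¬ (a * b) * (a * b) = 1 := fun hh => by have := h.1 hh; simp [h1, h2, h3] at this
       simp only [qq_pos, qq_neg, cc_pos, cc_neg, h1, h2, h3, h4, not_false_eq_true]
       decide)

theorem qq_inv (a : P) : qq a⁻¹ = qq a := by
  rw [zmod2_eq_iff, qq_eq_zero_iff, qq_eq_zero_iff]
  constructor
  · intro h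
    have : (a * a)⁻¹ = 1 := by rw [mul_inv_rev]; exact h
    exact inv_eq_one.1 this
  · intro h
    rw [← mul_inv_rev, h, inv_one]

theorem qq_mul_z (D : Data z) (a : P) : qq (a * z) = qq a := by
  rw [qq_mul D, qq_z D, cc_z_right D, add_zero, add_zero]

theorem qq_aut (φ : MulAut P) (a : P) : qq (φ a) = qq a := by
  rw [zmod2_eq_iff, qq_eq_zero_iff, qq_eq_zero_iff, ← map_mul]
  constructor
  · intro h
    apply φ.injective
    rw [h, map_one]
  · intro h
    rw [h, map_one]

theorem cc_aut (φ : MulAut P) (a b : P) : cc (φ a) (φ b) = cc a b := by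
  rw [zmod2_eq_iff, cc_eq_zero_iff, cc_eq_zero_iff]
  constructor
  · intro h
    apply φ.injective
    rw [map_mul, map_mul]
    exact h.eq
  · intro h
    exact h.map φ

/-- the commutator pairing from the squaring map -/
theorem cc_eq_qq (D : Data z) (a b : P) : cc a b = qq (a * b) + qq a + qq b := by
  rw [qq_mul D]
  generalize qq a = x
  generalize qq b = y
  generalize cc a b = w
  revert x y w; decide




open Cfsg.Agent.Helper20.ExMinus

variable {P : Type*} [Group P] {z : P}

/-- coordinates on an extraspecial 2-group: a surjection onto `F_2^ι` with kernel `{1, z}` turning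
the squaring map into the quadratic form `Q` -/
structure Coord (z : P) {ι : Type} [Fintype ι] [DecidableEq ι] (Q : (ι → ZMod 2) → ZMod 2) where
  κ : P → (ι → ZMod 2)
  map_mul : ∀ a b, κ (a * b) = κ a + κ b
  map_z : κ z = 0
  ker : ∀ a, κ a = 0 → a = 1 ∨ a = z
  surj : Function.Surjective κ
  quad : ∀ a, Q (κ a) = qq a
  card : Nat.card P = 2 ^ (Fintype.card ι + 1)

variable {ι : Type} [Fintype ι] [DecidableEq ι] {Q : (ι → ZMod 2) → ZMod 2}

theorem vec_add_self (v : ι → ZMod 2) : v + v = 0 := by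
  ext i; exact zmod2_add_self (v i)

theorem vec_neg (v : ι → ZMod 2) : -v = v := by
  rw [neg_eq_iff_add_eq_zero]; exact vec_add_self v

theorem vec_add_eq_zero_iff (u v : ι → ZMod 2) : u + v = 0 ↔ u = v := by
  rw [← vec_neg v, add_neg_eq_zero, vec_neg]

namespace Coord

variable (C : Coord z Q)

theorem map_one : C.κ 1 = 0 := by
  have h := C.map_mul 1 1
  rw [mul_one] at h
  exact left_eq_add.1 h

theorem map_inv (a : P) : C.κ a⁻¹ = C.κ a := by
  have h := C.map_mul a a⁻¹
  rw [mul_inv_cancel, C.map_one] at h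
  exact ((vec_add_eq_zero_iff _ _).1 h.symm).symm

theorem map_mul_z (a : P) : C.κ (a * z) = C.κ a := by
  rw [C.map_mul, C.map_z, add_zero]

theorem eq_iff (a b : P) : C.κ a = C.κ b ↔ a = b ∨ a = b * z := by
  constructor
  · intro h
    have h1 : C.κ (b⁻¹ * a) = 0 := by
      rw [C.map_mul, C.map_inv, h, vec_add_self]
    rcases C.ker _ h1 with h2 | h2
    · left
      have : a = b * (b⁻¹ * a) := by group
      rw [this, h2, mul_one]
    · right
      have : a = b * (b⁻¹ * a) := by group
      rw [this, h2]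
  · rintro (rfl | rfl)
    · rfl
    · exact C.map_mul_z b

/-- a section of the coordinate map -/
noncomputable def sec (v : ι → ZMod 2) : P := Function.surjInv C.surj v

theorem κ_sec (v : ι → ZMod 2) : C.κ (C.sec v) = v := Function.surjInv_eq C.surj v

theorem sec_κ (a : P) : C.sec (C.κ a) = a ∨ C.sec (C.κ a) = a * z :=
  (C.eq_iff _ _).1 (C.κ_sec (C.κ a))

/-- the map induced on coordinates by an automorphism -/
noncomputable def LFun (α : MulAut P) (v : ι → ZMod 2) : ι → ZMod 2 := C.κ (α (C.sec v))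

theorem LFun_κ (D : Data z) (α : MulAut P) (a : P) : C.LFun α (C.κ a) = C.κ (α a) := by
  unfold LFun
  rcases C.sec_κ a with h | h
  · rw [h]
  · rw [h, _root_.map_mul, D.aut_z, C.map_mul_z]

theorem LFun_add (D : Data z) (α : MulAut P) (u v : ι → ZMod 2) :
    C.LFun α (u + v) = C.LFun α u + C.LFun α v := by
  obtain ⟨a, rfl⟩ := C.surj u
  obtain ⟨b, rfl⟩ := C.surj v
  rw [← C.map_mul, C.LFun_κ D, C.LFun_κ D, C.LFun_κ D, _root_.map_mul, C.map_mul]

/-- the induced linear map -/
noncomputable def L (D : Data z) (α : MulAut P) : (ι → ZMod 2) →ₗ[ZMod 2] (ι → ZMod 2) :=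
  (AddMonoidHom.mk' (C.LFun α) (C.LFun_add D α)).toZModLinearMap 2

theorem L_apply (D : Data z) (α : MulAut P) (v : ι → ZMod 2) : C.L D α v = C.LFun α v := rfl

theorem L_κ (D : Data z) (α : MulAut P) (a : P) : C.L D α (C.κ a) = C.κ (α a) := C.LFun_κ D α a

theorem L_one (D : Data z) : C.L D 1 = LinearMap.id := by
  apply LinearMap.ext
  intro v
  obtain ⟨a, rfl⟩ := C.surj v
  rw [C.L_κ D]
  rfl

theorem L_mul (D : Data z) (α β : MulAut P) : C.L D (α * β) = (C.L D α).comp (C.L D β) := by
  apply LinearMap.ext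
  intro v
  obtain ⟨a, rfl⟩ := C.surj v
  rw [LinearMap.comp_apply, C.L_κ D, C.L_κ D, C.L_κ D]
  rfl

/-- the matrix of an automorphism -/
noncomputable def Phi0 (D : Data z) : MulAut P →* Matrix ι ι (ZMod 2) where
  toFun α := LinearMap.toMatrix' (C.L D α)
  map_one' := by rw [C.L_one D, LinearMap.toMatrix'_id]
  map_mul' α β := by rw [C.L_mul D, LinearMap.toMatrix'_comp]

theorem Phi0_mulVec (D : Data z) (α : MulAut P) (v : ι → ZMod 2) :
    (C.Phi0 D α).mulVec v = C.L D α v :=
  LinearMap.toMatrix'_mulVec _ _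

/-- the action of `Aut P` on the coordinate space -/
noncomputable def Phi (D : Data z) : MulAut P →* Matrix.GeneralLinearGroup ι (ZMod 2) :=
  (C.Phi0 D).toHomUnits

theorem Phi_coe (D : Data z) (α : MulAut P) :
    ((C.Phi D α : Matrix.GeneralLinearGroup ι (ZMod 2)) : Matrix ι ι (ZMod 2)) = C.Phi0 D α := rfl

theorem Phi_mulVec_κ (D : Data z) (α : MulAut P) (a : P) :
    ((C.Phi D α : Matrix.GeneralLinearGroup ι (ZMod 2)) : Matrix ι ι (ZMod 2)).mulVec (C.κ a) =
      C.κ (α a) := by
  rw [C.Phi_coe D, C.Phi0_mulVec D, C.L_κ D]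

theorem Phi_mem (D : Data z) (α : MulAut P) : C.Phi D α ∈ Cfsg.isometryGroup (ZMod 2) Q := by
  intro u _
  obtain ⟨a, rfl⟩ := C.surj u
  change Q (((C.Phi D α : Matrix.GeneralLinearGroup ι (ZMod 2)) : Matrix ι ι (ZMod 2)).mulVec
    (C.κ a)) = Q (C.κ a)
  rw [C.Phi_mulVec_κ D, C.quad, C.quad, qq_aut]

theorem Phi_eq_of_forall (D : Data z) (α : MulAut P) (g : Matrix.GeneralLinearGroup ι (ZMod 2))
    (h : ∀ a, C.κ (α a) = (g : Matrix ι ι (ZMod 2)).mulVec (C.κ a)) : C.Phi D α = g := by
  apply Units.ext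
  rw [C.Phi_coe D]
  have h1 : C.L D α = Matrix.toLin' (g : Matrix ι ι (ZMod 2)) := by
    apply LinearMap.ext
    intro v
    obtain ⟨a, rfl⟩ := C.surj v
    rw [C.L_κ D, h, Matrix.toLin'_apply]
  change LinearMap.toMatrix' (C.L D α) = _
  rw [h1, LinearMap.toMatrix'_toLin']

theorem Phi_eq_one_iff (D : Data z) (α : MulAut P) :
    C.Phi D α = 1 ↔ ∀ a, α a = a ∨ α a = a * z := by
  constructor
  · intro h a
    have h1 := C.Phi_mulVec_κ D α a
    rw [h] at h1
    simp only [Units.val_one, Matrix.one_mulVec] at h1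
    exact (C.eq_iff _ _).1 h1.symm
  · intro h
    apply C.Phi_eq_of_forall D
    intro a
    simp only [Units.val_one, Matrix.one_mulVec]
    exact (C.eq_iff _ _).2 (h a)

end Coord




open Cfsg.Agent.Helper20.ExMinus

variable {P : Type*} [Group P] {z : P}
variable {ι : Type} [Fintype ι] [DecidableEq ι] {Q : (ι → ZMod 2) → ZMod 2}

theorem exists_mem_closure_of_support {κ : P → (ι → ZMod 2)}
    (hmul : ∀ a b, κ (a * b) = κ a + κ b) (t : ι → P) (ht : ∀ j, κ (t j) = Pi.single j 1)
    (s : Finset ι) : ∀ v : ι → ZMod 2, (∀ j, j ∉ s → v j = 0) →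
      ∃ h ∈ Subgroup.closure (Set.range t), κ h = v := by
  induction s using Finset.induction_on with
  | empty =>
    intro v hv
    refine ⟨1, one_mem _, ?_⟩
    have h := hmul 1 1
    rw [mul_one] at h
    have h0 : κ 1 = 0 := left_eq_add.1 h
    rw [h0]
    ext j
    exact (hv j (Finset.notMem_empty j)).symm
  | insert j s hj ih =>
    intro v hv
    obtain ⟨h', hh', hk⟩ := ih (Function.update v j 0) (by
      intro k hk
      by_cases hkj : k = j
      · rw [hkj, Function.update_self]
      · rw [Function.update_of_ne hkj]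
        apply hv
        rw [Finset.mem_insert, not_or]
        exact ⟨hkj, hk⟩)
    by_cases hvj : v j = 0
    · refine ⟨h', hh', ?_⟩
      rw [hk]
      ext k
      by_cases hkj : k = j
      · rw [hkj, Function.update_self, hvj]
      · rw [Function.update_of_ne hkj]
    · have hvj1 : v j = 1 := by
        revert hvj
        generalize v j = x
        revert x; decide
      refine ⟨h' * t j, mul_mem hh' (Subgroup.subset_closure ⟨j, rfl⟩), ?_⟩
      rw [hmul, hk, ht]
      ext k
      by_cases hkj : k = j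
      · rw [hkj, Pi.add_apply, Function.update_self, Pi.single_eq_same, hvj1, zero_add]
      · rw [Pi.add_apply, Function.update_of_ne hkj, Pi.single_eq_of_ne hkj, add_zero]

theorem surjective_of_frame {κ : P → (ι → ZMod 2)}
    (hmul : ∀ a b, κ (a * b) = κ a + κ b) (t : ι → P) (ht : ∀ j, κ (t j) = Pi.single j 1) :
    Function.Surjective κ := by
  intro v
  obtain ⟨h, -, hk⟩ := exists_mem_closure_of_support hmul t ht Finset.univ v
    (fun j hj => absurd (Finset.mem_univ j) hj)
  exact ⟨h, hk⟩

theorem closure_eq_top_of_frame {κ : P → (ι → ZMod 2)}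
    (hmul : ∀ a b, κ (a * b) = κ a + κ b) (hker : ∀ a, κ a = 0 → a = 1 ∨ a = z)
    (t : ι → P) (ht : ∀ j, κ (t j) = Pi.single j 1) :
    Subgroup.closure ({z} ∪ Set.range t) = ⊤ := by
  rw [eq_top_iff]
  intro a _
  obtain ⟨h, hh, hk⟩ := exists_mem_closure_of_support hmul t ht Finset.univ (κ a)
    (fun j hj => absurd (Finset.mem_univ j) hj)
  have hh' : h ∈ Subgroup.closure ({z} ∪ Set.range t) :=
    Subgroup.closure_mono Set.subset_union_right hh
  have hz : z ∈ Subgroup.closure ({z} ∪ Set.range t) :=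
    Subgroup.subset_closure (Or.inl rfl)
  have h0 : κ 1 = 0 := by
    have h := hmul 1 1
    rw [mul_one] at h
    exact left_eq_add.1 h
  have hinv : κ h⁻¹ = κ h := by
    have h1 := hmul h h⁻¹
    rw [mul_inv_cancel, h0] at h1
    exact ((vec_add_eq_zero_iff _ _).1 h1.symm).symm
  have h1 : κ (h⁻¹ * a) = 0 := by
    rw [hmul, hinv, hk, vec_add_self]
  have e : a = h * (h⁻¹ * a) := by group
  rw [e]
  rcases hker _ h1 with h2 | h2
  · rw [h2, mul_one]; exact hh'
  · rw [h2]; exact mul_mem hh' hz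

namespace Coord

variable (C : Coord z Q)

/-- generators lifting the standard basis -/
noncomputable def gen (j : ι) : P := C.sec (Pi.single j 1)

theorem κ_gen (j : ι) : C.κ (C.gen j) = Pi.single j 1 := C.κ_sec _

theorem closure_gen : Subgroup.closure ({z} ∪ Set.range C.gen) = ⊤ :=
  closure_eq_top_of_frame C.map_mul C.ker C.gen C.κ_gen

theorem conj_mem_ker (D : Data z) (b : P) : C.Phi D (MulAut.conj b) = 1 := by
  rw [C.Phi_eq_one_iff D]
  intro a
  rw [MulAut.conj_apply]
  by_cases h : Commute b a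
  · left
    rw [h.eq, mul_inv_cancel_right]
  · right
    rw [D.anti' h, mul_assoc a, mul_assoc a, D.zc, mul_assoc z, mul_inv_cancel, mul_one]

theorem range_conj_le_ker (D : Data z) :
    (MulAut.conj : P →* MulAut P).range ≤ (C.Phi D).ker := by
  rintro φ ⟨g, rfl⟩
  rw [MonoidHom.mem_ker]
  exact C.conj_mem_ker D g

open Classical in
/-- the sign pattern of an automorphism in the kernel -/
noncomputable def pattern (φ : MulAut P) : ι → Bool :=
  fun j => decide (φ (C.gen j) = C.gen j)

theorem pattern_injOn (D : Data z) {φ ψ : MulAut P} (hφ : φ ∈ (C.Phi D).ker)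
    (hψ : ψ ∈ (C.Phi D).ker) (h : C.pattern φ = C.pattern ψ) : φ = ψ := by
  rw [MonoidHom.mem_ker, C.Phi_eq_one_iff D] at hφ hψ
  have hgen : ∀ j, φ (C.gen j) = ψ (C.gen j) := by
    intro j
    have hk := congrFun h j
    unfold pattern at hk
    have hk' : φ (C.gen j) = C.gen j ↔ ψ (C.gen j) = C.gen j := by
      simpa using hk
    rcases hφ (C.gen j) with h1 | h1
    · rw [h1, hk'.1 h1]
    · rcases hψ (C.gen j) with h2 | h2
      · rw [hk'.2 h2, h2]
      · rw [h1, h2]
  have hhom : φ.toMonoidHom = ψ.toMonoidHom := by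
    apply MonoidHom.eq_of_eqOn_dense C.closure_gen
    rintro x (hx | ⟨j, rfl⟩)
    · rw [Set.mem_singleton_iff] at hx
      subst hx
      change φ x = ψ x
      rw [D.aut_z, D.aut_z]
    · exact hgen j
  ext g
  exact DFunLike.congr_fun hhom g

theorem card_ker_le (D : Data z) [Finite P] :
    Nat.card ↥(C.Phi D).ker ≤ 2 ^ Fintype.card ι := by
  have hinj : Function.Injective (fun φ : ↥(C.Phi D).ker => C.pattern (φ : MulAut P)) := by
    intro φ ψ h
    exact Subtype.ext (C.pattern_injOn D φ.2 ψ.2 h)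
  have h1 := Nat.card_le_card_of_injective _ hinj
  have h2 : Nat.card (ι → Bool) = 2 ^ Fintype.card ι := by
    rw [Nat.card_eq_fintype_card]
    simp
  omega

omit [DecidableEq ι] in
theorem card_range_conj_pow [Finite P] (hcard : Nat.card P = 2 ^ (Fintype.card ι + 1))
    (hc : Nat.card (Subgroup.center P) = 2) :
    Nat.card ↥(MulAut.conj : P →* MulAut P).range = 2 ^ Fintype.card ι := by
  rw [← Subgroup.index_ker, ker_conj]
  have := Subgroup.card_mul_index (Subgroup.center P)
  rw [hc, hcard, pow_succ] at this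
  have h2 : (2 : ℕ) * (Subgroup.center P).index = 2 * 2 ^ Fintype.card ι := by
    rw [this]; ring
  exact Nat.eq_of_mul_eq_mul_left (by norm_num) h2

theorem ker_eq (D : Data z) [Finite P] (hc : Nat.card (Subgroup.center P) = 2) :
    (MulAut.conj : P →* MulAut P).range = (C.Phi D).ker := by
  apply Subgroup.eq_of_le_of_card_ge (C.range_conj_le_ker D)
  rw [card_range_conj_pow C.card hc]
  exact C.card_ker_le D

end Coord




open Cfsg.Agent.Helper20.ExMinus

/-- adjoining an element whose square lies in `M` and which normalizes `M` -/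
theorem exists_extension {G : Type*} [Group G] (M : Subgroup G) (x : G) (hx2 : x * x ∈ M)
    (hn : ∀ m ∈ M, x⁻¹ * m * x ∈ M) :
    ∃ M' : Subgroup G, M ≤ M' ∧ x ∈ M' ∧ ∀ y ∈ M', y ∈ M ∨ x⁻¹ * y ∈ M := by
  refine ⟨{ carrier := {y | y ∈ M ∨ x⁻¹ * y ∈ M}
            mul_mem' := ?_
            one_mem' := Or.inl M.one_mem
            inv_mem' := ?_ }, fun y hy => Or.inl hy, Or.inr ?_, fun y hy => hy⟩
  · rintro y y' (hy | hy) (hy' | hy')
    · exact Or.inl (mul_mem hy hy')
    · right
      have e : x⁻¹ * (y * y') = (x⁻¹ * y * x) * (x⁻¹ * y') := by group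
      rw [e]
      exact mul_mem (hn y hy) hy'
    · right
      have e : x⁻¹ * (y * y') = (x⁻¹ * y) * y' := by group
      rw [e]
      exact mul_mem hy hy'
    · left
      have e : y * y' = (x * x) * (x⁻¹ * (x⁻¹ * y) * x) * (x⁻¹ * y') := by group
      rw [e]
      exact mul_mem (mul_mem hx2 (hn _ hy)) hy'
  · rintro y (hy | hy)
    · exact Or.inl (inv_mem hy)
    · right
      have e : x⁻¹ * y⁻¹ = (x⁻¹ * (x⁻¹ * y)⁻¹ * x) * (x * x)⁻¹ := by group
      rw [e]
      exact mul_mem (hn _ (inv_mem hy)) (inv_mem hx2)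
  · rw [inv_mul_cancel]
    exact M.one_mem

variable {P : Type*} [Group P] {z : P}
variable {ι : Type} [Fintype ι] [DecidableEq ι] {Q : (ι → ZMod 2) → ZMod 2}

theorem mem_isometryGroup_iff (g : Matrix.GeneralLinearGroup ι (ZMod 2)) :
    g ∈ Cfsg.isometryGroup (ZMod 2) Q ↔
      ∀ u, Q ((g : Matrix ι ι (ZMod 2)).mulVec u) = Q u := by
  constructor
  · intro h u
    exact h u u
  · intro h u _
    exact h u

theorem gl_mulVec_eq_zero (g : Matrix.GeneralLinearGroup ι (ZMod 2)) (v : ι → ZMod 2)
    (h : (g : Matrix ι ι (ZMod 2)).mulVec v = 0) : v = 0 := by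
  have h1 : ((g⁻¹ : Matrix.GeneralLinearGroup ι (ZMod 2)) : Matrix ι ι (ZMod 2)).mulVec
      ((g : Matrix ι ι (ZMod 2)).mulVec v) = v := by
    rw [Matrix.mulVec_mulVec, ← Units.val_mul, inv_mul_cancel, Units.val_one, Matrix.one_mulVec]
  rw [h, Matrix.mulVec_zero] at h1
  exact h1.symm

namespace Coord

variable (C : Coord z Q)

/-- the fibre product of `P` with itself over an isometry -/
def fib (g : Matrix.GeneralLinearGroup ι (ZMod 2)) : Subgroup (P × P) where
  carrier := {x | C.κ x.2 = (g : Matrix ι ι (ZMod 2)).mulVec (C.κ x.1)}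
  mul_mem' := by
    intro x y hx hy
    change C.κ (x.2 * y.2) = (g : Matrix ι ι (ZMod 2)).mulVec (C.κ (x.1 * y.1))
    rw [C.map_mul, C.map_mul, Matrix.mulVec_add, hx, hy]
  one_mem' := by
    change C.κ 1 = (g : Matrix ι ι (ZMod 2)).mulVec (C.κ 1)
    rw [C.map_one, Matrix.mulVec_zero]
  inv_mem' := by
    intro x hx
    change C.κ x.2⁻¹ = (g : Matrix ι ι (ZMod 2)).mulVec (C.κ x.1⁻¹)
    rw [C.map_inv, C.map_inv]
    exact hx

theorem mem_fib (g : Matrix.GeneralLinearGroup ι (ZMod 2)) (x : P × P) :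
    x ∈ C.fib g ↔ C.κ x.2 = (g : Matrix ι ι (ZMod 2)).mulVec (C.κ x.1) := Iff.rfl

theorem fib_qq {g : Matrix.GeneralLinearGroup ι (ZMod 2)}
    (hg : g ∈ Cfsg.isometryGroup (ZMod 2) Q) {x : P × P} (hx : x ∈ C.fib g) :
    qq x.2 = qq x.1 := by
  rw [← C.quad, ← C.quad, (C.mem_fib g x).1 hx, (mem_isometryGroup_iff g).1 hg]

theorem fib_cc (D : Data z) {g : Matrix.GeneralLinearGroup ι (ZMod 2)}
    (hg : g ∈ Cfsg.isometryGroup (ZMod 2) Q) {x y : P × P} (hx : x ∈ C.fib g)
    (hy : y ∈ C.fib g) : cc x.2 y.2 = cc x.1 y.1 := by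
  rw [cc_eq_qq D, cc_eq_qq D, C.fib_qq hg hx, C.fib_qq hg hy]
  have := C.fib_qq hg (mul_mem hx hy)
  rw [Prod.snd_mul, Prod.fst_mul] at this
  rw [this]

/-- the diagonal central subgroup -/
def diag (D : Data z) : Subgroup (P × P) where
  carrier := {x | x = 1 ∨ x = (z, z)}
  mul_mem' := by
    rintro x y (rfl | rfl) (rfl | rfl)
    · left; rw [mul_one]
    · right; rw [one_mul]
    · right; rw [mul_one]
    · left
      rw [Prod.mk_mul_mk, D.zz]
      rfl
  one_mem' := Or.inl rfl
  inv_mem' := by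
    rintro x (rfl | rfl)
    · left; rw [inv_one]
    · right
      rw [Prod.inv_mk, D.zinv]

theorem diag_le_fib (D : Data z) (g : Matrix.GeneralLinearGroup ι (ZMod 2)) :
    diag D ≤ C.fib g := by
  rintro x (rfl | rfl)
  · exact one_mem _
  · rw [mem_fib]
    change C.κ z = (g : Matrix ι ι (ZMod 2)).mulVec (C.κ z)
    rw [C.map_z, Matrix.mulVec_zero]

theorem one_z_notMem_diag (D : Data z) : ((1 : P), z) ∉ diag D := by
  rintro (h | h)
  · exact D.z1 (congrArg Prod.snd h)
  · exact D.z1 (congrArg Prod.fst h).symm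

theorem exists_lift (D : Data z) [Finite P] {g : Matrix.GeneralLinearGroup ι (ZMod 2)}
    (hg : g ∈ Cfsg.isometryGroup (ZMod 2) Q) :
    ∃ α : MulAut P, ∀ a, C.κ (α a) = (g : Matrix ι ι (ZMod 2)).mulVec (C.κ a) := by
  classical
  set F : Set (Subgroup (P × P)) := {M | M ≤ C.fib g ∧ ((1 : P), z) ∉ M} with hF
  have hD0F : diag D ∈ F := ⟨C.diag_le_fib D g, one_z_notMem_diag D⟩
  obtain ⟨M, hD0M, hMmax⟩ := Set.Finite.exists_le_maximal (Set.toFinite F) hD0F
  have hMfib : M ≤ C.fib g := hMmax.prop.1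
  have hMz : ((1 : P), z) ∉ M := hMmax.prop.2
  have hzzM : (z, z) ∈ M := hD0M (Or.inr rfl)
  -- existence
  have hex : ∀ a : P, ∃ b : P, (a, b) ∈ M := by
    intro a
    obtain ⟨b₀, hb₀⟩ := C.surj ((g : Matrix ι ι (ZMod 2)).mulVec (C.κ a))
    have hxfib : (a, b₀) ∈ C.fib g := hb₀
    by_cases hx : (a, b₀) ∈ M
    · exact ⟨b₀, hx⟩
    · have hx2 : (a, b₀) * (a, b₀) ∈ M := by
        rw [Prod.mk_mul_mk]
        have hq := C.fib_qq hg hxfib
        change qq b₀ = qq a at hq
        rcases D.sq a with ha | ha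
        · have hb : b₀ * b₀ = 1 := by
            rw [← qq_eq_zero_iff, hq, qq_eq_zero_iff]; exact ha
          rw [ha, hb]
          exact M.one_mem
        · have hb : b₀ * b₀ = z := by
            rcases D.sq b₀ with hb | hb
            · exfalso
              have : a * a = 1 := by
                rw [← qq_eq_zero_iff, ← hq, qq_eq_zero_iff]; exact hb
              rw [ha] at this
              exact D.z1 this
            · exact hb
          rw [ha, hb]
          exact hzzM
      have hn : ∀ m ∈ M, (a, b₀)⁻¹ * m * (a, b₀) ∈ M := by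
        rintro ⟨c, d⟩ hm
        have hc := C.fib_cc D hg (hMfib hm) hxfib
        change cc d b₀ = cc c a at hc
        by_cases hca : Commute c a
        · have hdb : Commute d b₀ := by
            rw [← cc_eq_zero_iff, hc, cc_eq_zero_iff]; exact hca
          have e : (a, b₀)⁻¹ * (c, d) * (a, b₀) = (c, d) := by
            rw [Prod.inv_mk, Prod.mk_mul_mk, Prod.mk_mul_mk, mul_assoc, hca.eq, inv_mul_cancel_left,
              mul_assoc, hdb.eq, inv_mul_cancel_left]
          rw [e]
          exact hm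
        · have hdb : ¬ Commute d b₀ := by
            rw [← cc_eq_one_iff, hc, cc_eq_one_iff]; exact hca
          have e : (a, b₀)⁻¹ * (c, d) * (a, b₀) = (c, d) * (z, z) := by
            rw [Prod.inv_mk, Prod.mk_mul_mk, Prod.mk_mul_mk, Prod.mk_mul_mk, mul_assoc,
              D.anti' hca, mul_assoc a, inv_mul_cancel_left, mul_assoc, D.anti' hdb, mul_assoc b₀,
              inv_mul_cancel_left]
          rw [e]
          exact mul_mem hm hzzM
      obtain ⟨M', hMM', hxM', hM'⟩ := exists_extension M (a, b₀) hx2 hn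
      have hM'fib : M' ≤ C.fib g := by
        intro y hy
        rcases hM' y hy with h | h
        · exact hMfib h
        · have e : y = (a, b₀) * ((a, b₀)⁻¹ * y) := by group
          rw [e]
          exact mul_mem hxfib (hMfib h)
      have h1z : ((1 : P), z) ∈ M' := by
        by_contra hcon
        have hM'F : M' ∈ F := ⟨hM'fib, hcon⟩
        exact hx (hMmax.le_of_ge hM'F hMM' hxM')
      rcases hM' _ h1z with h | h
      · exact absurd h hMz
      · refine ⟨z⁻¹ * b₀, ?_⟩
        have h2 := inv_mem h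
        have e : ((a, b₀)⁻¹ * ((1 : P), z))⁻¹ = (a, z⁻¹ * b₀) := by
          rw [_root_.mul_inv_rev, inv_inv, Prod.inv_mk, Prod.mk_mul_mk, inv_one, one_mul]
        rw [e] at h2
        exact h2
  -- uniqueness
  have huniq : ∀ a b b' : P, (a, b) ∈ M → (a, b') ∈ M → b = b' := by
    intro a b b' hb hb'
    have h1 : ((1 : P), b⁻¹ * b') ∈ M := by
      have := mul_mem (inv_mem hb) hb'
      rwa [Prod.inv_mk, Prod.mk_mul_mk, inv_mul_cancel] at this
    have h2 := hMfib h1
    rw [mem_fib] at h2
    change C.κ (b⁻¹ * b') = (g : Matrix ι ι (ZMod 2)).mulVec (C.κ 1) at h2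
    rw [C.map_one, Matrix.mulVec_zero] at h2
    rcases C.ker _ h2 with h3 | h3
    · have : b' = b * (b⁻¹ * b') := by group
      rw [this, h3, mul_one]
    · rw [h3] at h1
      exact absurd h1 hMz
  choose f hf using hex
  have hfmul : ∀ a a', f (a * a') = f a * f a' := by
    intro a a'
    apply huniq (a * a') _ _ (hf _)
    have := mul_mem (hf a) (hf a')
    rwa [Prod.mk_mul_mk] at this
  let fh : P →* P := MonoidHom.mk' f hfmul
  have hinj : Function.Injective fh := by
    rw [injective_iff_map_eq_one]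
    intro a ha
    change f a = 1 at ha
    have h1 := hf a
    rw [ha] at h1
    have h2 := hMfib h1
    rw [mem_fib] at h2
    change C.κ 1 = (g : Matrix ι ι (ZMod 2)).mulVec (C.κ a) at h2
    rw [C.map_one] at h2
    have h3 := gl_mulVec_eq_zero g _ h2.symm
    rcases C.ker _ h3 with h4 | h4
    · exact h4
    · exfalso
      rw [h4] at h1
      have h5 := mul_mem (inv_mem h1) hzzM
      rw [Prod.inv_mk, Prod.mk_mul_mk, inv_mul_cancel, inv_one, one_mul] at h5
      exact hMz h5
  refine ⟨MulEquiv.ofBijective fh (Finite.injective_iff_bijective.1 hinj), ?_⟩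
  intro a
  exact hMfib (hf a)

end Coord




open Cfsg.Agent.Helper20.ExMinus

variable {P : Type*} [Group P] {z : P}
variable {ι : Type} [Fintype ι] [DecidableEq ι] {Q : (ι → ZMod 2) → ZMod 2}

namespace Coord

variable (C : Coord z Q)

/-- the action on coordinates, as a map into the isometry group -/
noncomputable def PhiIso (D : Data z) : MulAut P →* ↥(Cfsg.isometryGroup (ZMod 2) Q) :=
  (C.Phi D).codRestrict _ (C.Phi_mem D)

theorem PhiIso_surjective (D : Data z) [Finite P] : Function.Surjective (C.PhiIso D) := by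
  rintro ⟨g, hg⟩
  obtain ⟨α, hα⟩ := C.exists_lift D hg
  refine ⟨α, Subtype.ext ?_⟩
  exact C.Phi_eq_of_forall D α g hα

theorem PhiIso_ker (D : Data z) : (C.PhiIso D).ker = (C.Phi D).ker := by
  ext α
  rw [MonoidHom.mem_ker, MonoidHom.mem_ker]
  constructor
  · intro h
    exact congrArg Subtype.val h
  · intro h
    exact Subtype.ext h

end Coord

theorem Coord.out_equiv (C : Coord z Q) (D : Data z) [Finite P]
    (hc : Nat.card (Subgroup.center P) = 2) :
    Nonempty (Cfsg.Out P ≃* ↥(Cfsg.isometryGroup (ZMod 2) Q)) := by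
  have hker : Cfsg.Inn P = (C.PhiIso D).ker := by
    rw [C.PhiIso_ker D]
    exact C.ker_eq D hc
  exact ⟨(QuotientGroup.quotientMulEquivOfEq hker).trans
    (QuotientGroup.quotientKerEquivOfSurjective (C.PhiIso D) (C.PhiIso_surjective D))⟩


end Cfsg.Agent.Helper27.ExOut
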