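import Mathlib
import Cfsg.Agent.Lib.Helper27.ExOutA

set_option autoImplicit false
set_option linter.unusedSectionVars false

/-! Symplectic frames of extraspecial 2-groups: a frame gives coordinates (`Frame.coord`); hyperbolic systems exist by induction inside a fixed group (`exists_hyp_plus`, `exists_hyp_minus`), the standard quadratic forms of plus and minus type satisfy the polar identities, and the outer automorphism group is the corresponding orthogonal group (`main_plus`, `main_minus`). -/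

namespace Cfsg.Agent.Helper27.ExOut


open Cfsg.Agent.Helper20.ExMinus

variable {P : Type*} [Group P] {z : P}
variable {ι : Type} [Fintype ι] [DecidableEq ι]

/-- a symplectic frame of an extraspecial 2-group: `x j` commutes with all `x k` except
`x (δ j)` -/
structure Frame (z : P) (x : ι → P) (δ : ι → ι) : Prop where
  invol : ∀ j, δ (δ j) = j
  comm : ∀ j k, Commute (x j) (x k) ↔ k ≠ δ j
  cen : ∀ g : P, (∀ j, Commute g (x j)) → g = 1 ∨ g = z

/-- the coordinates attached to a frame -/
noncomputable def frameκ (x : ι → P) (δ : ι → ι) (a : P) : ι → ZMod 2 := fun j => cc a (x (δ j))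

namespace Frame

variable {x : ι → P} {δ : ι → ι}

omit [Fintype ι] [DecidableEq ι] in
theorem δ_inj (F : Frame z x δ) {j k : ι} (h : δ j = δ k) : j = k := by
  rw [← F.invol j, h, F.invol]

omit [Fintype ι] [DecidableEq ι] in
theorem κ_mul (D : Data z) (a b : P) : frameκ x δ (a * b) = frameκ x δ a + frameκ x δ b := by
  ext j
  exact cc_mul_left D a b _

omit [Fintype ι] [DecidableEq ι] in
theorem κ_z (D : Data z) : frameκ x δ z = 0 := by
  ext j
  exact cc_z_left D _

omit [Fintype ι] [DecidableEq ι] in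
theorem κ_inv (a : P) : frameκ x δ a⁻¹ = frameκ x δ a := by
  ext j
  exact cc_inv_left a _

omit [Fintype ι] in
theorem κ_x (F : Frame z x δ) (k : ι) : frameκ x δ (x k) = Pi.single k 1 := by
  ext j
  unfold frameκ
  by_cases hjk : j = k
  · rw [hjk, Pi.single_eq_same, cc_eq_one_iff, F.comm]
    simp
  · rw [Pi.single_eq_of_ne hjk, cc_eq_zero_iff, F.comm]
    intro h
    exact hjk (F.δ_inj h)

omit [Fintype ι] [DecidableEq ι] in
theorem κ_ker (F : Frame z x δ) (a : P) (h : frameκ x δ a = 0) : a = 1 ∨ a = z := by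
  apply F.cen
  intro j
  have := congrFun h (δ j)
  unfold frameκ at this
  rw [F.invol] at this
  exact cc_eq_zero_iff.1 this

theorem κ_surj (F : Frame z x δ) (D : Data z) : Function.Surjective (frameκ x δ) :=
  surjective_of_frame (κ_mul D) x F.κ_x

theorem closure_eq_top (F : Frame z x δ) (D : Data z) :
    Subgroup.closure ({z} ∪ Set.range x) = ⊤ :=
  closure_eq_top_of_frame (κ_mul D) F.κ_ker x F.κ_x

/-- the commutator pairing in coordinates -/
theorem cc_eq_sum (F : Frame z x δ) (D : Data z) (a b : P) :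
    cc a b = ∑ j, frameκ x δ a j * frameκ x δ b (δ j) := by
  have hb : b ∈ Subgroup.closure ({z} ∪ Set.range x) := by
    rw [F.closure_eq_top D]; exact Subgroup.mem_top b
  induction hb using Subgroup.closure_induction with
  | mem b hb =>
    rcases hb with hb | ⟨k, rfl⟩
    · rw [Set.mem_singleton_iff] at hb
      subst hb
      rw [cc_z_right D, κ_z D]
      simp
    · rw [F.κ_x]
      rw [Finset.sum_eq_single (δ k)]
      · rw [F.invol, Pi.single_eq_same, mul_one]
        unfold frameκ
        rw [F.invol]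
      · intro j _ hj
        have : δ j ≠ k := by
          intro h
          apply hj
          rw [← h, F.invol]
        rw [Pi.single_eq_of_ne this, mul_zero]
      · intro h
        exact absurd (Finset.mem_univ _) h
  | one =>
    rw [cc_one_right]
    have h1 : frameκ x δ (1 : P) = 0 := by
      ext j
      exact cc_one_left _
    rw [h1]
    simp
  | mul b c _ _ ihb ihc =>
    rw [cc_mul_right D, ihb, ihc, κ_mul D, ← Finset.sum_add_distrib]
    apply Finset.sum_congr rfl
    intro j _
    rw [Pi.add_apply, mul_add]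
  | inv b _ ihb =>
    rw [cc_inv_right, ihb, κ_inv]

/-- the squaring map in coordinates -/
theorem qq_eq (F : Frame z x δ) (D : Data z) (Q : (ι → ZMod 2) → ZMod 2) (hQ0 : Q 0 = 0)
    (hpol : ∀ u v, Q (u + v) = Q u + Q v + ∑ j, u j * v (δ j))
    (hQx : ∀ j, Q (Pi.single j 1) = qq (x j)) (a : P) : Q (frameκ x δ a) = qq a := by
  have ha : a ∈ Subgroup.closure ({z} ∪ Set.range x) := by
    rw [F.closure_eq_top D]; exact Subgroup.mem_top a
  induction ha using Subgroup.closure_induction with
  | mem a ha =>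
    rcases ha with ha | ⟨k, rfl⟩
    · rw [Set.mem_singleton_iff] at ha
      subst ha
      rw [κ_z D, hQ0, qq_z D]
    · rw [F.κ_x, hQx]
  | one =>
    have h1 : frameκ x δ (1 : P) = 0 := by
      ext j
      exact cc_one_left _
    rw [h1, hQ0, qq_one]
  | mul a b _ _ iha ihb =>
    rw [κ_mul D, hpol, iha, ihb, qq_mul D, F.cc_eq_sum D]
  | inv a _ iha =>
    rw [κ_inv, iha, qq_inv]

/-- the coordinates of a frame -/
noncomputable def coord (F : Frame z x δ) (D : Data z) (Q : (ι → ZMod 2) → ZMod 2) (hQ0 : Q 0 = 0)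
    (hpol : ∀ u v, Q (u + v) = Q u + Q v + ∑ j, u j * v (δ j))
    (hQx : ∀ j, Q (Pi.single j 1) = qq (x j))
    (hcard : Nat.card P = 2 ^ (Fintype.card ι + 1)) : Coord z Q where
  κ := frameκ x δ
  map_mul := κ_mul D
  map_z := κ_z D
  ker := F.κ_ker
  surj := F.κ_surj D
  quad := F.qq_eq D Q hQ0 hpol hQx
  card := hcard

end Frame




open Cfsg.Agent.Helper20.ExMinus Subgroup

variable {P : Type*} [Group P] {z : P}

/-- a subgroup containing `z` whose centre is `{1, z}` -/
def Nondeg (z : P) (R : Subgroup P) : Prop :=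
  z ∈ R ∧ ∀ c ∈ R, (∀ a ∈ R, Commute a c) → c = 1 ∨ c = z

theorem Nondeg.exists_not_commute {R : Subgroup P} (h : Nondeg z R) {a : P} (haR : a ∈ R)
    (h1 : a ≠ 1) (hz : a ≠ z) : ∃ b ∈ R, ¬ Commute b a := by
  by_contra hcon
  push Not at hcon
  rcases h.2 a haR hcon with h2 | h2
  · exact h1 h2
  · exact hz h2

theorem nondeg_top (D : Data z) : Nondeg z (⊤ : Subgroup P) :=
  ⟨Subgroup.mem_top z, fun c _ hc => D.cen c (fun a => (hc a (Subgroup.mem_top a)).eq)⟩

/-- the residual subgroup -/
def res (R : Subgroup P) (a b : P) : Subgroup P :=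
  R ⊓ centralizer ({a} : Set P) ⊓ centralizer ({b} : Set P)

theorem mem_res {R : Subgroup P} {a b g : P} :
    g ∈ res R a b ↔ g ∈ R ∧ Commute g a ∧ Commute g b := by
  unfold res
  rw [Subgroup.mem_inf, Subgroup.mem_inf, mem_cen_iff, mem_cen_iff, and_assoc]

theorem res_le (R : Subgroup P) (a b : P) : res R a b ≤ R := fun _ hg => (mem_res.1 hg).1

theorem card_res (D : Data z) [Finite P] {R : Subgroup P} {a b : P} (haR : a ∈ R) (hbR : b ∈ R)
    (hab : ¬ Commute a b) : Nat.card ↥(res R a b) * 4 = Nat.card ↥R := by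
  have hba : ¬ Commute b a := fun h => hab h.symm
  have h1 := D.card_inf_cen R a b hbR hba
  have haC : a ∈ R ⊓ centralizer ({a} : Set P) := ⟨haR, mem_cen_iff.2 (Commute.refl a)⟩
  have h2 := D.card_inf_cen (R ⊓ centralizer ({a} : Set P)) b a haC hab
  unfold res
  omega

theorem exists_mul_mem_res (D : Data z) {R : Subgroup P} {a b : P} (haR : a ∈ R) (hbR : b ∈ R)
    (hab : ¬ Commute a b) {g : P} (hg : g ∈ R) :
    ∃ u : P, (∀ c : P, Commute c a → Commute c b → Commute c u) ∧ g * u ∈ res R a b := by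
  have hba : ¬ Commute b a := fun h => hab h.symm
  by_cases h1 : Commute g a <;> by_cases h2 : Commute g b
  · refine ⟨1, fun c _ _ => Commute.one_right c, ?_⟩
    rw [mul_one, mem_res]
    exact ⟨hg, h1, h2⟩
  · refine ⟨a, fun c hca _ => hca, ?_⟩
    rw [mem_res]
    refine ⟨mul_mem hg haR, ?_, ?_⟩
    · rw [D.mul_commute_iff]; simp [h1]
    · rw [D.mul_commute_iff]; simp [h2, hab]
  · refine ⟨b, fun c _ hcb => hcb, ?_⟩
    rw [mem_res]
    refine ⟨mul_mem hg hbR, ?_, ?_⟩
    · rw [D.mul_commute_iff]; simp [h1, hba]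
    · rw [D.mul_commute_iff]; simp [h2]
  · refine ⟨a * b, fun c hca hcb => hca.mul_right hcb, ?_⟩
    rw [mem_res]
    refine ⟨mul_mem hg (mul_mem haR hbR), ?_, ?_⟩
    · rw [D.mul_commute_iff, D.mul_commute_iff]; simp [h1, hba]
    · rw [D.mul_commute_iff, D.mul_commute_iff]; simp [h2, hab]

theorem nondeg_res (D : Data z) {R : Subgroup P} (hR : Nondeg z R) {a b : P} (haR : a ∈ R)
    (hbR : b ∈ R) (hab : ¬ Commute a b) : Nondeg z (res R a b) := by
  refine ⟨mem_res.2 ⟨hR.1, D.z_commute a, D.z_commute b⟩, ?_⟩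
  intro c hc hcen
  obtain ⟨hcR, hca, hcb⟩ := mem_res.1 hc
  apply hR.2 c hcR
  intro g hg
  obtain ⟨u, hu, hgu⟩ := exists_mul_mem_res D haR hbR hab hg
  have h1 : Commute (g * u) c := hcen _ hgu
  have h2 : Commute c u := hu c hca hcb
  have e : g = (g * u) * u⁻¹ := by group
  rw [e]
  exact h1.mul_left h2.symm.inv_left

/-- an involution not commuting with a given noncentral involution -/
theorem Nondeg.exists_invol_not_commute (D : Data z) {R : Subgroup P} (hR : Nondeg z R) {a : P}
    (haR : a ∈ R) (haa : a * a = 1) (h1 : a ≠ 1) (hz : a ≠ z) :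
    ∃ b ∈ R, b * b = 1 ∧ ¬ Commute a b := by
  obtain ⟨c, hcR, hc⟩ := hR.exists_not_commute haR h1 hz
  have hc' : ¬ Commute a c := fun h => hc h.symm
  rcases D.sq c with hcc | hcc
  · exact ⟨c, hcR, hcc, hc'⟩
  · refine ⟨a * c, mul_mem haR hcR, ?_, ?_⟩
    · rw [D.sq_mul_iff, haa, hcc]
      simp [hc', D.z1]
    · rw [D.commute_mul_iff]
      simp [hc']

/-- a noncentral involution in a large enough subgroup -/
theorem Nondeg.exists_invol (D : Data z) [Finite P] {R : Subgroup P} (hR : Nondeg z R)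
    (hcard : 16 < Nat.card ↥R) : ∃ a ∈ R, a * a = 1 ∧ a ≠ 1 ∧ a ≠ z := by
  classical
  obtain ⟨x, hxR, hx⟩ := exists_mem_not_mem_finset R ({1, z} : Finset P) (by
    calc ({1, z} : Finset P).card ≤ 2 := Finset.card_le_two
      _ < Nat.card ↥R := by omega)
  simp only [Finset.mem_insert, Finset.mem_singleton, not_or] at hx
  obtain ⟨hx1, hxz⟩ := hx
  rcases D.sq x with hxx | hxx
  · exact ⟨x, hxR, hxx, hx1, hxz⟩
  · obtain ⟨c, hcR, hc⟩ := hR.exists_not_commute hxR hx1 hxz
    have h16 := D.card_inf_cen R x c hcR hc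
    obtain ⟨y, hyM, hy⟩ := exists_mem_not_mem_finset (R ⊓ centralizer ({x} : Set P))
      ({1, x, z, x * z} : Finset P) (by
      calc ({1, x, z, x * z} : Finset P).card ≤ 4 := Finset.card_le_four
        _ < Nat.card ↥(R ⊓ centralizer ({x} : Set P)) := by omega)
    simp only [Finset.mem_insert, Finset.mem_singleton, not_or] at hy
    obtain ⟨hy1, hyx, hyz, hyxz⟩ := hy
    have hyc : Commute y x := mem_cen_iff.1 hyM.2
    rcases D.sq y with hyy | hyy
    · exact ⟨y, hyM.1, hyy, hy1, hyz⟩
    · have hxinv : x⁻¹ = x * z := by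
        apply inv_eq_of_mul_eq_one_right
        rw [← mul_assoc, hxx, D.zz]
      refine ⟨x * y, mul_mem hxR hyM.1, ?_, ?_, ?_⟩
      · rw [D.sq_mul_iff, hxx, hyy]
        simp [hyc.symm]
      · intro h
        apply hyxz
        rw [← hxinv]
        exact eq_inv_of_mul_eq_one_right h
      · intro h
        apply hyx
        have : y = x⁻¹ * z := by rw [← h]; group
        rw [this, hxinv, mul_assoc, D.zz, mul_one]

/-- hyperbolic systems -/
structure Hyp (z : P) {n : ℕ} (e f : Fin n → P) : Prop where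
  ee : ∀ i, e i * e i = 1
  ff : ∀ i, f i * f i = 1
  ce : ∀ i j, Commute (e i) (e j)
  cf : ∀ i j, Commute (f i) (f j)
  cef : ∀ i j, Commute (e i) (f j) ↔ i ≠ j

theorem Hyp.cons {n : ℕ} {e f : Fin n → P} (H : Hyp z e f) {a b : P} (haa : a * a = 1)
    (hbb : b * b = 1) (hab : ¬ Commute a b) (hea : ∀ i, Commute (e i) a)
    (heb : ∀ i, Commute (e i) b) (hfa : ∀ i, Commute (f i) a) (hfb : ∀ i, Commute (f i) b) :
    Hyp z (Fin.cons a e : Fin (n + 1) → P) (Fin.cons b f : Fin (n + 1) → P) := by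
  refine ⟨?_, ?_, ?_, ?_, ?_⟩
  · intro i
    refine Fin.cases ?_ (fun i => ?_) i
    · simpa using haa
    · simpa using H.ee i
  · intro i
    refine Fin.cases ?_ (fun i => ?_) i
    · simpa using hbb
    · simpa using H.ff i
  · intro i j
    refine Fin.cases ?_ (fun i => ?_) i <;> refine Fin.cases ?_ (fun j => ?_) j
    · exact Commute.refl _
    · simpa using (hea j).symm
    · simpa using hea i
    · simpa using H.ce i j
  · intro i j
    refine Fin.cases ?_ (fun i => ?_) i <;> refine Fin.cases ?_ (fun j => ?_) j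
    · exact Commute.refl _
    · simpa using (hfb j).symm
    · simpa using hfb i
    · simpa using H.cf i j
  · intro i j
    refine Fin.cases ?_ (fun i => ?_) i <;> refine Fin.cases ?_ (fun j => ?_) j
    · simpa using hab
    · simp only [Fin.cons_zero, Fin.cons_succ]
      constructor
      · intro _; exact (Fin.succ_ne_zero j).symm
      · intro _; exact (hfa j).symm
    · simp only [Fin.cons_zero, Fin.cons_succ]
      constructor
      · intro _; exact Fin.succ_ne_zero i
      · intro _; exact heb i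
    · simp only [Fin.cons_succ]
      rw [H.cef i j]
      constructor
      · intro h h'; exact h (Fin.succ_injective _ h')
      · intro h h'; exact h (congrArg Fin.succ h')




open Cfsg.Agent.Helper20.ExMinus Subgroup

variable {P : Type*} [Group P] {z : P}

theorem elemAb_comm {A : Subgroup P} (hA : Cfsg.IsElementaryAbelian 2 A) {x y : P} (hx : x ∈ A)
    (hy : y ∈ A) : Commute x y := by
  have hc := hA.1
  have := mul_comm' (⟨x, hx⟩ : A) ⟨y, hy⟩
  exact congrArg Subtype.val this

theorem elemAb_sq {A : Subgroup P} (hA : Cfsg.IsElementaryAbelian 2 A) {x : P} (hx : x ∈ A) :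
    x * x = 1 := by
  have := hA.2 x hx
  rwa [pow_two] at this

theorem elemAb_of_le {A B : Subgroup P} (hA : Cfsg.IsElementaryAbelian 2 A) (hBA : B ≤ A) :
    Cfsg.IsElementaryAbelian 2 B :=
  ⟨⟨⟨fun x y => Subtype.ext (elemAb_comm hA (hBA x.2) (hBA y.2)).eq⟩⟩,
    fun a ha => hA.2 a (hBA ha)⟩

theorem eq_one_or_z_of_card_two [Finite P] (D : Data z) {R : Subgroup P} (hz : z ∈ R)
    (hcard : Nat.card ↥R = 2) {g : P} (hg : g ∈ R) : g = 1 ∨ g = z := by
  classical
  by_contra hcon
  push Not at hcon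
  have h3 : ({g, 1, z} : Finset P).card = 3 := by
    rw [Finset.card_insert_of_notMem, Finset.card_pair (fun h => D.z1 h.symm)]
    simp only [Finset.mem_insert, Finset.mem_singleton, not_or]
    exact hcon
  have := card_ge_of_finset_subset R ({g, 1, z} : Finset P) (by
    intro x hx
    simp only [Finset.mem_insert, Finset.mem_singleton] at hx
    rcases hx with rfl | rfl | rfl
    · exact hg
    · exact one_mem _
    · exact hz)
  omega

theorem exists_hyp_plus (D : Data z) [Finite P] : ∀ (m : ℕ) (R : Subgroup P), Nondeg z R →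
    Nat.card ↥R = 2 ^ (2 * m + 1) →
    (∃ A : Subgroup P, A ≤ R ∧ Cfsg.IsElementaryAbelian 2 A ∧ Nat.card ↥A = 2 ^ (m + 1)) →
    ∃ e f : Fin m → P, Hyp z e f ∧ (∀ i, e i ∈ R) ∧ (∀ i, f i ∈ R) ∧
      ∀ g ∈ R, (∀ i, Commute g (e i)) → (∀ i, Commute g (f i)) → g = 1 ∨ g = z := by
  classical
  intro m
  induction m with
  | zero =>
    intro R hR hcard _
    refine ⟨Fin.elim0, Fin.elim0, ⟨fun i => i.elim0, fun i => i.elim0, fun i => i.elim0,
      fun i => i.elim0, fun i => i.elim0⟩, fun i => i.elim0, fun i => i.elim0, ?_⟩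
    intro g hg _ _
    exact eq_one_or_z_of_card_two D hR.1 (by simpa using hcard) hg
  | succ m ih =>
    intro R hR hcard hA
    obtain ⟨A, hAR, hAel, hAcard⟩ := hA
    -- a
    obtain ⟨a, haA, ha⟩ := exists_mem_not_mem_finset A ({1, z} : Finset P) (by
      calc ({1, z} : Finset P).card ≤ 2 := Finset.card_le_two
        _ < Nat.card ↥A := by
          rw [hAcard, pow_succ, pow_succ]
          have : 0 < 2 ^ m := Nat.pos_of_ne_zero (by positivity)
          omega)
    simp only [Finset.mem_insert, Finset.mem_singleton, not_or] at ha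
    obtain ⟨ha1, haz⟩ := ha
    have haR : a ∈ R := hAR haA
    have haa : a * a = 1 := elemAb_sq hAel haA
    obtain ⟨b, hbR, hbb, hab⟩ := hR.exists_invol_not_commute D haR haa ha1 haz
    have hba : ¬ Commute b a := fun h => hab h.symm
    -- the residual group
    have hR1 : Nondeg z (res R a b) := nondeg_res D hR haR hbR hab
    have hcard1 : Nat.card ↥(res R a b) = 2 ^ (2 * m + 1) := by
      have := card_res D haR hbR hab
      rw [hcard] at this
      have e : 2 ^ (2 * (m + 1) + 1) = 2 ^ (2 * m + 1) * 4 := by ring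
      rw [e] at this
      exact Nat.eq_of_mul_eq_mul_right (by norm_num) this
    -- the elementary abelian subgroup of the residual group
    have hA1 : ∃ A1 : Subgroup P, A1 ≤ res R a b ∧ Cfsg.IsElementaryAbelian 2 A1 ∧
        Nat.card ↥A1 = 2 ^ (m + 1) := by
      refine ⟨A ⊓ centralizer ({b} : Set P), ?_, elemAb_of_le hAel inf_le_left, ?_⟩
      · intro g hg
        rw [mem_res]
        exact ⟨hAR hg.1, elemAb_comm hAel hg.1 haA, mem_cen_iff.1 hg.2⟩
      · have := D.card_inf_cen A b a haA hab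
        rw [hAcard] at this
        have e : 2 ^ (m + 1 + 1) = 2 ^ (m + 1) * 2 := by ring
        rw [e] at this
        exact Nat.eq_of_mul_eq_mul_right (by norm_num) this
    obtain ⟨e, f, H, heR, hfR, hcen⟩ := ih (res R a b) hR1 hcard1 hA1
    have hea : ∀ i, Commute (e i) a := fun i => (mem_res.1 (heR i)).2.1
    have heb : ∀ i, Commute (e i) b := fun i => (mem_res.1 (heR i)).2.2
    have hfa : ∀ i, Commute (f i) a := fun i => (mem_res.1 (hfR i)).2.1
    have hfb : ∀ i, Commute (f i) b := fun i => (mem_res.1 (hfR i)).2.2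
    refine ⟨Fin.cons a e, Fin.cons b f, H.cons haa hbb hab hea heb hfa hfb, ?_, ?_, ?_⟩
    · intro i
      refine Fin.cases ?_ (fun i => ?_) i
      · simpa using haR
      · simpa using res_le R a b (heR i)
    · intro i
      refine Fin.cases ?_ (fun i => ?_) i
      · simpa using hbR
      · simpa using res_le R a b (hfR i)
    · intro g hg hge hgf
      have hga : Commute g a := by simpa using hge 0
      have hgb : Commute g b := by simpa using hgf 0
      apply hcen g (mem_res.2 ⟨hg, hga, hgb⟩)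
      · intro i
        simpa using hge i.succ
      · intro i
        simpa using hgf i.succ




open Cfsg.Agent.Helper20.ExMinus Subgroup

variable {P : Type*} [Group P] {z : P}

theorem two_mul_card_le_of_lt [Finite P] {A B : Subgroup P} (hAB : A ≤ B) {a : P} (haB : a ∈ B)
    (haA : a ∉ A) : 2 * Nat.card ↥A ≤ Nat.card ↥B := by
  obtain ⟨k, hk⟩ := Subgroup.card_dvd_of_le hAB
  have hpos : 0 < Nat.card ↥A := Nat.card_pos
  have hk1 : k ≠ 1 := by
    intro h
    rw [h, mul_one] at hk
    have := Subgroup.eq_of_le_of_card_ge hAB hk.le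
    rw [this] at haA
    exact haA haB
  have hk0 : k ≠ 0 := by
    intro h
    rw [h, mul_zero] at hk
    have : 0 < Nat.card ↥B := Nat.card_pos
    omega
  have hk2 : 2 ≤ k := by omega
  rw [hk]
  calc 2 * Nat.card ↥A = Nat.card ↥A * 2 := by ring
    _ ≤ Nat.card ↥A * k := Nat.mul_le_mul_left _ hk2

/-- adjoining a commuting involution to an elementary abelian subgroup -/
theorem elemAb_adjoin {A : Subgroup P} (hA : Cfsg.IsElementaryAbelian 2 A) {a : P}
    (haa : a * a = 1) (hcomm : ∀ x ∈ A, Commute x a) :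
    Cfsg.IsElementaryAbelian 2 (Subgroup.closure ((A : Set P) ∪ {a})) := by
  apply isElementaryAbelian_closure'
  · rintro x (hx | hx) y (hy | hy)
    · exact (elemAb_comm hA hx hy).eq
    · rw [Set.mem_singleton_iff] at hy
      subst hy
      exact (hcomm x hx).eq
    · rw [Set.mem_singleton_iff] at hx
      subst hx
      exact (hcomm y hy).eq.symm
    · rw [Set.mem_singleton_iff] at hx hy
      rw [hx, hy]
  · rintro x (hx | hx)
    · exact elemAb_sq hA hx
    · rw [Set.mem_singleton_iff] at hx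
      rw [hx]
      exact haa

theorem exists_hyp_minus (D : Data z) [Finite P] : ∀ (m : ℕ) (R : Subgroup P), Nondeg z R →
    Nat.card ↥R = 2 ^ (2 * m + 3) →
    (∀ A : Subgroup P, A ≤ R → Cfsg.IsElementaryAbelian 2 A → Nat.card ↥A ≤ 2 ^ (m + 1)) →
    ∃ (e f : Fin m → P) (u₁ u₂ : P), Hyp z e f ∧ u₁ * u₁ = z ∧ u₂ * u₂ = z ∧
      ¬ Commute u₁ u₂ ∧ (∀ i, Commute u₁ (e i)) ∧ (∀ i, Commute u₁ (f i)) ∧
      (∀ i, Commute u₂ (e i)) ∧ (∀ i, Commute u₂ (f i)) ∧
      (∀ i, e i ∈ R) ∧ (∀ i, f i ∈ R) ∧ u₁ ∈ R ∧ u₂ ∈ R ∧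
      ∀ g ∈ R, (∀ i, Commute g (e i)) → (∀ i, Commute g (f i)) → Commute g u₁ → Commute g u₂ →
        g = 1 ∨ g = z := by
  classical
  intro m
  induction m with
  | zero =>
    intro R hR hcard hminus
    have hcard8 : Nat.card ↥R = 8 := by simpa using hcard
    -- squares
    have hsqz : ∀ x ∈ R, x ≠ 1 → x ≠ z → x * x = z := by
      intro x hxR hx1 hxz
      rcases D.sq x with hxx | hxx
      · exfalso
        have hA : Cfsg.IsElementaryAbelian 2 (Subgroup.closure ({x, z} : Set P)) := by
          apply isElementaryAbelian_closure'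
          · intro u hu v hv
            simp only [Set.mem_insert_iff, Set.mem_singleton_iff] at hu hv
            rcases hu with rfl | rfl <;> rcases hv with rfl | rfl
            · rfl
            · exact D.zc _
            · exact (D.zc _).symm
            · rfl
          · intro u hu
            simp only [Set.mem_insert_iff, Set.mem_singleton_iff] at hu
            rcases hu with rfl | rfl
            · exact hxx
            · exact D.zz
        have hAR : Subgroup.closure ({x, z} : Set P) ≤ R := by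
          rw [Subgroup.closure_le]
          intro u hu
          simp only [Set.mem_insert_iff, Set.mem_singleton_iff] at hu
          rcases hu with rfl | rfl
          · exact hxR
          · exact hR.1
        have h2 := hminus _ hAR hA
        have h3 : ({x, 1, z} : Finset P).card = 3 := by
          rw [Finset.card_insert_of_notMem, Finset.card_pair (fun h => D.z1 h.symm)]
          simp only [Finset.mem_insert, Finset.mem_singleton, not_or]
          exact ⟨hx1, hxz⟩
        have := card_ge_of_finset_subset (Subgroup.closure ({x, z} : Set P))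
          ({x, 1, z} : Finset P) (by
          intro u hu
          simp only [Finset.mem_insert, Finset.mem_singleton] at hu
          rcases hu with rfl | rfl | rfl
          · exact Subgroup.subset_closure (by simp)
          · exact one_mem _
          · exact Subgroup.subset_closure (by simp))
        simp only [zero_add, pow_one] at h2
        omega
      · exact hxx
    obtain ⟨u₁, hu₁R, hu₁⟩ := exists_mem_not_mem_finset R ({1, z} : Finset P) (by
      calc ({1, z} : Finset P).card ≤ 2 := Finset.card_le_two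
        _ < Nat.card ↥R := by omega)
    simp only [Finset.mem_insert, Finset.mem_singleton, not_or] at hu₁
    obtain ⟨hu₁1, hu₁z⟩ := hu₁
    obtain ⟨u₂, hu₂R, hu₂⟩ := hR.exists_not_commute hu₁R hu₁1 hu₁z
    have hu₂' := D.ne_of_not_commute hu₂
    have h12 : ¬ Commute u₁ u₂ := fun h => hu₂ h.symm
    refine ⟨Fin.elim0, Fin.elim0, u₁, u₂, ⟨fun i => i.elim0, fun i => i.elim0, fun i => i.elim0,
      fun i => i.elim0, fun i => i.elim0⟩, hsqz u₁ hu₁R hu₁1 hu₁z, hsqz u₂ hu₂R hu₂'.1 hu₂'.2,
      h12, fun i => i.elim0, fun i => i.elim0, fun i => i.elim0, fun i => i.elim0,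
      fun i => i.elim0, fun i => i.elim0, hu₁R, hu₂R, ?_⟩
    intro g hg _ _ hg1 hg2
    have hc := card_res D hu₁R hu₂R h12
    have hc2 : Nat.card ↥(res R u₁ u₂) = 2 := by omega
    exact eq_one_or_z_of_card_two D (nondeg_res D hR hu₁R hu₂R h12).1 hc2
      (mem_res.2 ⟨hg, hg1, hg2⟩)
  | succ m ih =>
    intro R hR hcard hminus
    have h16 : 16 < Nat.card ↥R := by
      rw [hcard]
      have e : 2 ^ (2 * (m + 1) + 3) = 2 ^ (2 * m) * 32 := by ring
      have : 0 < 2 ^ (2 * m) := Nat.pos_of_ne_zero (by positivity)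
      omega
    obtain ⟨a, haR, haa, ha1, haz⟩ := hR.exists_invol D h16
    obtain ⟨b, hbR, hbb, hab⟩ := hR.exists_invol_not_commute D haR haa ha1 haz
    have hba : ¬ Commute b a := fun h => hab h.symm
    have hR1 : Nondeg z (res R a b) := nondeg_res D hR haR hbR hab
    have hcard1 : Nat.card ↥(res R a b) = 2 ^ (2 * m + 3) := by
      have := card_res D haR hbR hab
      rw [hcard] at this
      have e : 2 ^ (2 * (m + 1) + 3) = 2 ^ (2 * m + 3) * 4 := by ring
      rw [e] at this
      exact Nat.eq_of_mul_eq_mul_right (by norm_num) this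
    have hminus1 : ∀ A : Subgroup P, A ≤ res R a b → Cfsg.IsElementaryAbelian 2 A →
        Nat.card ↥A ≤ 2 ^ (m + 1) := by
      intro A hAR hA
      have hcomm : ∀ x ∈ A, Commute x a := fun x hx => (mem_res.1 (hAR hx)).2.1
      have hB := elemAb_adjoin hA haa hcomm
      have hBR : Subgroup.closure ((A : Set P) ∪ {a}) ≤ R := by
        rw [Subgroup.closure_le]
        rintro x (hx | hx)
        · exact res_le R a b (hAR hx)
        · rw [Set.mem_singleton_iff] at hx
          rw [hx]
          exact haR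
      have h1 := hminus _ hBR hB
      have hAB : A ≤ Subgroup.closure ((A : Set P) ∪ {a}) := by
        intro x hx
        exact Subgroup.subset_closure (Or.inl hx)
      have haB : a ∈ Subgroup.closure ((A : Set P) ∪ {a}) :=
        Subgroup.subset_closure (Or.inr rfl)
      have haA : a ∉ A := by
        intro h
        exact hab (mem_res.1 (hAR h)).2.2
      have h2 := two_mul_card_le_of_lt hAB haB haA
      have e : 2 ^ (m + 1 + 1) = 2 * 2 ^ (m + 1) := by ring
      rw [e] at h1
      omega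
    obtain ⟨e, f, u₁, u₂, H, h11, h22, h12, h1e, h1f, h2e, h2f, heR, hfR, hu₁R, hu₂R, hcen⟩ :=
      ih (res R a b) hR1 hcard1 hminus1
    have hea : ∀ i, Commute (e i) a := fun i => (mem_res.1 (heR i)).2.1
    have heb : ∀ i, Commute (e i) b := fun i => (mem_res.1 (heR i)).2.2
    have hfa : ∀ i, Commute (f i) a := fun i => (mem_res.1 (hfR i)).2.1
    have hfb : ∀ i, Commute (f i) b := fun i => (mem_res.1 (hfR i)).2.2
    refine ⟨Fin.cons a e, Fin.cons b f, u₁, u₂, H.cons haa hbb hab hea heb hfa hfb, h11, h22, h12,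
      ?_, ?_, ?_, ?_, ?_, ?_, res_le R a b hu₁R, res_le R a b hu₂R, ?_⟩
    · intro i
      refine Fin.cases ?_ (fun i => ?_) i
      · simpa using (mem_res.1 hu₁R).2.1
      · simpa using h1e i
    · intro i
      refine Fin.cases ?_ (fun i => ?_) i
      · simpa using (mem_res.1 hu₁R).2.2
      · simpa using h1f i
    · intro i
      refine Fin.cases ?_ (fun i => ?_) i
      · simpa using (mem_res.1 hu₂R).2.1
      · simpa using h2e i
    · intro i
      refine Fin.cases ?_ (fun i => ?_) i
      · simpa using (mem_res.1 hu₂R).2.2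
      · simpa using h2f i
    · intro i
      refine Fin.cases ?_ (fun i => ?_) i
      · simpa using haR
      · simpa using res_le R a b (heR i)
    · intro i
      refine Fin.cases ?_ (fun i => ?_) i
      · simpa using hbR
      · simpa using res_le R a b (hfR i)
    · intro g hg hge hgf hg1 hg2
      have hga : Commute g a := by simpa using hge 0
      have hgb : Commute g b := by simpa using hgf 0
      apply hcen g (mem_res.2 ⟨hg, hga, hgb⟩)
      · intro i
        simpa using hge i.succ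
      · intro i
        simpa using hgf i.succ
      · exact hg1
      · exact hg2




open Cfsg.Agent.Helper20.ExMinus Subgroup

/-! ### the standard quadratic forms -/

theorem zmod2_two : (2 : ZMod 2) = 0 := by decide

theorem plus_zero (n : ℕ) : Cfsg.quadFormPlus n (ZMod 2) 0 = 0 := by
  simp [Cfsg.quadFormPlus]

theorem plus_polar (n : ℕ) (u v : Fin n ⊕ Fin n → ZMod 2) :
    Cfsg.quadFormPlus n (ZMod 2) (u + v) = Cfsg.quadFormPlus n (ZMod 2) u +
      Cfsg.quadFormPlus n (ZMod 2) v + ∑ j, u j * v (Sum.swap j) := by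
  unfold Cfsg.quadFormPlus
  rw [Fintype.sum_sum_type]
  simp only [Pi.add_apply, Sum.swap_inl, Sum.swap_inr]
  rw [← Finset.sum_add_distrib, ← Finset.sum_add_distrib, ← Finset.sum_add_distrib]
  apply Finset.sum_congr rfl
  intro i _
  ring

theorem plus_single (n : ℕ) (j : Fin n ⊕ Fin n) :
    Cfsg.quadFormPlus n (ZMod 2) (Pi.single j 1) = 0 := by
  unfold Cfsg.quadFormPlus
  apply Finset.sum_eq_zero
  intro i _
  rcases j with j | j
  · rw [Pi.single_eq_of_ne (show Sum.inr i ≠ Sum.inl j from Sum.inr_ne_inl), mul_zero]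
  · rw [Pi.single_eq_of_ne (show Sum.inl i ≠ Sum.inr j from Sum.inl_ne_inr), zero_mul]

/-- the dual index for the minus form -/
def dualM (m : ℕ) : (Fin m ⊕ Fin m) ⊕ Fin 2 → (Fin m ⊕ Fin m) ⊕ Fin 2 :=
  Sum.map Sum.swap Fin.rev

theorem minus_zero (m : ℕ) : Cfsg.quadFormMinus m (ZMod 2) 1 1 0 = 0 := by
  simp [Cfsg.quadFormMinus]

theorem minus_polar (m : ℕ) (u v : (Fin m ⊕ Fin m) ⊕ Fin 2 → ZMod 2) :
    Cfsg.quadFormMinus m (ZMod 2) 1 1 (u + v) = Cfsg.quadFormMinus m (ZMod 2) 1 1 u +
      Cfsg.quadFormMinus m (ZMod 2) 1 1 v + ∑ j, u j * v (dualM m j) := by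
  unfold Cfsg.quadFormMinus dualM
  rw [Fintype.sum_sum_type, Fintype.sum_sum_type, Fin.sum_univ_two]
  simp only [Pi.add_apply, Sum.map_inl, Sum.map_inr, Sum.swap_inl, Sum.swap_inr]
  have hr0 : (Fin.rev (0 : Fin 2)) = 1 := by decide
  have hr1 : (Fin.rev (1 : Fin 2)) = 0 := by decide
  rw [hr0, hr1]
  have hsum : ∑ i : Fin m, (u (Sum.inl (Sum.inl i)) + v (Sum.inl (Sum.inl i))) *
      (u (Sum.inl (Sum.inr i)) + v (Sum.inl (Sum.inr i))) =
      ∑ i : Fin m, u (Sum.inl (Sum.inl i)) * u (Sum.inl (Sum.inr i)) +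
      ∑ i : Fin m, v (Sum.inl (Sum.inl i)) * v (Sum.inl (Sum.inr i)) +
      (∑ i : Fin m, u (Sum.inl (Sum.inl i)) * v (Sum.inl (Sum.inr i)) +
      ∑ i : Fin m, u (Sum.inl (Sum.inr i)) * v (Sum.inl (Sum.inl i))) := by
    rw [← Finset.sum_add_distrib, ← Finset.sum_add_distrib, ← Finset.sum_add_distrib]
    apply Finset.sum_congr rfl
    intro i _
    ring
  rw [hsum]
  linear_combination (u (Sum.inr 0) * v (Sum.inr 0) + u (Sum.inr 1) * v (Sum.inr 1)) * zmod2_two

theorem minus_single_inl (m : ℕ) (j : Fin m ⊕ Fin m) :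
    Cfsg.quadFormMinus m (ZMod 2) 1 1 (Pi.single (Sum.inl j) 1) = 0 := by
  unfold Cfsg.quadFormMinus
  rw [Pi.single_eq_of_ne (show (Sum.inr 0 : (Fin m ⊕ Fin m) ⊕ Fin 2) ≠ Sum.inl j from
    Sum.inr_ne_inl), Pi.single_eq_of_ne (show (Sum.inr 1 : (Fin m ⊕ Fin m) ⊕ Fin 2) ≠ Sum.inl j from
    Sum.inr_ne_inl)]
  have : ∑ i : Fin m, (Pi.single (Sum.inl j) 1 : (Fin m ⊕ Fin m) ⊕ Fin 2 → ZMod 2)
      (Sum.inl (Sum.inl i)) * (Pi.single (Sum.inl j) 1 : (Fin m ⊕ Fin m) ⊕ Fin 2 → ZMod 2)
      (Sum.inl (Sum.inr i)) = 0 := by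
    apply Finset.sum_eq_zero
    intro i _
    rcases j with j | j
    · rw [Pi.single_eq_of_ne (show (Sum.inl (Sum.inr i) : (Fin m ⊕ Fin m) ⊕ Fin 2) ≠
        Sum.inl (Sum.inl j) from fun h => Sum.inr_ne_inl (Sum.inl_injective h)), mul_zero]
    · rw [Pi.single_eq_of_ne (show (Sum.inl (Sum.inl i) : (Fin m ⊕ Fin m) ⊕ Fin 2) ≠
        Sum.inl (Sum.inr j) from fun h => Sum.inl_ne_inr (Sum.inl_injective h)), zero_mul]
  rw [this]
  simp

theorem minus_single_inr (m : ℕ) (k : Fin 2) :
    Cfsg.quadFormMinus m (ZMod 2) 1 1 (Pi.single (Sum.inr k) 1) = 1 := by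
  unfold Cfsg.quadFormMinus
  have : ∑ i : Fin m, (Pi.single (Sum.inr k) 1 : (Fin m ⊕ Fin m) ⊕ Fin 2 → ZMod 2)
      (Sum.inl (Sum.inl i)) * (Pi.single (Sum.inr k) 1 : (Fin m ⊕ Fin m) ⊕ Fin 2 → ZMod 2)
      (Sum.inl (Sum.inr i)) = 0 := by
    apply Finset.sum_eq_zero
    intro i _
    rw [Pi.single_eq_of_ne (show (Sum.inl (Sum.inl i) : (Fin m ⊕ Fin m) ⊕ Fin 2) ≠ Sum.inr k from
      Sum.inl_ne_inr), zero_mul]
  rw [this]
  fin_cases k
  · have h0 : (Pi.single (Sum.inr 0) 1 : (Fin m ⊕ Fin m) ⊕ Fin 2 → ZMod 2) (Sum.inr 0) = 1 :=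
      Pi.single_eq_same _ _
    have h1 : (Pi.single (Sum.inr 0) 1 : (Fin m ⊕ Fin m) ⊕ Fin 2 → ZMod 2) (Sum.inr 1) = 0 :=
      Pi.single_eq_of_ne (fun h => by simpa using Sum.inr_injective h) _
    simp only [Fin.zero_eta]
    rw [h0, h1]
    decide
  · have h0 : (Pi.single (Sum.inr 1) 1 : (Fin m ⊕ Fin m) ⊕ Fin 2 → ZMod 2) (Sum.inr 0) = 0 :=
      Pi.single_eq_of_ne (fun h => by simpa using Sum.inr_injective h) _
    have h1 : (Pi.single (Sum.inr 1) 1 : (Fin m ⊕ Fin m) ⊕ Fin 2 → ZMod 2) (Sum.inr 1) = 1 :=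
      Pi.single_eq_same _ _
    simp only [Fin.mk_one]
    rw [h0, h1]
    decide




open Cfsg.Agent.Helper20.ExMinus Subgroup

variable {P : Type*} [Group P] {z : P}

/-- the frame of a hyperbolic system -/
theorem Hyp.frame_plus {n : ℕ} {e f : Fin n → P} (H : Hyp z e f)
    (hcen : ∀ g : P, (∀ i, Commute g (e i)) → (∀ i, Commute g (f i)) → g = 1 ∨ g = z) :
    Frame z (Sum.elim e f) Sum.swap := by
  refine ⟨Sum.swap_swap, ?_, ?_⟩
  · rintro (i | i) (j | j)
    · simp only [Sum.elim_inl, Sum.swap_inl, ne_eq, reduceCtorEq, not_false_eq_true, iff_true]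
      exact H.ce i j
    · simp only [Sum.elim_inl, Sum.elim_inr, Sum.swap_inl, ne_eq, Sum.inr.injEq]
      rw [H.cef i j]
      exact ⟨fun h h' => h h'.symm, fun h h' => h h'.symm⟩
    · simp only [Sum.elim_inl, Sum.elim_inr, Sum.swap_inr, ne_eq, Sum.inl.injEq]
      rw [Commute.symm_iff, H.cef j i]
    · simp only [Sum.elim_inr, Sum.swap_inr, ne_eq, reduceCtorEq, not_false_eq_true, iff_true]
      exact H.cf i j
  · intro g hg
    exact hcen g (fun i => hg (Sum.inl i)) (fun i => hg (Sum.inr i))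

theorem dualM_dualM (m : ℕ) (j : (Fin m ⊕ Fin m) ⊕ Fin 2) : dualM m (dualM m j) = j := by
  rcases j with (i | i) | k
  · rfl
  · rfl
  · unfold dualM
    rw [Sum.map_inr, Sum.map_inr, Fin.rev_rev]

/-- the frame of a hyperbolic system together with a quaternion pair -/
theorem Hyp.frame_minus {m : ℕ} {e f : Fin m → P} (H : Hyp z e f) {u₁ u₂ : P}
    (h12 : ¬ Commute u₁ u₂) (h1e : ∀ i, Commute u₁ (e i)) (h1f : ∀ i, Commute u₁ (f i))
    (h2e : ∀ i, Commute u₂ (e i)) (h2f : ∀ i, Commute u₂ (f i))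
    (hcen : ∀ g : P, (∀ i, Commute g (e i)) → (∀ i, Commute g (f i)) → Commute g u₁ →
      Commute g u₂ → g = 1 ∨ g = z) :
    Frame z (Sum.elim (Sum.elim e f) ![u₁, u₂]) (dualM m) := by
  have h21 : ¬ Commute u₂ u₁ := fun h => h12 h.symm
  refine ⟨dualM_dualM m, ?_, ?_⟩
  · rintro ((i | i) | k) ((j | j) | l)
    · simp only [dualM, Sum.elim_inl, Sum.map_inl, Sum.swap_inl, ne_eq, Sum.inl.injEq,
        reduceCtorEq, not_false_eq_true, iff_true]
      exact H.ce i j
    · simp only [dualM, Sum.elim_inl, Sum.elim_inr, Sum.map_inl, Sum.swap_inl, ne_eq,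
        Sum.inl.injEq, Sum.inr.injEq]
      rw [H.cef i j]
      exact ⟨fun h h' => h h'.symm, fun h h' => h h'.symm⟩
    · simp only [dualM, Sum.elim_inl, Sum.elim_inr, Sum.map_inl, ne_eq, reduceCtorEq,
        not_false_eq_true, iff_true]
      fin_cases l
      · exact (h1e i).symm
      · exact (h2e i).symm
    · simp only [dualM, Sum.elim_inl, Sum.elim_inr, Sum.map_inl, Sum.swap_inr, ne_eq,
        Sum.inl.injEq]
      rw [Commute.symm_iff, H.cef j i]
    · simp only [dualM, Sum.elim_inl, Sum.elim_inr, Sum.map_inl, Sum.swap_inr, ne_eq,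
        Sum.inl.injEq, reduceCtorEq, not_false_eq_true, iff_true]
      exact H.cf i j
    · simp only [dualM, Sum.elim_inl, Sum.elim_inr, Sum.map_inl, ne_eq, reduceCtorEq,
        not_false_eq_true, iff_true]
      fin_cases l
      · exact (h1f i).symm
      · exact (h2f i).symm
    · simp only [dualM, Sum.elim_inl, Sum.elim_inr, Sum.map_inr, ne_eq, reduceCtorEq,
        not_false_eq_true, iff_true]
      fin_cases k
      · exact h1e j
      · exact h2e j
    · simp only [dualM, Sum.elim_inl, Sum.elim_inr, Sum.map_inr, ne_eq, reduceCtorEq,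
        not_false_eq_true, iff_true]
      fin_cases k
      · exact h1f j
      · exact h2f j
    · simp only [dualM, Sum.elim_inr, Sum.map_inr, ne_eq, Sum.inr.injEq]
      fin_cases k <;> fin_cases l
      · simp only [Fin.zero_eta, Matrix.cons_val_zero]
        have : ¬ (0 : Fin 2) = Fin.rev 0 := by decide
        simp only [this, not_false_eq_true, iff_true]
        exact Commute.refl _
      · simp only [Fin.zero_eta, Fin.mk_one, Matrix.cons_val_zero, Matrix.cons_val_one]
        have : (1 : Fin 2) = Fin.rev 0 := by decide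
        simp only [this, not_true_eq_false, iff_false]
        exact h12
      · simp only [Fin.zero_eta, Fin.mk_one, Matrix.cons_val_zero, Matrix.cons_val_one]
        have : (0 : Fin 2) = Fin.rev 1 := by decide
        simp only [this, not_true_eq_false, iff_false]
        exact h21
      · simp only [Fin.mk_one, Matrix.cons_val_one]
        have : ¬ (1 : Fin 2) = Fin.rev 1 := by decide
        simp only [this, not_false_eq_true, iff_true]
        exact Commute.refl _
  · intro g hg
    exact hcen g (fun i => hg (Sum.inl (Sum.inl i))) (fun i => hg (Sum.inl (Sum.inr i)))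
      (hg (Sum.inr 0)) (hg (Sum.inr 1))




open Cfsg.Agent.Helper20.ExMinus Subgroup

variable {P : Type*} [Group P] {z : P}

/-- if no elementary abelian subgroup has order exactly `2 ^ (n + 1)`, all are of order at most
`2 ^ n` -/
theorem card_le_of_not_exists [Finite P] (n : ℕ) (hcard : Nat.card P = 2 ^ (2 * n + 1))
    (hno : ¬ ∃ A : Subgroup P, Cfsg.IsElementaryAbelian 2 A ∧ Nat.card ↥A = 2 ^ (n + 1))
    (A : Subgroup P) (hA : Cfsg.IsElementaryAbelian 2 A) : Nat.card ↥A ≤ 2 ^ n := by
  by_contra hcon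
  push Not at hcon
  have hdvd : Nat.card ↥A ∣ 2 ^ (2 * n + 1) := by
    rw [← hcard]
    exact Subgroup.card_subgroup_dvd_card A
  obtain ⟨k, _, hk⟩ := (Nat.dvd_prime_pow Nat.prime_two).1 hdvd
  have hkn : n + 1 ≤ k := by
    by_contra h
    push Not at h
    have : 2 ^ k ≤ 2 ^ n := Nat.pow_le_pow_right (by norm_num) (by omega)
    omega
  have hdvd2 : 2 ^ (n + 1) ∣ Nat.card ↥A := by
    rw [hk]
    exact pow_dvd_pow 2 hkn
  haveI : Fact (Nat.Prime 2) := ⟨Nat.prime_two⟩
  obtain ⟨K, hK⟩ := Sylow.exists_subgroup_card_pow_prime 2 hdvd2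
  apply hno
  refine ⟨K.map A.subtype, elemAb_of_le hA ?_, ?_⟩
  · rintro _ ⟨x, _, rfl⟩
    exact x.2
  · rw [Subgroup.card_subtype, hK]

theorem main_plus [Finite P] (hP : Cfsg.IsExtraspecial 2 P) (n : ℕ)
    (hcard : Nat.card P = 2 ^ (2 * n + 1))
    (hA : ∃ A : Subgroup P, Cfsg.IsElementaryAbelian 2 A ∧ Nat.card ↥A = 2 ^ (n + 1)) :
    Nonempty (Cfsg.Out P ≃* Cfsg.isometryGroup (ZMod 2) (Cfsg.quadFormPlus n (ZMod 2))) := by
  obtain ⟨z, D⟩ := exists_data hP
  obtain ⟨A, hAel, hAcard⟩ := hA
  obtain ⟨e, f, H, -, -, hcen⟩ := exists_hyp_plus D n ⊤ (nondeg_top D)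
    (by rw [Subgroup.card_top, hcard]) ⟨A, le_top, hAel, hAcard⟩
  have F := H.frame_plus (fun g h1 h2 => hcen g (Subgroup.mem_top g) h1 h2)
  have hx : ∀ j, Cfsg.quadFormPlus n (ZMod 2) (Pi.single j 1) = qq (Sum.elim e f j) := by
    intro j
    rw [plus_single]
    rcases j with j | j
    · exact (qq_pos (H.ee j)).symm
    · exact (qq_pos (H.ff j)).symm
  have hc : Nat.card P = 2 ^ (Fintype.card (Fin n ⊕ Fin n) + 1) := by
    rw [hcard, Fintype.card_sum, Fintype.card_fin]
    congr 1
    omega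
  exact (F.coord D _ (plus_zero n) (plus_polar n) hx hc).out_equiv D hP.2

theorem main_minus [Finite P] (hP : Cfsg.IsExtraspecial 2 P) (n : ℕ) (hn : 1 ≤ n)
    (hcard : Nat.card P = 2 ^ (2 * n + 1))
    (hA : ¬ ∃ A : Subgroup P, Cfsg.IsElementaryAbelian 2 A ∧ Nat.card ↥A = 2 ^ (n + 1)) :
    Nonempty (Cfsg.Out P ≃*
      Cfsg.isometryGroup (ZMod 2) (Cfsg.quadFormMinus (n - 1) (ZMod 2) 1 1)) := by
  obtain ⟨z, D⟩ := exists_data hP
  have hle := card_le_of_not_exists n hcard hA
  obtain ⟨e, f, u₁, u₂, H, h11, h22, h12, h1e, h1f, h2e, h2f, -, -, -, -, hcen⟩ :=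
    exists_hyp_minus D (n - 1) ⊤ (nondeg_top D)
      (by rw [Subgroup.card_top, hcard]; congr 1; omega)
      (fun A _ hAel => by
        have := hle A hAel
        have e : n - 1 + 1 = n := by omega
        rwa [e])
  have F := H.frame_minus h12 h1e h1f h2e h2f
    (fun g h1 h2 h3 h4 => hcen g (Subgroup.mem_top g) h1 h2 h3 h4)
  have hx : ∀ j, Cfsg.quadFormMinus (n - 1) (ZMod 2) 1 1 (Pi.single j 1) =
      qq (Sum.elim (Sum.elim e f) ![u₁, u₂] j) := by
    intro j
    rcases j with (j | j) | k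
    · rw [minus_single_inl]
      exact (qq_pos (H.ee j)).symm
    · rw [minus_single_inl]
      exact (qq_pos (H.ff j)).symm
    · rw [minus_single_inr]
      symm
      apply qq_neg
      fin_cases k
      · change ¬ u₁ * u₁ = 1
        rw [h11]
        exact D.z1
      · change ¬ u₂ * u₂ = 1
        rw [h22]
        exact D.z1
  have hc : Nat.card P = 2 ^ (Fintype.card ((Fin (n - 1) ⊕ Fin (n - 1)) ⊕ Fin 2) + 1) := by
    rw [hcard, Fintype.card_sum, Fintype.card_sum, Fintype.card_fin, Fintype.card_fin]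
    congr 1
    omega
  exact (F.coord D _ (minus_zero (n - 1)) (minus_polar (n - 1)) hx hc).out_equiv D hP.2


end Cfsg.Agent.Helper27.ExOut
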