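import Mathlib
import Cfsg.Prelude.Def_Transfer
import Cfsg.Agent.Lib.Helper27.ExtraCrit

set_option autoImplicit false
open Cfsg
open scoped commutatorElement

/-! Extraspecial 2-groups from a bilinear cocycle on an `F_2`-space, and the rank of their
elementary abelian subgroups. -/

namespace Cfsg.Agent.Helper27

/-- The central extension of `V` by `ZMod 2` defined by the bilinear cocycle `γ`. -/
@[ext] structure ExtG {V : Type} [AddCommGroup V] [Module (ZMod 2) V]
    (γ : LinearMap.BilinForm (ZMod 2) V) : Type where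
  /-- the vector part -/
  v : V
  /-- the central part -/
  s : ZMod 2

namespace ExtG

variable {V : Type} [AddCommGroup V] [Module (ZMod 2) V] {γ : LinearMap.BilinForm (ZMod 2) V}

instance instMulExtG : Mul (ExtG γ) := ⟨fun x y => ⟨x.v + y.v, x.s + y.s + γ x.v y.v⟩⟩
instance instOneExtG : One (ExtG γ) := ⟨⟨0, 0⟩⟩
instance instInvExtG : Inv (ExtG γ) := ⟨fun x => ⟨-x.v, -x.s + γ x.v x.v⟩⟩

@[simp] theorem mul_v (x y : ExtG γ) : (x * y).v = x.v + y.v := rfl
@[simp] theorem mul_s (x y : ExtG γ) : (x * y).s = x.s + y.s + γ x.v y.v := rfl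
@[simp] theorem one_v : (1 : ExtG γ).v = 0 := rfl
@[simp] theorem one_s : (1 : ExtG γ).s = 0 := rfl
@[simp] theorem inv_v (x : ExtG γ) : (x⁻¹).v = -x.v := rfl
@[simp] theorem inv_s (x : ExtG γ) : (x⁻¹).s = -x.s + γ x.v x.v := rfl

instance instGroupExtG : Group (ExtG γ) :=
  Group.ofLeftAxioms
    (by
      intro a b c
      ext
      · simp [add_assoc]
      · simp only [mul_s, mul_v, map_add, LinearMap.add_apply]
        ring)
    (by
      intro a
      ext
      · simp
      · simp)
    (by
      intro a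
      ext
      · simp
      · simp only [mul_s, inv_s, inv_v, map_neg, LinearMap.neg_apply, one_s]
        ring)

theorem sq_eq (x : ExtG γ) : x ^ 2 = ⟨0, γ x.v x.v⟩ := by
  rw [pow_two]
  ext
  · simp [ZModModule.add_self]
  · simp [CharTwo.add_self_eq_zero]

theorem comm_eq (x y : ExtG γ) : ⁅x, y⁆ = ⟨0, γ x.v y.v + γ y.v x.v⟩ := by
  have h : x * y = (⟨0, γ x.v y.v + γ y.v x.v⟩ : ExtG γ) * (y * x) := by
    ext
    · simp [add_comm]
    · simp only [mul_s, mul_v, map_zero, LinearMap.zero_apply, add_zero]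
      have : ∀ a b c d : ZMod 2, a + b + c = c + d + (b + a + d) := by decide
      exact this _ _ _ _
  rw [commutatorElement_def, h]
  group

/-- The polar form of the cocycle. -/
def polar (γ : LinearMap.BilinForm (ZMod 2) V) : LinearMap.BilinForm (ZMod 2) V := γ + γ.flip

@[simp] theorem polar_apply (x y : V) : polar γ x y = γ x y + γ y x := rfl

theorem polar_symm (x y : V) : polar γ x y = polar γ y x := by
  simp [add_comm]

theorem polar_isRefl : (polar γ).IsRefl := by
  intro x y h
  rw [polar_symm]; exact h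

/-- Equivalence with the product, for counting. -/
def equivProd : ExtG γ ≃ V × ZMod 2 where
  toFun x := (x.v, x.s)
  invFun p := ⟨p.1, p.2⟩
  left_inv _ := rfl
  right_inv _ := rfl

instance instFiniteExtG [Finite V] : Finite (ExtG γ) := Finite.of_equiv _ equivProd.symm

theorem card_eq [Finite V] : Nat.card (ExtG γ) = 2 * Nat.card V := by
  rw [Nat.card_congr (equivProd (γ := γ)), Nat.card_prod, Nat.card_zmod, mul_comm]

theorem zmod2_cases (a : ZMod 2) : a = 0 ∨ a = 1 := by
  revert a; decide

/-- If the polar form is nondegenerate (and `V` is not trivial), the group is extraspecial. -/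
theorem isExtraspecial [Finite V] [Nontrivial V]
    (hnd : ∀ x : V, (∀ y : V, polar γ x y = 0) → x = 0) : IsExtraspecial 2 (ExtG γ) := by
  have hP : IsPGroup 2 (ExtG γ) := by
    intro g
    refine ⟨2, ?_⟩
    have : g ^ 2 ^ 2 = (g ^ 2) ^ 2 := by rw [← pow_mul]; norm_num
    rw [this, sq_eq, sq_eq]
    ext <;> simp
  apply isExtraspecial_two_of_data hP (⟨0, 1⟩ : ExtG γ)
  · intro h
    have := congrArg ExtG.s h
    simp at this
  · intro a
    ext
    · simp
    · simp [add_comm]
  · intro c hc
    have hv : c.v = 0 := by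
      apply hnd
      intro y
      have h1 := hc ⟨y, 0⟩
      have h2 := congrArg ExtG.s h1
      simp only [mul_s, zero_add, add_zero] at h2
      rw [polar_apply]
      have : ∀ a b c : ZMod 2, a + b = a + c → c + b = 0 := by decide
      exact this _ _ _ h2
    rcases zmod2_cases c.s with h | h
    · left; ext
      · simpa using hv
      · simpa using h
    · right; ext
      · simpa using hv
      · simpa using h
  · intro a b
    rw [comm_eq]
    rcases zmod2_cases (γ a.v b.v + γ b.v a.v) with h | h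
    · left; rw [h]; rfl
    · right; rw [h]
  · intro a
    rw [sq_eq]
    rcases zmod2_cases (γ a.v a.v) with h | h
    · left; rw [h]; rfl
    · right; rw [h]
  · obtain ⟨x, hx⟩ := exists_ne (0 : V)
    have : ∃ y, polar γ x y ≠ 0 := by
      by_contra hcon
      push Not at hcon
      exact hx (hnd x hcon)
    obtain ⟨y, hy⟩ := this
    refine ⟨⟨x, 0⟩, ⟨y, 0⟩, ?_⟩
    rw [comm_eq]
    intro h
    have := congrArg ExtG.s h
    simp only [one_s] at this
    exact hy this

/-- The image in `V` of a subgroup, as a subspace. -/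
def imageSub (A : Subgroup (ExtG γ)) : Submodule (ZMod 2) V where
  carrier := {v | ∃ s, (⟨v, s⟩ : ExtG γ) ∈ A}
  add_mem' := by
    rintro a b ⟨s, hs⟩ ⟨t, ht⟩
    exact ⟨s + t + γ a b, A.mul_mem hs ht⟩
  zero_mem' := ⟨0, A.one_mem⟩
  smul_mem' := by
    intro c x hx
    rcases zmod2_cases c with rfl | rfl
    · rw [zero_smul]; exact ⟨0, A.one_mem⟩
    · rw [one_smul]; exact hx

theorem mem_imageSub {A : Subgroup (ExtG γ)} {v : V} :
    v ∈ imageSub A ↔ ∃ s, (⟨v, s⟩ : ExtG γ) ∈ A := Iff.rfl

theorem imageSub_sing {A : Subgroup (ExtG γ)} (hA : IsElementaryAbelian 2 A) :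
    ∀ u ∈ imageSub A, γ u u = 0 := by
  rintro u ⟨s, hs⟩
  have := hA.2 _ hs
  rw [sq_eq] at this
  exact congrArg ExtG.s this

theorem imageSub_iso {A : Subgroup (ExtG γ)} (hA : IsElementaryAbelian 2 A) :
    ∀ u ∈ imageSub A, ∀ u' ∈ imageSub A, polar γ u u' = 0 := by
  rintro u ⟨s, hs⟩ u' ⟨t, ht⟩
  have h1 : (⟨⟨u, s⟩, hs⟩ : A) * ⟨⟨u', t⟩, ht⟩ = ⟨⟨u', t⟩, ht⟩ * ⟨⟨u, s⟩, hs⟩ :=
    hA.1.is_comm.comm _ _
  have h2 : (⟨u, s⟩ : ExtG γ) * ⟨u', t⟩ = ⟨u', t⟩ * ⟨u, s⟩ := congrArg Subtype.val h1
  have h3 : ⁅(⟨u, s⟩ : ExtG γ), (⟨u', t⟩ : ExtG γ)⁆ = 1 :=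
    commutatorElement_eq_one_iff_commute.mpr h2
  rw [comm_eq] at h3
  exact congrArg ExtG.s h3

theorem card_le_imageSub [Finite V] (A : Subgroup (ExtG γ)) :
    Nat.card A ≤ 2 * Nat.card (imageSub A) := by
  have hinj : Function.Injective
      (fun x : A => ((⟨x.1.v, ⟨x.1.s, x.2⟩⟩ : imageSub A), x.1.s)) := by
    intro x y h
    simp only [Prod.mk.injEq] at h
    exact Subtype.ext (ExtG.ext (congrArg Subtype.val h.1) h.2)
  have := Nat.card_le_card_of_injective _ hinj
  rwa [Nat.card_prod, Nat.card_zmod, mul_comm] at this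

theorem card_eq_two_pow [Finite V] (U : Submodule (ZMod 2) V) :
    Nat.card U = 2 ^ Module.finrank (ZMod 2) U := by
  have := Fintype.ofFinite U
  rw [Nat.card_eq_fintype_card, Module.card_eq_pow_finrank (K := ZMod 2), ZMod.card]

/-- A totally isotropic subspace for a nondegenerate form has dimension at most half. -/
theorem two_mul_finrank_le [Finite V] (hnd : (polar γ).Nondegenerate) (U : Submodule (ZMod 2) V)
    (hU : ∀ u ∈ U, ∀ u' ∈ U, polar γ u u' = 0) :
    2 * Module.finrank (ZMod 2) U ≤ Module.finrank (ZMod 2) V := by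
  have hle : U ≤ (polar γ).orthogonal U := by
    intro u hu
    rw [LinearMap.BilinForm.mem_orthogonal_iff]
    intro n hn
    exact hU n hn u hu
  have h1 := Submodule.finrank_mono hle
  have h2 := LinearMap.BilinForm.finrank_orthogonal hnd U
  have h3 : Module.finrank (ZMod 2) U ≤ Module.finrank (ZMod 2) V := Submodule.finrank_le U
  omega

/-- An isotropic subspace of half dimension is its own orthogonal. -/
theorem mem_of_perp [Finite V] (hnd : (polar γ).Nondegenerate) (U : Submodule (ZMod 2) V)
    (hU : ∀ u ∈ U, ∀ u' ∈ U, polar γ u u' = 0)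
    (hdim : 2 * Module.finrank (ZMod 2) U = Module.finrank (ZMod 2) V)
    (v : V) (hv : ∀ u ∈ U, polar γ v u = 0) : v ∈ U := by
  have hle : U ≤ (polar γ).orthogonal U := by
    intro u hu
    rw [LinearMap.BilinForm.mem_orthogonal_iff]
    intro n hn
    exact hU n hn u hu
  have h2 := LinearMap.BilinForm.finrank_orthogonal hnd U
  have heq : U = (polar γ).orthogonal U :=
    Submodule.eq_of_le_of_finrank_eq hle (by omega)
  rw [heq, LinearMap.BilinForm.mem_orthogonal_iff]
  intro n hn
  rw [← polar_symm]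
  exact hv n hn

/-- The rank bound for elementary abelian subgroups. -/
theorem rank_le [Finite V] (hnd : (polar γ).Nondegenerate) {n : ℕ}
    (hV : Module.finrank (ZMod 2) V = 2 * n) (A : Subgroup (ExtG γ))
    (hA : IsElementaryAbelian 2 A) (k : ℕ) (hk : Nat.card A = 2 ^ k) : k ≤ n + 1 := by
  have h1 := card_le_imageSub A
  have h2 := two_mul_finrank_le hnd (imageSub A) (imageSub_iso hA)
  rw [hk, card_eq_two_pow, ← pow_succ'] at h1
  have h3 := (Nat.pow_le_pow_iff_right (by norm_num : 1 < 2)).mp h1
  omega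

/-- In the extremal case the image is a maximal isotropic subspace. -/
theorem finrank_imageSub_of_max [Finite V] (hnd : (polar γ).Nondegenerate) {n : ℕ}
    (hV : Module.finrank (ZMod 2) V = 2 * n) (A : Subgroup (ExtG γ))
    (hA : IsElementaryAbelian 2 A) (hk : Nat.card A = 2 ^ (n + 1)) :
    Module.finrank (ZMod 2) (imageSub A) = n := by
  have h1 := card_le_imageSub A
  have h2 := two_mul_finrank_le hnd (imageSub A) (imageSub_iso hA)
  rw [hk, card_eq_two_pow, ← pow_succ'] at h1
  have h3 := (Nat.pow_le_pow_iff_right (by norm_num : 1 < 2)).mp h1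
  omega

/-- The preimage of a totally singular subspace (given as the range of an injective linear
map) is an elementary abelian subgroup. -/
theorem exists_elemAb {W : Type} [AddCommGroup W] [Module (ZMod 2) W] [Finite W]
    (f : W →ₗ[ZMod 2] V) (hf : Function.Injective f) (hq : ∀ a, γ (f a) (f a) = 0)
    (hb : ∀ a b, polar γ (f a) (f b) = 0) :
    ∃ A : Subgroup (ExtG γ), IsElementaryAbelian 2 A ∧ Nat.card A = 2 * Nat.card W := by
  let A : Subgroup (ExtG γ) :=
    { carrier := {x | x.v ∈ LinearMap.range f}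
      mul_mem' := by
        intro a b ha hb
        show (a * b).v ∈ LinearMap.range f
        exact Submodule.add_mem _ ha hb
      one_mem' := by
        show (1 : ExtG γ).v ∈ LinearMap.range f
        exact Submodule.zero_mem _
      inv_mem' := by
        intro a ha
        show (a⁻¹).v ∈ LinearMap.range f
        exact Submodule.neg_mem _ ha }
  have hmem : ∀ x : ExtG γ, x ∈ A ↔ x.v ∈ LinearMap.range f := fun x => Iff.rfl
  refine ⟨A, ⟨⟨⟨?_⟩⟩, ?_⟩, ?_⟩
  · rintro ⟨x, hx⟩ ⟨y, hy⟩
    apply Subtype.ext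
    show x * y = y * x
    obtain ⟨a, ha⟩ := (hmem x).mp hx
    obtain ⟨b, hb'⟩ := (hmem y).mp hy
    have := hb a b
    rw [ha, hb'] at this
    apply commutatorElement_eq_one_iff_commute.mp
    rw [comm_eq]
    rw [polar_apply] at this
    rw [this]; rfl
  · intro x hx
    obtain ⟨a, ha⟩ := (hmem x).mp hx
    rw [sq_eq, ← ha, hq]; rfl
  · let e : W × ZMod 2 ≃ A :=
      { toFun := fun p => ⟨⟨f p.1, p.2⟩, ⟨p.1, rfl⟩⟩
        invFun := fun x => (Classical.choose ((hmem x.1).mp x.2), x.1.s)
        left_inv := by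
          intro p
          have := Classical.choose_spec ((hmem (⟨f p.1, p.2⟩ : ExtG γ)).mp ⟨p.1, rfl⟩)
          exact Prod.ext (hf this) rfl
        right_inv := by
          intro x
          have := Classical.choose_spec ((hmem x.1).mp x.2)
          apply Subtype.ext
          exact ExtG.ext this rfl }
    rw [← Nat.card_congr e, Nat.card_prod, Nat.card_zmod, mul_comm]

/-- The sign character of `ZMod 2`. -/
def sgn : AddChar (ZMod 2) ℤ where
  toFun a := if a = 0 then 1 else -1
  map_zero_eq_one' := by simp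
  map_add_eq_mul' := by decide

theorem sgn_zero : sgn 0 = 1 := rfl

theorem sgn_one : sgn 1 = -1 := rfl

theorem sgn_eq_one_iff (a : ZMod 2) : sgn a = 1 ↔ a = 0 := by
  revert a; decide

/-- The character sum of the quadratic form `v ↦ γ v v` equals the order of any maximal totally
singular subspace that is its own orthogonal. -/
theorem charSum_eq [Fintype V] (U : Submodule (ZMod 2) V)
    (hq : ∀ u ∈ U, γ u u = 0) (hU : ∀ u ∈ U, ∀ u' ∈ U, polar γ u u' = 0)
    (hperp : ∀ v, (∀ u ∈ U, polar γ v u = 0) → v ∈ U) :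
    ∑ v : V, sgn (γ v v) = (Nat.card U : ℤ) := by
  classical
  have : Fintype U := Fintype.ofFinite U
  set S := ∑ v : V, sgn (γ v v) with hS
  have h1 : ∀ u : U, ∑ v : V, sgn (γ (v + u) (v + u)) = S := by
    intro u
    exact Equiv.sum_comp (Equiv.addRight (u : V)) (fun v => sgn (γ v v))
  have h2 : ∀ (u : U) (v : V),
      sgn (γ (v + u) (v + u)) = sgn (γ v v) * sgn (polar γ v u) := by
    intro u v
    rw [← AddChar.map_add_eq_mul]
    congr 1
    simp only [map_add, LinearMap.add_apply, polar_apply, hq u u.2, add_zero]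
    abel
  have h3 : ∀ v : V, ∑ u : U, sgn (polar γ v u) =
      if v ∈ U then (Fintype.card U : ℤ) else 0 := by
    intro v
    let ψ : AddChar U ℤ :=
      sgn.compAddMonoidHom ((polar γ v).toAddMonoidHom.comp U.subtype.toAddMonoidHom)
    have hψ : ∀ u : U, ψ u = sgn (polar γ v u) := fun u => rfl
    split_ifs with hv
    · rw [Finset.sum_congr rfl (fun u _ => by rw [hU v hv u u.2, sgn_zero])]
      simp
    · have hne : ψ ≠ 0 := by
        intro h0
        apply hv
        apply hperp
        intro u hu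
        have := DFunLike.congr_fun h0 ⟨u, hu⟩
        rw [hψ, AddChar.zero_apply, sgn_eq_one_iff] at this
        exact this
      exact AddChar.sum_eq_zero_iff_ne_zero.mpr hne
  have h4 : (Fintype.card U : ℤ) * S =
      ∑ v : V, sgn (γ v v) * (if v ∈ U then (Fintype.card U : ℤ) else 0) := by
    calc (Fintype.card U : ℤ) * S = ∑ _u : U, S := by simp
      _ = ∑ u : U, ∑ v : V, sgn (γ (v + u) (v + u)) := by
          apply Finset.sum_congr rfl; intro u _; rw [h1]
      _ = ∑ v : V, ∑ u : U, sgn (γ v v) * sgn (polar γ v u) := by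
          rw [Finset.sum_comm]
          apply Finset.sum_congr rfl; intro v _
          apply Finset.sum_congr rfl; intro u _
          rw [h2]
      _ = _ := by
          apply Finset.sum_congr rfl; intro v _
          rw [← Finset.mul_sum, h3]
  have h5 : ∑ v : V, sgn (γ v v) * (if v ∈ U then (Fintype.card U : ℤ) else 0) =
      (Fintype.card U : ℤ) * Fintype.card U := by
    have h6 : ∀ v : V, sgn (γ v v) * (if v ∈ U then (Fintype.card U : ℤ) else 0) =
        if v ∈ U then (Fintype.card U : ℤ) else 0 := by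
      intro v; split_ifs with hv
      · rw [hq v hv, sgn_zero, one_mul]
      · simp
    rw [Finset.sum_congr rfl (fun v _ => h6 v), Finset.sum_ite, Finset.sum_const_zero, add_zero,
      Finset.sum_const, nsmul_eq_mul]
    congr 2
    rw [Fintype.card_subtype]
  rw [h5] at h4
  have hpos : (Fintype.card U : ℤ) ≠ 0 := by
    have : 0 < Fintype.card U := Fintype.card_pos
    omega
  rw [Nat.card_eq_fintype_card]
  exact mul_left_cancel₀ hpos h4

end ExtG

end Cfsg.Agent.Helper27
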