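import Mathlib
import Cfsg.Prelude.Def_Solvable
import Cfsg.Agent.Lib.Helper21.GAG39Defs

/-!
# S4839, piece G39-KILLA
-/

set_option autoImplicit false
set_option linter.unusedSectionVars false
set_option linter.unusedVariables false

namespace Cfsg.Agent.Helper21.GAG39

open Cfsg
open scoped Pointwise

variable {G : Type*} [Group G] [Finite G] {p : ℕ} [Fact p.Prime] (N : Subgroup G) [N.Normal]

/-- PIECE G39-KILLA [L0]. -/
theorem card_centralizer_quot (C : Subgroup G) (hNC : ∀ g : G, ∃ v ∈ N, ∃ c ∈ C, g = v * c)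
    (hint : N ⊓ C = ⊥) (u : G) (hu : u ∈ C) :
    Nat.card (Subgroup.centralizer ({(u : G ⧸ N)} : Set (G ⧸ N))) =
      Nat.card ↥(C ⊓ Subgroup.centralizer ({u} : Set G)) := by
  have htriv : ∀ x : G, x ∈ N → x ∈ C → x = 1 := by
    intro x hxN hxC
    have : x ∈ N ⊓ C := ⟨hxN, hxC⟩
    rw [hint, Subgroup.mem_bot] at this
    exact this
  have hmem : ∀ c : ↥(C ⊓ Subgroup.centralizer ({u} : Set G)),
      ((c : G) : G ⧸ N) ∈ Subgroup.centralizer ({(u : G ⧸ N)} : Set (G ⧸ N)) := by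
    rintro ⟨c, hcC, hcu⟩
    have hcu' : c ∈ Subgroup.centralizer ({u} : Set G) := hcu
    rw [Subgroup.mem_centralizer_iff] at hcu' ⊢
    intro y hy
    rw [Set.mem_singleton_iff] at hy
    subst hy
    have h1 : u * c = c * u := hcu' u rfl
    show ((u : G ⧸ N) * (c : G ⧸ N)) = (c : G ⧸ N) * (u : G ⧸ N)
    rw [← QuotientGroup.mk_mul, ← QuotientGroup.mk_mul, h1]
  let f : ↥(C ⊓ Subgroup.centralizer ({u} : Set G)) →
      ↥(Subgroup.centralizer ({(u : G ⧸ N)} : Set (G ⧸ N))) := fun c => ⟨((c : G) : G ⧸ N), hmem c⟩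
  have hinj : Function.Injective f := by
    rintro ⟨c, hcC, hcu⟩ ⟨c', hcC', hcu'⟩ h
    have h1 : ((c : G) : G ⧸ N) = ((c' : G) : G ⧸ N) := congrArg Subtype.val h
    rw [QuotientGroup.eq] at h1
    have h2 : c⁻¹ * c' = 1 := htriv _ h1 (Subgroup.mul_mem _ (Subgroup.inv_mem _ hcC) hcC')
    apply Subtype.ext
    show c = c'
    exact inv_mul_eq_one.mp h2
  have hsurj : Function.Surjective f := by
    rintro ⟨y, hy⟩
    obtain ⟨g, rfl⟩ := QuotientGroup.mk_surjective y
    obtain ⟨v, hv, c, hc, rfl⟩ := hNC g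
    have hvc : ((v * c : G) : G ⧸ N) = ((c : G) : G ⧸ N) := by
      rw [QuotientGroup.eq]
      have : (v * c)⁻¹ * c = c⁻¹ * v⁻¹ * c := by group
      rw [this]
      have := (inferInstance : N.Normal).conj_mem v⁻¹ (Subgroup.inv_mem _ hv) c⁻¹
      simpa using this
    rw [Subgroup.mem_centralizer_iff] at hy
    have h1 := hy (u : G ⧸ N) rfl
    rw [hvc, ← QuotientGroup.mk_mul, ← QuotientGroup.mk_mul, QuotientGroup.eq] at h1
    have h2 : (u * c)⁻¹ * (c * u) = 1 :=
      htriv _ h1 (Subgroup.mul_mem _ (Subgroup.inv_mem _ (Subgroup.mul_mem _ hu hc))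
        (Subgroup.mul_mem _ hc hu))
    have h3 : u * c = c * u := inv_mul_eq_one.mp h2
    have hcu : c ∈ Subgroup.centralizer ({u} : Set G) := by
      rw [Subgroup.mem_centralizer_iff]
      intro x hx
      rw [Set.mem_singleton_iff] at hx
      subst hx
      exact h3
    refine ⟨⟨c, hc, hcu⟩, ?_⟩
    apply Subtype.ext
    show ((c : G) : G ⧸ N) = ((v * c : G) : G ⧸ N)
    exact hvc.symm
  exact (Nat.card_congr (Equiv.ofBijective f ⟨hinj, hsurj⟩)).symm

end Cfsg.Agent.Helper21.GAG39
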