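import Mathlib
import Cfsg.Prelude.Def_Solvable
import Cfsg.Agent.Lib.Helper21.GAG39Defs

/-!
# S4839, piece G39-SPLIT
-/

set_option autoImplicit false
set_option linter.unusedSectionVars false
set_option linter.unusedVariables false

namespace Cfsg.Agent.Helper21.GAG39

open Cfsg
open scoped Pointwise

variable {G : Type*} [Group G] [Finite G] {p : ℕ} [Fact p.Prime] (N : Subgroup G) [N.Normal]

/-- in a subgroup of odd order, `n * n = 1` forces `n = 1` -/
theorem g39_split_sq_eq_one (hodd : Odd (Nat.card N)) (n : G) (hn : n ∈ N) (h2 : n * n = 1) :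
    n = 1 := by
  have h1 : (⟨n, hn⟩ : N) ^ Nat.card N = 1 := pow_card_eq_one'
  have h1' : n ^ Nat.card N = 1 := by
    have := congrArg Subtype.val h1
    rw [Subgroup.coe_pow, Subgroup.coe_one] at this
    exact this
  obtain ⟨m, hm⟩ := hodd
  rw [hm, pow_succ, pow_mul, pow_two, h2, one_pow, one_mul] at h1'
  exact h1'

/-- in a subgroup of odd order, every element is a square -/
theorem g39_split_exists_sq (hodd : Odd (Nat.card N)) (w : G) (hw : w ∈ N) :
    ∃ v ∈ N, v * v = w := by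
  have h1 : (⟨w, hw⟩ : N) ^ Nat.card N = 1 := pow_card_eq_one'
  have h1' : w ^ Nat.card N = 1 := by
    have := congrArg Subtype.val h1
    rw [Subgroup.coe_pow, Subgroup.coe_one] at this
    exact this
  obtain ⟨m, hm⟩ := hodd
  refine ⟨w ^ (m + 1), Subgroup.pow_mem _ hw _, ?_⟩
  rw [← pow_add]
  have : m + 1 + (m + 1) = Nat.card N + 1 := by omega
  rw [this, pow_succ, h1', one_mul]

/-- PIECE G39-SPLIT [L0]. -/
theorem split_of_inverting (hodd : Odd (Nat.card N)) (hcomm : ∀ a ∈ N, ∀ b ∈ N, a * b = b * a)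
    (hCN : Subgroup.centralizer (N : Set G) ≤ N) (t : G) (ht : t * t = 1)
    (hinv : ∀ n ∈ N, t * n * t⁻¹ = n⁻¹) :
    (∀ g : G, ∃ v ∈ N, ∃ c ∈ Subgroup.centralizer ({t} : Set G), g = v * c) ∧
      N ⊓ Subgroup.centralizer ({t} : Set G) = ⊥ := by
  have htinv : t⁻¹ = t := inv_eq_of_mul_eq_one_left ht
  constructor
  · intro g
    -- `w = t * (g t g⁻¹)` centralizes `N`
    have hw : t * (g * t * g⁻¹) ∈ N := by
      apply hCN
      rw [Subgroup.mem_centralizer_iff]
      intro n hn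
      -- `g t g⁻¹` inverts `n`
      have h1 : g⁻¹ * n * g ∈ N := by
        have := (inferInstance : N.Normal).conj_mem n hn g⁻¹
        simpa using this
      have h2 : (g * t * g⁻¹) * n * (g * t * g⁻¹)⁻¹ = n⁻¹ := by
        have h3 := hinv _ h1
        have : (g * t * g⁻¹) * n * (g * t * g⁻¹)⁻¹ = g * (t * (g⁻¹ * n * g) * t⁻¹) * g⁻¹ := by
          group
        rw [this, h3]
        group
      have h4 : t * n⁻¹ * t⁻¹ = n := by
        have := hinv _ (Subgroup.inv_mem _ hn)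
        rwa [inv_inv] at this
      have h5 : (t * (g * t * g⁻¹)) * n * (t * (g * t * g⁻¹))⁻¹ = n := by
        have : (t * (g * t * g⁻¹)) * n * (t * (g * t * g⁻¹))⁻¹ =
            t * ((g * t * g⁻¹) * n * (g * t * g⁻¹)⁻¹) * t⁻¹ := by group
        rw [this, h2, h4]
      calc n * (t * (g * t * g⁻¹))
          = ((t * (g * t * g⁻¹)) * n * (t * (g * t * g⁻¹))⁻¹) * (t * (g * t * g⁻¹)) := by rw [h5]
        _ = (t * (g * t * g⁻¹)) * n := by group
    -- choose `v` with `v * v = w⁻¹`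
    obtain ⟨v, hv, hvv⟩ := g39_split_exists_sq N hodd _ (Subgroup.inv_mem _ hw)
    have hvt : t * v⁻¹ * t⁻¹ = v := by
      have := hinv _ (Subgroup.inv_mem _ hv)
      rwa [inv_inv] at this
    have htw : t * (t * (g * t * g⁻¹)) * t⁻¹ = (t * (g * t * g⁻¹))⁻¹ := hinv _ hw
    -- `v t v⁻¹ = g t g⁻¹`
    have hconj : v * t * v⁻¹ = g * t * g⁻¹ := by
      have h1 : v * t * v⁻¹ = v * (t * v⁻¹ * t⁻¹) * t := by group
      rw [h1, hvt, hvv, ← htw]
      rw [htinv]
      have : t * (t * (g * t * g⁻¹)) * t * t = (t * t) * (g * t * g⁻¹) * (t * t) := by group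
      rw [this, ht, one_mul, mul_one]
    refine ⟨v, hv, v⁻¹ * g, ?_, by group⟩
    rw [Subgroup.mem_centralizer_iff]
    intro x hx
    rw [Set.mem_singleton_iff] at hx
    subst hx
    have : (v⁻¹ * g) * x * (v⁻¹ * g)⁻¹ = x := by
      have h1 : (v⁻¹ * g) * x * (v⁻¹ * g)⁻¹ = v⁻¹ * (g * x * g⁻¹) * v := by group
      rw [h1, ← hconj]
      group
    calc x * (v⁻¹ * g) = ((v⁻¹ * g) * x * (v⁻¹ * g)⁻¹) * (v⁻¹ * g) := by rw [this]
      _ = (v⁻¹ * g) * x := by group
  · rw [eq_bot_iff]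
    intro n hn
    rw [Subgroup.mem_bot]
    obtain ⟨hnN, hnC⟩ := hn
    have hnC' : n ∈ Subgroup.centralizer ({t} : Set G) := hnC
    rw [Subgroup.mem_centralizer_iff] at hnC'
    have h1 : t * n = n * t := hnC' t rfl
    have h2 : t * n * t⁻¹ = n := by rw [h1]; group
    have h3 : n = n⁻¹ := by rw [← hinv n hnN, h2]
    apply g39_split_sq_eq_one N hodd n hnN
    calc n * n = n * n⁻¹ := by rw [← h3]
      _ = 1 := mul_inv_cancel n

end Cfsg.Agent.Helper21.GAG39
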