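import Mathlib
import Cfsg.Prelude.Def_CaseTheorems
import Cfsg.Prelude.Def_LieExceptional
import Cfsg.Agent.Lib.Helper27.GWBDefs
import Cfsg.Agent.Lib.Lead.GWBDIH2
import Cfsg.Agent.Lib.Lead.GWBKSTR
import Cfsg.Agent.Lib.Helper19.GWBCORE
import Cfsg.Agent.Lib.Helper19.GWBDIH1
import Cfsg.Agent.Lib.Helper7.GWBFUS
import Cfsg.Agent.Lib.Helper7.GWBNCOMP
import Cfsg.Agent.Lib.Lead.GWBINVOL
import Cfsg.Agent.Lib.Lead.GWBQ3
import Cfsg.Agent.Lib.Lead.GWBSHARP3
import Cfsg.Agent.Lib.Helper3.GWBTI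
import Cfsg.Agent.Lib.Helper3.GWBZA
import Cfsg.Agent.Lib.Helper2.GWBZB
import Cfsg.Agent.Lib.Helper2.GWBZC
import Cfsg.Agent.Lib.Helper2.GWBZD
import Cfsg.Agent.Lib.Helper2.GWBZASM
import Cfsg.Agent.S3282
import Cfsg.Agent.S0731

/-!
# S0508 (helper27): assembly of the Gorenstein-Walter endgame from the farmed pieces.
-/

set_option autoImplicit false
set_option linter.unusedVariables false
set_option linter.unusedSectionVars false

namespace Cfsg.Agent.Helper27.GWB

universe u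

variable {G : Type u} [Group G] [Finite G]

/-- Choice of the cyclic subgroup of index 2. -/
theorem asm_choose (S : Sylow 2 G) (n : ℕ) (hn : 2 ≤ n)
    (hS : Nonempty ((S : Subgroup G) ≃* DihedralGroup n)) (t : G) (ht : orderOf t = 2)
    (htS : t ∈ (S : Subgroup G))
    (htZ : ∀ s ∈ (S : Subgroup G), s * t = t * s) (O : Subgroup G)
    (hOle : O ≤ Subgroup.centralizer ({t} : Set G))
    (ha : O ≠ ⊥ → IsCyclic ((S : Subgroup G) ⊓ Subgroup.centralizer (O : Set G) : Subgroup G) ∧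
      ((S : Subgroup G) ⊓ Subgroup.centralizer (O : Set G)).relIndex (S : Subgroup G) = 2) :
    ∃ S0 : Subgroup G, S0 ≤ (S : Subgroup G) ∧ IsCyclic S0 ∧ S0.relIndex (S : Subgroup G) = 2 ∧
      t ∈ S0 ∧ S0 ≤ Subgroup.centralizer (O : Set G) ∧
      (O ≠ ⊥ → ∀ s ∈ (S : Subgroup G), s ∉ S0 → s ∉ Subgroup.centralizer (O : Set G)) := by
  by_cases hO : O = ⊥
  · obtain ⟨S0, h1, h2, h3, h4⟩ := exists_cyclic_index_two (S : Subgroup G) n hn hS t ht htS htZ
    refine ⟨S0, h1, h2, h3, h4, ?_, fun h => absurd hO h⟩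
    intro z _
    rw [Subgroup.mem_centralizer_iff]
    intro y hy
    rw [hO] at hy
    have : y = 1 := by simpa using hy
    rw [this]; simp
  · obtain ⟨h1, h2⟩ := ha hO
    refine ⟨(S : Subgroup G) ⊓ Subgroup.centralizer (O : Set G), inf_le_left, h1, h2, ?_,
      inf_le_right, ?_⟩
    · refine Subgroup.mem_inf.2 ⟨htS, ?_⟩
      rw [Subgroup.mem_centralizer_iff]
      intro y hy
      have := hOle hy
      rw [Subgroup.mem_centralizer_iff] at this
      exact (this t rfl).symm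
    · intro _ s hs hs0 hsc
      exact hs0 (Subgroup.mem_inf.2 ⟨hs, hsc⟩)

/-- The hypotheses of the abstract Brauer-Suzuki-Wall theorem hold. -/
theorem asm_bsw [IsSimpleGroup G] (S : Sylow 2 G) (n : ℕ)
    (hn : 2 ≤ n) (hS : Nonempty ((S : Subgroup G) ≃* DihedralGroup n)) (t : G) (ht : orderOf t = 2)
    (htS : t ∈ (S : Subgroup G))
    (htZ : ∀ s ∈ (S : Subgroup G), s * t = t * s) (O : Subgroup G)
    (hO : O = (Cfsg.oddCore (Subgroup.centralizer ({t} : Set G))).map
      (Subgroup.centralizer ({t} : Set G)).subtype)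
    (ha : O ≠ ⊥ → IsCyclic ((S : Subgroup G) ⊓ Subgroup.centralizer (O : Set G) : Subgroup G) ∧
      ((S : Subgroup G) ⊓ Subgroup.centralizer (O : Set G)).relIndex (S : Subgroup G) = 2)
    (hb : ∀ s ∈ (S : Subgroup G), s ∉ Subgroup.centralizer (O : Set G) →
      ∀ y ∈ O, s * y * s⁻¹ = y⁻¹)
    (hc : ∀ Y : Subgroup G, Y ≤ O → Y ≠ ⊥ →
      Subgroup.normalizer (Y : Set G) ≤ Subgroup.centralizer ({t} : Set G)) :
    ∃ Q D : Subgroup G, BSWData G Q D := by
  have hOle : O ≤ Subgroup.centralizer ({t} : Set G) := by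
    rw [hO]
    intro x hx
    obtain ⟨y, -, rfl⟩ := Subgroup.mem_map.1 hx
    exact y.2
  obtain ⟨S0, hle, hcyc, hidx, htS0, hS0O, hout⟩ := asm_choose S n hn hS t ht htS htZ O hOle ha
  have hdih := inverts_of_cyclic_index_two (S : Subgroup G) n hn hS S.isPGroup' S0 hle hcyc hidx
  have hinv2 : ∀ s ∈ (S : Subgroup G), s ∉ S0 → orderOf s = 2 := fun s hs hs0 => (hdih s hs hs0).1
  obtain ⟨-, hOodd, hOS⟩ := core_mul_sylow S t ht htZ S0 hle hcyc hidx htS0 hinv2 O hO
  -- pick `s`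
  obtain ⟨s, hsS, hsS0⟩ : ∃ s ∈ (S : Subgroup G), s ∉ S0 := by
    by_contra hcon
    have hcon' : (S : Subgroup G) ≤ S0 := by
      intro x hx
      by_contra hx0
      exact hcon ⟨x, hx, hx0⟩
    have h1 : S0.relIndex (S : Subgroup G) = 1 := Subgroup.relIndex_eq_one.2 hcon'
    omega
  obtain ⟨hs2, hsS0inv⟩ := hdih s hsS hsS0
  have hsOinv : ∀ y ∈ O, s * y * s⁻¹ = y⁻¹ := by
    by_cases hOb : O = ⊥
    · intro y hy
      rw [hOb] at hy
      have : y = 1 := by simpa using hy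
      rw [this]; simp
    · exact hb s hsS (hout hOb s hsS hsS0)
  obtain ⟨hKab, hKinv, hsK, hCK, hKs, hprime⟩ :=
    K_structure S t ht S0 hle hcyc hidx htS0 O hOodd hS0O s hsS hsS0 hs2 hsS0inv hsOinv
  have hC : (O ⊔ S0) ⊔ Subgroup.zpowers s = Subgroup.centralizer ({t} : Set G) := hKs.trans hOS
  have hOK : O ≤ O ⊔ S0 := le_sup_left
  have htK : t ∈ O ⊔ S0 := (le_sup_right : S0 ≤ O ⊔ S0) htS0
  have hinvol := invol_centralizing t ht (O ⊔ S0) O hOK hKab hprime hOodd s hs2 hKinv hC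
  have hTI := K_TI t ht (O ⊔ S0) O hOK hKab htK hprime hOodd hc hinvol
  have hS4 : 4 ≤ Nat.card (S : Subgroup G) := by
    obtain ⟨e⟩ := hS
    rw [Nat.card_congr e.toEquiv, DihedralGroup.nat_card]
    omega
  have hconj := all_invol_conj S hS4 t ht S0 hle hcyc hidx htS0
  have hKcomm : IsMulCommutative ↥(O ⊔ S0) :=
    ⟨⟨fun a b => Subtype.ext (hKab a a.2 b b.2)⟩⟩
  have hKH : O ⊔ S0 ≤ Subgroup.centralizer ({t} : Set G) := by
    rw [← hC]; exact le_sup_left
  have hsH : s ∈ Subgroup.centralizer ({t} : Set G) := by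
    rw [← hC]
    exact (le_sup_right : Subgroup.zpowers s ≤ _) (Subgroup.mem_zpowers s)
  obtain ⟨Q, D, h1, h2, -, h4, h5, h6, -⟩ :=
    Cfsg.Agent.S3282.result t ht (O ⊔ S0) hKcomm hKH htK s hs2 hsH hsK hC hCK hKinv hTI hconj
  exact ⟨Q, D, ⟨h1, h2, h4, h5, h6⟩⟩

/-- From the Brauer-Suzuki-Wall data to `PSL(2, F)`. -/
theorem asm_zassenhaus [IsSimpleGroup G] {Q D : Subgroup G} (h : BSWData G Q D) :
    ∃ (F : Type) (_ : Field F) (_ : Fintype F), Odd (Fintype.card F) ∧
      Nonempty (G ≃* Matrix.ProjectiveSpecialLinearGroup (Fin 2) F) := by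
  have hGpos : 0 < Nat.card G := Nat.card_pos
  have hDpos : 0 < Nat.card D := Nat.card_pos
  have hcardD := h.cardD
  have hcard := h.card
  -- `q ≥ 5`
  have hq : 5 ≤ Nat.card Q := by
    by_contra hlt
    have hD1 : Nat.card D = 1 := by omega
    have hQ3 : Nat.card Q = 3 := by omega
    rw [hQ3] at hcard
    have : Nat.card G = 12 := by omega
    exact not_simple_of_card_twelve this
  have hinf := h.inf_conj
  have hcq := h.card_quotient
  have hreg := h.regular hinf hcq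
  have h3 := h.three_point hreg
  have h2 := fun b hb => h.two_point hreg b hb
  have hZ := h.isZassenhaus hq hreg h3 h2
  have hstab : MulAction.stabilizer G (((1 : G) : G ⧸ Subgroup.normalizer (Q : Set G))) =
      Subgroup.normalizer (Q : Set G) := by
    have := MulAction.stabilizer_quotient (Subgroup.normalizer (Q : Set G))
    exact this
  have hFle : Q ≤ MulAction.stabilizer G (((1 : G) : G ⧸ Subgroup.normalizer (Q : Set G))) := by
    rw [hstab]; exact Subgroup.le_normalizer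
  have hFn : (Q.subgroupOf
      (MulAction.stabilizer G (((1 : G) : G ⧸ Subgroup.normalizer (Q : Set G))))).Normal := by
    rw [hstab]; exact Subgroup.normal_in_normalizer
  have hFab : IsMulCommutative Q := by
    refine ⟨⟨fun a b => ?_⟩⟩
    by_cases ha : (a : G) = 1
    · apply Subtype.ext
      simp [ha]
    · have hb : (b : G) ∈ Subgroup.centralizer ({(a : G)} : Set G) := by
        rw [h.cent a a.2 ha]; exact b.2
      rw [Subgroup.mem_centralizer_iff] at hb
      apply Subtype.ext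
      exact hb a rfl
  rcases Cfsg.Agent.S0731.result hZ (((1 : G) : G ⧸ Subgroup.normalizer (Q : Set G))) Q hFle hFn
      hFab hreg with ⟨h3t, hsharp⟩ | ⟨K, iK, fK, hchar, hiso⟩
  · exfalso
    have hΩ : 3 ≤ Nat.card (G ⧸ Subgroup.normalizer (Q : Set G)) := by rw [hcq]; omega
    have := card_of_sharply_three (G := G) (Ω := G ⧸ Subgroup.normalizer (Q : Set G)) hΩ h3t hsharp
    rw [hcq] at this
    have e1 : Nat.card Q + 1 - 1 = Nat.card Q := by omega
    have e2 : Nat.card Q + 1 - 2 = Nat.card Q - 1 := by omega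
    rw [e1, e2] at this
    have e3 : 2 * Nat.card G = Nat.card G := by
      rw [hcard, this]; ring
    omega
  · refine ⟨K, iK, fK, ?_, hiso⟩
    rw [Nat.odd_iff]
    have := (FiniteField.even_card_iff_char_two (F := K)).not.1 hchar
    omega

/-- The main theorem of S0508. -/
theorem asm_main [IsSimpleGroup G] (S : Sylow 2 G) (n : ℕ)
    (hn : 2 ≤ n) (hS : Nonempty ((S : Subgroup G) ≃* DihedralGroup n)) (t : G) (ht : orderOf t = 2)
    (htS : t ∈ (S : Subgroup G))
    (htZ : ∀ s ∈ (S : Subgroup G), s * t = t * s) (O : Subgroup G)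
    (hO : O = (Cfsg.oddCore (Subgroup.centralizer ({t} : Set G))).map
      (Subgroup.centralizer ({t} : Set G)).subtype)
    (ha : O ≠ ⊥ → IsCyclic ((S : Subgroup G) ⊓ Subgroup.centralizer (O : Set G) : Subgroup G) ∧
      ((S : Subgroup G) ⊓ Subgroup.centralizer (O : Set G)).relIndex (S : Subgroup G) = 2)
    (hb : ∀ s ∈ (S : Subgroup G), s ∉ Subgroup.centralizer (O : Set G) →
      ∀ y ∈ O, s * y * s⁻¹ = y⁻¹)
    (hc : ∀ Y : Subgroup G, Y ≤ O → Y ≠ ⊥ →
      Subgroup.normalizer (Y : Set G) ≤ Subgroup.centralizer ({t} : Set G)) :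
    ∃ (F : Type) (_ : Field F) (_ : Fintype F), Odd (Fintype.card F) ∧
      Nonempty (G ≃* Matrix.ProjectiveSpecialLinearGroup (Fin 2) F) := by
  obtain ⟨Q, D, h⟩ := asm_bsw S n hn hS t ht htS htZ O hO ha hb hc
  exact asm_zassenhaus h

end Cfsg.Agent.Helper27.GWB
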