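import Mathlib
import Cfsg.Agent.Lib.Helper27.GolayCoset
import Cfsg.Agent.S5393
import Cfsg.Agent.S0370

set_option autoImplicit false
open Cfsg

/-! The words of length 24 as a module over the polynomials in the shift `x ↦ x + 1`. -/

namespace Cfsg.Agent.Helper27

open Cfsg.Agent.S0358 (idx)
open Cfsg.Agent.Helper29
open Cfsg.Agent.S5393 (rot rotAcc permWord_shift_ofMask ofMask_bit_mul)

/-- The translation `x ↦ x + t` of the 24 points. -/
abbrev trn (t : ZMod 23) : Equiv.Perm GolayPt := Equiv.optionCongr (Equiv.addRight t)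

/-- `polyAct i c` is the sum of the powers `j < i` of the shift with bit `j` of `c` set, acting on
words. -/
noncomputable def polyAct : ℕ → ℕ → ((GolayPt → ZMod 2) →ₗ[ZMod 2] (GolayPt → ZMod 2))
  | 0, _ => 0
  | i + 1, c => ((bit' c 0 : ℕ) : ZMod 2) • LinearMap.id + (polyAct i (c / 2)).comp (permWordLin (trn 1))

theorem polyAct_ofMask : ∀ (i c x : ℕ), polyAct i c (ofMask x) = ofMask (rotAcc i c x) := by
  intro i
  induction i with
  | zero => intro c x; rw [rotAcc, ofMask_zero]; rfl
  | succ i ih =>
    intro c x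
    rw [rotAcc, ofMask_xor, ofMask_bit_mul _ _ (bit'_le_one c 0), ← ih, ← permWord_shift_ofMask]
    rfl

theorem polyAct_mem (W : Submodule (ZMod 2) (GolayPt → ZMod 2))
    (hs : ∀ w ∈ W, permWord (trn 1) w ∈ W) :
    ∀ (i c : ℕ) (w : GolayPt → ZMod 2), w ∈ W → polyAct i c w ∈ W := by
  intro i
  induction i with
  | zero => intro c w _; exact zero_mem _
  | succ i ih =>
    intro c w hw
    exact add_mem (Submodule.smul_mem _ _ hw) (ih _ _ (hs w hw))

theorem ofMask_two_pow (p : GolayPt) : ofMask (2 ^ idx p) = Pi.single p 1 := by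
  funext q
  unfold ofMask
  rw [Nat.testBit_two_pow, Pi.single_apply]
  by_cases h : q = p
  · subst h; simp
  · have : idx p ≠ idx q := fun e => h (idx_injective e).symm
    simp [h, this]

/-- Linear maps on words agreeing on the 24 unit words are equal. -/
theorem lin_ext {M : Type*} [AddCommGroup M] [Module (ZMod 2) M]
    (f g : (GolayPt → ZMod 2) →ₗ[ZMod 2] M)
    (h : ∀ k < 24, f (ofMask (2 ^ k)) = g (ofMask (2 ^ k))) : f = g := by
  apply LinearMap.pi_ext
  intro p x
  have hx : (Pi.single p x : GolayPt → ZMod 2) = x • Pi.single p 1 := by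
    rw [← Pi.single_smul, smul_eq_mul, mul_one]
  rw [hx, map_smul, map_smul, ← ofMask_two_pow, h _ (idx_lt' p)]

/-- A linear map on words sending the 24 unit words into a subspace maps into it. -/
theorem mem_of_basis (f : (GolayPt → ZMod 2) →ₗ[ZMod 2] (GolayPt → ZMod 2))
    (S : Submodule (ZMod 2) (GolayPt → ZMod 2))
    (h : ∀ k < 24, f (ofMask (2 ^ k)) ∈ S) (w : GolayPt → ZMod 2) : f w ∈ S := by
  have h0 : S.mkQ.comp f = 0 := by
    apply lin_ext
    intro k hk
    rw [LinearMap.comp_apply, Submodule.mkQ_apply, LinearMap.zero_apply,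
      Submodule.Quotient.mk_eq_zero]
    exact h k hk
  have := LinearMap.congr_fun h0 w
  rwa [LinearMap.comp_apply, Submodule.mkQ_apply, LinearMap.zero_apply,
    Submodule.Quotient.mk_eq_zero] at this

theorem mem_span_one_iff (w : GolayPt → ZMod 2) :
    w ∈ Submodule.span (ZMod 2) {fun _ : GolayPt => (1 : ZMod 2)} ↔ w = 0 ∨ w = 1 := by
  rw [Submodule.mem_span_singleton]
  constructor
  · rintro ⟨a, rfl⟩
    have ha : a = 0 ∨ a = 1 := by revert a; decide
    rcases ha with rfl | rfl
    · left; rw [zero_smul]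
    · right; rw [one_smul]; rfl
  · rintro (rfl | rfl)
    · exact ⟨0, by rw [zero_smul]⟩
    · exact ⟨1, by rw [one_smul]; rfl⟩

/-- The code is generated, as a module over the translations, by any of its words other than
the zero and the all-ones word, together with the all-ones word. -/
theorem trans_irred (W : Submodule (ZMod 2) (GolayPt → ZMod 2))
    (h1 : (1 : GolayPt → ZMod 2) ∈ W)
    (hT : ∀ t : ZMod 23, ∀ w ∈ W, permWord (trn t) w ∈ W)
    {w : GolayPt → ZMod 2} (hwW : w ∈ W) (hwC : w ∈ golayCode)
    (hwn : w ∉ Submodule.span (ZMod 2) {fun _ : GolayPt => (1 : ZMod 2)}) :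
    golayCode ≤ W := by
  have hshift : ∀ w ∈ W, permWord (trn 1) w ∈ W := hT 1
  have hone : (1 : GolayPt → ZMod 2) ∈ Submodule.span (ZMod 2) {fun _ : GolayPt => (1 : ZMod 2)} :=
    Submodule.subset_span rfl
  obtain ⟨n, hn, rfl⟩ := exists_cw_of_mem hwC
  have key : ∃ n', n' < 2048 ∧ n' ≠ 0 ∧ ofMask (cw n') ∈ W := by
    by_cases hlt : n < 2048
    · refine ⟨n, hlt, ?_, hwW⟩
      rintro rfl
      apply hwn
      rw [cw_zero, ofMask_zero]; exact zero_mem _
    · have hn' : n ^^^ 2048 < 2048 := by
        have h2 : n ^^^ 2048 < 4096 := Nat.xor_lt_two_pow (n := 12) hn (by norm_num)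
        have h3 : (n ^^^ 2048).testBit 11 = false := by
          rw [Nat.testBit_xor]
          have : n.testBit 11 = true := by
            rw [Nat.testBit_eq_decide_div_mod_eq]
            simp only [decide_eq_true_eq]
            omega
          rw [this]; decide
        by_contra hge
        have : (n ^^^ 2048).testBit 11 = true := by
          rw [Nat.testBit_eq_decide_div_mod_eq]
          simp only [decide_eq_true_eq]
          omega
        rw [this] at h3; exact absurd h3 (by decide)
      have hcw : ofMask (cw (n ^^^ 2048)) = ofMask (cw n) + 1 := by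
        rw [cw_xor, ofMask_xor, ← one_eq_ofMask]
      refine ⟨n ^^^ 2048, hn', ?_, ?_⟩
      · intro h0
        apply hwn
        have : n = 2048 := by
          have := Nat.xor_eq_zero_iff.mp h0
          exact this
        rw [this, ← one_eq_ofMask]
        exact hone
      · rw [hcw]; exact add_mem hwW h1
  obtain ⟨n', hn'lt, hn'0, hn'W⟩ := key
  have hcert : Cfsg.Agent.S5393.certOK n' (Cfsg.Agent.S5393.certTab.getD (n' - 1) 0) = true := by
    have := Cfsg.Agent.S5393.certOK_of_allCert Cfsg.Agent.S5393.certTab 1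
      Cfsg.Agent.S5393.allCert_tab (n' - 1) (by rw [Cfsg.Agent.S5393.certTab_length]; omega)
    rwa [show 1 + (n' - 1) = n' by omega] at this
  have hq0 : qrWord 0 ∈ W := by
    have hA := polyAct_mem W hshift 11 (Cfsg.Agent.S5393.certTab.getD (n' - 1) 0) _ hn'W
    rw [polyAct_ofMask] at hA
    unfold Cfsg.Agent.S5393.certOK at hcert
    simp only [Bool.or_eq_true, beq_iff_eq] at hcert
    have hq : qrWord 0 = ofMask 340831 := by
      have := qrWord_eq_ofMask 0
      rw [this]
      congr 1
    rcases hcert with h | h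
    · rw [h] at hA
      rw [hq]; exact hA
    · rw [h, ofMask_xor] at hA
      have h16 : ofMask 16777215 = 1 := by
        rw [one_eq_ofMask]; congr 1
      rw [h16] at hA
      have := add_mem hA h1
      rw [add_assoc, CharTwo.add_self_eq_zero, add_zero] at this
      rw [hq]; exact this
  unfold golayCode
  rw [Submodule.span_le]
  rintro x (⟨t, rfl⟩ | hx)
  · have := hT t _ hq0
    have h2 := Cfsg.Agent.S0370.permWord_shift t 0
    rw [zero_add] at h2
    rw [← h2]
    exact this
  · rw [Set.mem_singleton_iff] at hx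
    rw [hx]; exact h1

end Cfsg.Agent.Helper27
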