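import Mathlib
import Cfsg.Prelude.Def_JComponents
import Cfsg.Agent.Lib.Helper27.KUASM
import Cfsg.Agent.Lib.Helper27.KVDefs
import Cfsg.Agent.Lib.Helper15.KVBAS
import Cfsg.Agent.Lib.Helper15.KVMAXS
import Cfsg.Agent.Lib.Helper19.KVSYL
import Cfsg.Agent.Lib.Helper6.KVLEMA
import Cfsg.Agent.Lib.Helper6.KVCOREB
import Cfsg.Agent.Lib.Helper26.KVCOREA
import Cfsg.Agent.S2943

/-!
# KS12c (helper27): assembly of S2951' and S2952' (under `NonOpen T`).  Paper proof: `plans/KS12c_notes.md`.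
Pieces: BAS, MAXS (helper15), SYL (helper19), ACT (helper1), LEMA, COREB (helper6), COREA (helper26).
-/

set_option autoImplicit false
set_option linter.unusedVariables false
set_option linter.unusedSectionVars false
set_option linter.style.haveILetI false

namespace Cfsg.Agent.Helper27.KV

open Cfsg Cfsg.Agent.Helper13.JCFF Cfsg.Agent.Helper27.KU

universe u

variable {G : Type u} [Group G] [Finite G]

section ctx

open Cfsg.Agent.Helper7.JC48 Cfsg.Agent.Helper15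

variable (hL : IsCharacteristicTwoType G)
  (hN : ∀ N : Subgroup G, IsTwoLocal N → Group.IsSolvable ↥N)
  (hZ : ∀ S : Sylow 2 G, Subgroup.centralizer (omegaCenterOf (S : Subgroup G) : Set G) ≤
      Subgroup.normalizer ((S : Subgroup G) : Set G))
  (S : Sylow 2 G) {M : Subgroup G}
  (hMJ : Subgroup.normalizer (thompsonSubgroupOf 2 (S : Subgroup G) : Set G) ≤ M)
  {T : Subgroup G} (hT : T ∈ maxStraddlingTwoSubgroups M)

include hL hN hZ hMJ hT

/-- S2951' -/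
theorem s2951' (hNO : NonOpen T) (hTS : T ≤ (S : Subgroup G))
    {K : Subgroup G} (hK : K ∈ jComponentsOutside M T) {L : Subgroup G}
    (hLmax : IsMaximalTwoLocal L) (hKL : K ⊔ thompsonSubgroupOf 2 T ≤ L) :
    Z0 T ⊓ wOf K ≠ ⊥ ∧
      ((omegaCenterOf (S : Subgroup G) = Z0 T ∧ Nat.card ↥(Z0 T) = 2) ∨
        (omegaCenterOf (S : Subgroup G) = Z0 T ∧ Nat.card ↥(Z0 T) = 4 ∧ T = (S : Subgroup G)) ∨
        (omegaCenterOf T = Z0 T ∧ Nat.card ↥(Z0 T) = 4 ∧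
          (L ⊓ Subgroup.centralizer (Z0 T : Set G)).relIndex (Subgroup.normalizer (Z0 T : Set G)) = 2)) := by
  have hT2 : IsPGroup 2 ↥T := hT.1.1
  have hT1 : T ≠ ⊥ := hT.1.2.1
  refine ⟨z0_inf_wOf_ne_bot hL hN hZ hT2 hT1 hK.1.1, ?_⟩
  by_cases hTS' : T = (S : Subgroup G)
  · -- Sylow case
    rcases hNO with h | ⟨L₁, L₂, h₁, h₂, h12, hT₁, hT₂⟩
    · exact absurd hTS'.symm (h S)
    · have : ∃ L', IsMaximalTwoLocal L' ∧ L' ≠ L ∧ T ≤ L' := by
        by_cases h1 : L₁ = L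
        · exact ⟨L₂, h₂, fun h => h12 (h1.trans h.symm), hT₂⟩
        · exact ⟨L₁, h₁, h1, hT₁⟩
      obtain ⟨L', hL'max, hne, hTL'⟩ := this
      obtain ⟨hZ0, h | h⟩ := s2951_sylow hL hN hZ S hMJ hT hTS' hK hLmax hKL hL'max hne hTL'
      · exact Or.inl ⟨hZ0, h⟩
      · exact Or.inr (Or.inl ⟨hZ0, h, hTS'⟩)
  · rcases s2951_not_sylow hL hN hZ S hMJ hT hTS hTS' hK hLmax hKL with h | h
    · exact Or.inl h
    · exact Or.inr (Or.inr h)

/-- the inclusion `Z₀ ≤ Ω₁Z(T)` behind S2952' -/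
theorem z0_le_omegaCenterOf (hNO : NonOpen T) {K : Subgroup G} (hK : K ∈ jComponentsOutside M T) :
    Z0 T ≤ omegaCenterOf T := by
  have hT2 : IsPGroup 2 ↥T := hT.1.1
  obtain ⟨S', hTS', hMJ'⟩ := exists_sylow_ge S hMJ hT2 hT.1.2.2.1
  obtain ⟨L, hLmax, hKL, -, -, hTL⟩ := main_S2950 hL hN hZ S hMJ hT hK.1.1 hK.2.1 hK.2.2
  have hLM : ¬ L ≤ M := fun h => hK.2.1 ((le_sup_left.trans hKL).trans h)
  have hLT : L ∈ jOvergroups T := mem_jOvergroups_self_of_max hL S hMJ hT hLmax.1 hLM hTL.1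
  obtain ⟨hne, hcases⟩ := s2951' hL hN hZ S' hMJ' hT hNO hTS' hK hLmax hKL
  rcases hcases with ⟨h, -⟩ | ⟨h, -, -⟩ | ⟨h, -, -⟩
  · rw [← h]; exact omegaCenterOf_le_of_mem_jOvergroups hLT hTS'
  · rw [← h]; exact omegaCenterOf_le_of_mem_jOvergroups hLT hTS'
  · exact h.ge

/-- `T ≤ N_G(K)` (the content of S2952') -/
theorem le_normalizer_comp (hNO : NonOpen T) {K : Subgroup G} (hK : K ∈ jComponentsOutside M T) :
    T ≤ Subgroup.normalizer (K : Set G) := by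
  have hT2 : IsPGroup 2 ↥T := hT.1.1
  have hT1 : T ≠ ⊥ := hT.1.2.1
  obtain ⟨S', hTS', hMJ'⟩ := exists_sylow_ge S hMJ hT2 hT.1.2.2.1
  obtain ⟨L, hLmax, hKL, -, -, hTL⟩ := main_S2950 hL hN hZ S hMJ hT hK.1.1 hK.2.1 hK.2.2
  have hLM : ¬ L ≤ M := fun h => hK.2.1 ((le_sup_left.trans hKL).trans h)
  have hLT : L ∈ jOvergroups T := mem_jOvergroups_self_of_max hL S hMJ hT hLmax.1 hLM hTL.1
  obtain ⟨hne, -⟩ := s2951' hL hN hZ S' hMJ' hT hNO hTS' hK hLmax hKL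
  have hZ0 := z0_le_omegaCenterOf hL hN hZ S hMJ hT hNO hK
  have hcen : omegaCenterOf T ≤ T ⊓ Subgroup.centralizer (T : Set G) := by
    intro x hx
    have := (Cfsg.Agent.Helper19.JC.mem_omegaCenterOf_iff T x).mp hx
    exact Subgroup.mem_inf.2 ⟨this.1, this.2.1⟩
  apply Cfsg.Agent.S2943.result hL hN hZ T hT2 hT1 L hLT K hK.1.1 (le_sup_left.trans hKL)
  intro h
  apply hne
  rw [eq_bot_iff, ← h]
  exact inf_le_inf_right _ (hZ0.trans hcen)

/-- S2952' -/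
theorem s2952' (hNO : NonOpen T) {K : Subgroup G} (hK : K ∈ jComponentsOutside M T) :
    (K.subgroupOf (K ⊔ T)).Normal := by
  rw [Subgroup.normal_subgroupOf_iff_le_normalizer le_sup_left]
  exact sup_le Subgroup.le_normalizer (le_normalizer_comp hL hN hZ S hMJ hT hNO hK)

end ctx

end Cfsg.Agent.Helper27.KV
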