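import Mathlib
import Cfsg.Prelude.Def_JComponents
import Cfsg.Agent.Lib.Helper27.KVASM
import Cfsg.Agent.Lib.Helper27.KVDefs2
import Cfsg.Agent.Lib.Helper2.KWPGRPA
import Cfsg.Agent.Lib.Helper28.KWPGRPB
import Cfsg.Agent.Lib.Helper28.KWPTWO
import Cfsg.Agent.Lib.Helper8.KWPCMP
import Cfsg.Agent.Lib.Helper8.KWPOMG

/-!
# KS12c (helper27): assembly of S2953' (under `NonOpen T`).  Paper proof: `plans/KS12c_notes.md`.
Pieces: PGRPA (helper2), PGRPB, PTWO (helper28), PCMP, POMG (helper8).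
-/

set_option autoImplicit false
set_option linter.unusedVariables false
set_option linter.unusedSectionVars false
set_option linter.style.haveILetI false

namespace Cfsg.Agent.Helper27.KV

open Cfsg Cfsg.Agent.Helper13.JCFF Cfsg.Agent.Helper27.KU

universe u

variable {G : Type u} [Group G] [Finite G]


section ctx2

open Cfsg.Agent.Helper7.JC48 Cfsg.Agent.Helper15

variable (hL : IsCharacteristicTwoType G)
  (hN : ∀ N : Subgroup G, IsTwoLocal N → Group.IsSolvable ↥N)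
  (hZ : ∀ S : Sylow 2 G, Subgroup.centralizer (omegaCenterOf (S : Subgroup G) : Set G) ≤
      Subgroup.normalizer ((S : Subgroup G) : Set G))
  (S : Sylow 2 G) {M : Subgroup G}
  (hMJ : Subgroup.normalizer (thompsonSubgroupOf 2 (S : Subgroup G) : Set G) ≤ M)
  {T : Subgroup G} (hT : T ∈ maxStraddlingTwoSubgroups M)

include hL hN hZ hMJ hT

/-- everything S2953 says about `P = K ⊔ T`, with the maximal 2-local `L` named -/
theorem compData_of_mem (hNO : NonOpen T) {K : Subgroup G} (hK : K ∈ jComponentsOutside M T) :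
    ∃ L : Subgroup G, K ⊔ thompsonSubgroupOf 2 T ≤ L ∧
      (∀ L' : Subgroup G, IsMaximalTwoLocal L' → K ⊔ thompsonSubgroupOf 2 T ≤ L' → L' = L) ∧
      CompData T K L := by
  have hT2 : IsPGroup 2 ↥T := hT.1.1
  obtain ⟨L, hLmax, hKL, huniq, -, hTL⟩ := main_S2950 hL hN hZ S hMJ hT hK.1.1 hK.2.1 hK.2.2
  have hLM : ¬ L ≤ M := fun h => hK.2.1 ((le_sup_left.trans hKL).trans h)
  have hLT : L ∈ jOvergroups T := mem_jOvergroups_self_of_max hL S hMJ hT hLmax.1 hLM hTL.1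
  have hPL : K ⊔ T ≤ L := sup_le (le_sup_left.trans hKL) hTL.1
  have hTN := le_normalizer_comp hL hN hZ S hMJ hT hNO hK
  have hsyl : IsSylowTwoIn T (K ⊔ T) := isSylowTwoIn_of_le hTL le_sup_right hPL
  refine ⟨L, hKL, huniq, hK.1.1, hTN, hLT, hLmax, hPL, ?_, centralizer_pCoreOf_le hLT le_sup_right hPL,
    hsyl, ?_, not_commutator_le_pCoreOf hT2 hK.1.1 hTN hsyl,
    commutator_omegaCenterOf_ne_bot_of hL hN hZ S hMJ hT
      (z0_le_omegaCenterOf hL hN hZ S hMJ hT hNO hK) hK⟩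
  · intro L' hL' hle
    exact huniq L' hL' (sup_le (le_sup_left.trans hle)
      ((Cfsg.Agent.Helper4.ZJ.thompsonSubgroupOf_le_self T).trans (le_sup_right.trans hle)))
  · have h1 := relIndex_sup_eq_three hT2 hK.1.1 hTN hsyl
    have h2 := relIndex_pCoreOf_eq_two hT2 hK.1.1 hTN hsyl
    have h3 := Subgroup.relIndex_mul_relIndex (pCoreOf 2 (K ⊔ T)) T (K ⊔ T)
      (pCoreOf_comp_le hTN hsyl).2 le_sup_right
    rw [← h3, h1, h2]

end ctx2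

/-- per-component part from a certificate -/
theorem compData_of_good (hL : IsCharacteristicTwoType G)
    (hN : ∀ N : Subgroup G, IsTwoLocal N → Group.IsSolvable ↥N)
    (hZ : ∀ S : Sylow 2 G, Subgroup.centralizer (omegaCenterOf (S : Subgroup G) : Set G) ≤
      Subgroup.normalizer ((S : Subgroup G) : Set G))
    {T K : Subgroup G} (hNO : NonOpen T) (hK : Good T K) :
    ∃ L : Subgroup G, K ⊔ thompsonSubgroupOf 2 T ≤ L ∧
      (∀ L' : Subgroup G, IsMaximalTwoLocal L' → K ⊔ thompsonSubgroupOf 2 T ≤ L' → L' = L) ∧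
      CompData T K L := by
  obtain ⟨S, M, hMJ, hT, hKm⟩ := hK
  exact compData_of_mem hL hN hZ S hMJ hT hNO hKm

section ctx

variable (hL : IsCharacteristicTwoType G)
  (hN : ∀ N : Subgroup G, IsTwoLocal N → Group.IsSolvable ↥N)
  (hZ : ∀ S : Sylow 2 G, Subgroup.centralizer (omegaCenterOf (S : Subgroup G) : Set G) ≤
      Subgroup.normalizer ((S : Subgroup G) : Set G))
  (S : Sylow 2 G) {M : Subgroup G}
  (hMJ : Subgroup.normalizer (thompsonSubgroupOf 2 (S : Subgroup G) : Set G) ≤ M)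
  {T : Subgroup G} (hT : T ∈ maxStraddlingTwoSubgroups M)

include hL hN hZ hMJ hT

/-- S2953', core form -/
theorem s2953_core (hNO : NonOpen T) {K₁ : Subgroup G} (hK₁ : K₁ ∈ jComponentsOutside M T) :
    ∃ K₂ L₁ L₂ : Subgroup G, L₁ ≠ L₂ ∧ pCoreOf 2 ((K₁ ⊔ T) ⊔ (K₂ ⊔ T)) = ⊥ ∧
      CompData T K₁ L₁ ∧ CompData T K₂ L₂ := by
  have hG₁ : Good T K₁ := ⟨S, M, hMJ, hT, hK₁⟩
  obtain ⟨L₁, hKL₁, hu₁, c₁⟩ := compData_of_good hL hN hZ hNO hG₁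
  -- the second component
  have h2 : ∃ K₂ L₂ : Subgroup G, Good T K₂ ∧ IsMaximalTwoLocal L₂ ∧
      K₂ ⊔ thompsonSubgroupOf 2 T ≤ L₂ ∧ L₂ ≠ L₁ := by
    rcases hNO with hns | ⟨La, Lb, ha, hb, hab, hTa, hTb⟩
    · exact two_not_sylow hL hN hZ S hMJ hT hns hK₁ c₁.hmax hKL₁
    · by_cases hsyl : ∃ S' : Sylow 2 G, (S' : Subgroup G) = T
      · obtain ⟨S', hS'⟩ := hsyl
        have : ∃ L', IsMaximalTwoLocal L' ∧ L' ≠ L₁ ∧ T ≤ L' := by
          by_cases h1 : La = L₁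
          · exact ⟨Lb, hb, fun h => hab (h1.trans h.symm), hTb⟩
          · exact ⟨La, ha, h1, hTa⟩
        obtain ⟨L', hL', hne, hTL'⟩ := this
        exact two_sylow hL hN hZ S hMJ hT (Or.inr ⟨La, Lb, ha, hb, hab, hTa, hTb⟩) S' hS' hK₁ c₁.hmax
          hKL₁ hL' hne hTL'
      · push Not at hsyl
        exact two_not_sylow hL hN hZ S hMJ hT hsyl hK₁ c₁.hmax hKL₁
  obtain ⟨K₂, L₂', hG₂, hL₂', hKL₂', hne⟩ := h2
  obtain ⟨L₂, hKL₂, hu₂, c₂⟩ := compData_of_good hL hN hZ hNO hG₂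
  have hL₂eq : L₂' = L₂ := hu₂ L₂' hL₂' hKL₂'
  rw [hL₂eq] at hne
  refine ⟨K₂, L₁, L₂, hne.symm, ?_, c₁, c₂⟩
  by_contra hR
  have hloc : IsTwoLocal (Subgroup.normalizer
      ((pCoreOf 2 ((K₁ ⊔ T) ⊔ (K₂ ⊔ T)) : Subgroup G) : Set G)) :=
    ⟨_, Cfsg.Agent.Helper14.pCoreOf_isPGroup 2 _, hR, rfl⟩
  obtain ⟨Ls, hLs, hle⟩ := exists_maximalTwoLocal_ge hloc
  have hPP : (K₁ ⊔ T) ⊔ (K₂ ⊔ T) ≤ Ls := (Cfsg.Agent.Helper14.le_normalizer_pCoreOf 2 _).trans hle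
  have e1 := c₁.huniq Ls hLs (le_sup_left.trans hPP)
  have e2 := c₂.huniq Ls hLs (le_sup_right.trans hPP)
  exact hne (e2.symm.trans e1)

/-- S2953' -/
theorem s2953' (hNO : NonOpen T) {K₁ : Subgroup G} (hK₁ : K₁ ∈ jComponentsOutside M T) :
    ∃ K₂ : Subgroup G, K₁ ≠ K₂ ∧ IsJComponent T K₁ ∧ IsJComponent T K₂ ∧
      pCoreOf 2 ((K₁ ⊔ T) ⊔ (K₂ ⊔ T)) = ⊥ ∧
      ∀ P ∈ [K₁ ⊔ T, K₂ ⊔ T],
        Subgroup.centralizer (pCoreOf 2 P : Set G) ≤ pCoreOf 2 P ∧ IsSylowTwoIn T P ∧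
        (pCoreOf 2 P).relIndex P = 6 ∧ ¬ ⁅P, P⁆ ≤ pCoreOf 2 P ∧ ⁅omegaCenterOf T, P⁆ ≠ ⊥ ∧
        ∃ L : Subgroup G, IsMaximalTwoLocal L ∧ P ≤ L ∧ IsSylowTwoIn T L ∧
          ∀ L' : Subgroup G, IsMaximalTwoLocal L' → P ≤ L' → L' = L := by
  obtain ⟨K₂, L₁, L₂, hne, hO, c₁, c₂⟩ := s2953_core hL hN hZ S hMJ hT hNO hK₁
  refine ⟨K₂, ?_, c₁.comp, c₂.comp, hO, ?_⟩
  · rintro rfl
    exact hne (c₂.huniq L₁ c₁.hmax c₁.hPL)
  · intro P hP
    simp only [List.mem_cons, List.mem_nil_iff, or_false] at hP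
    rcases hP with rfl | rfl
    · exact ⟨c₁.hcent, c₁.hsyl, c₁.h6, c₁.hnab, c₁.homg, L₁, c₁.hmax, c₁.hPL, c₁.hLT.1, c₁.huniq⟩
    · exact ⟨c₂.hcent, c₂.hsyl, c₂.h6, c₂.hnab, c₂.homg, L₂, c₂.hmax, c₂.hPL, c₂.hLT.1, c₂.huniq⟩

end ctx

end Cfsg.Agent.Helper27.KV
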