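import Mathlib
import Cfsg.Prelude.Def_JComponents
import Cfsg.Agent.Lib.Helper27.KVDefs
import Cfsg.Agent.Lib.Helper27.KVDefs2
import Cfsg.Agent.Lib.Helper27.KUASM
import Cfsg.Agent.Lib.Helper4.KSBoot
import Cfsg.Agent.Lib.Helper13.JCASM1
import Cfsg.Agent.S2949
import Cfsg.Agent.Lib.Helper27.KWASM
import Cfsg.Agent.Lib.Helper21.KXTINT
import Cfsg.Agent.Lib.Helper21.KXPKG
import Cfsg.Agent.Lib.Helper23.KXAMAL
import Cfsg.Agent.Lib.Helper6.KXMAXEQA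
import Cfsg.Agent.Lib.Helper6.KXMAXEQB

/-!
# KS12c (helper27): assembly of S2954' and of the bootstrap `nonOpen_all`.   Paper proof: `plans/KS12c_notes.md` (S2954'').

Pieces: TINT, PKG (helper21), AMAL (helper23), MAXEQA, MAXEQB (helper6); `boot` (helper4).
`Amalgam.{u}` is the statement of S2858 for groups in `Type u` (to be discharged by `Cfsg.Agent.S2858.result`).
-/

set_option autoImplicit false
set_option linter.unusedVariables false
set_option linter.unusedSectionVars false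
set_option linter.style.haveILetI false

namespace Cfsg.Agent.Helper27.KV

open Cfsg Cfsg.Agent.Helper13.JCFF Cfsg.Agent.Helper27.KU Cfsg.Agent.Helper4.KSBoot

universe u

variable {G : Type u} [Group G] [Finite G]

/-- `L = K ⊔ T` -/
theorem eq_of_pkg
    (hN : ∀ N : Subgroup G, IsTwoLocal N → Group.IsSolvable ↥N)
    (hZ : ∀ S : Sylow 2 G, Subgroup.centralizer (omegaCenterOf (S : Subgroup G) : Set G) ≤
      Subgroup.normalizer ((S : Subgroup G) : Set G))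
    {T K L E : Subgroup G} (hT1 : T ≠ ⊥) (h : CompData T K L) (hE : Pkg T (K ⊔ T) E)
    (hE8 : Nat.card ↥E ≤ 8) : L = K ⊔ T := by
  obtain ⟨hQ, hF⟩ := pCoreOf_eq_of_pkg h hE
  obtain ⟨hW, hLK⟩ := le_normalizer_of_pkg hN hZ hT1 h hE hE8
  have hcent : Subgroup.centralizer (E : Set G) ≤ E := by
    have := h.hLT.2.2
    rwa [hF] at this
  refine eq_of_four h.hPL hF hcent hE.exp hW h.comp.2.2.2.2.1 hE8
    (hLK.trans (Cfsg.Agent.Helper25.JC.normalizer_le_normalizer_wOf K)) (hE.le.trans le_sup_right) ?_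
  rw [← hQ]; exact h.h6


section ctx

variable (hL : IsCharacteristicTwoType G)
  (hN : ∀ N : Subgroup G, IsTwoLocal N → Group.IsSolvable ↥N)
  (hZ : ∀ S : Sylow 2 G, Subgroup.centralizer (omegaCenterOf (S : Subgroup G) : Set G) ≤
      Subgroup.normalizer ((S : Subgroup G) : Set G))
  (S : Sylow 2 G) {M : Subgroup G}
  (hMJ : Subgroup.normalizer (thompsonSubgroupOf 2 (S : Subgroup G) : Set G) ≤ M)
  {T : Subgroup G} (hT : T ∈ maxStraddlingTwoSubgroups M)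

include hL hN hZ hMJ hT

/-- S2954' -/
theorem s2954' (h2858 : Amalgam.{u}) (hNO : NonOpen T) {K₁ : Subgroup G}
    (hK₁ : K₁ ∈ jComponentsOutside M T) :
    ∃ P₁ P₂ : Subgroup G, P₁ ≠ P₂ ∧ IsMaximalTwoLocal P₁ ∧ IsMaximalTwoLocal P₂ ∧
      IsSylowTwoIn T P₁ ∧ IsSylowTwoIn T P₂ ∧
      ((Nonempty (↥P₁ ≃* Equiv.Perm (Fin 4)) ∧ Nonempty (↥P₂ ≃* Equiv.Perm (Fin 4))) ∨
        (Nonempty (↥P₁ ≃* Equiv.Perm (Fin 4) × Multiplicative (ZMod 2)) ∧
          Nonempty (↥P₂ ≃* Equiv.Perm (Fin 4) × Multiplicative (ZMod 2)))) := by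
  have hT1 : T ≠ ⊥ := hT.1.2.1
  obtain ⟨K₂, L₁, L₂, hne, hO, h₁, h₂⟩ := s2953_core hL hN hZ S hMJ hT hNO hK₁
  have hTint := inf_eq_of_compData h₁ h₂ hne
  have hiso := amalgam_iso h2858 hTint hO (by
    intro P hP
    simp only [List.mem_cons, List.mem_nil_iff, or_false] at hP
    rcases hP with rfl | rfl
    · exact ⟨h₁.hcent, h₁.hsyl, h₁.h6, h₁.hnab, h₁.homg⟩
    · exact ⟨h₂.hcent, h₂.hsyl, h₂.h6, h₂.hnab, h₂.homg⟩)
  have hi₁ : Nonempty (↥(K₁ ⊔ T) ≃* Equiv.Perm (Fin 4)) ∨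
      Nonempty (↥(K₁ ⊔ T) ≃* Equiv.Perm (Fin 4) × Multiplicative (ZMod 2)) := by
    rcases hiso with h | h
    · exact Or.inl h.1
    · exact Or.inr h.1
  have hi₂ : Nonempty (↥(K₂ ⊔ T) ≃* Equiv.Perm (Fin 4)) ∨
      Nonempty (↥(K₂ ⊔ T) ≃* Equiv.Perm (Fin 4) × Multiplicative (ZMod 2)) := by
    rcases hiso with h | h
    · exact Or.inl h.2
    · exact Or.inr h.2
  obtain ⟨E₁, hE₁, hc₁⟩ := exists_pkg h₁.hsyl hi₁
  obtain ⟨E₂, hE₂, hc₂⟩ := exists_pkg h₂.hsyl hi₂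
  have e₁ := eq_of_pkg hN hZ hT1 h₁ hE₁ hc₁
  have e₂ := eq_of_pkg hN hZ hT1 h₂ hE₂ hc₂
  refine ⟨K₁ ⊔ T, K₂ ⊔ T, ?_, ?_, ?_, h₁.hsyl, h₂.hsyl, hiso⟩
  · rw [← e₁, ← e₂]; exact hne
  · rw [← e₁]; exact h₁.hmax
  · rw [← e₂]; exact h₂.hmax

end ctx

/-! ## the bootstrap: `NonOpen T` always holds -/

/-- for a maximal 2-local `M` every member of `𝒯*(M)` is non-open -/
theorem nonOpen_of_maximal {M T : Subgroup G} (hM : IsMaximalTwoLocal M)
    (hT : T ∈ maxStraddlingTwoSubgroups M) : NonOpen T := by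
  obtain ⟨⟨hT2, hT1, hTM, L', hL'2, hTL', hL'M⟩, -⟩ := hT
  obtain ⟨L'', hL'', hle⟩ := exists_maximalTwoLocal_ge hL'2
  refine Or.inr ⟨M, L'', hM, hL'', ?_, hTM, hTL'.trans hle⟩
  rintro rfl
  exact hL'M hle

/-- `MainMax G` from S2858 -/
theorem mainMax (h2858 : Amalgam.{u}) (hL : IsCharacteristicTwoType G)
    (hN : ∀ N : Subgroup G, IsTwoLocal N → Group.IsSolvable ↥N)
    (hZ : ∀ S : Sylow 2 G, Subgroup.centralizer (omegaCenterOf (S : Subgroup G) : Set G) ≤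
      Subgroup.normalizer ((S : Subgroup G) : Set G)) (hO : pCore 2 G = ⊥) : MainMax G := by
  intro S M hM hMJ T hT
  obtain ⟨K₁, hK₁⟩ := Cfsg.Agent.S2949.result hL hN hZ hO S M hM.1 hMJ T hT
  exact s2954' hL hN hZ S hMJ hT h2858 (nonOpen_of_maximal hM hT) hK₁

/-- every member of `𝒯*(M)` is non-open (helper4's bootstrap) -/
theorem nonOpen_all (h2858 : Amalgam.{u}) (hL : IsCharacteristicTwoType G)
    (hN : ∀ N : Subgroup G, IsTwoLocal N → Group.IsSolvable ↥N)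
    (hZ : ∀ S : Sylow 2 G, Subgroup.centralizer (omegaCenterOf (S : Subgroup G) : Set G) ≤
      Subgroup.normalizer ((S : Subgroup G) : Set G)) (hO : pCore 2 G = ⊥)
    (S : Sylow 2 G) {M : Subgroup G}
    (hMJ : Subgroup.normalizer (thompsonSubgroupOf 2 (S : Subgroup G) : Set G) ≤ M)
    {T : Subgroup G} (hT : T ∈ maxStraddlingTwoSubgroups M) : NonOpen T := by
  by_cases hsyl : ∃ S' : Sylow 2 G, (S' : Subgroup G) = T
  · obtain ⟨S', rfl⟩ := hsyl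
    by_contra hNO
    have hT' := hT
    obtain ⟨⟨hT2, hT1, hTM, L', hL'2, hTL', hL'M⟩, -⟩ := hT'
    obtain ⟨L, hLmax, hle⟩ := exists_maximalTwoLocal_ge hL'2
    have huniq : ∀ L'' : Subgroup G, IsMaximalTwoLocal L'' → (S' : Subgroup G) ≤ L'' → L'' = L := by
      intro L'' hL'' hS''
      by_contra hne
      exact hNO (Or.inr ⟨L'', L, hL'', hLmax, hne, hS'', hTL'.trans hle⟩)
    have hb := boot hL hN hZ hO (mainMax h2858 hL hN hZ hO) S' hLmax (hTL'.trans hle) huniq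
    exact hL'M (hle.trans (hb.trans
      (Cfsg.Agent.Helper7.JC48.normalizer_J_le_of_max S hMJ hT)))
  · push Not at hsyl
    exact Or.inl hsyl

end Cfsg.Agent.Helper27.KV
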