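import Mathlib
import Cfsg.Prelude.Def_MonsterType
import Cfsg.Agent.Lib.Helper27.Basic

set_option autoImplicit false
open Cfsg
open scoped commutatorElement

namespace Cfsg.Agent.Helper27

variable {G : Type*} [Group G]

/-- The centre of an extraspecial 2-subgroup `Q`, viewed in the ambient group, consists of the
identity and one involution `z`, which commutes with all of `Q`. -/
theorem exists_center_involution (Q : Subgroup G) (hL1 : IsExtraspecial 2 Q) :
    ∃ z : G, z ∈ (Subgroup.center Q).map Q.subtype ∧ z ≠ 1 ∧ z * z = 1 ∧ z ∈ Q ∧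
      (∀ q ∈ Q, q * z = z * q) ∧
      ∀ a ∈ (Subgroup.center Q).map Q.subtype, a = 1 ∨ a = z := by
  have hcard : Nat.card (Subgroup.center Q) = 2 := hL1.2
  obtain ⟨z0, hz0, hz0u⟩ := (Nat.card_eq_two_iff' (1 : Subgroup.center Q)).mp hcard
  have hz0G : ((z0 : Q) : G) ≠ 1 := by
    intro h; apply hz0
    apply Subtype.ext; apply Subtype.ext; simpa using h
  have hcomm : ∀ q ∈ Q, q * ((z0 : Q) : G) = ((z0 : Q) : G) * q := by
    intro q hq
    have := Subgroup.mem_center_iff.mp z0.2 ⟨q, hq⟩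
    exact congrArg Subtype.val this
  have hall : ∀ a ∈ (Subgroup.center Q).map Q.subtype, a = 1 ∨ a = ((z0 : Q) : G) := by
    rintro a ⟨a', ha', rfl⟩
    by_cases h : (⟨a', ha'⟩ : Subgroup.center Q) = 1
    · left
      have := congrArg (fun x : Subgroup.center Q => ((x : Q) : G)) h
      simpa using this
    · right
      have := hz0u ⟨a', ha'⟩ h
      have := congrArg (fun x : Subgroup.center Q => ((x : Q) : G)) this
      simpa using this
  refine ⟨((z0 : Q) : G), ⟨z0, z0.2, rfl⟩, hz0G, ?_, (z0 : Q).2, hcomm, hall⟩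
  -- z * z = 1 : z*z is in the centre, so is 1 or z
  have hzz : ((z0 : Q) : G) * ((z0 : Q) : G) ∈ (Subgroup.center Q).map Q.subtype :=
    Subgroup.mul_mem _ ⟨z0, z0.2, rfl⟩ ⟨z0, z0.2, rfl⟩
  rcases hall _ hzz with h | h
  · exact h
  · exfalso; apply hz0G
    have : ((z0 : Q) : G) * ((z0 : Q) : G) = ((z0 : Q) : G) * 1 := by rw [mul_one]; exact h
    exact mul_left_cancel this

/-- A noncentral element `b` of an extraspecial 2-subgroup `Q` is conjugate in `Q` to `b * z`. -/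
theorem exists_conj_eq_mul_center (Q : Subgroup G) (hL1 : IsExtraspecial 2 Q) (z : G)
    (hall : ∀ a ∈ (Subgroup.center Q).map Q.subtype, a = 1 ∨ a = z)
    (hzcomm : ∀ q ∈ Q, q * z = z * q)
    (b : G) (hbQ : b ∈ Q) (hbZ : b ∉ (Subgroup.center Q).map Q.subtype) :
    ∃ q ∈ Q, q * b * q⁻¹ = b * z := by
  have hcomm : commutator Q = Subgroup.center Q := hL1.1.2.2
  -- b is not central, so some q ∈ Q does not commute with b
  have : ∃ q : Q, q * ⟨b, hbQ⟩ ≠ ⟨b, hbQ⟩ * q := by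
    by_contra hcon
    push Not at hcon
    apply hbZ
    exact ⟨⟨b, hbQ⟩, Subgroup.mem_center_iff.mpr (fun g => hcon g), rfl⟩
  obtain ⟨q, hq⟩ := this
  have hmem : ⁅q, (⟨b, hbQ⟩ : Q)⁆ ∈ Subgroup.center Q := by
    rw [← hcomm]
    exact Subgroup.commutator_mem_commutator (Subgroup.mem_top q) (Subgroup.mem_top _)
  have hmemG : ((⁅q, (⟨b, hbQ⟩ : Q)⁆ : Q) : G) ∈ (Subgroup.center Q).map Q.subtype :=
    ⟨_, hmem, rfl⟩
  have hval : ((⁅q, (⟨b, hbQ⟩ : Q)⁆ : Q) : G) = (q : G) * b * (q : G)⁻¹ * b⁻¹ := by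
    simp [commutatorElement_def]
  refine ⟨q, q.2, ?_⟩
  rcases hall _ hmemG with h | h
  · exfalso; apply hq
    apply Subtype.ext
    rw [hval] at h
    show (q : G) * b = b * (q : G)
    calc (q : G) * b = ((q : G) * b * (q : G)⁻¹ * b⁻¹) * (b * q) := by group
      _ = b * q := by rw [h, one_mul]
  · rw [hval] at h
    calc (q : G) * b * (q : G)⁻¹ = ((q : G) * b * (q : G)⁻¹ * b⁻¹) * b := by group
      _ = z * b := by rw [h]
      _ = b * z := (hzcomm b hbQ).symm

/-- The closing argument for large extraspecial subgroups: an odd-order subgroup normalized by `Q`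
and centralizing the centre of `Q` is trivial. -/
theorem eq_bot_of_centralizes_center (Q : Subgroup G) (hL1 : IsExtraspecial 2 Q)
    (hL2 : Subgroup.centralizer (Q : Set G) = (Subgroup.center Q).map Q.subtype)
    (hL3 : Subgroup.centralizer (((Subgroup.center Q).map Q.subtype : Subgroup G) : Set G) ≤
      Subgroup.normalizer (Q : Set G))
    (K : Subgroup G) (hK : Odd (Nat.card K)) (hQK : Q ≤ Subgroup.normalizer (K : Set G))
    (hKZ : K ≤ Subgroup.centralizer (((Subgroup.center Q).map Q.subtype : Subgroup G) : Set G)) :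
    K = ⊥ := by
  have hQ2 : IsPGroup 2 (Q : Subgroup G) := hL1.1.1
  have hZQ : (Subgroup.center Q).map Q.subtype ≤ Q := Subgroup.map_subtype_le _
  have hKN : K ≤ Subgroup.normalizer (Q : Set G) := hKZ.trans hL3
  have hKQ : K ≤ Subgroup.centralizer (Q : Set G) := by
    intro k hk
    rw [Subgroup.mem_centralizer_iff]
    intro q hq
    have hqN := hQK hq
    have h1 : q * k * q⁻¹ ∈ K := (Subgroup.mem_set_normalizer_iff.mp hqN k).mp hk
    have hcK : q * k * q⁻¹ * k⁻¹ ∈ K := K.mul_mem h1 (K.inv_mem hk)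
    have hkN := hKN hk
    have h2 : k * q⁻¹ * k⁻¹ ∈ Q := (Subgroup.mem_set_normalizer_iff.mp hkN q⁻¹).mp (Q.inv_mem hq)
    have hcQ : q * k * q⁻¹ * k⁻¹ ∈ Q := by
      have := Q.mul_mem hq h2
      have e : q * (k * q⁻¹ * k⁻¹) = q * k * q⁻¹ * k⁻¹ := by group
      rwa [e] at this
    have := eq_one_of_mem_two_group_of_mem_odd hQ2 hK hcQ hcK
    calc q * k = (q * k * q⁻¹ * k⁻¹) * (k * q) := by group
      _ = k * q := by rw [this, one_mul]
  rw [eq_bot_iff]
  intro k hk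
  rw [Subgroup.mem_bot]
  have hkZ : k ∈ (Subgroup.center Q).map Q.subtype := by rw [← hL2]; exact hKQ hk
  exact eq_one_of_mem_two_group_of_mem_odd hQ2 hK (hZQ hkZ) hk

/-! ### Involutions acting on groups of odd order -/

/-- In a group of odd order, an element equal to its inverse is trivial. -/
theorem eq_one_of_eq_inv_of_odd {K : Subgroup G} (hK : Odd (Nat.card K)) {c : G} (hc : c ∈ K)
    (h : c = c⁻¹) : c = 1 := by
  have h2 : c ^ 2 ^ 1 = 1 := by
    rw [pow_one, pow_two]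
    nth_rewrite 2 [h]
    exact mul_inv_cancel c
  exact eq_one_of_two_pow_of_mem_odd h2 hK hc

/-- In a group of odd order, squaring is injective. -/
theorem eq_of_sq_eq_of_odd {K : Subgroup G} (hK : Odd (Nat.card K)) {j j' : G} (hj : j ∈ K)
    (hj' : j' ∈ K) (h : j * j = j' * j') : j = j' := by
  obtain ⟨m, hm⟩ := hK
  have hpow : ∀ x ∈ K, x ^ (2 * m + 1) = 1 := by
    intro x hx
    have := pow_card_eq_one' (G := K) (x := ⟨x, hx⟩)
    rw [hm] at this
    have := congrArg Subtype.val this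
    simpa using this
  have key : ∀ x ∈ K, x = (x * x) ^ (m + 1) := by
    intro x hx
    rw [← pow_two, ← pow_mul]
    have : 2 * (m + 1) = (2 * m + 1) + 1 := by ring
    rw [this, pow_succ, hpow x hx, one_mul]
  rw [key j hj, key j' hj', h]

/-- Decomposition of an element of an odd-order group normalized by an involution `b`:
`k = c * j` with `c` centralized and `j` inverted by `b`. -/
theorem exists_decomp_of_involution {K : Subgroup G} [Finite G] (hK : Odd (Nat.card K)) {b : G}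
    (hbb : b * b = 1) (hbK : b ∈ Subgroup.normalizer (K : Set G)) {k : G} (hk : k ∈ K) :
    ∃ c ∈ K, ∃ j ∈ K, b * c * b⁻¹ = c ∧ b * j * b⁻¹ = j⁻¹ ∧ k = c * j := by
  have hbinv : b⁻¹ = b := inv_eq_of_mul_eq_one_left hbb
  -- t = k⁻¹ * (b k b⁻¹), inverted by b
  set t := k⁻¹ * (b * k * b⁻¹) with ht
  have hbk : b * k * b⁻¹ ∈ K := (Subgroup.mem_set_normalizer_iff.mp hbK k).mp hk
  have htK : t ∈ K := K.mul_mem (K.inv_mem hk) hbk
  have htinv : b * t * b⁻¹ = t⁻¹ := by
    rw [ht, hbinv]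
    calc b * (k⁻¹ * (b * k * b)) * b = b * k⁻¹ * b * k * (b * b) := by group
      _ = b * k⁻¹ * b * k := by rw [hbb, mul_one]
      _ = (k⁻¹ * (b * k * b))⁻¹ := by
          have : (k⁻¹ * (b * k * b))⁻¹ = b⁻¹ * k⁻¹ * b⁻¹ * k := by group
          rw [this, hbinv]
  -- s with s * s = t, a power of t
  obtain ⟨m, hm⟩ := hK
  have htpow : t ^ (2 * m + 1) = 1 := by
    have := pow_card_eq_one' (G := K) (x := ⟨t, htK⟩)
    rw [hm] at this
    have := congrArg Subtype.val this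
    simpa using this
  set s := t ^ (m + 1) with hs
  have hss : s * s = t := by
    rw [hs, ← pow_add]
    have : m + 1 + (m + 1) = (2 * m + 1) + 1 := by ring
    rw [this, pow_succ, htpow, one_mul]
  have hsK : s ∈ K := K.pow_mem htK _
  have hsinv : b * s * b⁻¹ = s⁻¹ := by
    rw [hs, ← conj_pow, htinv, inv_pow]
  refine ⟨k * s, K.mul_mem hk hsK, s⁻¹, K.inv_mem hsK, ?_, ?_, by group⟩
  · -- b (k s) b⁻¹ = (b k b⁻¹)(b s b⁻¹) = k t s⁻¹ = k s
    have h1 : b * k * b⁻¹ = k * t := by rw [ht]; group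
    calc b * (k * s) * b⁻¹ = (b * k * b⁻¹) * (b * s * b⁻¹) := by group
      _ = k * t * s⁻¹ := by rw [h1, hsinv]
      _ = k * (s * s) * s⁻¹ := by rw [hss]
      _ = k * s := by group
  · calc b * s⁻¹ * b⁻¹ = (b * s * b⁻¹)⁻¹ := by group
      _ = (s⁻¹)⁻¹ := by rw [hsinv]

/-- Uniqueness of the decomposition `k = c * j`. -/
theorem decomp_unique_of_involution {K : Subgroup G} (hK : Odd (Nat.card K)) {b : G}
    {c c' j j' : G} (hj : j ∈ K) (hj' : j' ∈ K)
    (hc : b * c * b⁻¹ = c) (hc' : b * c' * b⁻¹ = c') (hjb : b * j * b⁻¹ = j⁻¹)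
    (hjb' : b * j' * b⁻¹ = j'⁻¹) (h : c * j = c' * j') : c = c' ∧ j = j' := by
  -- (c j)⁻¹ b (c j) b⁻¹ = j⁻¹ j⁻¹
  have e1 : (c * j)⁻¹ * (b * (c * j) * b⁻¹) = j⁻¹ * j⁻¹ := by
    calc (c * j)⁻¹ * (b * (c * j) * b⁻¹) = j⁻¹ * c⁻¹ * ((b * c * b⁻¹) * (b * j * b⁻¹)) := by group
      _ = j⁻¹ * c⁻¹ * (c * j⁻¹) := by rw [hc, hjb]
      _ = j⁻¹ * j⁻¹ := by group
  have e2 : (c' * j')⁻¹ * (b * (c' * j') * b⁻¹) = j'⁻¹ * j'⁻¹ := by
    calc (c' * j')⁻¹ * (b * (c' * j') * b⁻¹) = j'⁻¹ * c'⁻¹ * ((b * c' * b⁻¹) * (b * j' * b⁻¹)) := by group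
      _ = j'⁻¹ * c'⁻¹ * (c' * j'⁻¹) := by rw [hc', hjb']
      _ = j'⁻¹ * j'⁻¹ := by group
  rw [h, e2] at e1
  have hjj : j'⁻¹ = j⁻¹ := eq_of_sq_eq_of_odd hK (K.inv_mem hj') (K.inv_mem hj) e1
  have hjeq : j = j' := by
    have := congrArg (fun x => x⁻¹) hjj
    simpa using this.symm
  refine ⟨?_, hjeq⟩
  rw [hjeq] at h
  exact mul_right_cancel h

end Cfsg.Agent.Helper27
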