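import Mathlib
import Cfsg.Agent.Lib.Helper27.LeechShapes2

set_option autoImplicit false
open Cfsg

/-! Vectors with two layers of constant absolute value. -/

namespace Cfsg.Agent.Helper27

/-- Two layers: `±v` on `p`, `±v'` on `p'`. -/
def shape2 (v : ℤ) (p N : Finset GolayPt) (v' : ℤ) (p' N' : Finset GolayPt) : GolayPt → ℤ :=
  fun i => shapeVec v p N i + shapeVec v' p' N' i

theorem shapeVec_of_mem {k : ℤ} {p N : Finset GolayPt} {i : GolayPt} (h : i ∈ p) :
    shapeVec k p N i = k ∨ shapeVec k p N i = -k := by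
  unfold shapeVec
  rw [if_pos h]
  by_cases h' : i ∈ N
  · right; rw [if_pos h']
  · left; rw [if_neg h']

theorem shapeVec_of_not_mem {k : ℤ} {p N : Finset GolayPt} {i : GolayPt} (h : i ∉ p) :
    shapeVec k p N i = 0 := by
  unfold shapeVec
  rw [if_neg h]

theorem shape2_abs_iff {v v' : ℤ} (hv : 0 < v) (hv' : 0 < v') (hne : v ≠ v')
    {p N p' N' : Finset GolayPt} (hd : Disjoint p p') (i : GolayPt) :
    (shape2 v p N v' p' N' i = v ∨ shape2 v p N v' p' N' i = -v) ↔ i ∈ p := by
  unfold shape2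
  by_cases h : i ∈ p
  · have h' : i ∉ p' := fun h' => (Finset.disjoint_left.mp hd) h h'
    rw [shapeVec_of_not_mem h', add_zero]
    simp only [h, iff_true]
    exact shapeVec_of_mem h
  · rw [shapeVec_of_not_mem h, zero_add]
    simp only [h, iff_false]
    by_cases h' : i ∈ p'
    · rcases shapeVec_of_mem (k := v') (N := N') h' with h1 | h1 <;> rw [h1] <;> omega
    · rw [shapeVec_of_not_mem h']
      omega

theorem shape2_comm (v : ℤ) (p N : Finset GolayPt) (v' : ℤ) (p' N' : Finset GolayPt) :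
    shape2 v p N v' p' N' = shape2 v' p' N' v p N := by
  funext i
  unfold shape2
  ring

theorem shape2_neg_iff {v v' : ℤ} (hv : 0 < v) (hv' : 0 < v')
    {p N p' N' : Finset GolayPt} (hd : Disjoint p p') (hN : N ⊆ p) (hN' : N' ⊆ p') (i : GolayPt) :
    shape2 v p N v' p' N' i < 0 ↔ i ∈ N ∪ N' := by
  unfold shape2
  rw [Finset.mem_union]
  by_cases h : i ∈ p
  · have h' : i ∉ p' := fun h' => (Finset.disjoint_left.mp hd) h h'
    have h'' : i ∉ N' := fun h'' => h' (hN' h'')
    rw [shapeVec_of_not_mem h', add_zero, shapeVec_neg_iff hv hN]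
    simp [h'']
  · have h'' : i ∉ N := fun h'' => h (hN h'')
    rw [shapeVec_of_not_mem h, zero_add, shapeVec_neg_iff hv' hN']
    simp [h'']

theorem shape2_injective {v v' : ℤ} (hv : 0 < v) (hv' : 0 < v') (hne : v ≠ v')
    {p N p' N' q M q' M' : Finset GolayPt} (hd : Disjoint p p') (hN : N ⊆ p) (hN' : N' ⊆ p')
    (hd2 : Disjoint q q') (hM : M ⊆ q) (hM' : M' ⊆ q')
    (h : shape2 v p N v' p' N' = shape2 v q M v' q' M') :
    p = q ∧ N = M ∧ p' = q' ∧ N' = M' := by
  have hp : p = q := by
    ext i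
    rw [← shape2_abs_iff hv hv' hne hd (N := N) (N' := N') i,
      ← shape2_abs_iff hv hv' hne hd2 (N := M) (N' := M') i, h]
  have hp' : p' = q' := by
    ext i
    rw [shape2_comm v p N, shape2_comm v q M] at h
    rw [← shape2_abs_iff hv' hv (Ne.symm hne) hd.symm (N := N') (N' := N) i,
      ← shape2_abs_iff hv' hv (Ne.symm hne) hd2.symm (N := M') (N' := M) i, h]
  have hneg : N ∪ N' = M ∪ M' := by
    ext i
    rw [← shape2_neg_iff hv hv' hd hN hN' i, ← shape2_neg_iff hv hv' hd2 hM hM' i, h]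
  subst hp
  subst hp'
  refine ⟨rfl, ?_, rfl, ?_⟩
  · ext i
    constructor
    · intro hi
      have : i ∈ M ∪ M' := by rw [← hneg]; exact Finset.mem_union_left _ hi
      rcases Finset.mem_union.mp this with h1 | h1
      · exact h1
      · exact absurd (hM' h1) (fun h2 => (Finset.disjoint_left.mp hd) (hN hi) h2)
    · intro hi
      have : i ∈ N ∪ N' := by rw [hneg]; exact Finset.mem_union_left _ hi
      rcases Finset.mem_union.mp this with h1 | h1
      · exact h1
      · exact absurd (hN' h1) (fun h2 => (Finset.disjoint_left.mp hd) (hM hi) h2)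
  · ext i
    constructor
    · intro hi
      have : i ∈ M ∪ M' := by rw [← hneg]; exact Finset.mem_union_right _ hi
      rcases Finset.mem_union.mp this with h1 | h1
      · exact absurd (hM h1) (fun h2 => (Finset.disjoint_left.mp hd) h2 (hN' hi))
      · exact h1
    · intro hi
      have : i ∈ N ∪ N' := by rw [hneg]; exact Finset.mem_union_right _ hi
      rcases Finset.mem_union.mp this with h1 | h1
      · exact absurd (hN h1) (fun h2 => (Finset.disjoint_left.mp hd) h2 (hM' hi))
      · exact h1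

theorem sqNorm_shape2 (v v' : ℤ) {p N p' N' : Finset GolayPt} (hd : Disjoint p p') :
    sqNorm (shape2 v p N v' p' N') = v ^ 2 * (p.card : ℤ) + v' ^ 2 * (p'.card : ℤ) := by
  rw [← sqNorm_shapeVec v p N, ← sqNorm_shapeVec v' p' N']
  unfold sqNorm shape2
  rw [← Finset.sum_add_distrib]
  apply Finset.sum_congr rfl
  intro i _
  by_cases h : i ∈ p
  · have h' : i ∉ p' := fun h' => (Finset.disjoint_left.mp hd) h h'
    rw [shapeVec_of_not_mem h']; ring
  · rw [shapeVec_of_not_mem h]; ring

theorem sum_shape2 (v v' : ℤ) {p N p' N' : Finset GolayPt} (hN : N ⊆ p) (hN' : N' ⊆ p') :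
    ∑ i, shape2 v p N v' p' N' i =
      v * ((p.card : ℤ) - 2 * (N.card : ℤ)) + v' * ((p'.card : ℤ) - 2 * (N'.card : ℤ)) := by
  unfold shape2
  rw [Finset.sum_add_distrib, sum_shapeVec v hN, sum_shapeVec v' hN']

theorem shape2_two_mul (v : ℤ) (p N : Finset GolayPt) (v' : ℤ) (p' N' : Finset GolayPt) :
    shape2 (2 * v) p N (2 * v') p' N' = fun i => 2 * shape2 v p N v' p' N' i := by
  funext i
  unfold shape2
  rw [shapeVec_two_mul v, shapeVec_two_mul v']
  ring

end Cfsg.Agent.Helper27
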