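import Mathlib
import Cfsg.Agent.Lib.Helper27.LeechHS2

set_option autoImplicit false
set_option maxRecDepth 8000
open Cfsg

/-! A fixed-point-free involution on the hundred points of the Higman-Sims configuration:
in the frame where `v` is twice the indicator of a dodecad, the sign change on the complementary
dodecad. -/

namespace Cfsg.Agent.Helper27
open Cfsg.Agent.S0394 (FA FB FC idxA idxB fC mem_idxA mem_idxB mem_octads_iff aJW odd_fC famC_mem
  octF mem_octF instFintypeGolayCode card_golayCode fC_injective famB_mem)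


/-- A lattice vector with a vanishing coordinate has coordinate sum divisible by eight. -/
theorem sum_dvd_of_apply_zero {x : GolayPt → ℤ} (hx : x ∈ leechLattice) {i : GolayPt}
    (hi : x i = 0) : (8 : ℤ) ∣ ∑ j, x j := by
  obtain ⟨m, a, ha, -, hs⟩ := mem_leechLattice_iff.mp hx
  rw [sum_eq_of_form ha]
  have h1 := ha i
  rw [hi] at h1
  obtain ⟨t, ht⟩ := hs
  exact ⟨t - 7 * a i, by linarith⟩

/-- A dodecad avoiding `∞` and `0`. -/
def c12 : GolayPt → ZMod 2 := ofMask (cw 2)

theorem c12_mem : c12 ∈ golayCode := Cfsg.Agent.Helper29.cw_mem 2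

/-- Twice the indicator of the complementary dodecad. -/
def vD : GolayPt → ℤ := fun i => if c12 i = 0 then 2 else 0

def aD : GolayPt → ℤ := fun i => if c12 i = 0 then 1 else 0

theorem vD_mem : vD ∈ leechLattice := by
  have h : vD = fun i => 2 * aD i := by
    funext i; unfold vD aD; split_ifs <;> norm_num
  rw [h]
  apply mem_of_even_form
  · have : red2 aD = c12 + 1 := by
      funext i
      unfold red2 aD
      rw [Pi.add_apply, Pi.one_apply]
      rcases zmod2_cases (c12 i) with h0 | h0
      · rw [if_pos h0, h0]; decide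
      · rw [if_neg (by rw [h0]; decide), h0]; decide
    rw [this]
    exact add_mem c12_mem one_mem_golayCode
  · have : ∑ i, aD i = 12 := by decide
    rw [this]; norm_num

theorem vD_norm : sqNorm vD = 48 := by decide

theorem vD_apply_none : vD none = 2 := by decide
theorem vD_apply_zero : vD (some 0) = 2 := by decide

theorem dotInt_vD (x : GolayPt → ℤ) (hx : ∀ i ∈ support₂ c12, x i = 0) :
    dotInt vD x = 2 * ∑ i, x i := by
  unfold dotInt vD
  rw [Finset.mul_sum]
  apply Finset.sum_congr rfl
  intro i _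
  by_cases h : c12 i = 0
  · rw [if_pos h]
  · rw [if_neg h, hx i (mem_support₂.mpr h)]; ring

def VD : leechLattice := ⟨vD, vD_mem⟩
def WD : leechLattice := V44 - VD

theorem dotInt_vD_v44 : dotInt vD v44 = 16 := by
  rw [dotInt_comm', dotInt_v44, vD_apply_none, vD_apply_zero]; norm_num

theorem WD_norm : sqNorm (WD : GolayPt → ℤ) = 48 := by
  show sqNorm (v44 - vD) = 48
  rw [sqNorm_sub', v44_norm, vD_norm, dotInt_comm', dotInt_vD_v44]; norm_num

theorem dotInt_VD_WD : dotInt (VD : GolayPt → ℤ) (WD : GolayPt → ℤ) = -32 := by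
  show dotInt vD (v44 - vD) = -32
  rw [dotInt_sub_right', dotInt_vD_v44, dotInt_self', vD_norm]; norm_num

/-- The sign change on the dodecad. -/
def gD : Co0 := epsG c12 c12_mem

theorem signChange_eq_self {C : Finset GolayPt} {x : GolayPt → ℤ} :
    signChange C x = x ↔ ∀ i ∈ C, x i = 0 := by
  constructor
  · intro h i hi
    have := congrFun h i
    unfold signChange at this
    rw [if_pos hi] at this
    linarith
  · intro h
    funext i
    unfold signChange
    by_cases hi : i ∈ C
    · rw [if_pos hi, h i hi]; rfl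
    · rw [if_neg hi]

theorem gD_smul_eq_iff (x : leechLattice) :
    gD • x = x ↔ ∀ i ∈ support₂ c12, x.1 i = 0 := by
  rw [← signChange_eq_self]
  constructor
  · intro h
    have := congrArg Subtype.val h
    exact this
  · intro h
    exact Subtype.ext h

theorem gD_VD : gD • VD = VD := by
  rw [gD_smul_eq_iff]
  intro i hi
  show vD i = 0
  unfold vD
  rw [if_neg (mem_support₂.mp hi)]

theorem gD_V44 : gD • V44 = V44 := by
  rw [gD_smul_eq_iff]
  show ∀ i ∈ support₂ c12, v44 i = 0
  decide

theorem gD_WD : gD • WD = WD := by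
  unfold WD
  rw [smul_sub', gD_VD, gD_V44]

theorem gD_sq : gD * gD = 1 := by
  apply Subtype.ext
  apply Equiv.ext
  intro x
  apply Subtype.ext
  show signChange (support₂ c12) (signChange (support₂ c12) x.1) = x.1
  exact signChange_signChange _ _

theorem gD_ne_one : gD ≠ 1 := by
  intro h
  have h1 : gD • (⟨vec44 none (some 1) 1, vec44_mem _ _ _ (Or.inl rfl)⟩ : leechLattice) =
      ⟨vec44 none (some 1) 1, vec44_mem _ _ _ (Or.inl rfl)⟩ := by rw [h, one_smul]
  rw [gD_smul_eq_iff] at h1
  have h2 := h1 (some 1) (by decide)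
  revert h2
  decide

theorem gD_order : orderOf gD = 2 :=
  orderOf_eq_prime (by rw [pow_two]; exact gD_sq) gD_ne_one

theorem gD_no_fixed {x : leechLattice} (hx : x ∈ hsSet VD WD) : gD • x ≠ x := by
  intro h
  rw [gD_smul_eq_iff] at h
  have h24 := hx.2.1
  have e : dotInt (VD : GolayPt → ℤ) (x : GolayPt → ℤ) = 2 * ∑ i, x.1 i := dotInt_vD x.1 h
  rw [e] at h24
  have h8 := sum_dvd_of_apply_zero x.2 (h (some 1) (by decide))
  omega

/-- Some involution of the joint stabiliser acts without fixed points on the hundred. -/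
theorem hs_fpf_involution {v w : leechLattice} (hv : sqNorm (v : GolayPt → ℤ) = 48)
    (hw : sqNorm (w : GolayPt → ℤ) = 48)
    (hvw : dotInt (v : GolayPt → ℤ) (w : GolayPt → ℤ) = -32) :
    ∃ g : Co0, g • v = v ∧ g • w = w ∧ orderOf g = 2 ∧ ∀ x ∈ hsSet v w, g • x ≠ x := by
  obtain ⟨g1, a1, a2⟩ := exists_std_pair hv hw hvw
  obtain ⟨g2, b1, b2⟩ := exists_std_pair (v := VD) (w := WD) vD_norm WD_norm dotInt_VD_WD
  have c1 : (g2⁻¹ * g1) • v = VD := by rw [mul_smul, a1, ← b1, inv_smul_smul]
  have c2 : (g2⁻¹ * g1) • (v + w) = VD + WD := by rw [mul_smul, a2, ← b2, inv_smul_smul]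
  have c3 : (g2⁻¹ * g1) • w = WD := by
    rw [smul_add', c1] at c2
    exact add_left_cancel c2
  set h := g2⁻¹ * g1 with hh
  have hG2 : (h⁻¹ * gD * h) * (h⁻¹ * gD * h) = 1 := by
    have : (h⁻¹ * gD * h) * (h⁻¹ * gD * h) = h⁻¹ * (gD * gD) * h := by group
    rw [this, gD_sq]; group
  have hG1 : h⁻¹ * gD * h ≠ 1 := by
    intro hc
    apply gD_ne_one
    have : gD = h * (h⁻¹ * gD * h) * h⁻¹ := by group
    rw [this, hc]; group
  refine ⟨h⁻¹ * gD * h, ?_, ?_, orderOf_eq_prime (by rw [pow_two]; exact hG2) hG1, ?_⟩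
  · rw [mul_smul, mul_smul, c1, gD_VD, ← c1, inv_smul_smul]
  · rw [mul_smul, mul_smul, c3, gD_WD, ← c3, inv_smul_smul]
  · intro x hx hfix
    have hx' : h • x ∈ hsSet VD WD := by
      refine ⟨by rw [smul_norm]; exact hx.1, ?_, ?_⟩
      · rw [← c1, smul_dot]; exact hx.2.1
      · rw [← c3, smul_dot]; exact hx.2.2
    apply gD_no_fixed hx'
    have := congrArg (fun y => h • y) hfix
    simp only [mul_smul, smul_inv_smul] at this
    exact this


end Cfsg.Agent.Helper27
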