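import Mathlib
import Cfsg.Prelude.Def_Sporadic_a

set_option autoImplicit false
set_option linter.unusedSectionVars false
set_option maxRecDepth 4000

/-! An even integral form of rank 24 without vectors of norm 2 and with the stated numbers of vectors of norms 4, 6, 8: counting classes modulo 2 shows that every norm-8 vector lies in a class of 48 pairwise orthogonal or opposite vectors. -/

namespace Cfsg.Agent.Helper27.LeechUniq


open Matrix Finset

/-- The bilinear form of an integral matrix. -/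
def bf (B : Matrix (Fin 24) (Fin 24) ℤ) (x y : Fin 24 → ℤ) : ℤ := x ⬝ᵥ (B *ᵥ y)

/-- The quadratic form. -/
def qf (B : Matrix (Fin 24) (Fin 24) ℤ) (x : Fin 24 → ℤ) : ℤ := bf B x x

variable {B : Matrix (Fin 24) (Fin 24) ℤ}

theorem bf_add_left (x y z : Fin 24 → ℤ) : bf B (x + y) z = bf B x z + bf B y z := by
  unfold bf; rw [add_dotProduct]

theorem bf_add_right (x y z : Fin 24 → ℤ) : bf B x (y + z) = bf B x y + bf B x z := by
  unfold bf; rw [mulVec_add, dotProduct_add]

theorem bf_smul_left (k : ℤ) (x y : Fin 24 → ℤ) : bf B (k • x) y = k * bf B x y := by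
  unfold bf; rw [smul_dotProduct, smul_eq_mul]

theorem bf_smul_right (k : ℤ) (x y : Fin 24 → ℤ) : bf B x (k • y) = k * bf B x y := by
  unfold bf; rw [mulVec_smul, dotProduct_smul, smul_eq_mul]

theorem bf_neg_left (x y : Fin 24 → ℤ) : bf B (-x) y = -bf B x y := by
  unfold bf; rw [neg_dotProduct]

theorem bf_neg_right (x y : Fin 24 → ℤ) : bf B x (-y) = -bf B x y := by
  unfold bf; rw [mulVec_neg, dotProduct_neg]

theorem bf_sub_left (x y z : Fin 24 → ℤ) : bf B (x - y) z = bf B x z - bf B y z := by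
  rw [sub_eq_add_neg, bf_add_left, bf_neg_left, sub_eq_add_neg]

theorem bf_sub_right (x y z : Fin 24 → ℤ) : bf B x (y - z) = bf B x y - bf B x z := by
  rw [sub_eq_add_neg, bf_add_right, bf_neg_right, sub_eq_add_neg]

theorem bf_zero_left (y : Fin 24 → ℤ) : bf B 0 y = 0 := by
  unfold bf; rw [zero_dotProduct]

theorem bf_zero_right (x : Fin 24 → ℤ) : bf B x 0 = 0 := by
  unfold bf; rw [mulVec_zero, dotProduct_zero]

theorem bf_sum_left {ι : Type*} (s : Finset ι) (f : ι → Fin 24 → ℤ) (y : Fin 24 → ℤ) :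
    bf B (∑ i ∈ s, f i) y = ∑ i ∈ s, bf B (f i) y := by
  classical
  induction s using Finset.induction_on with
  | empty => simp [bf_zero_left]
  | insert a s ha ih => rw [sum_insert ha, sum_insert ha, bf_add_left, ih]

theorem bf_comm (hB : B.IsSymm) (x y : Fin 24 → ℤ) : bf B x y = bf B y x := by
  unfold bf
  rw [dotProduct_mulVec, ← mulVec_transpose, hB.eq, dotProduct_comm]

theorem qf_add (hB : B.IsSymm) (x y : Fin 24 → ℤ) :
    qf B (x + y) = qf B x + qf B y + 2 * bf B x y := by
  unfold qf
  rw [bf_add_left, bf_add_right, bf_add_right, bf_comm hB y x]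
  ring

theorem qf_sub (hB : B.IsSymm) (x y : Fin 24 → ℤ) :
    qf B (x - y) = qf B x + qf B y - 2 * bf B x y := by
  unfold qf
  rw [bf_sub_left, bf_sub_right, bf_sub_right, bf_comm hB y x]
  ring

theorem qf_neg (x : Fin 24 → ℤ) : qf B (-x) = qf B x := by
  unfold qf; rw [bf_neg_left, bf_neg_right, neg_neg]

theorem qf_smul (k : ℤ) (x : Fin 24 → ℤ) : qf B (k • x) = k * k * qf B x := by
  unfold qf; rw [bf_smul_left, bf_smul_right]; ring

theorem qf_zero : qf B 0 = 0 := bf_zero_left 0

/-- The hypotheses on the lattice. -/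
structure Hyp (B : Matrix (Fin 24) (Fin 24) ℤ) : Prop where
  symm : B.IsSymm
  pos : ∀ x : Fin 24 → ℤ, x ≠ 0 → 0 < qf B x
  even : ∀ x : Fin 24 → ℤ, (2 : ℤ) ∣ qf B x
  no2 : ∀ x : Fin 24 → ℤ, qf B x ≠ 2

theorem Hyp.four_le (h : Hyp B) {x : Fin 24 → ℤ} (hx : x ≠ 0) : 4 ≤ qf B x := by
  have h1 := h.pos x hx
  obtain ⟨k, hk⟩ := h.even x
  have h2 := h.no2 x
  omega

theorem Hyp.eq_zero_of_qf (h : Hyp B) {x : Fin 24 → ℤ} (hx : qf B x = 0) : x = 0 := by
  by_contra hne
  have := h.pos x hne
  omega

theorem Hyp.qf_nonneg (h : Hyp B) (x : Fin 24 → ℤ) : 0 ≤ qf B x := by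
  by_cases hx : x = 0
  · rw [hx, qf_zero]
  · exact (h.pos x hx).le




open Matrix Finset

variable {B : Matrix (Fin 24) (Fin 24) ℤ}

/-- Pairwise orthogonal nonzero vectors are linearly independent. -/
theorem linearIndependent_of_orth (h : Hyp B) {ι : Type*} (v : ι → Fin 24 → ℤ)
    (hne : ∀ i, v i ≠ 0) (horth : ∀ i j, i ≠ j → bf B (v i) (v j) = 0) :
    LinearIndependent ℤ v := by
  classical
  rw [linearIndependent_iff']
  intro s g hg j hj
  have h1 : bf B (∑ i ∈ s, g i • v i) (v j) = 0 := by rw [hg, bf_zero_left]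
  rw [bf_sum_left, sum_eq_single j] at h1
  · rw [bf_smul_left] at h1
    have hq : 0 < qf B (v j) := h.pos _ (hne j)
    rcases mul_eq_zero.mp h1 with h2 | h2
    · exact h2
    · unfold qf at hq; omega
  · intro i _ hij
    rw [bf_smul_left, horth i j hij, mul_zero]
  · intro hjs; exact absurd hj hjs

/-- At most 24 pairwise orthogonal nonzero vectors. -/
theorem card_le_of_orth (h : Hyp B) {ι : Type*} [Fintype ι] (v : ι → Fin 24 → ℤ)
    (hne : ∀ i, v i ≠ 0) (horth : ∀ i j, i ≠ j → bf B (v i) (v j) = 0) :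
    Fintype.card ι ≤ 24 := by
  have := (linearIndependent_of_orth h v hne horth).fintype_card_le_finrank
  rwa [Module.finrank_fin_fun] at this

/-- A finite set of pairwise orthogonal nonzero vectors has at most 24 members. -/
theorem finset_card_le_of_orth (h : Hyp B) (T : Finset (Fin 24 → ℤ))
    (hne : ∀ x ∈ T, x ≠ 0) (horth : ∀ x ∈ T, ∀ y ∈ T, x ≠ y → bf B x y = 0) : T.card ≤ 24 := by
  have := card_le_of_orth h (fun x : T => x.1) (fun x => hne x.1 x.2)
    (fun x y hxy => horth x.1 x.2 y.1 y.2 (fun e => hxy (Subtype.ext e)))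
  rwa [Fintype.card_coe] at this

/-- Reduction modulo 2. -/
def red (x : Fin 24 → ℤ) : Fin 24 → ZMod 2 := fun i => (x i : ZMod 2)

theorem red_add (x y : Fin 24 → ℤ) : red (x + y) = red x + red y := by
  funext i; simp [red]

theorem red_neg (x : Fin 24 → ℤ) : red (-x) = red x := by
  funext i
  simp only [red, Pi.neg_apply, Int.cast_neg]
  generalize ((x i : ℤ) : ZMod 2) = a
  revert a; decide

theorem red_sub (x y : Fin 24 → ℤ) : red (x - y) = red x + red y := by
  rw [sub_eq_add_neg, red_add, red_neg]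

theorem red_eq_zero_iff (x : Fin 24 → ℤ) : red x = 0 ↔ ∃ z : Fin 24 → ℤ, x = (2 : ℤ) • z := by
  constructor
  · intro hx
    have : ∀ i, (2 : ℤ) ∣ x i := by
      intro i
      have := congrFun hx i
      simp only [red, Pi.zero_apply] at this
      exact (ZMod.intCast_zmod_eq_zero_iff_dvd (x i) 2).mp this
    choose z hz using this
    exact ⟨z, funext fun i => by simp [hz i]⟩
  · rintro ⟨z, rfl⟩
    funext i
    simp only [red, Pi.smul_apply, smul_eq_mul, Int.cast_mul, Int.cast_ofNat, Pi.zero_apply]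
    have : (2 : ZMod 2) = 0 := by decide
    rw [this, zero_mul]

theorem red_eq_iff (x y : Fin 24 → ℤ) : red x = red y ↔ ∃ z : Fin 24 → ℤ, x - y = (2 : ℤ) • z := by
  rw [← red_eq_zero_iff, red_sub]
  constructor
  · intro hxy; rw [hxy]
    funext i
    simp only [Pi.add_apply, Pi.zero_apply]
    generalize red y i = a
    revert a; decide
  · intro hxy
    funext i
    have := congrFun hxy i
    simp only [Pi.add_apply, Pi.zero_apply] at this
    generalize red x i = a at this
    generalize red y i = b at this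
    revert a b; decide

/-- Two short vectors congruent modulo `2L`, neither equal nor opposite, are orthogonal of
norm 8. -/
theorem short_congr (h : Hyp B) {x y : Fin 24 → ℤ} (hx : qf B x ≤ 8) (hy : qf B y ≤ 8)
    (hxy : red x = red y) (hne : x ≠ y) (hne' : x ≠ -y) :
    qf B x = 8 ∧ qf B y = 8 ∧ bf B x y = 0 := by
  obtain ⟨z, hz⟩ := (red_eq_iff x y).mp hxy
  have hz0 : z ≠ 0 := by
    rintro rfl
    rw [smul_zero, sub_eq_zero] at hz
    exact hne hz
  have h1 : qf B (x - y) = 4 * qf B z := by rw [hz, qf_smul]; ring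
  have hz' : x + y = (2 : ℤ) • (z + y) := by
    have : x = (2 : ℤ) • z + y := by rw [← hz]; abel
    rw [this, smul_add]; simp only [two_smul]; abel
  have hzy0 : z + y ≠ 0 := by
    intro e
    rw [e, smul_zero] at hz'
    exact hne' (eq_neg_of_add_eq_zero_left hz')
  have h2 : qf B (x + y) = 4 * qf B (z + y) := by rw [hz', qf_smul]; ring
  have h3 := h.four_le hz0
  have h4 := h.four_le hzy0
  have h5 := qf_add h.symm x y
  have h6 := qf_sub h.symm x y
  refine ⟨by omega, by omega, by omega⟩




open Matrix Finset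

variable {B : Matrix (Fin 24) (Fin 24) ℤ}

/-- Pairwise orthogonality of a finite set. -/
def POrth (B : Matrix (Fin 24) (Fin 24) ℤ) (T : Finset (Fin 24 → ℤ)) : Prop :=
  ∀ a ∈ T, ∀ b ∈ T, a ≠ b → bf B a b = 0

/-- In a class of norm-8 vectors modulo `2L`, a maximal orthogonal subset meets every pair
`±y`. -/
theorem exists_max_orth (h : Hyp B) (Φ : Finset (Fin 24 → ℤ)) (hq : ∀ y ∈ Φ, qf B y = 8)
    (hr : ∀ y ∈ Φ, ∀ y' ∈ Φ, red y = red y') :
    ∃ T : Finset (Fin 24 → ℤ), T ⊆ Φ ∧ POrth B T ∧ T.card ≤ 24 ∧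
      ∀ y ∈ Φ, y ∈ T ∨ -y ∈ T := by
  classical
  have hne : (Φ.powerset.filter (fun T => POrth B T)).Nonempty :=
    ⟨∅, by
      rw [mem_filter, mem_powerset]
      exact ⟨empty_subset _, fun a ha => absurd ha (notMem_empty a)⟩⟩
  obtain ⟨T, hT, hmax⟩ := exists_max_image _ Finset.card hne
  rw [mem_filter, mem_powerset] at hT
  have hT0 : ∀ x ∈ T, x ≠ 0 := by
    intro x hx e
    have := hq x (hT.1 hx)
    rw [e, qf_zero] at this
    omega
  refine ⟨T, hT.1, hT.2, finset_card_le_of_orth h T hT0 hT.2, ?_⟩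
  intro y hy
  by_contra hcon
  push Not at hcon
  have hins : POrth B (insert y T) := by
    have key : ∀ t ∈ T, bf B t y = 0 := by
      intro t ht
      have hty : t ≠ y := fun e => hcon.1 (e ▸ ht)
      have hty' : t ≠ -y := fun e => hcon.2 (e ▸ ht)
      exact (short_congr h (hq t (hT.1 ht)).le (hq y hy).le (hr t (hT.1 ht) y hy) hty hty').2.2
    intro a ha b hb hab
    rw [mem_insert] at ha hb
    rcases ha with rfl | ha <;> rcases hb with rfl | hb
    · exact absurd rfl hab
    · rw [bf_comm h.symm]; exact key b hb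
    · exact key a ha
    · exact hT.2 a ha b hb hab
  have hmem : insert y T ∈ Φ.powerset.filter (fun T => POrth B T) := by
    rw [mem_filter, mem_powerset]
    exact ⟨insert_subset hy hT.1, hins⟩
  have := hmax _ hmem
  rw [card_insert_of_notMem hcon.1] at this
  omega

/-- A class of norm-8 vectors modulo `2L` has at most 48 members. -/
theorem card_class_le (h : Hyp B) (Φ : Finset (Fin 24 → ℤ)) (hq : ∀ y ∈ Φ, qf B y = 8)
    (hr : ∀ y ∈ Φ, ∀ y' ∈ Φ, red y = red y') : Φ.card ≤ 48 := by
  classical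
  obtain ⟨T, _, _, hc, hcov⟩ := exists_max_orth h Φ hq hr
  have hsub : Φ ⊆ T ∪ T.image (fun x : Fin 24 → ℤ => -x) := by
    intro y hy
    rw [mem_union, mem_image]
    rcases hcov y hy with h1 | h1
    · exact Or.inl h1
    · exact Or.inr ⟨-y, h1, neg_neg y⟩
  calc Φ.card ≤ (T ∪ T.image (fun x : Fin 24 → ℤ => -x)).card := card_le_card hsub
    _ ≤ T.card + (T.image (fun x : Fin 24 → ℤ => -x)).card := card_union_le _ _
    _ ≤ T.card + T.card := Nat.add_le_add_left (card_image_le (s := T) (f := fun x : Fin 24 → ℤ => -x)) _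
    _ ≤ 48 := by omega

/-- If the class has 48 members, there is an orthogonal frame of 24 of them. -/
theorem exists_frame_of_class (h : Hyp B) (Φ : Finset (Fin 24 → ℤ)) (hq : ∀ y ∈ Φ, qf B y = 8)
    (hr : ∀ y ∈ Φ, ∀ y' ∈ Φ, red y = red y') (hc : Φ.card = 48) :
    ∃ T : Finset (Fin 24 → ℤ), T ⊆ Φ ∧ POrth B T ∧ T.card = 24 := by
  classical
  obtain ⟨T, hT, hO, hc', hcov⟩ := exists_max_orth h Φ hq hr
  refine ⟨T, hT, hO, ?_⟩
  have hsub : Φ ⊆ T ∪ T.image (fun x : Fin 24 → ℤ => -x) := by
    intro y hy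
    rw [mem_union, mem_image]
    rcases hcov y hy with h1 | h1
    · exact Or.inl h1
    · exact Or.inr ⟨-y, h1, neg_neg y⟩
  have : Φ.card ≤ T.card + T.card :=
    calc Φ.card ≤ (T ∪ T.image (fun x : Fin 24 → ℤ => -x)).card := card_le_card hsub
      _ ≤ T.card + (T.image (fun x : Fin 24 → ℤ => -x)).card := card_union_le _ _
      _ ≤ T.card + T.card := Nat.add_le_add_left (card_image_le (s := T) (f := fun x : Fin 24 → ℤ => -x)) _
  omega




open Matrix Finset

variable {B : Matrix (Fin 24) (Fin 24) ℤ}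

theorem ne_neg_self {x : Fin 24 → ℤ} (hx : x ≠ 0) : x ≠ -x := by
  intro e
  apply hx
  funext i
  have := congrFun e i
  simp only [Pi.neg_apply, Pi.zero_apply] at this ⊢
  omega

/-- For norms 4 and 6 the classes modulo `2L` are the pairs `±x`. -/
theorem card_eq_two_mul_image (h : Hyp B) (F : Finset (Fin 24 → ℤ)) (k : ℤ) (hk : 0 < k)
    (hk8 : k < 8) (hF : ∀ x, x ∈ F ↔ qf B x = k) : F.card = 2 * (F.image red).card := by
  classical
  rw [card_eq_sum_card_fiberwise (f := red) (t := F.image red)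
    (fun x hx => mem_image_of_mem red hx)]
  have : ∀ c ∈ F.image red, (F.filter (fun x => red x = c)).card = 2 := by
    intro c hc
    obtain ⟨x, hx, rfl⟩ := mem_image.mp hc
    have hqx : qf B x = k := (hF x).mp hx
    have hx0 : x ≠ 0 := by
      rintro rfl
      rw [qf_zero] at hqx; omega
    have : F.filter (fun y => red y = red x) = {x, -x} := by
      ext y
      rw [mem_filter, mem_insert, mem_singleton]
      constructor
      · rintro ⟨hy, hyx⟩
        by_contra hcon
        push Not at hcon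
        have hqy : qf B y = k := (hF y).mp hy
        have := short_congr h (by omega) (by omega) hyx hcon.1 hcon.2
        omega
      · rintro (rfl | rfl)
        · exact ⟨hx, rfl⟩
        · exact ⟨(hF _).mpr (by rw [qf_neg]; exact hqx), red_neg x⟩
    rw [this, card_pair (ne_neg_self hx0)]
  rw [sum_congr rfl this, sum_const, smul_eq_mul, mul_comm]

theorem card_zmod2_fun : Fintype.card (Fin 24 → ZMod 2) = 16777216 := by
  rw [Fintype.card_fun, ZMod.card, Fintype.card_fin]
  norm_num

/-- The counting argument: some class of norm-8 vectors modulo `2L` has exactly 48 members. -/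
theorem exists_full_class (h : Hyp B) (F4 F6 F8 : Finset (Fin 24 → ℤ))
    (h4 : ∀ x, x ∈ F4 ↔ qf B x = 4) (h6 : ∀ x, x ∈ F6 ↔ qf B x = 6)
    (h8 : ∀ x, x ∈ F8 ↔ qf B x = 8) (c4 : F4.card = 196560) (c6 : F6.card = 16773120)
    (c8 : F8.card = 398034000) :
    ∀ x ∈ F8, (F8.filter (fun y => red y = red x)).card = 48 := by
  classical
  have e4 := card_eq_two_mul_image h F4 4 (by norm_num) (by norm_num) h4
  have e6 := card_eq_two_mul_image h F6 6 (by norm_num) (by norm_num) h6
  -- the images are pairwise disjoint and miss 0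
  have disj : ∀ (F F' : Finset (Fin 24 → ℤ)) (k k' : ℤ), k ≤ 8 → k' ≤ 8 → k < k' →
      (∀ x, x ∈ F ↔ qf B x = k) → (∀ x, x ∈ F' ↔ qf B x = k') →
      Disjoint (F.image red) (F'.image red) := by
    intro F F' k k' hk hk' hkk hF hF'
    rw [disjoint_left]
    intro c hc hc'
    obtain ⟨x, hx, rfl⟩ := mem_image.mp hc
    obtain ⟨y, hy, hyx⟩ := mem_image.mp hc'
    have hqx := (hF x).mp hx
    have hqy := (hF' y).mp hy
    have hne : y ≠ x := by
      rintro rfl; omega
    have hne' : y ≠ -x := by
      rintro rfl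
      rw [qf_neg] at hqy; omega
    have := short_congr h (by omega) (by omega) hyx hne hne'
    omega
  have d46 := disj F4 F6 4 6 (by norm_num) (by norm_num) (by norm_num) h4 h6
  have d48 := disj F4 F8 4 8 (by norm_num) (by norm_num) (by norm_num) h4 h8
  have d68 := disj F6 F8 6 8 (by norm_num) (by norm_num) (by norm_num) h6 h8
  have zero_notMem : ∀ (F : Finset (Fin 24 → ℤ)) (k : ℤ), 0 < k → k ≤ 8 →
      (∀ x, x ∈ F ↔ qf B x = k) → (0 : Fin 24 → ZMod 2) ∉ F.image red := by
    intro F k hk hk' hF hc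
    obtain ⟨x, hx, hx0⟩ := mem_image.mp hc
    have hqx := (hF x).mp hx
    have hx0' : x ≠ 0 := by
      rintro rfl
      rw [qf_zero] at hqx; omega
    have hr : red x = red 0 := by
      rw [hx0]; funext i; simp [red]
    have := short_congr h (by omega) (by rw [qf_zero]; norm_num) hr hx0'
      (by rw [neg_zero]; exact hx0')
    rw [qf_zero] at this
    omega
  have z4 := zero_notMem F4 4 (by norm_num) (by norm_num) h4
  have z6 := zero_notMem F6 6 (by norm_num) (by norm_num) h6
  have z8 := zero_notMem F8 8 (by norm_num) (by norm_num) h8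
  -- bound on the number of norm-8 classes
  have hU : (insert (0 : Fin 24 → ZMod 2) (F4.image red ∪ (F6.image red ∪ F8.image red))).card
      ≤ 16777216 := by
    rw [← card_zmod2_fun]
    exact card_le_univ _
  rw [card_insert_of_notMem (by
      rw [mem_union, mem_union]
      rintro (h1 | h1 | h1)
      · exact z4 h1
      · exact z6 h1
      · exact z8 h1),
    card_union_of_disjoint (by
      rw [disjoint_union_right]; exact ⟨d46, d48⟩),
    card_union_of_disjoint d68] at hU
  have hI8 : (F8.image red).card ≤ 8292375 := by omega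
  -- every class has at most 48 members
  have hle : ∀ c ∈ F8.image red, (F8.filter (fun y => red y = c)).card ≤ 48 := by
    intro c _
    apply card_class_le h
    · intro y hy
      exact (h8 y).mp (mem_filter.mp hy).1
    · intro y hy y' hy'
      rw [(mem_filter.mp hy).2, (mem_filter.mp hy').2]
  have hsum := card_eq_sum_card_fiberwise (s := F8) (f := red) (t := F8.image red)
    (fun x hx => mem_image_of_mem red hx)
  intro x hx
  by_contra hcon
  have hxc : red x ∈ F8.image red := mem_image_of_mem red hx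
  have hlt : (F8.filter (fun y => red y = red x)).card < 48 :=
    lt_of_le_of_ne (hle _ hxc) hcon
  have : ∑ c ∈ F8.image red, (F8.filter (fun y => red y = c)).card
      < ∑ _c ∈ F8.image red, 48 :=
    sum_lt_sum hle ⟨red x, hxc, hlt⟩
  rw [sum_const, smul_eq_mul, ← hsum, c8] at this
  omega


end Cfsg.Agent.Helper27.LeechUniq
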