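import Mathlib
import Cfsg.Agent.Lib.Helper27.LeechUniqA

set_option autoImplicit false
set_option linter.unusedSectionVars false
set_option maxRecDepth 4000

/-! Orthogonal frames of norm-8 vectors, coordinates with respect to a frame, and the binary code of the even vectors: self-orthogonal, doubly even, minimum weight at least 8. -/

namespace Cfsg.Agent.Helper27.LeechUniq


open Matrix Finset

variable {B : Matrix (Fin 24) (Fin 24) ℤ}

/-- An orthogonal frame of 24 norm-8 vectors, congruent modulo `2L`. -/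
structure Frame (B : Matrix (Fin 24) (Fin 24) ℤ) (v : Fin 24 → Fin 24 → ℤ) : Prop where
  norm : ∀ i, qf B (v i) = 8
  orth : ∀ i j, i ≠ j → bf B (v i) (v j) = 0
  congr : ∀ i j, red (v i) = red (v j)

theorem exists_frame (h : Hyp B)
    (h4 : {x : Fin 24 → ℤ | qf B x = 4}.ncard = 196560)
    (h6 : {x : Fin 24 → ℤ | qf B x = 6}.ncard = 16773120)
    (h8 : {x : Fin 24 → ℤ | qf B x = 8}.ncard = 398034000) :
    ∃ v : Fin 24 → Fin 24 → ℤ, Frame B v := by
  classical
  have f4 : {x : Fin 24 → ℤ | qf B x = 4}.Finite :=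
    Set.finite_of_ncard_ne_zero (by rw [h4]; norm_num)
  have f6 : {x : Fin 24 → ℤ | qf B x = 6}.Finite :=
    Set.finite_of_ncard_ne_zero (by rw [h6]; norm_num)
  have f8 : {x : Fin 24 → ℤ | qf B x = 8}.Finite :=
    Set.finite_of_ncard_ne_zero (by rw [h8]; norm_num)
  have c4 : f4.toFinset.card = 196560 := by rw [← Set.ncard_eq_toFinset_card _ f4, h4]
  have c6 : f6.toFinset.card = 16773120 := by rw [← Set.ncard_eq_toFinset_card _ f6, h6]
  have c8 : f8.toFinset.card = 398034000 := by rw [← Set.ncard_eq_toFinset_card _ f8, h8]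
  have m4 : ∀ x, x ∈ f4.toFinset ↔ qf B x = 4 := fun x => f4.mem_toFinset
  have m6 : ∀ x, x ∈ f6.toFinset ↔ qf B x = 6 := fun x => f6.mem_toFinset
  have m8 : ∀ x, x ∈ f8.toFinset ↔ qf B x = 8 := fun x => f8.mem_toFinset
  have hfull := exists_full_class h _ _ _ m4 m6 m8 c4 c6 c8
  obtain ⟨x0, hx0⟩ : f8.toFinset.Nonempty := by
    rw [← card_pos, c8]; norm_num
  set Φ := f8.toFinset.filter (fun y => red y = red x0) with hΦ
  have hq : ∀ y ∈ Φ, qf B y = 8 := fun y hy => (m8 y).mp (mem_filter.mp hy).1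
  have hr : ∀ y ∈ Φ, ∀ y' ∈ Φ, red y = red y' := by
    intro y hy y' hy'
    rw [(mem_filter.mp hy).2, (mem_filter.mp hy').2]
  obtain ⟨T, hT, hO, hc⟩ := exists_frame_of_class h Φ hq hr (hfull x0 hx0)
  let e := T.equivFinOfCardEq hc
  refine ⟨fun i => (e.symm i).1, ⟨?_, ?_, ?_⟩⟩
  · intro i
    exact hq _ (hT (e.symm i).2)
  · intro i j hij
    apply hO _ (e.symm i).2 _ (e.symm j).2
    intro heq
    exact hij (e.symm.injective (Subtype.ext heq))
  · intro i j
    exact hr _ (hT (e.symm i).2) _ (hT (e.symm j).2)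

/-- The coordinates of a vector with respect to a frame. -/
def coord (B : Matrix (Fin 24) (Fin 24) ℤ) (v : Fin 24 → Fin 24 → ℤ) (x : Fin 24 → ℤ) :
    Fin 24 → ℤ := fun i => bf B x (v i)

variable {v : Fin 24 → Fin 24 → ℤ}

theorem coord_add (x y : Fin 24 → ℤ) : coord B v (x + y) = coord B v x + coord B v y := by
  funext i; simp [coord, bf_add_left]

theorem coord_neg (x : Fin 24 → ℤ) : coord B v (-x) = -coord B v x := by
  funext i; simp [coord, bf_neg_left]

theorem coord_sub (x y : Fin 24 → ℤ) : coord B v (x - y) = coord B v x - coord B v y := by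
  funext i; simp [coord, bf_sub_left]

theorem coord_zero : coord B v 0 = 0 := by
  funext i; simp [coord, bf_zero_left]

theorem coord_smul (k : ℤ) (x : Fin 24 → ℤ) : coord B v (k • x) = k • coord B v x := by
  funext i
  show bf B (k • x) (v i) = k • bf B x (v i)
  rw [bf_smul_left, smul_eq_mul]

theorem Frame.ne_zero (hv : Frame B v) (i : Fin 24) : v i ≠ 0 := by
  intro e
  have := hv.norm i
  rw [e, qf_zero] at this
  omega

theorem Frame.bf_self (hv : Frame B v) (i : Fin 24) : bf B (v i) (v i) = 8 := hv.norm i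

theorem Frame.coord_self (hv : Frame B v) (i j : Fin 24) :
    coord B v (v i) j = if i = j then 8 else 0 := by
  unfold coord
  by_cases hij : i = j
  · rw [if_pos hij, ← hij]; exact hv.norm i
  · rw [if_neg hij]; exact hv.orth i j hij

/-- Expansion of a vector in a frame. -/
theorem Frame.expand (h : Hyp B) (hv : Frame B v) (x : Fin 24 → ℤ) :
    (8 : ℤ) • x = ∑ i, coord B v x i • v i := by
  classical
  set y := (8 : ℤ) • x - ∑ i, coord B v x i • v i with hy
  have hyv : ∀ j, bf B y (v j) = 0 := by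
    intro j
    rw [hy, bf_sub_left, bf_smul_left, bf_sum_left, sum_eq_single j]
    · rw [bf_smul_left, hv.bf_self]
      unfold coord
      ring
    · intro i _ hij
      rw [bf_smul_left, hv.orth i j hij, mul_zero]
    · intro hj; exact absurd (mem_univ j) hj
  have hy0 : y = 0 := by
    by_contra hne
    have := card_le_of_orth h (fun o : Option (Fin 24) => o.elim y v)
      (by
        rintro (_ | i)
        · exact hne
        · exact hv.ne_zero i)
      (by
        rintro (_ | i) (_ | j) hij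
        · exact absurd rfl hij
        · exact hyv j
        · show bf B (v i) y = 0
          rw [bf_comm h.symm]; exact hyv i
        · exact hv.orth i j (fun e => hij (by rw [e])))
    rw [Fintype.card_option, Fintype.card_fin] at this
    omega
  rw [hy, sub_eq_zero] at hy0
  exact hy0

/-- The frame coordinates turn the form into one eighth of the standard inner product. -/
theorem Frame.bf_eq (h : Hyp B) (hv : Frame B v) (x y : Fin 24 → ℤ) :
    8 * bf B x y = ∑ i, coord B v x i * coord B v y i := by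
  rw [← bf_smul_left, hv.expand h x, bf_sum_left]
  apply sum_congr rfl
  intro i _
  rw [bf_smul_left, bf_comm h.symm (v i) y]
  rfl

theorem Frame.qf_eq (h : Hyp B) (hv : Frame B v) (x : Fin 24 → ℤ) :
    8 * qf B x = ∑ i, coord B v x i ^ 2 := by
  unfold qf
  rw [hv.bf_eq h]
  exact sum_congr rfl (fun i _ => (sq _).symm)

theorem Frame.coord_injective (h : Hyp B) (hv : Frame B v) :
    Function.Injective (coord B v) := by
  intro x y hxy
  have h0 : coord B v (x - y) = 0 := by rw [coord_sub, hxy, sub_self]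
  have := hv.qf_eq h (x - y)
  rw [h0] at this
  simp only [Pi.zero_apply, ne_eq, OfNat.ofNat_ne_zero, not_false_eq_true, zero_pow,
    sum_const_zero] at this
  have hq : qf B (x - y) = 0 := by omega
  exact sub_eq_zero.mp (h.eq_zero_of_qf hq)




open Matrix Finset

variable {B : Matrix (Fin 24) (Fin 24) ℤ} {v : Fin 24 → Fin 24 → ℤ}

/-- The coordinate map as an additive homomorphism. -/
def coordHom (B : Matrix (Fin 24) (Fin 24) ℤ) (v : Fin 24 → Fin 24 → ℤ) :
    (Fin 24 → ℤ) →+ (Fin 24 → ℤ) where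
  toFun := coord B v
  map_zero' := coord_zero
  map_add' := coord_add

/-- The image of the lattice in coordinates. -/
def img (B : Matrix (Fin 24) (Fin 24) ℤ) (v : Fin 24 → Fin 24 → ℤ) :
    AddSubgroup (Fin 24 → ℤ) := (coordHom B v).range

theorem mem_img {y : Fin 24 → ℤ} : y ∈ img B v ↔ ∃ x, coord B v x = y := Iff.rfl

theorem coord_mem_img (x : Fin 24 → ℤ) : coord B v x ∈ img B v := ⟨x, rfl⟩

theorem Frame.coord_frame (hv : Frame B v) (i : Fin 24) :
    coord B v (v i) = Pi.single i 8 := by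
  funext j
  rw [hv.coord_self, Pi.single_apply]
  by_cases hij : i = j
  · rw [if_pos hij, if_pos hij.symm]
  · rw [if_neg hij, if_neg (fun e => hij e.symm)]

theorem Frame.single_eight_mem (hv : Frame B v) (i : Fin 24) :
    (Pi.single i 8 : Fin 24 → ℤ) ∈ img B v := ⟨v i, hv.coord_frame i⟩

/-- Half the difference of two frame vectors. -/
theorem Frame.exists_half_diff (hv : Frame B v) (i j : Fin 24) :
    ∃ z : Fin 24 → ℤ, coord B v z = Pi.single i 4 - Pi.single j 4 := by
  obtain ⟨z, hz⟩ := (red_eq_iff (v i) (v j)).mp (hv.congr i j)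
  refine ⟨z, ?_⟩
  have h1 : coord B v (v i - v j) = (2 : ℤ) • coord B v z := by rw [hz, coord_smul]
  rw [coord_sub, hv.coord_frame, hv.coord_frame] at h1
  funext k
  have := congrFun h1 k
  simp only [Pi.sub_apply, Pi.single_apply, Pi.smul_apply, smul_eq_mul] at this ⊢
  split_ifs at this ⊢ <;> omega

theorem Frame.diff_mem (hv : Frame B v) (i j : Fin 24) :
    (Pi.single i 4 - Pi.single j 4 : Fin 24 → ℤ) ∈ img B v := hv.exists_half_diff i j

/-- All coordinates of a lattice vector have the same parity. -/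
theorem Frame.parity (h : Hyp B) (hv : Frame B v) (x : Fin 24 → ℤ) (i j : Fin 24) :
    (2 : ℤ) ∣ coord B v x i - coord B v x j := by
  obtain ⟨z, hz⟩ := hv.exists_half_diff i j
  have h1 := hv.bf_eq h x z
  rw [hz] at h1
  have h2 : ∑ k, coord B v x k * (Pi.single i 4 - Pi.single j 4 : Fin 24 → ℤ) k
      = 4 * coord B v x i - 4 * coord B v x j := by
    simp only [Pi.sub_apply, mul_sub, sum_sub_distrib, Pi.single_apply, mul_ite, mul_zero,
      sum_ite_eq', mem_univ, if_true]
    ring
  rw [h2] at h1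
  exact ⟨bf B x z, by omega⟩

/-- The lattice contains four times every integer vector with even coordinate sum. -/
theorem Frame.four_smul_mem (hv : Frame B v) (z : Fin 24 → ℤ) (hz : (2 : ℤ) ∣ ∑ i, z i) :
    (4 : ℤ) • z ∈ img B v := by
  obtain ⟨k, hk⟩ := hz
  have key : (4 : ℤ) • z = ∑ i, z i • (Pi.single i 4 - Pi.single 0 4 : Fin 24 → ℤ)
      + k • (Pi.single 0 8 : Fin 24 → ℤ) := by
    funext j
    simp only [Pi.smul_apply, smul_eq_mul, Pi.add_apply, Finset.sum_apply, Pi.sub_apply,
      Pi.single_apply, mul_sub, mul_ite, mul_zero, sum_sub_distrib, sum_ite_eq, mem_univ,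
      if_true]
    by_cases hj : j = 0
    · simp only [hj, if_true, sum_const_zero]
      rw [← sum_mul, hk]; ring
    · simp only [hj, if_false, sum_const_zero]
      ring
  rw [key]
  apply add_mem
  · apply sum_mem
    intro i _
    exact (img B v).zsmul_mem (hv.diff_mem i 0) _
  · exact (img B v).zsmul_mem (hv.single_eight_mem 0) _




open Matrix Finset

variable {B : Matrix (Fin 24) (Fin 24) ℤ} {v : Fin 24 → Fin 24 → ℤ}

/-- Coordinatewise halving. -/
def half (y : Fin 24 → ℤ) : Fin 24 → ℤ := fun i => y i / 2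

theorem two_smul_half {y : Fin 24 → ℤ} (hy : ∀ i, (2 : ℤ) ∣ y i) : (2 : ℤ) • half y = y := by
  funext i
  simp only [Pi.smul_apply, smul_eq_mul, half]
  exact Int.mul_ediv_cancel' (hy i)

theorem half_add {y y' : Fin 24 → ℤ} (hy : ∀ i, (2 : ℤ) ∣ y i) :
    half (y + y') = half y + half y' := by
  funext i
  simp only [half, Pi.add_apply]
  exact Int.add_ediv_of_dvd_left (hy i)

theorem half_two_smul (a : Fin 24 → ℤ) : half ((2 : ℤ) • a) = a := by
  funext i
  simp [half]

theorem zmod2_cases (c : ZMod 2) : c = 0 ∨ c = 1 := by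
  revert c; decide

/-- The binary code of the even vectors: halves of even lattice vectors modulo 2. -/
def code (B : Matrix (Fin 24) (Fin 24) ℤ) (v : Fin 24 → Fin 24 → ℤ) :
    Submodule (ZMod 2) (Fin 24 → ZMod 2) where
  carrier := {w | ∃ y ∈ img B v, (∀ i, (2 : ℤ) ∣ y i) ∧ w = red (half y)}
  add_mem' := by
    rintro w w' ⟨y, hy, he, rfl⟩ ⟨y', hy', he', rfl⟩
    refine ⟨y + y', add_mem hy hy', fun i => dvd_add (he i) (he' i), ?_⟩
    rw [half_add he, red_add]
  zero_mem' := by
    refine ⟨0, zero_mem _, fun i => dvd_zero _, ?_⟩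
    funext i
    simp [red, half]
  smul_mem' := by
    rintro c w ⟨y, hy, he, rfl⟩
    rcases zmod2_cases c with rfl | rfl
    · rw [zero_smul]
      refine ⟨0, zero_mem _, fun i => dvd_zero _, ?_⟩
      funext i
      simp [red, half]
    · rw [one_smul]
      exact ⟨y, hy, he, rfl⟩

theorem mem_code {w : Fin 24 → ZMod 2} :
    w ∈ code B v ↔ ∃ y ∈ img B v, (∀ i, (2 : ℤ) ∣ y i) ∧ w = red (half y) := Iff.rfl

/-- A code word is represented by twice an integer vector in the lattice. -/
theorem mem_code_iff {w : Fin 24 → ZMod 2} :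
    w ∈ code B v ↔ ∃ a : Fin 24 → ℤ, (2 : ℤ) • a ∈ img B v ∧ w = red a := by
  rw [mem_code]
  constructor
  · rintro ⟨y, hy, he, rfl⟩
    exact ⟨half y, by rw [two_smul_half he]; exact hy, rfl⟩
  · rintro ⟨a, ha, rfl⟩
    refine ⟨(2 : ℤ) • a, ha, fun i => ⟨a i, by simp⟩, ?_⟩
    rw [half_two_smul]

theorem red_apply_eq_zero_iff (a : Fin 24 → ℤ) (i : Fin 24) : red a i = 0 ↔ (2 : ℤ) ∣ a i := by
  simp only [red]
  exact ZMod.intCast_zmod_eq_zero_iff_dvd (a i) 2

/-- The code is self-orthogonal. -/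
theorem Frame.code_orth (h : Hyp B) (hv : Frame B v) {w w' : Fin 24 → ZMod 2}
    (hw : w ∈ code B v) (hw' : w' ∈ code B v) : ∑ i, w i * w' i = 0 := by
  obtain ⟨a, ⟨x, hx⟩, rfl⟩ := mem_code_iff.mp hw
  obtain ⟨a', ⟨x', hx'⟩, rfl⟩ := mem_code_iff.mp hw'
  have hx1 : coord B v x = (2 : ℤ) • a := hx
  have hx1' : coord B v x' = (2 : ℤ) • a' := hx'
  have h1 := hv.bf_eq h x x'
  rw [hx1, hx1'] at h1
  have h2 : ∑ i, ((2 : ℤ) • a) i * ((2 : ℤ) • a') i = 4 * ∑ i, a i * a' i := by
    rw [mul_sum]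
    apply sum_congr rfl
    intro i _
    simp only [Pi.smul_apply, smul_eq_mul]; ring
  rw [h2] at h1
  have h3 : ∑ i, a i * a' i = 2 * bf B x x' := by omega
  have : ∑ i, red a i * red a' i = ((∑ i, a i * a' i : ℤ) : ZMod 2) := by
    rw [Int.cast_sum]
    apply sum_congr rfl
    intro i _
    simp [red]
  rw [this, h3]
  push_cast
  have : (2 : ZMod 2) = 0 := by decide
  rw [this, zero_mul]




open Matrix Finset

variable {B : Matrix (Fin 24) (Fin 24) ℤ} {v : Fin 24 → Fin 24 → ℤ}

theorem red_sub_two_smul (a z : Fin 24 → ℤ) : red (a - (2 : ℤ) • z) = red a := by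
  funext i
  simp only [red, Pi.sub_apply, Pi.smul_apply, smul_eq_mul, Int.cast_sub, Int.cast_mul,
    Int.cast_ofNat]
  have : (2 : ZMod 2) = 0 := by decide
  rw [this, zero_mul, sub_zero]

/-- Every nonzero code word has a representative with entries `0, ±1`. -/
theorem Frame.exists_normalized (hv : Frame B v) {w : Fin 24 → ZMod 2} (hw : w ∈ code B v)
    (hw0 : w ≠ 0) :
    ∃ a : Fin 24 → ℤ, (2 : ℤ) • a ∈ img B v ∧ red a = w ∧
      ∀ i, a i = 0 ∨ a i = 1 ∨ a i = -1 := by
  obtain ⟨a₀, ha₀, rfl⟩ := mem_code_iff.mp hw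
  set z : Fin 24 → ℤ := fun i => a₀ i / 2 with hz
  have hrem : ∀ i, a₀ i - 2 * z i = 0 ∨ a₀ i - 2 * z i = 1 := by
    intro i
    have := Int.emod_two_eq_zero_or_one (a₀ i)
    have h2 := Int.emod_add_mul_ediv (a₀ i) 2
    simp only [hz]
    omega
  by_cases hpar : (2 : ℤ) ∣ ∑ i, z i
  · refine ⟨a₀ - (2 : ℤ) • z, ?_, red_sub_two_smul a₀ z, ?_⟩
    · have h4 := hv.four_smul_mem z hpar
      have : (2 : ℤ) • (a₀ - (2 : ℤ) • z) = (2 : ℤ) • a₀ - (4 : ℤ) • z := by
        rw [smul_sub, smul_smul]; norm_num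
      rw [this]
      exact sub_mem ha₀ h4
    · intro i
      simp only [Pi.sub_apply, Pi.smul_apply, smul_eq_mul]
      rcases hrem i with h1 | h1
      · exact Or.inl h1
      · exact Or.inr (Or.inl h1)
  · -- adjust at a position of the support
    obtain ⟨i₀, hi₀⟩ : ∃ i₀, red a₀ i₀ ≠ 0 := by
      by_contra hcon
      push Not at hcon
      exact hw0 (funext hcon)
    have hodd : a₀ i₀ - 2 * z i₀ = 1 := by
      rcases hrem i₀ with h1 | h1
      · exfalso
        apply hi₀
        rw [red_apply_eq_zero_iff]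
        exact ⟨z i₀, by omega⟩
      · exact h1
    set z' : Fin 24 → ℤ := z + Pi.single i₀ 1 with hz'
    have hpar' : (2 : ℤ) ∣ ∑ i, z' i := by
      simp only [hz', Pi.add_apply, sum_add_distrib, Pi.single_apply, sum_ite_eq', mem_univ,
        if_true]
      have := Int.emod_two_eq_zero_or_one (∑ i, z i)
      have h3 : ¬ (∑ i, z i) % 2 = 0 := fun e => hpar (Int.dvd_of_emod_eq_zero e)
      exact Int.dvd_of_emod_eq_zero (by omega)
    refine ⟨a₀ - (2 : ℤ) • z', ?_, red_sub_two_smul a₀ z', ?_⟩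
    · have h4 := hv.four_smul_mem z' hpar'
      have : (2 : ℤ) • (a₀ - (2 : ℤ) • z') = (2 : ℤ) • a₀ - (4 : ℤ) • z' := by
        rw [smul_sub, smul_smul]; norm_num
      rw [this]
      exact sub_mem ha₀ h4
    · intro i
      simp only [hz', Pi.sub_apply, Pi.smul_apply, Pi.add_apply, smul_eq_mul, Pi.single_apply]
      by_cases hi : i = i₀
      · subst hi
        simp only [if_true]
        right; right; omega
      · simp only [hi, if_false, add_zero]
        rcases hrem i with h1 | h1
        · exact Or.inl h1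
        · exact Or.inr (Or.inl h1)

/-- The weight of a code word is twice the norm of a lattice vector. -/
theorem Frame.exists_weight (h : Hyp B) (hv : Frame B v) {w : Fin 24 → ZMod 2}
    (hw : w ∈ code B v) (hw0 : w ≠ 0) :
    ∃ x : Fin 24 → ℤ, x ≠ 0 ∧ (hammingNorm w : ℤ) = 2 * qf B x := by
  obtain ⟨a, ⟨x, hx⟩, hra, hcases⟩ := hv.exists_normalized hw hw0
  have hx1 : coord B v x = (2 : ℤ) • a := hx
  have hsq : ∀ i, a i ^ 2 = if w i ≠ 0 then 1 else 0 := by
    intro i
    have hwi : w i = 0 ↔ (2 : ℤ) ∣ a i := by rw [← hra]; exact red_apply_eq_zero_iff a i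
    rcases hcases i with h0 | h1 | h1
    · have : w i = 0 := hwi.mpr ⟨0, by omega⟩
      rw [if_neg (not_not.mpr this), h0]; norm_num
    · have : w i ≠ 0 := fun e => by
        obtain ⟨k, hk⟩ := hwi.mp e; omega
      rw [if_pos this, h1]; norm_num
    · have : w i ≠ 0 := fun e => by
        obtain ⟨k, hk⟩ := hwi.mp e; omega
      rw [if_pos this, h1]; norm_num
  have h1 := hv.qf_eq h x
  rw [hx1] at h1
  have h2 : ∑ i, ((2 : ℤ) • a) i ^ 2 = 4 * (hammingNorm w : ℤ) := by
    have : ∀ i, ((2 : ℤ) • a) i ^ 2 = 4 * (if w i ≠ 0 then 1 else 0) := by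
      intro i
      rw [← hsq i]
      simp only [Pi.smul_apply, smul_eq_mul]; ring
    rw [sum_congr rfl (fun i _ => this i), ← mul_sum]
    congr 1
    rw [hammingNorm, card_filter]
    push_cast
    rfl
  rw [h2] at h1
  refine ⟨x, ?_, by omega⟩
  rintro rfl
  rw [qf_zero] at h1
  have hwt : hammingNorm w = 0 := by omega
  rw [hammingNorm_eq_zero] at hwt
  exact hw0 hwt

theorem Frame.code_four_dvd (h : Hyp B) (hv : Frame B v) {w : Fin 24 → ZMod 2}
    (hw : w ∈ code B v) : 4 ∣ hammingNorm w := by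
  by_cases hw0 : w = 0
  · rw [hw0, hammingNorm_zero]; exact dvd_zero 4
  · obtain ⟨x, _, hx⟩ := hv.exists_weight h hw hw0
    obtain ⟨k, hk⟩ := h.even x
    have : (hammingNorm w : ℤ) = 4 * k := by omega
    exact Int.natCast_dvd_natCast.mp ⟨k, this⟩

theorem Frame.code_ne_four (h : Hyp B) (hv : Frame B v) {w : Fin 24 → ZMod 2}
    (hw : w ∈ code B v) : hammingNorm w ≠ 4 := by
  intro h4
  have hw0 : w ≠ 0 := by
    rintro rfl
    rw [hammingNorm_zero] at h4; omega
  obtain ⟨x, _, hx⟩ := hv.exists_weight h hw hw0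
  rw [h4] at hx
  have := h.no2 x
  omega

theorem Frame.code_eight_le (h : Hyp B) (hv : Frame B v) {w : Fin 24 → ZMod 2}
    (hw : w ∈ code B v) (hw0 : w ≠ 0) : 8 ≤ hammingNorm w := by
  obtain ⟨x, hx0, hx⟩ := hv.exists_weight h hw hw0
  have := h.four_le hx0
  omega


end Cfsg.Agent.Helper27.LeechUniq
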