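import Mathlib
import Cfsg.Agent.Lib.Helper27.LeechUniqB

set_option autoImplicit false
set_option linter.unusedSectionVars false
set_option maxRecDepth 4000

/-! Counting the vectors of norm 4 by coordinate shape: the code has dimension 12 and some norm-4 vector has odd coordinates. -/

namespace Cfsg.Agent.Helper27.LeechUniq


open Matrix Finset

variable {B : Matrix (Fin 24) (Fin 24) ℤ} {v : Fin 24 → Fin 24 → ℤ}

/-- No lattice vector has coordinates `±4 e_i`. -/
theorem Frame.no_single_four (h : Hyp B) (hv : Frame B v) (y : Fin 24 → ℤ) (i : Fin 24) (δ : ℤ)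
    (hy : coord B v y = Pi.single i δ) (hδ : δ = 4 ∨ δ = -4 ∨ δ = 0) : δ = 0 := by
  have h1 := hv.qf_eq h y
  rw [hy] at h1
  have h2 : ∑ j, (Pi.single i δ : Fin 24 → ℤ) j ^ 2 = δ ^ 2 := by
    rw [sum_eq_single i]
    · rw [Pi.single_eq_same]
    · intro j _ hj
      rw [Pi.single_eq_of_ne hj]; norm_num
    · intro hi; exact absurd (mem_univ i) hi
  rw [h2] at h1
  have := h.no2 y
  rcases hδ with rfl | rfl | rfl
  · exfalso; apply this; norm_num at h1; omega
  · exfalso; apply this; norm_num at h1; omega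
  · rfl

theorem sq_ge_of_odd {a : ℤ} (ha : ¬ (2 : ℤ) ∣ a) : 1 ≤ a ^ 2 := by
  have : a ≠ 0 := by rintro rfl; exact ha (dvd_zero _)
  have := sq_pos_of_ne_zero this
  omega

theorem eq_of_sq_eq_one {a : ℤ} (ha : a ^ 2 = 1) : a = 1 ∨ a = -1 := by
  have : (a - 1) * (a + 1) = 0 := by ring_nf; omega
  rcases mul_eq_zero.mp this with h | h
  · left; omega
  · right; omega

theorem eq_zero_of_sq_eq_zero {a : ℤ} (ha : a ^ 2 = 0) : a = 0 := by
  exact pow_eq_zero_iff (by norm_num) |>.mp ha

/-- Shape of a norm-4 vector with even coordinates and nonzero code word. -/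
theorem Frame.even_shape (h : Hyp B) (hv : Frame B v) {x : Fin 24 → ℤ} (hx : qf B x = 4)
    (he : ∀ i, (2 : ℤ) ∣ coord B v x i) (hne : red (half (coord B v x)) ≠ 0) :
    hammingNorm (red (half (coord B v x))) = 8 ∧
    ∀ i, (red (half (coord B v x)) i ≠ 0 → coord B v x i = 2 ∨ coord B v x i = -2) ∧
         (red (half (coord B v x)) i = 0 → coord B v x i = 0) := by
  classical
  set c := coord B v x with hc
  set a := half c with ha
  have hca : (2 : ℤ) • a = c := two_smul_half he
  have hw : red a ∈ code B v := mem_code.mpr ⟨c, coord_mem_img x, he, rfl⟩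
  have h8 := hv.code_eight_le h hw hne
  have h1 := hv.qf_eq h x
  rw [hx, ← hc, ← hca] at h1
  have h2 : ∑ i, a i ^ 2 = 8 := by
    have : ∑ i, ((2 : ℤ) • a) i ^ 2 = 4 * ∑ i, a i ^ 2 := by
      rw [mul_sum]
      apply sum_congr rfl
      intro i _
      simp only [Pi.smul_apply, smul_eq_mul]; ring
    rw [this] at h1
    omega
  have hle : ∀ i ∈ (univ : Finset (Fin 24)), (if red a i ≠ 0 then (1 : ℤ) else 0) ≤ a i ^ 2 := by
    intro i _
    split_ifs with hi
    · apply sq_ge_of_odd
      intro hd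
      exact hi ((red_apply_eq_zero_iff a i).mpr hd)
    · positivity
  have hwt : (hammingNorm (red a) : ℤ) = ∑ i, (if red a i ≠ 0 then (1 : ℤ) else 0) := by
    rw [hammingNorm, card_filter]
    push_cast
    rfl
  have hsumle := sum_le_sum hle
  have heq : ∑ i, (if red a i ≠ 0 then (1 : ℤ) else 0) = ∑ i, a i ^ 2 := by
    rw [h2]; omega
  have hall := (sum_eq_sum_iff_of_le hle).mp heq
  refine ⟨by omega, ?_⟩
  intro i
  have hi := hall i (mem_univ i)
  have hci : c i = 2 * a i := by
    rw [← hca]; simp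
  constructor
  · intro hi1
    rw [if_pos hi1] at hi
    rcases eq_of_sq_eq_one hi.symm with h1 | h1
    · left; rw [hci, h1]; norm_num
    · right; rw [hci, h1]; norm_num
  · intro hi0
    rw [if_neg (not_not.mpr hi0)] at hi
    rw [hci, eq_zero_of_sq_eq_zero hi.symm]; norm_num

/-- Shape of a norm-4 vector with odd coordinates. -/
theorem Frame.odd_shape (h : Hyp B) (hv : Frame B v) {x : Fin 24 → ℤ} (hx : qf B x = 4)
    (ho : ∀ i, ¬ (2 : ℤ) ∣ coord B v x i) :
    ∃ k, (coord B v x k = 3 ∨ coord B v x k = -3) ∧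
      ∀ i, i ≠ k → coord B v x i = 1 ∨ coord B v x i = -1 := by
  classical
  set c := coord B v x with hc
  have h1 := hv.qf_eq h x
  rw [hx, ← hc] at h1
  have hnn : ∀ i ∈ (univ : Finset (Fin 24)), 0 ≤ c i ^ 2 - 1 := by
    intro i _
    have := sq_ge_of_odd (ho i)
    omega
  have hsum : ∑ i, (c i ^ 2 - 1) = 8 := by
    rw [sum_sub_distrib, ← h1]
    simp
  have hbig : ∀ i, c i ^ 2 - 1 ≠ 0 → 8 ≤ c i ^ 2 - 1 := by
    intro i hi
    have hodd := ho i
    have h3 : c i ≤ -3 ∨ 3 ≤ c i ∨ c i = 1 ∨ c i = -1 := by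
      by_contra hcon
      push Not at hcon
      have : c i = 0 ∨ c i = 2 ∨ c i = -2 := by omega
      rcases this with e | e | e <;> rw [e] at hodd <;> exact hodd (by norm_num)
    rcases h3 with h3 | h3 | h3 | h3
    · nlinarith
    · nlinarith
    · exfalso; apply hi; rw [h3]; norm_num
    · exfalso; apply hi; rw [h3]; norm_num
  obtain ⟨k, hk⟩ : ∃ k, c k ^ 2 - 1 ≠ 0 := by
    by_contra hcon
    push Not at hcon
    rw [sum_congr rfl (fun i _ => hcon i)] at hsum
    simp at hsum
  have hk8 := hbig k hk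
  have hkle : c k ^ 2 - 1 ≤ 8 := by
    rw [← hsum]
    exact single_le_sum hnn (mem_univ k)
  refine ⟨k, ?_, ?_⟩
  · have h9 : c k ^ 2 = 9 := by omega
    have : (c k - 3) * (c k + 3) = 0 := by ring_nf; omega
    rcases mul_eq_zero.mp this with e | e
    · left; omega
    · right; omega
  · intro i hik
    have hpair : (c k ^ 2 - 1) + (c i ^ 2 - 1) ≤ 8 := by
      rw [← hsum]
      have hsub : ({k, i} : Finset (Fin 24)) ⊆ univ := subset_univ _
      have := sum_le_sum_of_subset_of_nonneg hsub (f := fun j => c j ^ 2 - 1)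
        (fun j hj _ => hnn j hj)
      rw [sum_pair (Ne.symm hik)] at this
      exact this
    have hi0 : c i ^ 2 - 1 = 0 := by
      by_contra hne
      have := hbig i hne
      omega
    exact eq_of_sq_eq_one (by omega)




open Matrix Finset

variable {B : Matrix (Fin 24) (Fin 24) ℤ} {v : Fin 24 → Fin 24 → ℤ}

/-- The vector `±4 e_i ± 4 e_j`. -/
def gvec (p : (Fin 24 × Fin 24) × (Bool × Bool)) : Fin 24 → ℤ :=
  Pi.single p.1.1 (if p.2.1 then 4 else -4) + Pi.single p.1.2 (if p.2.2 then 4 else -4)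

/-- The parameter set of the vectors `±4 e_i ± 4 e_j`. -/
def gdom : Finset ((Fin 24 × Fin 24) × (Bool × Bool)) :=
  (univ.filter (fun p : Fin 24 × Fin 24 => p.1 < p.2)) ×ˢ univ

theorem card_gdom : gdom.card = 1104 := by
  have h1 : (univ.filter (fun p : Fin 24 × Fin 24 => p.1 < p.2)).card = 276 := by
    decide +kernel
  rw [gdom, card_product, h1]
  rfl

theorem mem_image_gvec_aux (c b : Fin 24 → ℤ) (hcb : ∀ l, c l = 4 * b l) (i j : Fin 24)
    (hij : i < j) (hi : b i = 1 ∨ b i = -1) (hj : b j = 1 ∨ b j = -1)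
    (hr : ∀ l, l ≠ i → l ≠ j → b l = 0) : c ∈ gdom.image gvec := by
  rw [mem_image]
  refine ⟨((i, j), (decide (b i = 1), decide (b j = 1))), ?_, ?_⟩
  · rw [gdom, mem_product]
    exact ⟨mem_filter.mpr ⟨mem_univ _, hij⟩, mem_univ _⟩
  · funext l
    simp only [gvec, Pi.add_apply, Pi.single_apply, decide_eq_true_eq]
    rw [hcb l]
    by_cases hli : l = i
    · subst hli
      have hlj : l ≠ j := ne_of_lt hij
      rw [if_pos rfl, if_neg hlj]
      rcases hi with e | e <;> rw [e] <;> norm_num
    · by_cases hlj : l = j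
      · subst hlj
        rw [if_neg hli, if_pos rfl]
        rcases hj with e | e <;> rw [e] <;> norm_num
      · rw [if_neg hli, if_neg hlj, hr l hli hlj]
        norm_num

theorem pm_one_of_sq_le {a : ℤ} (h0 : a ≠ 0) (h2 : a ^ 2 ≤ 2) : a = 1 ∨ a = -1 := by
  have h1 : -1 ≤ a := by nlinarith
  have h3 : a ≤ 1 := by nlinarith
  omega

/-- Shape of a norm-4 vector all of whose coordinates are divisible by 4. -/
theorem Frame.four_shape (h : Hyp B) (hv : Frame B v) {x : Fin 24 → ℤ} (hx : qf B x = 4)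
    (h4 : ∀ i, (4 : ℤ) ∣ coord B v x i) : coord B v x ∈ gdom.image gvec := by
  classical
  set c := coord B v x with hc
  set b : Fin 24 → ℤ := fun i => c i / 4 with hb
  have hcb : ∀ l, c l = 4 * b l := fun l => (Int.mul_ediv_cancel' (h4 l)).symm
  have h1 := hv.qf_eq h x
  rw [hx, ← hc] at h1
  have h2 : ∑ i, b i ^ 2 = 2 := by
    have : ∑ i, c i ^ 2 = 16 * ∑ i, b i ^ 2 := by
      rw [mul_sum]
      apply sum_congr rfl
      intro i _
      rw [hcb i]; ring
    rw [this] at h1
    omega
  have hnn : ∀ i ∈ (univ : Finset (Fin 24)), 0 ≤ b i ^ 2 := fun i _ => sq_nonneg _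
  have hex : ∃ i, b i ≠ 0 := by
    by_contra hcon
    push Not at hcon
    have : ∑ i, b i ^ 2 = 0 := sum_eq_zero (fun i _ => by rw [hcon i]; norm_num)
    omega
  obtain ⟨i, hi⟩ := hex
  have hi2 : b i ^ 2 ≤ 2 := by
    rw [← h2]; exact single_le_sum hnn (mem_univ i)
  have hi1 := pm_one_of_sq_le hi hi2
  have hi3 : b i ^ 2 = 1 := by rcases hi1 with e | e <;> rw [e] <;> norm_num
  have h3 : ∑ l ∈ univ.erase i, b l ^ 2 = 1 := by
    have := add_sum_erase univ (fun l => b l ^ 2) (mem_univ i)
    beta_reduce at this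
    omega
  obtain ⟨j, hj, hj0⟩ : ∃ j ∈ univ.erase i, b j ≠ 0 := by
    by_contra hcon
    push Not at hcon
    have : ∑ l ∈ univ.erase i, b l ^ 2 = 0 :=
      sum_eq_zero (fun l hl => by rw [hcon l hl]; norm_num)
    omega
  have hji : j ≠ i := (mem_erase.mp hj).1
  have hj2 : b j ^ 2 ≤ 2 := by
    rw [← h2]; exact single_le_sum hnn (mem_univ j)
  have hj1 := pm_one_of_sq_le hj0 hj2
  have hj3 : b j ^ 2 = 1 := by rcases hj1 with e | e <;> rw [e] <;> norm_num
  have h4' : ∑ l ∈ (univ.erase i).erase j, b l ^ 2 = 0 := by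
    have := add_sum_erase (univ.erase i) (fun l => b l ^ 2) hj
    beta_reduce at this
    omega
  have hr : ∀ l, l ≠ i → l ≠ j → b l = 0 := by
    intro l hli hlj
    have hmem : l ∈ (univ.erase i).erase j :=
      mem_erase.mpr ⟨hlj, mem_erase.mpr ⟨hli, mem_univ l⟩⟩
    have := (sum_eq_zero_iff_of_nonneg (fun l _ => sq_nonneg (b l))).mp h4' l hmem
    exact eq_zero_of_sq_eq_zero this
  rcases lt_or_gt_of_ne hji with hlt | hlt
  · exact mem_image_gvec_aux c b hcb j i hlt hj1 hi1 (fun l h1 h2 => hr l h2 h1)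
  · exact mem_image_gvec_aux c b hcb i j hlt hi1 hj1 hr

/-- At most 1104 norm-4 vectors have all coordinates divisible by 4. -/
theorem Frame.card_four_le (h : Hyp B) (hv : Frame B v) (T : Finset (Fin 24 → ℤ))
    (hT : ∀ x ∈ T, qf B x = 4 ∧ ∀ i, (4 : ℤ) ∣ coord B v x i) : T.card ≤ 1104 := by
  classical
  rw [← card_image_of_injective T (hv.coord_injective h)]
  refine ((card_le_card ?_).trans (card_image_le (f := gvec))).trans (le_of_eq card_gdom)
  intro c hc
  obtain ⟨x, hx, rfl⟩ := mem_image.mp hc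
  exact hv.four_shape h (hT x hx).1 (hT x hx).2




open Matrix Finset

variable {B : Matrix (Fin 24) (Fin 24) ℤ} {v : Fin 24 → Fin 24 → ℤ}

/-- At most 128 norm-4 vectors lie over a given word of weight 8. -/
theorem Frame.card_octad_le (h : Hyp B) (hv : Frame B v) (w : Fin 24 → ZMod 2)
    (hw8 : hammingNorm w = 8) (T : Finset (Fin 24 → ℤ))
    (hT : ∀ x ∈ T, qf B x = 4 ∧ (∀ i, (2 : ℤ) ∣ coord B v x i) ∧
      red (half (coord B v x)) = w) : T.card ≤ 128 := by
  classical
  have hw0 : w ≠ 0 := by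
    rintro rfl
    rw [hammingNorm_zero] at hw8; omega
  obtain ⟨i₀, hi₀⟩ : ∃ i₀, w i₀ ≠ 0 := by
    by_contra hcon
    push Not at hcon
    exact hw0 (funext hcon)
  set S : Finset (Fin 24) := (univ.filter (fun i => w i ≠ 0)).erase i₀ with hS
  have hScard : S.card = 7 := by
    have hmem : i₀ ∈ univ.filter (fun i => w i ≠ 0) := mem_filter.mpr ⟨mem_univ _, hi₀⟩
    have : (univ.filter (fun i => w i ≠ 0)).card = 8 := hw8
    rw [hS, card_erase_of_mem hmem, this]
  have hshape : ∀ x ∈ T, ∀ i, (w i ≠ 0 → coord B v x i = 2 ∨ coord B v x i = -2) ∧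
      (w i = 0 → coord B v x i = 0) := by
    intro x hx
    obtain ⟨h4, he, hr⟩ := hT x hx
    have := (hv.even_shape h h4 he (by rw [hr]; exact hw0)).2
    rw [hr] at this
    exact this
  have key : T.card ≤ S.powerset.card := by
    apply card_le_card_of_injOn (fun x => S.filter (fun i => coord B v x i = 2))
    · intro x _
      simp only [coe_powerset, Set.mem_preimage, Set.mem_powerset_iff, coe_subset]
      exact filter_subset _ _
    · intro x hx x' hx' hxx
      simp only at hxx
      have hsx := hshape x (mem_coe.mp hx)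
      have hsx' := hshape x' (mem_coe.mp hx')
      have hoff : ∀ i, i ≠ i₀ → coord B v x i = coord B v x' i := by
        intro i hi
        by_cases hwi : w i = 0
        · rw [(hsx i).2 hwi, (hsx' i).2 hwi]
        · have hiS : i ∈ S := mem_erase.mpr ⟨hi, mem_filter.mpr ⟨mem_univ _, hwi⟩⟩
          have hiff : coord B v x i = 2 ↔ coord B v x' i = 2 := by
            have h1 : i ∈ S.filter (fun i => coord B v x i = 2) ↔
                i ∈ S.filter (fun i => coord B v x' i = 2) := by rw [hxx]
            simp only [mem_filter, hiS, true_and] at h1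
            exact h1
          rcases (hsx i).1 hwi with e | e <;> rcases (hsx' i).1 hwi with e' | e'
          · rw [e, e']
          · exfalso; have := hiff.mp e; omega
          · exfalso; have := hiff.mpr e'; omega
          · rw [e, e']
      have hδ : coord B v (x - x') = Pi.single i₀ (coord B v x i₀ - coord B v x' i₀) := by
        rw [coord_sub]
        funext i
        by_cases hi : i = i₀
        · subst hi
          rw [Pi.single_eq_same, Pi.sub_apply]
        · rw [Pi.single_eq_of_ne hi, Pi.sub_apply, hoff i hi, sub_self]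
      have hδ0 := hv.no_single_four h (x - x') i₀ _ hδ (by
        rcases (hsx i₀).1 hi₀ with e | e <;> rcases (hsx' i₀).1 hi₀ with e' | e' <;>
          rw [e, e'] <;> norm_num)
      apply hv.coord_injective h
      funext i
      by_cases hi : i = i₀
      · subst hi; omega
      · exact hoff i hi
  rw [card_powerset, hScard] at key
  exact key




open Matrix Finset

variable {B : Matrix (Fin 24) (Fin 24) ℤ} {v : Fin 24 → Fin 24 → ℤ}

theorem zmod2_add_eq_zero_of_ne {a b : ZMod 2} (ha : a ≠ 0) (hb : b ≠ 0) : a + b = 0 := by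
  revert a b; decide

theorem zmod2_add_self_fun (w : Fin 24 → ZMod 2) : w + w = 0 := by
  funext i
  have : ∀ a : ZMod 2, a + a = 0 := by decide
  exact this (w i)

/-- Two distinct words of weight 8 do not share five points. -/
theorem Frame.disjoint_powersetCard (h : Hyp B) (hv : Frame B v) {w w' : Fin 24 → ZMod 2}
    (hw : w ∈ code B v) (hw' : w' ∈ code B v) (h8 : hammingNorm w = 8)
    (h8' : hammingNorm w' = 8) (hne : w ≠ w') :
    Disjoint (powersetCard 5 (univ.filter (fun i => w i ≠ 0)))
      (powersetCard 5 (univ.filter (fun i => w' i ≠ 0))) := by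
  classical
  rw [disjoint_left]
  intro T hT hT'
  rw [mem_powersetCard] at hT hT'
  have hu : w + w' ∈ code B v := add_mem hw hw'
  have hu0 : w + w' ≠ 0 := by
    intro e
    apply hne
    have : w = w + (w' + w') := by rw [zmod2_add_self_fun, add_zero]
    rw [this, ← add_assoc, e, zero_add]
  have h8u := hv.code_eight_le h hu hu0
  have hsub : univ.filter (fun i => (w + w') i ≠ 0) ⊆
      (univ.filter (fun i => w i ≠ 0) \ T) ∪ (univ.filter (fun i => w' i ≠ 0) \ T) := by
    intro i hi
    rw [mem_filter] at hi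
    have hiT : i ∉ T := by
      intro hiT
      have h1 := (mem_filter.mp (hT.1 hiT)).2
      have h2 := (mem_filter.mp (hT'.1 hiT)).2
      exact hi.2 (zmod2_add_eq_zero_of_ne h1 h2)
    rw [mem_union, mem_sdiff, mem_sdiff, mem_filter, mem_filter]
    by_cases hwi : w i = 0
    · right
      refine ⟨⟨mem_univ _, ?_⟩, hiT⟩
      intro e
      apply hi.2
      rw [Pi.add_apply, hwi, e, add_zero]
    · left
      exact ⟨⟨mem_univ _, hwi⟩, hiT⟩
  have hc1 : (univ.filter (fun i => w i ≠ 0) \ T).card = 3 := by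
    rw [card_sdiff_of_subset hT.1, hT.2]
    have : (univ.filter (fun i => w i ≠ 0)).card = 8 := h8
    rw [this]
  have hc2 : (univ.filter (fun i => w' i ≠ 0) \ T).card = 3 := by
    rw [card_sdiff_of_subset hT'.1, hT'.2]
    have : (univ.filter (fun i => w' i ≠ 0)).card = 8 := h8'
    rw [this]
  have := (card_le_card hsub).trans (card_union_le _ _)
  rw [hc1, hc2] at this
  have hdef : hammingNorm (w + w') = (univ.filter (fun i => (w + w') i ≠ 0)).card := rfl
  omega

/-- The packing bound: at most 759 words of weight 8. -/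
theorem Frame.card_weight_eight_le (h : Hyp B) (hv : Frame B v) (W : Finset (Fin 24 → ZMod 2))
    (hW : ∀ w ∈ W, w ∈ code B v ∧ hammingNorm w = 8) : W.card ≤ 759 := by
  classical
  have hdisj : ∀ w ∈ W, ∀ w' ∈ W, w ≠ w' →
      Disjoint (powersetCard 5 (univ.filter (fun i => w i ≠ 0)))
        (powersetCard 5 (univ.filter (fun i => w' i ≠ 0))) := by
    intro w hw w' hw' hne
    exact hv.disjoint_powersetCard h (hW w hw).1 (hW w' hw').1 (hW w hw).2 (hW w' hw').2 hne
  have h1 := card_biUnion hdisj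
  have h2 : ∀ w ∈ W, (powersetCard 5 (univ.filter (fun i => w i ≠ 0))).card = 56 := by
    intro w hw
    rw [card_powersetCard]
    have : (univ.filter (fun i => w i ≠ 0)).card = 8 := (hW w hw).2
    rw [this]
    rfl
  rw [sum_congr rfl h2, sum_const, smul_eq_mul] at h1
  have h3 : W.biUnion (fun w => powersetCard 5 (univ.filter (fun i => w i ≠ 0))) ⊆
      powersetCard 5 (univ : Finset (Fin 24)) := by
    intro T hT
    obtain ⟨w, _, hTw⟩ := mem_biUnion.mp hT
    rw [mem_powersetCard] at hTw ⊢
    exact ⟨subset_univ _, hTw.2⟩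
  have h4 := card_le_card h3
  rw [h1, card_powersetCard, card_univ, Fintype.card_fin] at h4
  have : Nat.choose 24 5 = 42504 := by decide
  omega




open Matrix Finset

variable {B : Matrix (Fin 24) (Fin 24) ℤ} {v : Fin 24 → Fin 24 → ℤ}

/-- The dimension of the code is at most 12. -/
theorem Frame.finrank_code_le (h : Hyp B) (hv : Frame B v) :
    Module.finrank (ZMod 2) (code B v) ≤ 12 := by
  classical
  set Bf := Matrix.toBilin' (1 : Matrix (Fin 24) (Fin 24) (ZMod 2)) with hBf
  have hnd : Bf.Nondegenerate := by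
    apply Matrix.Nondegenerate.toBilin'
    apply Matrix.nondegenerate_of_det_ne_zero
    rw [Matrix.det_one]
    exact one_ne_zero
  have happ : ∀ x y : Fin 24 → ZMod 2, Bf x y = ∑ i, x i * y i := by
    intro x y
    rw [hBf, Matrix.toBilin'_apply', Matrix.one_mulVec]
    rfl
  have hle : code B v ≤ Bf.orthogonal (code B v) := by
    intro u hu
    rw [LinearMap.BilinForm.mem_orthogonal_iff]
    intro n hn
    rw [happ]
    exact hv.code_orth h hn hu
  have h1 := Submodule.finrank_mono hle
  have h2 := LinearMap.BilinForm.finrank_orthogonal hnd (code B v)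
  have h3 : Module.finrank (ZMod 2) (Fin 24 → ZMod 2) = 24 := by
    rw [Module.finrank_fin_fun]
  omega

/-- The number of code words is a power of two. -/
theorem card_code_eq (C : Finset (Fin 24 → ZMod 2)) (hC : ∀ w, w ∈ C ↔ w ∈ code B v) :
    C.card = 2 ^ Module.finrank (ZMod 2) (code B v) := by
  classical
  have h1 : Fintype.card (code B v) = C.card := by
    apply Fintype.card_of_subtype
    intro w
    exact hC w
  rw [← h1, Module.card_eq_pow_finrank (K := ZMod 2), ZMod.card]

/-- Odd norm-4 vectors with the large coordinate at a fixed position inject into the code. -/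
theorem Frame.card_odd_le (h : Hyp B) (hv : Frame B v) (C : Finset (Fin 24 → ZMod 2))
    (hC : ∀ w, w ∈ code B v → w ∈ C) (k : Fin 24) (T : Finset (Fin 24 → ℤ))
    (hT : ∀ x ∈ T, (coord B v x k = 3 ∨ coord B v x k = -3) ∧
      ∀ i, i ≠ k → coord B v x i = 1 ∨ coord B v x i = -1) : T.card ≤ C.card := by
  classical
  rcases T.eq_empty_or_nonempty with rfl | ⟨x₀, hx₀⟩
  · simp
  have hev : ∀ x ∈ T, ∀ i, (2 : ℤ) ∣ coord B v (x - x₀) i := by
    intro x hx i
    rw [coord_sub, Pi.sub_apply]
    by_cases hi : i = k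
    · subst hi
      rcases (hT x hx).1 with e | e <;> rcases (hT x₀ hx₀).1 with e' | e' <;> rw [e, e'] <;>
        norm_num
    · rcases (hT x hx).2 i hi with e | e <;> rcases (hT x₀ hx₀).2 i hi with e' | e' <;>
        rw [e, e'] <;> norm_num
  apply card_le_card_of_injOn (fun x => red (half (coord B v (x - x₀))))
  · intro x hx
    apply hC
    exact mem_code.mpr ⟨_, coord_mem_img _, hev x (mem_coe.mp hx), rfl⟩
  · intro x hx x' hx' hxx
    simp only at hxx
    apply hv.coord_injective h
    funext i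
    have h1 := congrFun hxx i
    simp only [red, half] at h1
    rw [ZMod.intCast_eq_intCast_iff_dvd_sub] at h1
    obtain ⟨p, hp⟩ := hev x (mem_coe.mp hx) i
    obtain ⟨q, hq⟩ := hev x' (mem_coe.mp hx') i
    rw [hp, hq] at h1
    have h2 : (2 : ℤ) * q / 2 - 2 * p / 2 = q - p := by omega
    rw [h2] at h1
    obtain ⟨r, hr⟩ := h1
    rw [coord_sub, Pi.sub_apply] at hp hq
    by_cases hi : i = k
    · subst hi
      rcases (hT x (mem_coe.mp hx)).1 with e | e <;>
        rcases (hT x' (mem_coe.mp hx')).1 with e' | e' <;> rw [e, e'] <;> push_cast at hr <;>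
        omega
    · rcases (hT x (mem_coe.mp hx)).2 i hi with e | e <;>
        rcases (hT x' (mem_coe.mp hx')).2 i hi with e' | e' <;> rw [e, e'] <;>
        push_cast at hr <;> omega




open Matrix Finset

variable {B : Matrix (Fin 24) (Fin 24) ℤ} {v : Fin 24 → Fin 24 → ℤ}

/-- Counting the norm-4 vectors: the code has dimension 12 and there is an odd vector. -/
theorem Frame.count (h : Hyp B) (hv : Frame B v) (F4 : Finset (Fin 24 → ℤ))
    (m4 : ∀ x, x ∈ F4 ↔ qf B x = 4) (c4 : F4.card = 196560) :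
    Module.finrank (ZMod 2) (code B v) = 12 ∧
      ∃ u, qf B u = 4 ∧ ∀ i, ¬ (2 : ℤ) ∣ coord B v u i := by
  classical
  set C : Finset (Fin 24 → ZMod 2) := univ.filter (fun w => w ∈ code B v) with hCdef
  have hC : ∀ w, w ∈ C ↔ w ∈ code B v := fun w => by rw [hCdef, mem_filter]; simp
  set W8 : Finset (Fin 24 → ZMod 2) := C.filter (fun w => hammingNorm w = 8) with hW8
  set T1 : Finset (Fin 24 → ℤ) := F4.filter (fun x => ∀ i, (4 : ℤ) ∣ coord B v x i) with hT1
  set T2 : (Fin 24 → ZMod 2) → Finset (Fin 24 → ℤ) := fun w =>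
    F4.filter (fun x => (∀ i, (2 : ℤ) ∣ coord B v x i) ∧ red (half (coord B v x)) = w) with hT2
  set T3 : Fin 24 → Finset (Fin 24 → ℤ) := fun k =>
    F4.filter (fun x => (coord B v x k = 3 ∨ coord B v x k = -3) ∧
      ∀ i, i ≠ k → coord B v x i = 1 ∨ coord B v x i = -1) with hT3
  have hcover : F4 ⊆ (T1 ∪ W8.biUnion T2) ∪ univ.biUnion T3 := by
    intro x hx
    have hx4 := (m4 x).mp hx
    by_cases hpar : (2 : ℤ) ∣ coord B v x 0
    · have hev : ∀ i, (2 : ℤ) ∣ coord B v x i := by
        intro i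
        have := hv.parity h x i 0
        exact (dvd_sub_left hpar).mp this
      apply mem_union_left
      by_cases hw0 : red (half (coord B v x)) = 0
      · apply mem_union_left
        rw [hT1, mem_filter]
        refine ⟨hx, fun i => ?_⟩
        have h1 := (red_apply_eq_zero_iff (half (coord B v x)) i).mp (by rw [hw0]; rfl)
        obtain ⟨r, hr⟩ := h1
        have h2 := congrFun (two_smul_half hev) i
        simp only [Pi.smul_apply, smul_eq_mul] at h2
        exact ⟨r, by rw [← h2, hr]; ring⟩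
      · apply mem_union_right
        rw [mem_biUnion]
        refine ⟨red (half (coord B v x)), ?_, ?_⟩
        · rw [hW8, mem_filter, hC]
          exact ⟨mem_code.mpr ⟨_, coord_mem_img x, hev, rfl⟩, (hv.even_shape h hx4 hev hw0).1⟩
        · rw [hT2, mem_filter]
          exact ⟨hx, hev, rfl⟩
    · have hodd : ∀ i, ¬ (2 : ℤ) ∣ coord B v x i := by
        intro i hi
        have := hv.parity h x 0 i
        exact hpar ((dvd_sub_left hi).mp this)
      apply mem_union_right
      obtain ⟨k, hk1, hk2⟩ := hv.odd_shape h hx4 hodd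
      rw [mem_biUnion]
      refine ⟨k, mem_univ k, ?_⟩
      rw [hT3, mem_filter]
      exact ⟨hx, hk1, hk2⟩
  have b1 : T1.card ≤ 1104 := by
    apply hv.card_four_le h
    intro x hx
    rw [hT1, mem_filter] at hx
    exact ⟨(m4 x).mp hx.1, hx.2⟩
  have b2 : ∀ w ∈ W8, (T2 w).card ≤ 128 := by
    intro w hw
    rw [hW8, mem_filter] at hw
    apply hv.card_octad_le h w hw.2
    intro x hx
    rw [hT2, mem_filter] at hx
    exact ⟨(m4 x).mp hx.1, hx.2.1, hx.2.2⟩
  have b3 : W8.card ≤ 759 := by
    apply hv.card_weight_eight_le h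
    intro w hw
    rw [hW8, mem_filter, hC] at hw
    exact hw
  have b4 : ∀ k ∈ (univ : Finset (Fin 24)), (T3 k).card ≤ C.card := by
    intro k _
    apply hv.card_odd_le h C (fun w hw => (hC w).mpr hw) k
    intro x hx
    rw [hT3, mem_filter] at hx
    exact hx.2
  have hCcard := card_code_eq C hC
  have hd := hv.finrank_code_le h
  have e1 : (W8.biUnion T2).card ≤ 128 * 759 := by
    calc (W8.biUnion T2).card ≤ ∑ w ∈ W8, (T2 w).card := card_biUnion_le
      _ ≤ ∑ _w ∈ W8, 128 := sum_le_sum b2
      _ = W8.card * 128 := by rw [sum_const, smul_eq_mul]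
      _ ≤ 128 * 759 := by omega
  have e2 : (univ.biUnion T3).card ≤ ∑ k : Fin 24, (T3 k).card := card_biUnion_le
  have e3 : ∑ k : Fin 24, (T3 k).card ≤ 24 * C.card := by
    calc ∑ k : Fin 24, (T3 k).card ≤ ∑ _k : Fin 24, C.card := sum_le_sum b4
      _ = 24 * C.card := by rw [sum_const, smul_eq_mul, card_univ, Fintype.card_fin]
  have e4 : F4.card ≤ T1.card + (W8.biUnion T2).card + (univ.biUnion T3).card := by
    calc F4.card ≤ ((T1 ∪ W8.biUnion T2) ∪ univ.biUnion T3).card := card_le_card hcover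
      _ ≤ (T1 ∪ W8.biUnion T2).card + (univ.biUnion T3).card := card_union_le _ _
      _ ≤ T1.card + (W8.biUnion T2).card + (univ.biUnion T3).card := by
        have := card_union_le T1 (W8.biUnion T2)
        omega
  have hsum3 : 98304 ≤ ∑ k : Fin 24, (T3 k).card := by omega
  constructor
  · by_contra hne
    have hlt : Module.finrank (ZMod 2) (code B v) ≤ 11 := by omega
    have : 2 ^ Module.finrank (ZMod 2) (code B v) ≤ 2 ^ 11 :=
      Nat.pow_le_pow_right (by norm_num) hlt
    rw [← hCcard] at this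
    omega
  · obtain ⟨k, -, hk⟩ : ∃ k ∈ (univ : Finset (Fin 24)), (T3 k).card ≠ 0 := by
      by_contra hcon
      push Not at hcon
      have : ∑ k : Fin 24, (T3 k).card = 0 := sum_eq_zero hcon
      omega
    obtain ⟨u, hu⟩ := card_pos.mp (Nat.pos_of_ne_zero hk)
    rw [hT3, mem_filter] at hu
    refine ⟨u, (m4 u).mp hu.1, ?_⟩
    intro i hi
    by_cases hik : i = k
    · subst hik
      rcases hu.2.1 with e | e <;> rw [e] at hi <;> omega
    · rcases hu.2.2 i hik with e | e <;> rw [e] at hi <;> omega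


end Cfsg.Agent.Helper27.LeechUniq
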