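import Mathlib
import Cfsg.Agent.Lib.Helper27.LeechUniqC
import Cfsg.Agent.S0375
import Cfsg.Agent.Lib.Helper27.LeechChar

set_option autoImplicit false
set_option linter.unusedSectionVars false
set_option maxRecDepth 4000

/-! Identification of the lattice with the standard one: after normalising the frame, the coordinate vectors are exactly the vectors of the standard shape for the code, which is the extended quadratic residue code up to a permutation. -/

namespace Cfsg.Agent.Helper27.LeechUniq


open Matrix Finset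

variable {B : Matrix (Fin 24) (Fin 24) ℤ} {v : Fin 24 → Fin 24 → ℤ}

theorem red_smul_sign (ε : ℤ) (hε : ε = 1 ∨ ε = -1) (x : Fin 24 → ℤ) : red (ε • x) = red x := by
  rcases hε with rfl | rfl
  · rw [one_smul]
  · rw [neg_one_smul, red_neg]

/-- Changing the signs of the frame vectors gives a frame. -/
theorem Frame.flip (hv : Frame B v) (ε : Fin 24 → ℤ) (hε : ∀ i, ε i = 1 ∨ ε i = -1) :
    Frame B (fun i => ε i • v i) := by
  refine ⟨?_, ?_, ?_⟩
  · intro i
    show qf B (ε i • v i) = 8
    rw [qf_smul, hv.norm i]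
    rcases hε i with e | e <;> rw [e] <;> norm_num
  · intro i j hij
    show bf B (ε i • v i) (ε j • v j) = 0
    rw [bf_smul_left, bf_smul_right, hv.orth i j hij, mul_zero, mul_zero]
  · intro i j
    show red (ε i • v i) = red (ε j • v j)
    rw [red_smul_sign _ (hε i), red_smul_sign _ (hε j)]
    exact hv.congr i j

theorem coord_flip (ε : Fin 24 → ℤ) (x : Fin 24 → ℤ) (i : Fin 24) :
    coord B (fun i => ε i • v i) x i = ε i * coord B v x i := by
  show bf B x (ε i • v i) = ε i * bf B x (v i)
  rw [bf_smul_right]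

/-- A frame in which some norm-4 vector has coordinates `(1, …, 1, -3, 1, …, 1)`. -/
theorem exists_good_frame (h : Hyp B)
    (h4 : {x : Fin 24 → ℤ | qf B x = 4}.ncard = 196560)
    (h6 : {x : Fin 24 → ℤ | qf B x = 6}.ncard = 16773120)
    (h8 : {x : Fin 24 → ℤ | qf B x = 8}.ncard = 398034000) :
    ∃ v : Fin 24 → Fin 24 → ℤ, Frame B v ∧ ∃ (u : Fin 24 → ℤ) (k : Fin 24),
      ∀ i, coord B v u i = if i = k then -3 else 1 := by
  classical
  obtain ⟨v, hv⟩ := exists_frame h h4 h6 h8
  have f4 : {x : Fin 24 → ℤ | qf B x = 4}.Finite :=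
    Set.finite_of_ncard_ne_zero (by rw [h4]; norm_num)
  have c4 : f4.toFinset.card = 196560 := by rw [← Set.ncard_eq_toFinset_card _ f4, h4]
  have m4 : ∀ x, x ∈ f4.toFinset ↔ qf B x = 4 := fun x => f4.mem_toFinset
  obtain ⟨_, u, hu4, hodd⟩ := hv.count h f4.toFinset m4 c4
  obtain ⟨k, hk1, hk2⟩ := hv.odd_shape h hu4 hodd
  set ε : Fin 24 → ℤ := fun i =>
    if i = k then (if coord B v u k = 3 then -1 else 1) else (if coord B v u i = 1 then 1 else -1)
    with hεdef
  have hε : ∀ i, ε i = 1 ∨ ε i = -1 := by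
    intro i
    simp only [hεdef]
    split_ifs <;> simp
  refine ⟨fun i => ε i • v i, hv.flip ε hε, u, k, ?_⟩
  intro i
  rw [coord_flip]
  by_cases hi : i = k
  · subst hi
    rw [if_pos rfl]
    simp only [hεdef, if_true]
    rcases hk1 with e | e
    · rw [if_pos e, e]; norm_num
    · rw [if_neg (by rw [e]; norm_num), e]; norm_num
  · rw [if_neg hi]
    simp only [hεdef, if_neg hi]
    rcases hk2 i hi with e | e
    · rw [if_pos e, e]; norm_num
    · rw [if_neg (by rw [e]; norm_num), e]; norm_num




open Matrix Finset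

variable {B : Matrix (Fin 24) (Fin 24) ℤ} {v : Fin 24 → Fin 24 → ℤ}

/-- The coordinate sum rule coming from the odd vector. -/
theorem Frame.sum_rule (h : Hyp B) (hv : Frame B v) {u : Fin 24 → ℤ} {k : Fin 24}
    (hu : ∀ i, coord B v u i = if i = k then -3 else 1) (x : Fin 24 → ℤ) :
    ∑ i, coord B v x i = 8 * bf B x u + 4 * coord B v x k := by
  classical
  have h1 := hv.bf_eq h x u
  have h2 : ∑ i, coord B v x i * coord B v u i = ∑ i, coord B v x i - 4 * coord B v x k := by
    have : ∀ i, coord B v x i * coord B v u i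
        = coord B v x i - (if i = k then 4 * coord B v x i else 0) := by
      intro i
      rw [hu i]
      split_ifs <;> ring
    rw [sum_congr rfl (fun i _ => this i), sum_sub_distrib, sum_ite_eq' univ k]
    simp
  rw [h2] at h1
  omega

/-- Vectors of the lattice with even coordinates. -/
theorem Frame.even_form (h : Hyp B) (hv : Frame B v) {u : Fin 24 → ℤ} {k : Fin 24}
    (hu : ∀ i, coord B v u i = if i = k then -3 else 1) (a : Fin 24 → ℤ)
    (ha : (2 : ℤ) • a ∈ img B v) : (4 : ℤ) ∣ ∑ i, a i := by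
  obtain ⟨x, hx⟩ := ha
  have hx1 : coord B v x = (2 : ℤ) • a := hx
  have h1 := hv.sum_rule h hu x
  rw [hx1] at h1
  simp only [Pi.smul_apply, smul_eq_mul] at h1
  rw [← mul_sum] at h1
  exact ⟨bf B x u + a k, by omega⟩

/-- Twice a vector reducing to a code word with coordinate sum divisible by 4 is in the
lattice. -/
theorem Frame.even_mem (h : Hyp B) (hv : Frame B v) {u : Fin 24 → ℤ} {k : Fin 24}
    (hu : ∀ i, coord B v u i = if i = k then -3 else 1) (a : Fin 24 → ℤ)
    (hc : red a ∈ code B v) (hs : (4 : ℤ) ∣ ∑ i, a i) : (2 : ℤ) • a ∈ img B v := by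
  obtain ⟨a', ha', hr⟩ := mem_code_iff.mp hc
  obtain ⟨z, hz⟩ := (red_eq_iff a a').mp hr
  have hs' := hv.even_form h hu a' ha'
  have hsz : (2 : ℤ) ∣ ∑ i, z i := by
    have h1 : ∑ i, (a - a') i = ∑ i, ((2 : ℤ) • z) i := by rw [hz]
    simp only [Pi.sub_apply, sum_sub_distrib, Pi.smul_apply, smul_eq_mul] at h1
    rw [← mul_sum] at h1
    obtain ⟨p, hp⟩ := hs
    obtain ⟨q, hq⟩ := hs'
    exact ⟨p - q, by omega⟩
  have h4 := hv.four_smul_mem z hsz
  have : (2 : ℤ) • a = (2 : ℤ) • a' + (4 : ℤ) • z := by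
    have : a = a' + (2 : ℤ) • z := by rw [← hz]; abel
    rw [this, smul_add, smul_smul]; norm_num
  rw [this]
  exact add_mem ha' h4

/-- The image of the lattice consists of vectors of the standard shape. -/
theorem Frame.form_of_mem (h : Hyp B) (hv : Frame B v) {u : Fin 24 → ℤ} {k : Fin 24}
    (hu : ∀ i, coord B v u i = if i = k then -3 else 1) (x : Fin 24 → ℤ) :
    ∃ (m : ℤ) (a : Fin 24 → ℤ), (∀ i, coord B v x i = m + 2 * a i) ∧ red a ∈ code B v ∧
      (4 : ℤ) ∣ (∑ i, a i) - 2 * m := by
  classical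
  by_cases hpar : (2 : ℤ) ∣ coord B v x 0
  · have hev : ∀ i, (2 : ℤ) ∣ coord B v x i := by
      intro i
      have := hv.parity h x i 0
      exact (dvd_sub_left hpar).mp this
    refine ⟨0, half (coord B v x), ?_, ?_, ?_⟩
    · intro i
      have h2 := congrFun (two_smul_half hev) i
      simp only [Pi.smul_apply, smul_eq_mul] at h2
      rw [zero_add, h2]
    · exact mem_code.mpr ⟨_, coord_mem_img x, hev, rfl⟩
    · have := hv.even_form h hu (half (coord B v x)) (by
        rw [two_smul_half hev]; exact coord_mem_img x)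
      simpa using this
  · have hodd : ∀ i, ¬ (2 : ℤ) ∣ coord B v x i := by
      intro i hi
      have := hv.parity h x 0 i
      exact hpar ((dvd_sub_left hi).mp this)
    have hev : ∀ i, (2 : ℤ) ∣ coord B v (x - u) i := by
      intro i
      rw [coord_sub, Pi.sub_apply, hu i]
      have := hodd i
      split_ifs <;> omega
    have hca : ∀ i, coord B v x i = 1 + 2 * ((coord B v x i - 1) / 2) := by
      intro i
      have := hodd i
      omega
    refine ⟨1, fun i => (coord B v x i - 1) / 2, hca, ?_, ?_⟩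
    · have hmem : red (half (coord B v (x - u))) ∈ code B v :=
        mem_code.mpr ⟨_, coord_mem_img _, hev, rfl⟩
      have heq : red (half (coord B v (x - u))) = red (fun i => (coord B v x i - 1) / 2) := by
        funext i
        simp only [red, half]
        rw [coord_sub, Pi.sub_apply, hu i, ZMod.intCast_eq_intCast_iff_dvd_sub]
        have := hodd i
        split_ifs <;> omega
      rw [← heq]
      exact hmem
    · show (4 : ℤ) ∣ (∑ i, (coord B v x i - 1) / 2) - 2 * 1
      have h1 := hv.sum_rule h hu x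
      have h2 : ∑ i, coord B v x i = 24 + 2 * ∑ i, (coord B v x i - 1) / 2 := by
        rw [mul_sum]
        have : ∀ i ∈ (univ : Finset (Fin 24)), coord B v x i
            = 1 + 2 * ((coord B v x i - 1) / 2) := fun i _ => hca i
        rw [sum_congr rfl this, sum_add_distrib]
        simp
      have := hodd k
      rw [h2] at h1
      omega

/-- Conversely, vectors of the standard shape are in the image. -/
theorem Frame.mem_of_form (h : Hyp B) (hv : Frame B v) {u : Fin 24 → ℤ} {k : Fin 24}
    (hu : ∀ i, coord B v u i = if i = k then -3 else 1) (c : Fin 24 → ℤ) (m : ℤ)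
    (a : Fin 24 → ℤ) (hm : m = 0 ∨ m = 1) (hca : ∀ i, c i = m + 2 * a i)
    (hc : red a ∈ code B v) (hs : (4 : ℤ) ∣ (∑ i, a i) - 2 * m) : c ∈ img B v := by
  classical
  rcases hm with rfl | rfl
  · have : c = (2 : ℤ) • a := by
      funext i
      rw [hca i]; simp
    rw [this]
    exact hv.even_mem h hu a hc (by simpa using hs)
  · set a' : Fin 24 → ℤ := a - (2 : ℤ) • (Pi.single k (-1) : Fin 24 → ℤ) with ha'
    have h1 : (2 : ℤ) • a' ∈ img B v := by
      apply hv.even_mem h hu a'
      · rw [ha', red_sub_two_smul]; exact hc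
      · have : ∑ i, a' i = ∑ i, a i + 2 := by
          simp only [ha', Pi.sub_apply, Pi.smul_apply, smul_eq_mul, sum_sub_distrib,
            Pi.single_apply, mul_ite, mul_neg, mul_one, mul_zero, sum_ite_eq', mem_univ,
            if_true]
          ring
        rw [this]
        obtain ⟨p, hp⟩ := hs
        exact ⟨p + 1, by omega⟩
    have h2 : c = (2 : ℤ) • a' + coord B v u := by
      funext i
      rw [Pi.add_apply, hu i, hca i]
      simp only [ha', Pi.smul_apply, Pi.sub_apply, smul_eq_mul, Pi.single_apply]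
      split_ifs <;> ring
    rw [h2]
    exact add_mem h1 (coord_mem_img u)




open Matrix Finset Cfsg

variable {B : Matrix (Fin 24) (Fin 24) ℤ} {v : Fin 24 → Fin 24 → ℤ}

/-- Normalising the parity parameter of the standard shape to `0` or `1`. -/
theorem leechForm_normalize {y : GolayPt → ℤ} (hy : Cfsg.Agent.Helper27.LeechForm y) :
    ∃ (m : ℤ) (a : GolayPt → ℤ), (m = 0 ∨ m = 1) ∧ (∀ i, y i = m + 2 * a i) ∧
      Cfsg.Agent.Helper27.red2 a ∈ golayCode ∧ (4 : ℤ) ∣ (∑ i, a i) - 2 * m := by
  obtain ⟨m, a, ha, hc, hs⟩ := hy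
  obtain ⟨h1, h2, h3⟩ := Cfsg.Agent.Helper27.LeechForm.shift ha hc hs (m / 2)
  refine ⟨m - 2 * (m / 2), fun i => a i + m / 2, ?_, h1, h2, h3⟩
  omega

/-- The main theorem in terms of the quadratic form `qf`. -/
theorem main (h : Hyp B)
    (h4 : {x : Fin 24 → ℤ | qf B x = 4}.ncard = 196560)
    (h6 : {x : Fin 24 → ℤ | qf B x = 6}.ncard = 16773120)
    (h8 : {x : Fin 24 → ℤ | qf B x = 8}.ncard = 398034000) :
    ∃ f : (Fin 24 → ℤ) ≃+ leechLattice, ∀ x : Fin 24 → ℤ,
      sqNorm ((f x : leechLattice) : GolayPt → ℤ) = 8 * qf B x := by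
  classical
  obtain ⟨v, hv, u, k, hu⟩ := exists_good_frame h h4 h6 h8
  have f4 : {x : Fin 24 → ℤ | qf B x = 4}.Finite :=
    Set.finite_of_ncard_ne_zero (by rw [h4]; norm_num)
  have c4 : f4.toFinset.card = 196560 := by rw [← Set.ncard_eq_toFinset_card _ f4, h4]
  have m4 : ∀ x, x ∈ f4.toFinset ↔ qf B x = 4 := fun x => f4.mem_toFinset
  obtain ⟨hdim, -⟩ := hv.count h f4.toFinset m4 c4
  obtain ⟨e, he⟩ := Cfsg.Agent.S0375.result (code B v) hdim
    (fun w hw w' hw' => hv.code_orth h hw hw')
    (fun w hw => hv.code_four_dvd h hw) (fun w hw => hv.code_ne_four h hw)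
  -- transport of the code condition
  have hcode : ∀ a : GolayPt → ℤ, Cfsg.Agent.Helper27.red2 a ∈ golayCode ↔
      red (fun i => a (e i)) ∈ code B v := by
    intro a
    rw [he]
    rfl
  -- the map
  let φ : (Fin 24 → ℤ) →+ (GolayPt → ℤ) :=
    { toFun := fun x p => coord B v x (e.symm p)
      map_zero' := by funext p; rw [coord_zero]; rfl
      map_add' := by intro x y; funext p; rw [coord_add]; rfl }
  have hφ : ∀ x p, φ x p = coord B v x (e.symm p) := fun x p => rfl
  have hmem : ∀ x, φ x ∈ leechLattice := by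
    intro x
    rw [Cfsg.Agent.Helper27.mem_leechLattice_iff]
    obtain ⟨m, a, hca, hc, hs⟩ := hv.form_of_mem h hu x
    refine ⟨m, fun p => a (e.symm p), fun p => by rw [hφ, hca], ?_, ?_⟩
    · rw [hcode]
      have : (fun i => (fun p => a (e.symm p)) (e i)) = a := by
        funext i; simp
      rw [this]
      exact hc
    · have : ∑ p, a (e.symm p) = ∑ i, a i := Equiv.sum_comp e.symm a
      rw [this]
      exact hs
  let ψ : (Fin 24 → ℤ) →+ leechLattice := φ.codRestrict leechLattice hmem
  have hψ : ∀ x, ((ψ x : leechLattice) : GolayPt → ℤ) = φ x := fun x => rfl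
  have hinj : Function.Injective ψ := by
    intro x x' hxx
    apply hv.coord_injective h
    funext i
    have h1 : φ x = φ x' := by rw [← hψ, ← hψ, hxx]
    have h2 := congrFun h1 (e i)
    rw [hφ, hφ, Equiv.symm_apply_apply] at h2
    exact h2
  have hsurj : Function.Surjective ψ := by
    rintro ⟨y, hy⟩
    rw [Cfsg.Agent.Helper27.mem_leechLattice_iff] at hy
    obtain ⟨m, a, hm, hca, hc, hs⟩ := leechForm_normalize hy
    have hin : (fun i => y (e i)) ∈ img B v := by
      apply hv.mem_of_form h hu (fun i => y (e i)) m (fun i => a (e i)) hm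
      · intro i; exact hca (e i)
      · exact (hcode a).mp hc
      · have : ∑ i, a (e i) = ∑ p, a p := Equiv.sum_comp e a
        rw [this]
        exact hs
    obtain ⟨x, hx⟩ := hin
    refine ⟨x, Subtype.ext ?_⟩
    rw [hψ]
    funext p
    rw [hφ]
    have hx1 : coord B v x = fun i => y (e i) := hx
    rw [hx1]
    simp
  refine ⟨AddEquiv.ofBijective ψ ⟨hinj, hsurj⟩, ?_⟩
  intro x
  show sqNorm (φ x) = 8 * qf B x
  rw [hv.qf_eq h x]
  unfold sqNorm
  exact Equiv.sum_comp e.symm (fun i => coord B v x i ^ 2)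


end Cfsg.Agent.Helper27.LeechUniq
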