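import Mathlib
import Cfsg.Agent.Lib.Helper4.McLDefs
import Cfsg.Agent.Lib.Helper12.SLGen

/-!
# S5075, piece GSL: `SL(V)` is generated by the transvections (helper27)
-/

set_option autoImplicit false
set_option linter.unusedSectionVars false
set_option linter.unusedVariables false

namespace Cfsg.Agent.Helper4.McL

open Module

section GSL
variable {F : Type*} [Field F] {V : Type*} [AddCommGroup V] [Module F V] [FiniteDimensional F V]

theorem gsl_det_tv (φ : Dual F V) (u : V) :
    LinearMap.det ((tv φ u : V ≃ₗ[F] V) : V →ₗ[F] V) = 1 := by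
  by_cases h : φ u = 0
  · rw [tv, dif_pos h]
    have h1 := LinearEquiv.transvection.det_eq_one h
    have h2 := congrArg Units.val h1
    rwa [LinearEquiv.coe_det, Units.val_one] at h2
  · rw [tv_of_ne h]
    exact LinearMap.det_id

/-- the action of `SL_d(F)` on `V` through a basis -/
noncomputable def gslHom {d : ℕ} (b : Basis (Fin d) F V) :
    Matrix.SpecialLinearGroup (Fin d) F →* (V ≃ₗ[F] V) where
  toFun M := LinearEquiv.ofLinearMap (Matrix.toLin b b M.1) (Matrix.toLin b b (M⁻¹).1)
    (by
      rw [← Matrix.toLin_mul b b b, ← Matrix.SpecialLinearGroup.coe_mul, mul_inv_cancel,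
        Matrix.SpecialLinearGroup.coe_one, Matrix.toLin_one])
    (by
      rw [← Matrix.toLin_mul b b b, ← Matrix.SpecialLinearGroup.coe_mul, inv_mul_cancel,
        Matrix.SpecialLinearGroup.coe_one, Matrix.toLin_one])
  map_one' := by
    apply LinearEquiv.ext
    intro x
    simp [Matrix.toLin_one]
  map_mul' A B := by
    apply LinearEquiv.ext
    intro x
    simp [Matrix.toLin_mul b b b]

theorem gslHom_coe {d : ℕ} (b : Basis (Fin d) F V) (M : Matrix.SpecialLinearGroup (Fin d) F) :
    ((gslHom b M : V ≃ₗ[F] V) : V →ₗ[F] V) = Matrix.toLin b b M.1 := rfl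

theorem gslHom_transvection {d : ℕ} (b : Basis (Fin d) F V) {i j : Fin d} (hij : i ≠ j) (c : F) :
    gslHom b (Matrix.SpecialLinearGroup.transvection hij c) = tv (c • b.coord j) (b i) := by
  have h0 : (c • b.coord j) (b i) = 0 := by
    simp [hij]
  apply LinearEquiv.toLinearMap_injective
  apply b.ext
  intro k
  rw [gslHom_coe, Matrix.toLin_self, LinearEquiv.coe_coe, tv_apply h0,
    Matrix.SpecialLinearGroup.transvection_coe]
  simp only [Matrix.add_apply, Matrix.one_apply, Matrix.single_apply, add_smul, Finset.sum_add_distrib,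
    LinearMap.smul_apply, Basis.coord_apply, Basis.repr_self, smul_eq_mul]
  congr 1
  · simp
  · by_cases hjk : j = k
    · subst hjk
      simp
    ·       simp [hjk]

theorem closure_isTv_eq_SL :
    (Subgroup.closure {g : V ≃ₗ[F] V | IsTv g} : Set (V ≃ₗ[F] V)) =
      {g : V ≃ₗ[F] V | LinearMap.det (g : V →ₗ[F] V) = 1} := by
  classical
  ext g
  simp only [SetLike.mem_coe, Set.mem_ofPred_eq]
  constructor
  · intro hg
    have hle : Subgroup.closure {g : V ≃ₗ[F] V | IsTv g} ≤
        (LinearEquiv.det : (V ≃ₗ[F] V) →* Fˣ).ker := by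
      rw [Subgroup.closure_le]
      rintro t ⟨φ, u, -, rfl⟩
      rw [SetLike.mem_coe, MonoidHom.mem_ker, ← Units.val_inj, LinearEquiv.coe_det, Units.val_one]
      exact gsl_det_tv φ u
    have h1 := hle hg
    rw [MonoidHom.mem_ker, ← Units.val_inj, LinearEquiv.coe_det, Units.val_one] at h1
    exact h1
  · intro hg
    obtain ⟨d, ⟨b⟩⟩ : ∃ d : ℕ, Nonempty (Basis (Fin d) F V) :=
      ⟨finrank F V, ⟨Module.finBasis F V⟩⟩
    have hdet : (LinearMap.toMatrix b b (g : V →ₗ[F] V)).det = 1 := by
      rw [LinearMap.det_toMatrix]; exact hg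
    rcases Nat.lt_or_ge d 2 with hd | hd
    · -- small dimension: g = 1
      have hM : LinearMap.toMatrix b b (g : V →ₗ[F] V) = 1 := by
        interval_cases d
        · exact Subsingleton.elim _ _
        · ext i j
          have hi : i = 0 := Subsingleton.elim _ _
          have hj : j = 0 := Subsingleton.elim _ _
          subst hi hj
          rw [Matrix.det_fin_one] at hdet
          rw [hdet]; simp
      have h1 : (g : V →ₗ[F] V) = LinearMap.id := by
        rw [← Matrix.toLin_toMatrix b b (g : V →ₗ[F] V), hM, Matrix.toLin_one]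
      have h2 : g = 1 := by
        apply LinearEquiv.toLinearMap_injective
        rw [h1]; rfl
      rw [h2]
      exact Subgroup.one_mem _
    · have : Nontrivial (Fin d) := Fin.nontrivial_iff_two_le.2 hd
      have htop : (Subgroup.closure {g : V ≃ₗ[F] V | IsTv g}).comap (gslHom b) = ⊤ := by
        apply Cfsg.Agent.Helper12.eq_top_of_forall_transvection
        intro i j hij c
        rw [Subgroup.mem_comap, gslHom_transvection]
        exact Subgroup.subset_closure (isTv_tv _ _)
      let M : Matrix.SpecialLinearGroup (Fin d) F :=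
        ⟨LinearMap.toMatrix b b (g : V →ₗ[F] V), hdet⟩
      have hmem : M ∈ (Subgroup.closure {g : V ≃ₗ[F] V | IsTv g}).comap (gslHom b) := by
        rw [htop]; trivial
      have hmem' : gslHom b M ∈ Subgroup.closure {g : V ≃ₗ[F] V | IsTv g} := hmem
      have heq : gslHom b M = g := by
        apply LinearEquiv.toLinearMap_injective
        exact (gslHom_coe b M).trans (Matrix.toLin_toMatrix b b _)
      rwa [heq] at hmem'

end GSL

end Cfsg.Agent.Helper4.McL
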