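import Mathlib
import Cfsg.Agent.Lib.Helper4.McLDefs

/-!
# S5075, piece M (core): THEOREM M from its inputs (helper27).
The inputs (pieces QI, MB, M8, MSL, MSP) enter as hypotheses about the given `K`.
-/

set_option autoImplicit false
set_option linter.unusedSectionVars false
set_option linter.unusedVariables false

namespace Cfsg.Agent.Helper4.McL

open Module

section M
variable {p : ℕ} [Fact p.Prime] {V : Type*} [AddCommGroup V] [Module (ZMod p) V]
  [Module.Finite (ZMod p) V]

theorem mcore_finrank_add (K : Subgroup (V ≃ₗ[ZMod p] V)) (u : V) :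
    finrank (ZMod p) (Phi K u) + finrank (ZMod p) (Wsp K u) = finrank (ZMod p) V := by
  rw [Wsp]
  exact Subspace.finrank_add_finrank_dualCoannihilator_eq (Phi K u)

/-- if the trivial group is irreducible on `V` then `det g = 1` forces `g = 1` -/
theorem mcore_bot
    (hirr : ∀ X : Submodule (ZMod p) V, Inv (⊥ : Subgroup (V ≃ₗ[ZMod p] V)) X → X = ⊥ ∨ X = ⊤)
    (g : V ≃ₗ[ZMod p] V) (hg : LinearMap.det (g : V →ₗ[ZMod p] V) = 1) : g = 1 := by
  by_cases hx : ∃ x : V, x ≠ 0
  · obtain ⟨x, hx⟩ := hx
    have hinv : Inv (⊥ : Subgroup (V ≃ₗ[ZMod p] V)) (Submodule.span (ZMod p) {x}) := by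
      intro a ha y hy
      rw [Subgroup.mem_bot] at ha
      rw [ha]
      exact hy
    have htop : Submodule.span (ZMod p) {x} = ⊤ := by
      rcases hirr _ hinv with h | h
      · exfalso
        apply hx
        have : x ∈ Submodule.span (ZMod p) {x} := Submodule.mem_span_singleton_self x
        rw [h] at this
        exact (Submodule.mem_bot _).1 this
      · exact h
    have hfr : finrank (ZMod p) V = 1 := by
      rw [← finrank_top (ZMod p) V, ← htop, finrank_span_singleton hx]
    obtain ⟨c, hc⟩ : ∃ c : ZMod p, g x = c • x := by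
      have : g x ∈ Submodule.span (ZMod p) {x} := by rw [htop]; trivial
      obtain ⟨c, hc⟩ := Submodule.mem_span_singleton.1 this
      exact ⟨c, hc.symm⟩
    have hgv : ∀ v : V, g v = c • v := by
      intro v
      have : v ∈ Submodule.span (ZMod p) {x} := by rw [htop]; trivial
      obtain ⟨a, rfl⟩ := Submodule.mem_span_singleton.1 this
      rw [map_smul, hc, smul_comm]
    have hlin : (g : V →ₗ[ZMod p] V) = c • LinearMap.id := by
      apply LinearMap.ext
      intro v
      rw [LinearEquiv.coe_coe, hgv v]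
      rfl
    rw [hlin, LinearMap.det_smul, hfr, pow_one, LinearMap.det_id, mul_one] at hg
    apply LinearEquiv.ext
    intro v
    rw [hgv v, hg, one_smul]
    rfl
  · push Not at hx
    apply LinearEquiv.ext
    intro v
    rw [hx v, map_zero, map_zero]

theorem theoremM_core (K : Subgroup (V ≃ₗ[ZMod p] V))
    (hirr : ∀ X : Submodule (ZMod p) V, Inv K X → X = ⊥ ∨ X = ⊤)
    (hirrM : K ≠ ⊥ → MHyp K)
    (hdich : MHyp K → ∀ u : V, u ≠ 0 →
      finrank (ZMod p) ↥(Wsp K u) = 1 ∨ finrank (ZMod p) ↥(Phi K u) = 1)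
    (hPhiEq : MHyp K → ∀ x y : V, x ≠ 0 → y ≠ 0 →
      finrank (ZMod p) (Phi K x) = finrank (ZMod p) (Phi K y))
    (hSL : MHyp K → (∀ u : V, u ≠ 0 → finrank (ZMod p) ↥(Wsp K u) = 1) →
      (K : Set (V ≃ₗ[ZMod p] V)) =
        {g : V ≃ₗ[ZMod p] V | LinearMap.det (g : V →ₗ[ZMod p] V) = 1})
    (hSp : MHyp K → (∀ u : V, u ≠ 0 → finrank (ZMod p) ↥(Phi K u) = 1) →
      ∃ B : LinearMap.BilinForm (ZMod p) V, B.IsAlt ∧ B.Nondegenerate ∧
        (K : Set (V ≃ₗ[ZMod p] V)) = {g | ∀ x y, B (g x) (g y) = B x y}) :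
    (K : Set (V ≃ₗ[ZMod p] V)) =
        {g : V ≃ₗ[ZMod p] V | LinearMap.det (g : V →ₗ[ZMod p] V) = 1} ∨
    ∃ B : LinearMap.BilinForm (ZMod p) V, B.IsAlt ∧ B.Nondegenerate ∧
      (K : Set (V ≃ₗ[ZMod p] V)) = {g | ∀ x y, B (g x) (g y) = B x y} := by
  by_cases hK : K = ⊥
  · left
    subst hK
    ext g
    simp only [SetLike.mem_coe, Subgroup.mem_bot, Set.mem_ofPred_eq]
    constructor
    · intro h
      rw [h]
      exact LinearMap.det_id
    · intro h
      exact mcore_bot hirr g h
  · have hM := hirrM hK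
    -- a nonzero vector
    obtain ⟨u, hu⟩ : ∃ u : V, u ≠ 0 := by
      by_contra hall
      push Not at hall
      apply hK
      rw [Subgroup.eq_bot_iff_forall]
      intro g _
      apply LinearEquiv.ext
      intro v
      rw [hall v, map_zero, map_zero]
    rcases hdich hM u hu with h1 | h1
    · left
      apply hSL hM
      intro x hx
      have e1 := mcore_finrank_add K x
      have e2 := mcore_finrank_add K u
      have e3 := hPhiEq hM x u hx hu
      omega
    · right
      apply hSp hM
      intro x hx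
      rw [hPhiEq hM x u hx hu]
      exact h1

end M

end Cfsg.Agent.Helper4.McL
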