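import Mathlib
import Cfsg.Agent.Lib.Helper4.McLDefs

/-!
# S5075, piece MSL (core): the case `W_u = span {u}` gives `K = ⟨all transvections⟩` (helper27).
The generation of `SL(V)` by transvections (piece GSL) enters as the hypothesis `hSL`.
-/

set_option autoImplicit false
set_option linter.unusedSectionVars false
set_option linter.unusedVariables false

namespace Cfsg.Agent.Helper4.McL

open Module

section MSL
variable {p : ℕ} [Fact p.Prime] {V : Type*} [AddCommGroup V] [Module (ZMod p) V]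
  [Module.Finite (ZMod p) V] {K : Subgroup (V ≃ₗ[ZMod p] V)}

/-- `Φ_u` is the annihilator of `W_u` -/
theorem msl_Phi_eq_dualAnnihilator (K : Subgroup (V ≃ₗ[ZMod p] V)) (u : V) :
    Phi K u = (Wsp K u).dualAnnihilator := by
  rw [Wsp, Subspace.dualCoannihilator_dualAnnihilator_eq]

theorem msl_Wsp_eq_span (K : Subgroup (V ≃ₗ[ZMod p] V)) {u : V} (hu : u ≠ 0)
    (h : finrank (ZMod p) ↥(Wsp K u) = 1) : Wsp K u = Submodule.span (ZMod p) {u} := by
  symm
  apply Submodule.eq_of_le_of_finrank_eq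
  · rw [Submodule.span_le]
    intro x hx
    rw [Set.mem_singleton_iff] at hx
    rw [hx]
    exact self_mem_Wsp K u
  · rw [finrank_span_singleton hu, h]

/-- all transvections lie in `K` -/
theorem msl_isTv_mem (h : ∀ u : V, u ≠ 0 → finrank (ZMod p) ↥(Wsp K u) = 1)
    {g : V ≃ₗ[ZMod p] V} (hg : IsTv g) : g ∈ K := by
  obtain ⟨φ, u, hφu, rfl⟩ := hg
  by_cases hu : u = 0
  · subst hu
    rw [tv_zero_right]
    exact K.one_mem
  · have hmem : φ ∈ Phi K u := by
      rw [msl_Phi_eq_dualAnnihilator, msl_Wsp_eq_span K hu (h u hu), Submodule.mem_dualAnnihilator]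
      intro w hw
      obtain ⟨c, rfl⟩ := Submodule.mem_span_singleton.1 hw
      rw [map_smul, hφu, smul_zero]
    exact hmem.2

theorem eq_SL_core (hgen : Subgroup.closure {g | g ∈ K ∧ IsTv g} = K)
    (h : ∀ u : V, u ≠ 0 → finrank (ZMod p) ↥(Wsp K u) = 1)
    (hSL : (Subgroup.closure {g : V ≃ₗ[ZMod p] V | IsTv g} : Set (V ≃ₗ[ZMod p] V)) =
      {g : V ≃ₗ[ZMod p] V | LinearMap.det (g : V →ₗ[ZMod p] V) = 1}) :
    (K : Set (V ≃ₗ[ZMod p] V)) =
      {g : V ≃ₗ[ZMod p] V | LinearMap.det (g : V →ₗ[ZMod p] V) = 1} := by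
  have hK : K = Subgroup.closure {g : V ≃ₗ[ZMod p] V | IsTv g} := by
    apply le_antisymm
    · rw [← hgen]
      exact Subgroup.closure_mono (fun g hg => hg.2)
    · rw [Subgroup.closure_le]
      intro g hg
      exact msl_isTv_mem h hg
  rw [hK]
  exact hSL

end MSL

end Cfsg.Agent.Helper4.McL
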