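import Mathlib
import Cfsg.Agent.Lib.Helper4.McLDefs
import Cfsg.Agent.Lib.Helper27.McLMSLCore
import Cfsg.Agent.Lib.Helper27.McLGenSL

/-!
# S5075, piece MSL: the case `W_u = span {u}` gives `K = SL(V)` (helper27)
-/

set_option autoImplicit false
set_option linter.unusedSectionVars false
set_option linter.unusedVariables false

namespace Cfsg.Agent.Helper4.McL

open Module

section MSL
variable {p : ℕ} [Fact p.Prime] {V : Type*} [AddCommGroup V] [Module (ZMod p) V]
  [Module.Finite (ZMod p) V] {K : Subgroup (V ≃ₗ[ZMod p] V)}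

theorem MHyp.eq_SL (hM : MHyp K) (hp : p ≠ 2)
    (h : ∀ u : V, u ≠ 0 → finrank (ZMod p) ↥(Wsp K u) = 1) :
    (K : Set (V ≃ₗ[ZMod p] V)) = {g : V ≃ₗ[ZMod p] V | LinearMap.det (g : V →ₗ[ZMod p] V) = 1} :=
  eq_SL_core hM.q.gen h closure_isTv_eq_SL

end MSL

end Cfsg.Agent.Helper4.McL
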