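import Mathlib
import Cfsg.Agent.Lib.Helper4.McLDefs
import Cfsg.Agent.Lib.Helper4.McLQ0
import Cfsg.Agent.Lib.Helper27.McLPAIR

/-!
# S5075, piece Q2 (core): the non-orthogonality graph on the centres is connected of diameter ≤ 2
(helper27).  The symmetry of orthogonality (piece Q1) enters as the hypothesis `hsymm`.
-/

set_option autoImplicit false

namespace Cfsg.Agent.Helper4.McL

open Module

section Q2
variable {p : ℕ} [Fact p.Prime] {V : Type*} [AddCommGroup V] [Module (ZMod p) V]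
  {K : Subgroup (V ≃ₗ[ZMod p] V)}

/-- adjacency of centres -/
def q2Adj (K : Subgroup (V ≃ₗ[ZMod p] V)) (x y : V) : Prop :=
  IsCenter K x ∧ IsCenter K y ∧ y ∉ Wsp K x

theorem q2Adj_symm
    (hsymm : ∀ u w : V, IsCenter K u → IsCenter K w → w ∈ Wsp K u → u ∈ Wsp K w)
    {x y : V} (h : q2Adj K x y) : q2Adj K y x :=
  ⟨h.2.1, h.1, fun hc => h.2.2 (hsymm y x h.2.1 h.1 hc)⟩

theorem q2_two_ne (hp : p ≠ 2) : (2 : ZMod p) ≠ 0 := by
  intro h
  have h1 : ((2 : ℕ) : ZMod p) = 0 := by exact_mod_cast h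
  rw [ZMod.natCast_eq_zero_iff] at h1
  have hp' : p.Prime := Fact.out
  have := (Nat.prime_dvd_prime_iff_eq hp' Nat.prime_two).1 h1
  exact hp this

/-- every centre is reachable from `u` -/
theorem q2_connected (hQ : QHyp K)
    (hsymm : ∀ u w : V, IsCenter K u → IsCenter K w → w ∈ Wsp K u → u ∈ Wsp K w)
    {u w : V} (hu : IsCenter K u) (hw : IsCenter K w) :
    Relation.ReflTransGen (q2Adj K) u w := by
  set Δ : Set V := {x | IsCenter K x ∧ Relation.ReflTransGen (q2Adj K) u x} with hΔ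
  have huΔ : u ∈ Δ := ⟨hu, Relation.ReflTransGen.refl⟩
  -- the span of Δ is invariant
  have hinv : Inv K (Submodule.span (ZMod p) Δ) := by
    apply inv_of_tv hQ.gen
    intro u' φ hφ x hx
    induction hx using Submodule.span_induction with
    | zero => simp
    | add a b _ _ ha hb => rw [map_add]; exact Submodule.add_mem _ ha hb
    | smul c a _ ha => rw [map_smul]; exact Submodule.smul_mem _ _ ha
    | mem y hy =>
      obtain ⟨hyc, hyr⟩ := hy
      rw [tv_apply hφ.1]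
      by_cases hu'0 : u' = 0
      · rw [hu'0, smul_zero, add_zero]
        exact Submodule.subset_span ⟨hyc, hyr⟩
      by_cases h0 : φ y = 0
      · rw [h0, zero_smul, add_zero]
        exact Submodule.subset_span ⟨hyc, hyr⟩
      have hφne : φ ≠ 0 := by
        intro h; apply h0; rw [h]; rfl
      have hu'c : IsCenter K u' := isCenter_iff.2 ⟨hu'0, φ, hφ, hφne⟩
      have hadj1 : q2Adj K u' y := ⟨hu'c, hyc, notMem_Wsp.2 ⟨φ, hφ, h0⟩⟩
      have hadj2 : q2Adj K y u' := q2Adj_symm hsymm hadj1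
      have hu'r : Relation.ReflTransGen (q2Adj K) u u' := hyr.tail hadj2
      have hty : IsCenter K (y + φ y • u') := hyc.add_smul hφ h0 (φ y)
      have hval : φ (y + φ y • u') ≠ 0 := by
        rw [map_add, map_smul, hφ.1, smul_zero, add_zero]
        exact h0
      have hadj3 : q2Adj K u' (y + φ y • u') := ⟨hu'c, hty, notMem_Wsp.2 ⟨φ, hφ, hval⟩⟩
      exact Submodule.subset_span ⟨hty, hu'r.tail hadj3⟩
  have hle : comm K ≤ Submodule.span (ZMod p) Δ := by
    rcases hQ.q1 _ hinv with h | h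
    · exact h
    · exfalso
      exact hQ.center_notMem_fix hu (h (Submodule.subset_span huΔ))
  obtain ⟨hw0, φ', hφ', hne'⟩ := isCenter_iff.1 hw
  obtain ⟨x, hx, hφx⟩ := hQ.exists_comm_ne hw0 hφ' hne'
  have hex : ∃ y ∈ Δ, φ' y ≠ 0 := by
    by_contra hall
    push Not at hall
    have hle2 : Submodule.span (ZMod p) Δ ≤ LinearMap.ker φ' := by
      rw [Submodule.span_le]
      intro y hy
      exact hall y hy
    exact hφx (hle2 (hle hx))
  obtain ⟨y, ⟨hyc, hyr⟩, hy⟩ := hex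
  have hadj1 : q2Adj K w y := ⟨hw, hyc, notMem_Wsp.2 ⟨φ', hφ', hy⟩⟩
  exact hyr.tail (q2Adj_symm hsymm hadj1)

/-- PIECE Q2 with the symmetry of orthogonality as a hypothesis -/
theorem exists_common_nbr_core (hQ : QHyp K) (hp : p ≠ 2)
    (hsymm : ∀ u w : V, IsCenter K u → IsCenter K w → w ∈ Wsp K u → u ∈ Wsp K w)
    {u w : V} (hu : IsCenter K u) (hw : IsCenter K w) :
    ∃ r, IsCenter K r ∧ r ∉ Wsp K u ∧ r ∉ Wsp K w := by
  have hpath := q2_connected hQ hsymm hu hw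
  clear hw
  induction hpath with
  | refl =>
    obtain ⟨hu0, φ, hφ, hne⟩ := isCenter_iff.1 hu
    obtain ⟨r, hr, hφr⟩ := hQ.exists_center_ne hu0 hφ hne
    exact ⟨r, hr, notMem_Wsp.2 ⟨φ, hφ, hφr⟩, notMem_Wsp.2 ⟨φ, hφ, hφr⟩⟩
  | tail hub hbw ih =>
    rename_i b c
    obtain ⟨r, hr, hru, hrb⟩ := ih
    by_cases hrc : r ∉ Wsp K c
    · exact ⟨r, hr, hru, hrc⟩
    push Not at hrc
    have hcb : q2Adj K c b := q2Adj_symm hsymm hbw
    obtain ⟨ψ, hψ, hψb⟩ := notMem_Wsp.1 hcb.2.2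
    have hψr : ψ r = 0 := mem_Wsp.1 hrc ψ hψ
    obtain ⟨φb, hφb, hφbr⟩ := notMem_Wsp.1 hrb
    obtain ⟨φ, hφ, hφr⟩ := notMem_Wsp.1 hru
    have hx : ∀ a : ZMod p, IsCenter K (r + a • b) := fun a => hr.add_smul hφb hφbr a
    have hxc : ∀ a : ZMod p, a ≠ 0 → r + a • b ∉ Wsp K c := by
      intro a ha
      refine notMem_Wsp.2 ⟨ψ, hψ, ?_⟩
      rw [map_add, map_smul, hψr, zero_add, smul_eq_mul]
      exact mul_ne_zero ha hψb
    by_cases h1 : φ (r + (1 : ZMod p) • b) = 0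
    · refine ⟨r + (2 : ZMod p) • b, hx 2, notMem_Wsp.2 ⟨φ, hφ, ?_⟩, hxc 2 (q2_two_ne hp)⟩
      intro h2
      rw [map_add, map_smul, smul_eq_mul] at h1 h2
      have h3 : φ b = 0 := by
        have : φ r + 2 * φ b - (φ r + 1 * φ b) = φ b := by ring
        rw [← this, h1, h2, sub_zero]
      rw [h3, mul_zero, add_zero] at h1
      exact hφr h1
    · exact ⟨r + (1 : ZMod p) • b, hx 1, notMem_Wsp.2 ⟨φ, hφ, h1⟩, hxc 1 one_ne_zero⟩

end Q2

end Cfsg.Agent.Helper4.McL
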