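import Mathlib
import Cfsg.Agent.Lib.Helper4.McLDefs
import Cfsg.Agent.Lib.Helper4.McLQ0
import Cfsg.Agent.Lib.Helper4.McLQ1
import Cfsg.Agent.Lib.Helper27.McLPAIR
import Cfsg.Agent.Lib.Helper27.McLQ2Core

/-!
# S5075, piece Q2: any two centres have a common neighbour (helper27)
-/

set_option autoImplicit false

namespace Cfsg.Agent.Helper4.McL

open Module

section Q2
variable {p : ℕ} [Fact p.Prime] {V : Type*} [AddCommGroup V] [Module (ZMod p) V]
  [Module.Finite (ZMod p) V] {K : Subgroup (V ≃ₗ[ZMod p] V)}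

theorem QHyp.exists_common_nbr (hQ : QHyp K) (hp : p ≠ 2) {u w : V} (hu : IsCenter K u)
    (hw : IsCenter K w) : ∃ r, IsCenter K r ∧ r ∉ Wsp K u ∧ r ∉ Wsp K w :=
  exists_common_nbr_core hQ hp (fun _ _ hu' hw' h => hQ.perp_symm hu' hw' h) hu hw

end Q2

end Cfsg.Agent.Helper4.McL
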