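import Mathlib
import Cfsg.Agent.Lib.Helper4.McLDefs
import Cfsg.Agent.Lib.Helper4.McLQ0
import Cfsg.Agent.Lib.Helper4.McLQ1
import Cfsg.Agent.Lib.Helper27.McLPAIR
import Cfsg.Agent.Lib.Helper27.McLQ2Core
import Cfsg.Agent.Lib.Helper27.McLQ2

/-!
# S5075, piece Q3: the sum of two centres is a centre or lies in `C_V(K)` (helper27)
-/

set_option autoImplicit false
set_option linter.unusedSectionVars false
set_option linter.unusedVariables false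

namespace Cfsg.Agent.Helper4.McL

open Module

section Q3
variable {p : ℕ} [Fact p.Prime] {V : Type*} [AddCommGroup V] [Module (ZMod p) V]
  [Module.Finite (ZMod p) V] {K : Subgroup (V ≃ₗ[ZMod p] V)}

/-- STEP 1 -/
theorem q3_step1 (hQ : QHyp K) {u w r : V} (huw : w ∈ Wsp K u) (hwu : u ∈ Wsp K w)
    (hz : ¬ IsCenter K (u + w)) (hr : IsCenter K r) (hru : r ∉ Wsp K u) (hrw : r ∉ Wsp K w) :
    u + w ∈ Wsp K r := by
  rw [mem_Wsp]
  intro ρ hρ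
  by_contra hne
  apply hz
  obtain ⟨φ, hφ, hφr⟩ := notMem_Wsp.1 hru
  obtain ⟨ψ, hψ, hψr⟩ := notMem_Wsp.1 hrw
  have hψu : ψ u = 0 := mem_Wsp.1 hwu ψ hψ
  set c : ZMod p := (ρ (u + w))⁻¹ with hc
  have h1 : IsCenter K (r + c • u) := hr.add_smul hφ hφr c
  have h2 : IsCenter K ((r + c • u) + c • w) := by
    apply h1.add_smul hψ _ c
    rw [map_add, map_smul, hψu, smul_zero, add_zero]
    exact hψr
  have h3 : IsCenter K (ρ (u + w) • ((r + c • u) + c • w)) := h2.smul hne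
  have h4 : ρ (u + w) • ((r + c • u) + c • w) = tv ρ r (u + w) := by
    rw [tv_apply hρ.1, smul_add, smul_add, smul_smul, smul_smul, hc, mul_inv_cancel₀ hne,
      one_smul, one_smul]
    abel
  rw [h4] at h3
  have h5 := h3.map (K.inv_mem hρ.2)
  have h6 : (tv ρ r)⁻¹ (tv ρ r (u + w)) = u + w := by
    rw [← LinearEquiv.mul_apply, inv_mul_cancel]
    rfl
  rwa [h6] at h5

/-- STEP 2, the mixed case is impossible -/
theorem q3_step2 (hQ : QHyp K) (hp : p ≠ 2) {u w r' : V} (hu : IsCenter K u) (hw : IsCenter K w)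
    (huw : w ∈ Wsp K u) (hwu : u ∈ Wsp K w) (hz : ¬ IsCenter K (u + w))
    (hr' : IsCenter K r') (hr'u : r' ∉ Wsp K u) (hr'w : r' ∈ Wsp K w) : False := by
  have hur' : u ∉ Wsp K r' := fun h => hr'u (hQ.perp_symm hr' hu h)
  have hwr' : w ∈ Wsp K r' := hQ.perp_symm hw hr' hr'w
  -- a common neighbour adjacent to r'
  obtain ⟨r, hr, hru, hrw, hrr'⟩ : ∃ r, IsCenter K r ∧ r ∉ Wsp K u ∧ r ∉ Wsp K w ∧
      r ∉ Wsp K r' := by
    obtain ⟨r0, hr0, hr0u, hr0w⟩ := hQ.exists_common_nbr hp hu hw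
    by_cases h : r0 ∈ Wsp K r'
    · obtain ⟨φ, hφ, hφr0⟩ := notMem_Wsp.1 hr0u
      obtain ⟨ψ, hψ, hψr0⟩ := notMem_Wsp.1 hr0w
      obtain ⟨ρ', hρ', hρ'u⟩ := notMem_Wsp.1 hur'
      have hψu : ψ u = 0 := mem_Wsp.1 hwu ψ hψ
      have hρ'r0 : ρ' r0 = 0 := mem_Wsp.1 h ρ' hρ'
      refine ⟨r0 + (1 : ZMod p) • u, hr0.add_smul hφ hφr0 1, notMem_Wsp.2 ⟨φ, hφ, ?_⟩,
        notMem_Wsp.2 ⟨ψ, hψ, ?_⟩, notMem_Wsp.2 ⟨ρ', hρ', ?_⟩⟩
      · rw [map_add, map_smul, hφ.1, smul_zero, add_zero]; exact hφr0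
      · rw [map_add, map_smul, hψu, smul_zero, add_zero]; exact hψr0
      · rw [map_add, map_smul, hρ'r0, zero_add, one_smul]; exact hρ'u
    · exact ⟨r0, hr0, hr0u, hr0w, h⟩
  have hr'r : r' ∉ Wsp K r := fun h => hrr' (hQ.perp_symm hr hr' h)
  -- ρ' ∈ Φ_{r'} nonzero at r and at u
  obtain ⟨ρ', hρ', hρ'r, hρ'u⟩ : ∃ ρ' ∈ Phi K r', ρ' r ≠ 0 ∧ ρ' u ≠ 0 := by
    obtain ⟨ρ1, hρ1, h1⟩ := notMem_Wsp.1 hrr'
    obtain ⟨ρ2, hρ2, h2⟩ := notMem_Wsp.1 hur'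
    by_cases h3 : ρ1 u = 0
    · by_cases h4 : ρ2 r = 0
      · refine ⟨ρ1 + ρ2, (Phi K r').add_mem hρ1 hρ2, ?_, ?_⟩
        · rw [LinearMap.add_apply, h4, add_zero]; exact h1
        · rw [LinearMap.add_apply, h3, zero_add]; exact h2
      · exact ⟨ρ2, hρ2, h4, h2⟩
    · exact ⟨ρ1, hρ1, h1, h3⟩
  obtain ⟨ρ, hρ, hρr'⟩ := notMem_Wsp.1 hr'r
  obtain ⟨φ, hφ, hφr⟩ := notMem_Wsp.1 hru
  obtain ⟨ψ, hψ, hψr⟩ := notMem_Wsp.1 hrw
  have hψr' : ψ r' = 0 := mem_Wsp.1 hr'w ψ hψ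
  have hρ'w : ρ' w = 0 := mem_Wsp.1 hwr' ρ' hρ'
  have hρz : ρ (u + w) = 0 := mem_Wsp.1 (q3_step1 hQ huw hwu hz hr hru hrw) ρ hρ
  -- the key claim
  have key : ∀ a : ZMod p, a ≠ 0 → φ (r + (a * ρ' r) • r') = 0 := by
    intro a ha
    by_contra hφa
    have hmem : a • ρ' ∈ Phi K r' := (Phi K r').smul_mem a hρ'
    have hgr : tv (a • ρ') r' r = r + (a * ρ' r) • r' := by
      rw [tv_apply hmem.1]; rfl
    have hra : IsCenter K (r + (a * ρ' r) • r') := by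
      rw [← hgr]; exact hr.map hmem.2
    have hrau : r + (a * ρ' r) • r' ∉ Wsp K u := notMem_Wsp.2 ⟨φ, hφ, hφa⟩
    have hraw : r + (a * ρ' r) • r' ∉ Wsp K w := by
      refine notMem_Wsp.2 ⟨ψ, hψ, ?_⟩
      rw [map_add, map_smul, hψr', smul_zero, add_zero]; exact hψr
    have hzW := q3_step1 hQ huw hwu hz hra hrau hraw
    have hρa : ρ ∘ₗ ((tv (a • ρ') r').symm : V →ₗ[ZMod p] V) ∈
        Phi K (r + (a * ρ' r) • r') := by
      rw [← hgr]; exact (mem_Phi_map hmem.2).2 hρ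
    have hval := mem_Wsp.1 hzW _ hρa
    have hsymm : (tv (a • ρ') r').symm (u + w) = (tv (a • ρ') r')⁻¹ (u + w) := rfl
    have hneg : (-(a • ρ')) r' = 0 := by
      rw [LinearMap.neg_apply, hmem.1, neg_zero]
    rw [LinearMap.comp_apply, LinearEquiv.coe_coe, hsymm, tv_inv, tv_apply hneg, map_add ρ, hρz,
      zero_add, map_smul, LinearMap.neg_apply, LinearMap.smul_apply, map_add ρ', hρ'w, add_zero,
      smul_eq_mul, smul_eq_mul] at hval
    have : -(a * ρ' u) * ρ r' ≠ 0 :=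
      mul_ne_zero (neg_ne_zero.2 (mul_ne_zero ha hρ'u)) hρr'
    exact this hval
  have k1 := key 1 one_ne_zero
  have k2 := key 2 (q2_two_ne hp)
  rw [map_add, map_smul, smul_eq_mul] at k1 k2
  have h3 : ρ' r * φ r' = 0 := by
    have : (φ r + 2 * ρ' r * φ r') - (φ r + 1 * ρ' r * φ r') = ρ' r * φ r' := by ring
    rw [← this, k1, k2, sub_zero]
  apply hφr
  rw [one_mul, h3, add_zero] at k1
  exact k1

theorem QHyp.add_isCenter_or (hQ : QHyp K) (hp : p ≠ 2) {u w : V} (hu : IsCenter K u)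
    (hw : IsCenter K w) : IsCenter K (u + w) ∨ u + w ∈ fix K := by
  by_contra hcon
  push Not at hcon
  obtain ⟨hz, hzfix⟩ := hcon
  have huw : w ∈ Wsp K u := by
    by_contra h
    obtain ⟨φ, hφ, hφw⟩ := notMem_Wsp.1 h
    have := hw.add_smul hφ hφw 1
    rw [one_smul, add_comm] at this
    exact hz this
  have hwu : u ∈ Wsp K w := hQ.perp_symm hu hw huw
  apply hzfix
  rw [mem_fix_iff_forall_Wsp hQ.gen]
  intro r' hr'
  by_cases h1 : r' ∈ Wsp K u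
  · by_cases h2 : r' ∈ Wsp K w
    · exact (Wsp K r').add_mem (hQ.perp_symm hu hr' h1) (hQ.perp_symm hw hr' h2)
    · exfalso
      have hz' : ¬ IsCenter K (w + u) := by rwa [add_comm]
      exact q3_step2 hQ hp hw hu hwu huw hz' hr' h2 h1
  · by_cases h2 : r' ∈ Wsp K w
    · exfalso
      exact q3_step2 hQ hp hu hw huw hwu hz hr' h1 h2
    · exact q3_step1 hQ huw hwu hz hr' h1 h2

end Q3

end Cfsg.Agent.Helper4.McL
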