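import Mathlib
import Cfsg.Agent.Lib.Helper4.McLDefs
import Cfsg.Agent.Lib.Helper4.McLMB
import Cfsg.Agent.Lib.Helper4.McLM8
import Cfsg.Agent.Lib.Helper19.McLQI
import Cfsg.Agent.Lib.Helper19.McLMSpCore
import Cfsg.Agent.Lib.Helper19.McLGenSp
import Cfsg.Agent.Lib.Helper21.McLForm
import Cfsg.Agent.Lib.Helper27.McLMCore
import Cfsg.Agent.Lib.Helper27.McLMSL

/-!
# S5075, piece M: THEOREM M (helper27)
-/

set_option autoImplicit false
set_option linter.unusedSectionVars false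
set_option linter.unusedVariables false

namespace Cfsg.Agent.Helper4.McL

open Module

section M
variable {p : ℕ} [Fact p.Prime] {V : Type*} [AddCommGroup V] [Module (ZMod p) V]
  [Module.Finite (ZMod p) V]

theorem theoremM (hp : p ≠ 2) (K : Subgroup (V ≃ₗ[ZMod p] V))
    (hgen : Subgroup.closure {g | g ∈ K ∧ IsTv g} = K)
    (hirr : ∀ X : Submodule (ZMod p) V, Inv K X → X = ⊥ ∨ X = ⊤) :
    (K : Set (V ≃ₗ[ZMod p] V)) = {g : V ≃ₗ[ZMod p] V | LinearMap.det (g : V →ₗ[ZMod p] V) = 1} ∨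
    ∃ B : LinearMap.BilinForm (ZMod p) V, B.IsAlt ∧ B.Nondegenerate ∧
      (K : Set (V ≃ₗ[ZMod p] V)) = {g | ∀ x y, B (g x) (g y) = B x y} :=
  theoremM_core K hirr (fun hne => mHyp_of_irred hgen hirr hne)
    (fun hM u hu => hM.dichotomy hp hu)
    (fun hM x y hx hy => hM.finrank_Phi_eq hp hx hy)
    (fun hM h => hM.eq_SL hp h)
    (fun hM h => eq_Sp_core hM.q.gen h
      (exists_form K h (fun u w hu hw hh => hM.symm hp hu hw hh))
      (fun B hA hB => closure_symp_tv B hA hB))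

end M

end Cfsg.Agent.Helper4.McL
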