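import Mathlib
import Cfsg.Agent.Lib.Helper4.McLDefs

/-!
# S5075, piece REC: an element of order `p` with a fixed hyperplane is a transvection (helper27)
-/

set_option autoImplicit false

namespace Cfsg.Agent.Helper4.McL

open Module

section REC
variable {p : ℕ} [Fact p.Prime] {V : Type*} [AddCommGroup V] [Module (ZMod p) V]
  [Module.Finite (ZMod p) V]

theorem isTv_of_orderOf (t : V ≃ₗ[ZMod p] V) (ho : orderOf t = p)
    (hk : finrank (ZMod p) ↥(LinearMap.ker ((t : V →ₗ[ZMod p] V) - LinearMap.id)) + 1 =
      finrank (ZMod p) V) : IsTv t := by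
  set N : V →ₗ[ZMod p] V := (t : V →ₗ[ZMod p] V) - LinearMap.id with hN
  have hrn := LinearMap.finrank_range_add_finrank_ker N
  have hr1 : finrank (ZMod p) ↥(LinearMap.range N) = 1 := by omega
  let b : Basis (Fin 1) (ZMod p) ↥(LinearMap.range N) := Module.basisUnique (Fin 1) hr1
  set u : V := ((b 0 : ↥(LinearMap.range N)) : V) with hu
  have hu0 : u ≠ 0 := by
    intro h0
    have : b 0 = 0 := Subtype.ext h0
    exact b.ne_zero 0 this
  let φ : Dual (ZMod p) V := (b.coord 0) ∘ₗ N.rangeRestrict
  have hNx : ∀ x, N x = φ x • u := by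
    intro x
    have h1 := b.sum_repr (N.rangeRestrict x)
    rw [Fin.sum_univ_one] at h1
    have h2 := congrArg (Subtype.val) h1
    simp only [Submodule.coe_smul] at h2
    have h3 : ((N.rangeRestrict x : ↥(LinearMap.range N)) : V) = N x := rfl
    rw [h3] at h2
    rw [← h2]
    rfl
  have htx : ∀ x, t x = x + φ x • u := by
    intro x
    have h1 := hNx x
    rw [hN] at h1
    simp only [LinearMap.sub_apply, LinearEquiv.coe_coe, LinearMap.id_coe, id_eq] at h1
    rw [← h1]; abel
  have hpow : ∀ k : ℕ, (t ^ k) u = (1 + φ u) ^ k • u := by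
    intro k
    induction k with
    | zero => simp
    | succ k ih =>
      rw [pow_succ' t, LinearEquiv.mul_apply, ih, map_smul, htx u, pow_succ, mul_smul, add_smul,
        one_smul]
  have hφu : φ u = 0 := by
    have h1 := hpow p
    have h2 : t ^ p = 1 := by
      have := pow_orderOf_eq_one t
      rwa [ho] at this
    rw [h2, ZMod.pow_card, LinearEquiv.coe_one, id_eq, add_smul, one_smul] at h1
    have h3 : φ u • u = 0 := by
      have : u + 0 = u + φ u • u := by rw [add_zero]; exact h1
      exact (add_left_cancel this).symm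
    rcases smul_eq_zero.1 h3 with h4 | h4
    · exact h4
    · exact absurd h4 hu0
  refine ⟨φ, u, hφu, ?_⟩
  apply LinearEquiv.ext
  intro x
  rw [tv_apply hφu, htx]

end REC

end Cfsg.Agent.Helper4.McL
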