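import Mathlib
import Cfsg.Agent.Lib.Helper4.McLDefs
import Cfsg.Agent.Lib.Helper4.McLQ0

/-!
# S5075, piece RES (core): restriction of `K` to `[V,K]` (helper27).
THEOREM M for the space `[V,K]` enters as the hypothesis `hM`.
-/

set_option autoImplicit false
set_option linter.unusedSectionVars false
set_option linter.unusedVariables false

namespace Cfsg.Agent.Helper4.McL

open Module

section RES
variable {p : ℕ} [Fact p.Prime] {V : Type*} [AddCommGroup V] [Module (ZMod p) V]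

/-- restriction of a linear automorphism to an invariant subspace -/
def resEquiv (U : Submodule (ZMod p) V) (g : V ≃ₗ[ZMod p] V) (hg : ∀ x ∈ U, g x ∈ U)
    (hg' : ∀ x ∈ U, g.symm x ∈ U) : ↥U ≃ₗ[ZMod p] ↥U where
  toFun x := ⟨g x, hg x x.2⟩
  invFun x := ⟨g.symm x, hg' x x.2⟩
  map_add' x y := by
    apply Subtype.ext
    simp
  map_smul' c x := by
    apply Subtype.ext
    simp
  left_inv x := by
    apply Subtype.ext
    simp
  right_inv x := by
    apply Subtype.ext
    simp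

@[simp] theorem resEquiv_apply (U : Submodule (ZMod p) V) (g : V ≃ₗ[ZMod p] V)
    (hg : ∀ x ∈ U, g x ∈ U) (hg' : ∀ x ∈ U, g.symm x ∈ U) (x : ↥U) :
    ((resEquiv U g hg hg' x : ↥U) : V) = g x := rfl

/-- the restriction homomorphism `K → GL([V,K])` -/
def resHom (K : Subgroup (V ≃ₗ[ZMod p] V)) : ↥K →* (↥(comm K) ≃ₗ[ZMod p] ↥(comm K)) where
  toFun h := resEquiv (comm K) (h : V ≃ₗ[ZMod p] V) (fun x hx => map_mem_comm h.2 hx)
    (fun x hx => map_mem_comm (K.inv_mem h.2) hx)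
  map_one' := by
    apply LinearEquiv.ext
    intro x
    apply Subtype.ext
    rfl
  map_mul' a b := by
    apply LinearEquiv.ext
    intro x
    apply Subtype.ext
    rfl

theorem resHom_apply (K : Subgroup (V ≃ₗ[ZMod p] V)) (h : ↥K) (v : ↥(comm K)) :
    ((resHom K h v : ↥(comm K)) : V) = (h : V ≃ₗ[ZMod p] V) (v : V) := rfl

/-- the image of the restriction is generated by its transvections -/
theorem res_gen {K : Subgroup (V ≃ₗ[ZMod p] V)}
    (hgen : Subgroup.closure {g | g ∈ K ∧ IsTv g} = K) :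
    Subgroup.closure {g | g ∈ (resHom K).range ∧ IsTv g} = (resHom K).range := by
  apply le_antisymm
  · rw [Subgroup.closure_le]
    intro g hg
    exact hg.1
  · have key : ∀ g ∈ K, g ∈ K ∧ ∀ hg : g ∈ K,
        resHom K ⟨g, hg⟩ ∈ Subgroup.closure {g | g ∈ (resHom K).range ∧ IsTv g} := by
      refine tv_induction hgen (fun g => g ∈ K ∧ ∀ hg : g ∈ K,
        resHom K ⟨g, hg⟩ ∈ Subgroup.closure {g | g ∈ (resHom K).range ∧ IsTv g}) ?_ ?_ ?_
      · intro u φ hφ
        refine ⟨hφ.2, fun hg => ?_⟩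
        by_cases h1 : tv φ u = 1
        · have : (⟨tv φ u, hg⟩ : ↥K) = 1 := Subtype.ext h1
          rw [this, map_one]
          exact Subgroup.one_mem _
        · have hne : φ ≠ 0 ∧ u ≠ 0 := by
            constructor
            · intro h; apply h1; rw [h]; exact tv_zero_left u
            · intro h; apply h1; rw [h]; exact tv_zero_right φ
          have huc : IsCenter K u := isCenter_iff.2 ⟨hne.2, φ, hφ, hne.1⟩
          have huU : u ∈ comm K := huc.mem_comm
          apply Subgroup.subset_closure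
          refine ⟨⟨⟨tv φ u, hg⟩, rfl⟩, φ ∘ₗ (comm K).subtype, ⟨u, huU⟩, ?_, ?_⟩
          · simpa using hφ.1
          · have h0 : (φ ∘ₗ (comm K).subtype) (⟨u, huU⟩ : ↥(comm K)) = 0 := by
              simpa using hφ.1
            apply LinearEquiv.ext
            intro x
            apply Subtype.ext
            rw [resHom_apply, tv_apply h0]
            simp only [Submodule.coe_add, Submodule.coe_smul, LinearMap.comp_apply,
              Submodule.subtype_apply]
            exact tv_apply hφ.1 _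
      · refine ⟨K.one_mem, fun hg => ?_⟩
        have : (⟨1, hg⟩ : ↥K) = 1 := rfl
        rw [this, map_one]
        exact Subgroup.one_mem _
      · rintro a b ⟨ha, ha'⟩ ⟨hb, hb'⟩
        refine ⟨K.mul_mem ha hb, fun hg => ?_⟩
        have : (⟨a * b, hg⟩ : ↥K) = ⟨a, ha⟩ * ⟨b, hb⟩ := rfl
        rw [this, map_mul]
        exact Subgroup.mul_mem _ (ha' ha) (hb' hb)
    rintro g ⟨k, rfl⟩
    exact (key k k.2).2 k.2

/-- the image of the restriction is irreducible -/
theorem res_irred {K : Subgroup (V ≃ₗ[ZMod p] V)} (hQ : QHyp K) (hcap : comm K ⊓ fix K = ⊥)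
    (X' : Submodule (ZMod p) ↥(comm K)) (hX' : Inv (resHom K).range X') : X' = ⊥ ∨ X' = ⊤ := by
  have hinv : Inv K (X'.map (comm K).subtype) := by
    intro g hg x hx
    obtain ⟨x', hx', rfl⟩ := Submodule.mem_map.1 hx
    refine Submodule.mem_map.2 ⟨resHom K ⟨g, hg⟩ x', hX' _ ⟨⟨g, hg⟩, rfl⟩ x' hx', ?_⟩
    rfl
  rcases hQ.q1 _ hinv with h | h
  · right
    rw [eq_top_iff]
    intro y _
    obtain ⟨x', hx', hxy⟩ := Submodule.mem_map.1 (h y.2)
    have : x' = y := Subtype.ext hxy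
    rwa [← this]
  · left
    rw [eq_bot_iff]
    intro x' hx'
    have h1 : ((x' : ↥(comm K)) : V) ∈ X'.map (comm K).subtype :=
      Submodule.mem_map.2 ⟨x', hx', rfl⟩
    have h2 : ((x' : ↥(comm K)) : V) ∈ comm K ⊓ fix K := ⟨x'.2, h h1⟩
    rw [hcap, Submodule.mem_bot] at h2
    rw [Submodule.mem_bot]
    exact Subtype.ext h2

theorem exists_restrict_core {K : Subgroup (V ≃ₗ[ZMod p] V)} (hQ : QHyp K)
    (hcap : comm K ⊓ fix K = ⊥)
    (hM : ∀ K' : Subgroup (↥(comm K) ≃ₗ[ZMod p] ↥(comm K)),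
      Subgroup.closure {g | g ∈ K' ∧ IsTv g} = K' →
      (∀ X : Submodule (ZMod p) ↥(comm K), Inv K' X → X = ⊥ ∨ X = ⊤) →
      ((K' : Set (↥(comm K) ≃ₗ[ZMod p] ↥(comm K))) =
          {f : ↥(comm K) ≃ₗ[ZMod p] ↥(comm K) |
            LinearMap.det (f : ↥(comm K) →ₗ[ZMod p] ↥(comm K)) = 1} ∨
        ∃ B : LinearMap.BilinForm (ZMod p) ↥(comm K), B.IsAlt ∧ B.Nondegenerate ∧
          (K' : Set (↥(comm K) ≃ₗ[ZMod p] ↥(comm K))) = {f | ∀ x y, B (f x) (f y) = B x y})) :
    ∃ ρ : ↥K →* (↥(comm K) ≃ₗ[ZMod p] ↥(comm K)),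
      (∀ (h : ↥K) (v : ↥(comm K)), ((ρ h v : ↥(comm K)) : V) = (h : V ≃ₗ[ZMod p] V) (v : V)) ∧
      ((ρ.range : Set (↥(comm K) ≃ₗ[ZMod p] ↥(comm K))) =
          {f : ↥(comm K) ≃ₗ[ZMod p] ↥(comm K) |
            LinearMap.det (f : ↥(comm K) →ₗ[ZMod p] ↥(comm K)) = 1} ∨
        ∃ B : LinearMap.BilinForm (ZMod p) ↥(comm K), B.IsAlt ∧ B.Nondegenerate ∧
          (ρ.range : Set (↥(comm K) ≃ₗ[ZMod p] ↥(comm K))) =
            {f | ∀ x y, B (f x) (f y) = B x y}) :=
  ⟨resHom K, resHom_apply K, hM _ (res_gen hQ.gen) (res_irred hQ hcap)⟩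

end RES

end Cfsg.Agent.Helper4.McL
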