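import Mathlib
import Cfsg.Agent.Lib.Helper4.McLDefs
import Cfsg.Agent.Lib.Helper4.McLQ0
import Cfsg.Agent.Lib.Helper27.McLResCore
import Cfsg.Agent.Lib.Helper27.McLM

/-!
# S5075, piece RES: restriction of `K` to `[V,K]` (helper27)
-/

set_option autoImplicit false
set_option linter.unusedSectionVars false
set_option linter.unusedVariables false

namespace Cfsg.Agent.Helper4.McL

open Module

section RES
variable {p : ℕ} [Fact p.Prime] {V : Type*} [AddCommGroup V] [Module (ZMod p) V]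
  [Module.Finite (ZMod p) V]

theorem exists_restrict (hp : p ≠ 2) {K : Subgroup (V ≃ₗ[ZMod p] V)} (hQ : QHyp K)
    (hcap : comm K ⊓ fix K = ⊥) :
    ∃ ρ : ↥K →* (↥(comm K) ≃ₗ[ZMod p] ↥(comm K)),
      (∀ (h : ↥K) (v : ↥(comm K)), ((ρ h v : ↥(comm K)) : V) = (h : V ≃ₗ[ZMod p] V) (v : V)) ∧
      ((ρ.range : Set (↥(comm K) ≃ₗ[ZMod p] ↥(comm K))) =
          {f : ↥(comm K) ≃ₗ[ZMod p] ↥(comm K) | LinearMap.det (f : ↥(comm K) →ₗ[ZMod p] ↥(comm K)) = 1} ∨
        ∃ B : LinearMap.BilinForm (ZMod p) ↥(comm K), B.IsAlt ∧ B.Nondegenerate ∧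
          (ρ.range : Set (↥(comm K) ≃ₗ[ZMod p] ↥(comm K))) = {f | ∀ x y, B (f x) (f y) = B x y}) :=
  exists_restrict_core hQ hcap (fun K' hgen hirr => theoremM hp K' hgen hirr)

end RES

end Cfsg.Agent.Helper4.McL
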