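import Mathlib
import Cfsg.Agent.Lib.Helper27.MonI
import Cfsg.Agent.Lib.Helper28.FStarExtra

set_option autoImplicit false
set_option linter.unusedSectionVars false
set_option linter.style.haveILetI false
open Cfsg
open scoped commutatorElement

/-! Groups of Monster type: `g⁻¹ z g` lies in `Q` when `g z g⁻¹` does (`exists_z'`, through the lemmas of helper28 on extraspecial generalized Fitting subgroups), and `Q ∩ g Q g⁻¹` has order `2 ^ 13` (`s5409_core`). -/

namespace Cfsg.Agent.Helper27.Mon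

section S5409

variable {G : Type*} [Group G] {z : G} {Q : Subgroup (Subgroup.centralizer ({z} : Set G))}

local notation "CC" => Subgroup.centralizer (singleton z : Set G)

theorem mem_QG (x : G) : x ∈ Q.map (Subgroup.centralizer ({z} : Set G)).subtype ↔
    ∃ q : Q, ((q : CC) : G) = x := by
  constructor
  · rintro ⟨c, hc, rfl⟩; exact ⟨⟨c, hc⟩, rfl⟩
  · rintro ⟨q, rfl⟩; exact ⟨(q : CC), q.2, rfl⟩

/-- In the extraspecial-centralizer setting, if `g z g⁻¹` lies in `Q` and differs from `z`, then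
`g⁻¹ z g` lies in `Q` as well. -/
theorem exists_z' [Finite G] [Q.Normal] {w : ℕ} (hM : IsExtraspecialCentralizerSetting z Q w) (g : G)
    (sQ : Q) (htg : ((sQ : CC) : G) = g * z * g⁻¹) (htz : ((sQ : CC) : G) ≠ z) :
    ∃ z'Q : Q, ((z'Q : CC) : G) = g⁻¹ * z * g := by
  obtain ⟨hord, hF, hE, hcard, -⟩ := hM
  set ι : Q →* G := (Subgroup.centralizer ({z} : Set G)).subtype.comp Q.subtype with hι
  have hιinj : Function.Injective ι := by
    intro a b hab
    apply Subtype.ext
    apply Subtype.ext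
    exact hab
  have hrange : ι.range = Q.map (Subgroup.centralizer ({z} : Set G)).subtype := by
    ext x
    rw [mem_QG]
    constructor
    · rintro ⟨q, rfl⟩; exact ⟨q, rfl⟩
    · rintro ⟨q, rfl⟩; exact ⟨q, rfl⟩
  obtain ⟨hp, z₀, hz₀m, hz₀1, hz₀2, -, hcomm, hcen⟩ :=
    Cfsg.Agent.Helper28.FStarExtra.data_of_injective hE ι hιinj
  rw [hrange] at hp hcomm hcen
  have hF' : (Cfsg.generalizedFittingSubgroup ↥(Subgroup.centralizer ({z} : Set G))).map
      (Subgroup.centralizer ({z} : Set G)).subtype = Q.map (Subgroup.centralizer ({z} : Set G)).subtype := by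
    rw [hF]
  obtain ⟨hEz, hNz⟩ := Cfsg.Agent.Helper28.FStarExtra.fstar_setup z hord _ hF' z₀ hz₀1 hz₀2 hcomm hcen
  have hxQ : g * z * g⁻¹ ∈ Q.map (Subgroup.centralizer ({z} : Set G)).subtype := by
    rw [mem_QG]; exact ⟨sQ, htg⟩
  have hxz : g * z * g⁻¹ ≠ z := by rw [← htg]; exact htz
  have h1 := Cfsg.Agent.Helper28.FStarExtra.z_mem_conj hEz hp hNz g hxQ hxz
  rw [Cfsg.Agent.Helper28.LargeExtra.mem_map_conj, mem_QG] at h1
  exact h1

end S5409

end Cfsg.Agent.Helper27.Mon

namespace Cfsg.Agent.Helper27.Mon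

section S5409b

variable {G : Type*} [Group G] {z : G} {Q : Subgroup (Subgroup.centralizer ({z} : Set G))}
  [Q.Normal] {e : (Subgroup.centralizer ({z} : Set G)) ⧸ Q ≃* Spor.Co1}

local notation "CC" => Subgroup.centralizer (singleton z : Set G)

/-- The kernel of `phiH` on the kernel of `thetaH`, viewed in `G`, is `Q ∩ g Q g⁻¹`. -/
theorem card_inter_eq (g : G) (sQ : Q) (htg : ((sQ : CC) : G) = g * z * g⁻¹) :
    Nat.card ↥((Q.map (Subgroup.centralizer ({z} : Set G)).subtype) ⊓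
      (Q.map (Subgroup.centralizer ({z} : Set G)).subtype).map (MulAut.conj g).toMonoidHom) =
    Nat.card ((phiH e sQ).comp (thetaH g sQ htg).ker.subtype).ker := by
  set θ := thetaH g sQ htg with hθ
  set ρ := (phiH e sQ).comp θ.ker.subtype with hρ
  let j : ρ.ker →* G := (Subgroup.centralizer ({z} : Set G)).subtype.comp
    ((HH sQ).subtype.comp (θ.ker.subtype.comp ρ.ker.subtype))
  have hjinj : Function.Injective j := by
    intro a b hab
    apply Subtype.ext
    apply Subtype.ext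
    apply Subtype.ext
    apply Subtype.ext
    exact hab
  have hrange : j.range = (Q.map (Subgroup.centralizer ({z} : Set G)).subtype) ⊓
      (Q.map (Subgroup.centralizer ({z} : Set G)).subtype).map (MulAut.conj g).toMonoidHom := by
    ext x
    rw [Subgroup.mem_inf, Cfsg.Agent.Helper28.LargeExtra.mem_map_conj, mem_QG, mem_QG]
    constructor
    · rintro ⟨a, rfl⟩
      have h1 : (((a : θ.ker) : HH sQ) : CC) ∈ Q := by
        have : phiH e sQ ((a : θ.ker) : HH sQ) = 1 := a.2
        exact (phiH_eq_one_iff sQ _).mp this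
      have h2 : kappa g (sQ : CC) htg ((a : θ.ker) : HH sQ) ∈ Q :=
        (mem_ker_thetaH g sQ htg _).mp (a : θ.ker).2
      exact ⟨⟨⟨_, h1⟩, rfl⟩, ⟨⟨_, h2⟩, rfl⟩⟩
    · rintro ⟨⟨q, hq⟩, ⟨y, hy⟩⟩
      have hyz : ((y : CC) : G) * z = z * ((y : CC) : G) :=
        (Subgroup.mem_centralizer_iff.mp (y : CC).2 z rfl).symm
      have hxy : x = g * ((y : CC) : G) * g⁻¹ := by rw [hy]; group
      have hmH : (q : CC) ∈ HH sQ := by
        rw [mem_HH]
        apply Subtype.ext
        show ((q : CC) : G) * ((sQ : CC) : G) = ((sQ : CC) : G) * ((q : CC) : G)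
        rw [hq, htg, hxy]
        calc g * ((y : CC) : G) * g⁻¹ * (g * z * g⁻¹) = g * (((y : CC) : G) * z) * g⁻¹ := by group
          _ = g * (z * ((y : CC) : G)) * g⁻¹ := by rw [hyz]
          _ = g * z * g⁻¹ * (g * ((y : CC) : G) * g⁻¹) := by group
      have hmθ : (⟨(q : CC), hmH⟩ : HH sQ) ∈ θ.ker := by
        rw [mem_ker_thetaH]
        have : kappa g (sQ : CC) htg ⟨(q : CC), hmH⟩ = (y : CC) := by
          apply Subtype.ext
          rw [kappa_coe]
          show g⁻¹ * ((q : CC) : G) * g = _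
          rw [hq, hy]
        rw [this]
        exact y.2
      have hmρ : (⟨⟨(q : CC), hmH⟩, hmθ⟩ : θ.ker) ∈ ρ.ker := by
        rw [MonoidHom.mem_ker]
        show phiH e sQ ⟨(q : CC), hmH⟩ = 1
        rw [phiH_eq_one_iff]
        exact q.2
      exact ⟨⟨_, hmρ⟩, hq⟩
  rw [← hrange]
  exact (Nat.card_congr (MonoidHom.ofInjective hjinj).toEquiv).symm

/-- The core of the statement on `Q ∩ g Q g⁻¹`. -/
theorem s5409_core [Finite G] (hM : IsOfMonsterType z Q) (s : G)
    (hsQ : ∃ hsc : s ∈ Subgroup.centralizer ({z} : Set G),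
      (⟨s, hsc⟩ : Subgroup.centralizer ({z} : Set G)) ∈ Q)
    (hs : IsConj z s) (hs1 : s ≠ z) (g : G) (hg : g * z * g⁻¹ = s) :
    Nat.card ↥((Q.map (Subgroup.centralizer ({z} : Set G)).subtype) ⊓
      (Q.map (Subgroup.centralizer ({z} : Set G)).subtype).map (MulAut.conj g).toMonoidHom) = 2 ^ 13 := by
  have hS := setting_of Q hM.1
  have hcard : Nat.card Q = 2 ^ 25 := by
    have := hM.1.2.2.2.1
    norm_num at this
    exact this
  obtain ⟨e, ψ, hψ⟩ := hM.2
  obtain ⟨hsc, hsq⟩ := hsQ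
  set sQ : Q := ⟨⟨s, hsc⟩, hsq⟩ with hsQdef
  have htg : ((sQ : CC) : G) = g * z * g⁻¹ := hg.symm
  have htz : ((sQ : CC) : G) ≠ z := hs1
  have h64 := type64_of_conj hS hψ hcard sQ hs hs1
  obtain ⟨e', ψ', hψ', hv0⟩ := exists_iso_v0 hψ sQ h64
  obtain ⟨z'Q, hz'⟩ := exists_z' hM.1 g sQ htg htz
  have hcore := core64 hS hψ' hcard g sQ htg htz hv0 z'Q hz'
  rw [card_inter_eq (e := e') g sQ htg]
  exact hcore.1

end S5409b

end Cfsg.Agent.Helper27.Mon
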