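import Mathlib
import Cfsg.Agent.Lib.Helper27.MonJ

set_option autoImplicit false
set_option linter.unusedSectionVars false
set_option linter.style.haveILetI false
open Cfsg
open scoped commutatorElement

/-! Groups of Monster type: transfer of a split extension structure along an isomorphism (`transfer_struct`), and the image of `C(z) ∩ C(s)` in the quotient `C(z) / Q` as a split extension of an elementary abelian group of order `2 ^ 11` by the group of the code (`s5410_core`). -/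

namespace Cfsg.Agent.Helper27.Mon

/-- Transfer of a split extension structure along an isomorphism. -/
theorem transfer_struct {A B M : Type*} [Group A] [Group B] [Group M] (f : A ≃* B)
    (X E : Subgroup A) (X1 T1 K1 : Subgroup B) (n : ℕ)
    (hX : X.map f.toMonoidHom = X1) (hE : E.map f.toMonoidHom = T1)
    (hT_le : T1 ≤ X1) (hK_le : K1 ≤ X1) (hT_sq : ∀ t ∈ T1, t * t = 1)
    (hT_n : ∀ x ∈ X1, ∀ t ∈ T1, x * t * x⁻¹ ∈ T1) (hT_card : Nat.card T1 = n)
    (hTK_inf : T1 ⊓ K1 = ⊥) (hTK_sup : T1 ⊔ K1 = X1) (hK_eq : Nonempty (K1 ≃* M)) :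
    E ≤ X ∧ (∀ x ∈ X, ∀ y ∈ E, x * y * x⁻¹ ∈ E) ∧ IsElementaryAbelian 2 E ∧ Nat.card E = n ∧
      ∃ K : Subgroup A, K ≤ X ∧ E ⊓ K = ⊥ ∧ E ⊔ K = X ∧ Nonempty (K ≃* M) := by
  have hfinj : Function.Injective f.toMonoidHom := f.injective
  have hmemX : ∀ a : A, a ∈ X ↔ f a ∈ X1 := by
    intro a
    rw [← hX]
    constructor
    · intro ha; exact ⟨a, ha, rfl⟩
    · rintro ⟨a', ha', h⟩
      have : a' = a := f.injective h
      rw [← this]; exact ha'
  have hmemE : ∀ a : A, a ∈ E ↔ f a ∈ T1 := by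
    intro a
    rw [← hE]
    constructor
    · intro ha; exact ⟨a, ha, rfl⟩
    · rintro ⟨a', ha', h⟩
      have : a' = a := f.injective h
      rw [← this]; exact ha'
  have hEsq : ∀ a ∈ E, a * a = 1 := by
    intro a ha
    apply f.injective
    rw [map_mul, map_one]
    exact hT_sq _ ((hmemE a).mp ha)
  refine ⟨?_, ?_, ?_, ?_, ?_⟩
  · intro a ha
    rw [hmemX]; exact hT_le ((hmemE a).mp ha)
  · intro x hx y hy
    rw [hmemE, map_mul, map_mul, map_inv]
    exact hT_n _ ((hmemX x).mp hx) _ ((hmemE y).mp hy)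
  · refine ⟨⟨⟨fun a b => ?_⟩⟩, ?_⟩
    · apply Subtype.ext
      exact comm_of_sq E hEsq a a.2 b b.2
    · intro a ha
      rw [pow_two]; exact hEsq a ha
  · rw [← hT_card, ← hE]
    exact Nat.card_congr (f.subgroupMap E).toEquiv
  · refine ⟨K1.comap f.toMonoidHom, ?_, ?_, ?_, ?_⟩
    · intro a ha
      rw [hmemX]; exact hK_le ha
    · rw [eq_bot_iff]
      intro a ha
      rw [Subgroup.mem_bot]
      apply f.injective
      rw [map_one]
      have h1 : f a ∈ T1 ⊓ K1 := ⟨(hmemE a).mp ha.1, ha.2⟩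
      rw [hTK_inf, Subgroup.mem_bot] at h1
      exact h1
    · apply Subgroup.map_injective hfinj
      rw [Subgroup.map_sup, hE, Subgroup.map_comap_eq_self_of_surjective f.surjective, hTK_sup, hX]
    · obtain ⟨k⟩ := hK_eq
      have h1 : (K1.comap f.toMonoidHom).map f.toMonoidHom = K1 :=
        Subgroup.map_comap_eq_self_of_surjective f.surjective K1
      exact ⟨((f.subgroupMap (K1.comap f.toMonoidHom)).trans (MulEquiv.subgroupCongr h1)).trans k⟩

end Cfsg.Agent.Helper27.Mon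

namespace Cfsg.Agent.Helper27.Mon

section S5410

variable {G : Type*} [Group G] {z : G} {Q : Subgroup (Subgroup.centralizer ({z} : Set G))}
  [Q.Normal] {e : (Subgroup.centralizer ({z} : Set G)) ⧸ Q ≃* Spor.Co1}

local notation "CC" => Subgroup.centralizer (singleton z : Set G)

theorem subgroupOf_eq_HH (s : G) (sQ : Q) (hs : ((sQ : CC) : G) = s) :
    (Subgroup.centralizer ({z} : Set G) ⊓ Subgroup.centralizer ({s} : Set G)).subgroupOf
      (Subgroup.centralizer ({z} : Set G)) = HH sQ := by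
  ext c
  rw [Subgroup.mem_subgroupOf, Subgroup.mem_inf, mem_HH, Subgroup.mem_centralizer_iff]
  constructor
  · rintro ⟨-, h⟩
    apply Subtype.ext
    show (c : G) * ((sQ : CC) : G) = ((sQ : CC) : G) * (c : G)
    rw [hs]
    exact (h s rfl).symm
  · intro h
    refine ⟨c.2, ?_⟩
    intro x hx
    rw [Set.mem_singleton_iff] at hx
    rw [hx, ← hs]
    have := congrArg (fun y : CC => (y : G)) h
    exact this.symm

theorem subgroupOf_eq_kermap (g : G) (sQ : Q) (htg : ((sQ : CC) : G) = g * z * g⁻¹) :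
    (((Q.map (Subgroup.centralizer ({z} : Set G)).subtype).map (MulAut.conj g).toMonoidHom ⊓
      Subgroup.centralizer ({z} : Set G)).subgroupOf (Subgroup.centralizer ({z} : Set G))) =
    (thetaH g sQ htg).ker.map (HH sQ).subtype := by
  ext c
  rw [Subgroup.mem_subgroupOf, Subgroup.mem_inf, Cfsg.Agent.Helper28.LargeExtra.mem_map_conj, mem_QG]
  constructor
  · rintro ⟨⟨y, hy⟩, -⟩
    have hyz : ((y : CC) : G) * z = z * ((y : CC) : G) :=
      (Subgroup.mem_centralizer_iff.mp (y : CC).2 z rfl).symm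
    have hxy : (c : G) = g * ((y : CC) : G) * g⁻¹ := by rw [hy]; group
    have hmH : c ∈ HH sQ := by
      rw [mem_HH]
      apply Subtype.ext
      show (c : G) * ((sQ : CC) : G) = ((sQ : CC) : G) * (c : G)
      rw [htg, hxy]
      calc g * ((y : CC) : G) * g⁻¹ * (g * z * g⁻¹) = g * (((y : CC) : G) * z) * g⁻¹ := by group
        _ = g * (z * ((y : CC) : G)) * g⁻¹ := by rw [hyz]
        _ = g * z * g⁻¹ * (g * ((y : CC) : G) * g⁻¹) := by group
    refine ⟨⟨c, hmH⟩, ?_, rfl⟩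
    show (⟨c, hmH⟩ : HH sQ) ∈ (thetaH g sQ htg).ker
    rw [mem_ker_thetaH]
    have : kappa g (sQ : CC) htg ⟨c, hmH⟩ = (y : CC) := by
      apply Subtype.ext
      rw [kappa_coe]
      show g⁻¹ * (c : G) * g = _
      rw [hy]
    rw [this]
    exact y.2
  · rintro ⟨a, ha, rfl⟩
    have h2 : kappa g (sQ : CC) htg a ∈ Q := (mem_ker_thetaH g sQ htg a).mp ha
    exact ⟨⟨⟨_, h2⟩, rfl⟩, (a : CC).2⟩

theorem map_HH_eq_range (sQ : Q) : (HH sQ).map (phi e) = (phiH e sQ).range := by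
  ext x
  constructor
  · rintro ⟨c, hc, rfl⟩; exact ⟨⟨c, hc⟩, rfl⟩
  · rintro ⟨c, rfl⟩; exact ⟨c.1, c.2, rfl⟩

/-- The core of the statement on the image of `C(z) ∩ C(s)` in the Conway group. -/
theorem s5410_core [Finite G] (hM : IsOfMonsterType z Q) (s : G)
    (hsQ : ∃ hsc : s ∈ Subgroup.centralizer ({z} : Set G),
      (⟨s, hsc⟩ : Subgroup.centralizer ({z} : Set G)) ∈ Q)
    (hs : IsConj z s) (hs1 : s ≠ z) (g : G) (hg : g * z * g⁻¹ = s)
    (X E : Subgroup ((Subgroup.centralizer ({z} : Set G)) ⧸ Q))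
    (hX : X = ((Subgroup.centralizer ({z} : Set G) ⊓ Subgroup.centralizer ({s} : Set G)).subgroupOf
      (Subgroup.centralizer ({z} : Set G))).map (QuotientGroup.mk' Q))
    (hE : E = (((Q.map (Subgroup.centralizer ({z} : Set G)).subtype).map (MulAut.conj g).toMonoidHom ⊓
      Subgroup.centralizer ({z} : Set G)).subgroupOf (Subgroup.centralizer ({z} : Set G))).map
      (QuotientGroup.mk' Q)) :
    E ≤ X ∧ (∀ x ∈ X, ∀ y ∈ E, x * y * x⁻¹ ∈ E) ∧ IsElementaryAbelian 2 E ∧ Nat.card E = 2 ^ 11 ∧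
      ∃ K : Subgroup ((Subgroup.centralizer ({z} : Set G)) ⧸ Q),
        K ≤ X ∧ E ⊓ K = ⊥ ∧ E ⊔ K = X ∧ Nonempty (K ≃* M24) := by
  have hS := setting_of Q hM.1
  have hcard : Nat.card Q = 2 ^ 25 := by
    have := hM.1.2.2.2.1
    norm_num at this
    exact this
  obtain ⟨e, ψ, hψ⟩ := hM.2
  obtain ⟨hsc, hsq⟩ := hsQ
  set sQ : Q := ⟨⟨s, hsc⟩, hsq⟩ with hsQdef
  have htg : ((sQ : CC) : G) = g * z * g⁻¹ := hg.symm
  have htz : ((sQ : CC) : G) ≠ z := hs1
  have h64 := type64_of_conj hS hψ hcard sQ hs hs1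
  obtain ⟨e', ψ', hψ', hv0⟩ := exists_iso_v0 hψ sQ h64
  obtain ⟨z'Q, hz'⟩ := exists_z' hM.1 g sQ htg htz
  have hcore := core64 hS hψ' hcard g sQ htg htz hv0 z'Q hz'
  have hrange := phiH_range64 hS hψ' sQ hv0
  have hXmap : X.map e'.toMonoidHom = X0 := by
    rw [hX, subgroupOf_eq_HH s sQ rfl, Subgroup.map_map, ← hrange, ← map_HH_eq_range]
    rfl
  have hEmap : E.map e'.toMonoidHom = T0 := by
    rw [hE, subgroupOf_eq_kermap g sQ htg, Subgroup.map_map, Subgroup.map_map, ← hcore.2]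
    rfl
  have h2048 : Nat.card T0 = 2 ^ 11 := by rw [card_T0]; norm_num
  exact transfer_struct e' X E X0 T0 K0 (2 ^ 11) hXmap hEmap T0_le K0_le T0_sq T0_normal h2048
    T0_inf_K0 T0_sup_K0 K0_equiv

end S5410

end Cfsg.Agent.Helper27.Mon
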