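import Mathlib
import Cfsg.Agent.Lib.Helper3.SmallOrd
import Cfsg.Agent.Lib.Lead.PermTools
import Cfsg.Agent.Lib.Helper27.SylowSieve

set_option autoImplicit false
set_option linter.unreachableTactic false
set_option linter.unusedTactic false
open Cfsg

/-!
Orders excluded by the fixed-point sieve on a Sylow subgroup of prime order
(generated; see `Cfsg/Agent/Lib/Helper27/SylowSieve.lean`).
-/

namespace Cfsg.Agent.Helper3.SmallOrd

variable {G : Type*} [Group G] [Finite G] [IsSimpleGroup G]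

theorem no_simple_4284 (h : Nat.card G = 4284) : False := by
  have hG : ∃ x y : G, x * y ≠ y * x :=
    Cfsg.Agent.Lead.nonabelian_of_not_prime (by rw [h]; norm_num)
  have hG2 : 2 < Nat.card G := by rw [h]; norm_num
  have : Fact (Nat.Prime 17) := ⟨by norm_num⟩
  obtain ⟨hd, hm, hn1, hf, hP⟩ :=
    basic hG (p := 17) (a := 1) (m := 252) Nat.one_pos (by rw [h]; norm_num) (by norm_num)
  have hpc := prime_case hG (p := 17) (m := 252) (by rw [h]) (by norm_num)
  have hP' : ∀ R : Sylow 17 G, Nat.card (R : Subgroup G) = 17 := fun R => by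
    have := (hP R).1
    rwa [pow_one] at this
  obtain ⟨P⟩ : Nonempty (Sylow 17 G) := inferInstance
  obtain ⟨k, c, hk, hk1, hck, hq⟩ :=
    Cfsg.Agent.Helper27.Sieve.sylow_sieve hG hG2 (by rw [h]; norm_num) P hP'
  have hNP := (hP P).2
  obtain ⟨n, hn⟩ : ∃ n, n = Nat.card (Sylow 17 G) := ⟨_, rfl⟩
  rw [← hn] at hd hm hn1 hf hpc hNP hq
  rw [h] at hNP hf
  have hk' : k ≤ 16 := Nat.le_of_dvd (by norm_num) hk
  have hcases : n = 18 := by
    have hmem : n ∈ Nat.divisors 252 := Nat.mem_divisors.2 ⟨hd, by norm_num⟩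
    simp only [Nat.divisors_ofNat] at hmem
    simp only [Finset.mem_insert, Finset.mem_singleton] at hmem
    omega
  subst hcases
  have hN : Nat.card (Subgroup.normalizer ((P : Subgroup G) : Set G)) = 238 := by omega
  rw [hN] at hck
  interval_cases k
  all_goals first
    | omega
    | (have hqc : 2 ∣ c := (by omega); obtain ⟨f, hf1, hf2, hf3, hf4⟩ := hq 2 Nat.prime_two hqc; have hf5 := hf4 rfl; omega)
    | (have hqc : 3 ∣ c := (by omega); obtain ⟨f, hf1, hf2, hf3, -⟩ := hq 3 (by norm_num) hqc; omega)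
    | (have hqc : 7 ∣ c := (by omega); obtain ⟨f, hf1, hf2, hf3, -⟩ := hq 7 (by norm_num) hqc; omega)

theorem no_simple_4368 (h : Nat.card G = 4368) : False := by
  have hG : ∃ x y : G, x * y ≠ y * x :=
    Cfsg.Agent.Lead.nonabelian_of_not_prime (by rw [h]; norm_num)
  have hG2 : 2 < Nat.card G := by rw [h]; norm_num
  have : Fact (Nat.Prime 13) := ⟨by norm_num⟩
  obtain ⟨hd, hm, hn1, hf, hP⟩ :=
    basic hG (p := 13) (a := 1) (m := 336) Nat.one_pos (by rw [h]; norm_num) (by norm_num)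
  have hpc := prime_case hG (p := 13) (m := 336) (by rw [h]) (by norm_num)
  have hP' : ∀ R : Sylow 13 G, Nat.card (R : Subgroup G) = 13 := fun R => by
    have := (hP R).1
    rwa [pow_one] at this
  obtain ⟨P⟩ : Nonempty (Sylow 13 G) := inferInstance
  obtain ⟨k, c, hk, hk1, hck, hq⟩ :=
    Cfsg.Agent.Helper27.Sieve.sylow_sieve hG hG2 (by rw [h]; norm_num) P hP'
  have hNP := (hP P).2
  obtain ⟨n, hn⟩ : ∃ n, n = Nat.card (Sylow 13 G) := ⟨_, rfl⟩
  rw [← hn] at hd hm hn1 hf hpc hNP hq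
  rw [h] at hNP hf
  have hk' : k ≤ 12 := Nat.le_of_dvd (by norm_num) hk
  have hcases : n = 14 := by
    have hmem : n ∈ Nat.divisors 336 := Nat.mem_divisors.2 ⟨hd, by norm_num⟩
    simp only [Nat.divisors_ofNat] at hmem
    simp only [Finset.mem_insert, Finset.mem_singleton] at hmem
    omega
  subst hcases
  have hN : Nat.card (Subgroup.normalizer ((P : Subgroup G) : Set G)) = 312 := by omega
  rw [hN] at hck
  interval_cases k
  all_goals first
    | omega
    | (have hqc : 2 ∣ c := (by omega); obtain ⟨f, hf1, hf2, hf3, hf4⟩ := hq 2 Nat.prime_two hqc; have hf5 := hf4 rfl; omega)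
    | (have hqc : 3 ∣ c := (by omega); obtain ⟨f, hf1, hf2, hf3, -⟩ := hq 3 (by norm_num) hqc; omega)
    | (have hqc : 7 ∣ c := (by omega); obtain ⟨f, hf1, hf2, hf3, -⟩ := hq 7 (by norm_num) hqc; omega)

theorem no_simple_4560 (h : Nat.card G = 4560) : False := by
  have hG : ∃ x y : G, x * y ≠ y * x :=
    Cfsg.Agent.Lead.nonabelian_of_not_prime (by rw [h]; norm_num)
  have hG2 : 2 < Nat.card G := by rw [h]; norm_num
  have : Fact (Nat.Prime 19) := ⟨by norm_num⟩
  obtain ⟨hd, hm, hn1, hf, hP⟩ :=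
    basic hG (p := 19) (a := 1) (m := 240) Nat.one_pos (by rw [h]; norm_num) (by norm_num)
  have hpc := prime_case hG (p := 19) (m := 240) (by rw [h]) (by norm_num)
  have hP' : ∀ R : Sylow 19 G, Nat.card (R : Subgroup G) = 19 := fun R => by
    have := (hP R).1
    rwa [pow_one] at this
  obtain ⟨P⟩ : Nonempty (Sylow 19 G) := inferInstance
  obtain ⟨k, c, hk, hk1, hck, hq⟩ :=
    Cfsg.Agent.Helper27.Sieve.sylow_sieve hG hG2 (by rw [h]; norm_num) P hP'
  have hNP := (hP P).2
  obtain ⟨n, hn⟩ : ∃ n, n = Nat.card (Sylow 19 G) := ⟨_, rfl⟩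
  rw [← hn] at hd hm hn1 hf hpc hNP hq
  rw [h] at hNP hf
  have hk' : k ≤ 18 := Nat.le_of_dvd (by norm_num) hk
  have hcases : n = 20 := by
    have hmem : n ∈ Nat.divisors 240 := Nat.mem_divisors.2 ⟨hd, by norm_num⟩
    simp only [Nat.divisors_ofNat] at hmem
    simp only [Finset.mem_insert, Finset.mem_singleton] at hmem
    omega
  subst hcases
  have hN : Nat.card (Subgroup.normalizer ((P : Subgroup G) : Set G)) = 228 := by omega
  rw [hN] at hck
  interval_cases k
  all_goals first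
    | omega
    | (have hqc : 2 ∣ c := (by omega); obtain ⟨f, hf1, hf2, hf3, hf4⟩ := hq 2 Nat.prime_two hqc; have hf5 := hf4 rfl; omega)
    | (have hqc : 3 ∣ c := (by omega); obtain ⟨f, hf1, hf2, hf3, -⟩ := hq 3 (by norm_num) hqc; omega)
    | (have hqc : 5 ∣ c := (by omega); obtain ⟨f, hf1, hf2, hf3, -⟩ := hq 5 (by norm_num) hqc; omega)

theorem no_simple_5220 (h : Nat.card G = 5220) : False := by
  have hG : ∃ x y : G, x * y ≠ y * x :=
    Cfsg.Agent.Lead.nonabelian_of_not_prime (by rw [h]; norm_num)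
  have hG2 : 2 < Nat.card G := by rw [h]; norm_num
  have : Fact (Nat.Prime 29) := ⟨by norm_num⟩
  obtain ⟨hd, hm, hn1, hf, hP⟩ :=
    basic hG (p := 29) (a := 1) (m := 180) Nat.one_pos (by rw [h]; norm_num) (by norm_num)
  have hpc := prime_case hG (p := 29) (m := 180) (by rw [h]) (by norm_num)
  have hP' : ∀ R : Sylow 29 G, Nat.card (R : Subgroup G) = 29 := fun R => by
    have := (hP R).1
    rwa [pow_one] at this
  obtain ⟨P⟩ : Nonempty (Sylow 29 G) := inferInstance
  obtain ⟨k, c, hk, hk1, hck, hq⟩ :=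
    Cfsg.Agent.Helper27.Sieve.sylow_sieve hG hG2 (by rw [h]; norm_num) P hP'
  have hNP := (hP P).2
  obtain ⟨n, hn⟩ : ∃ n, n = Nat.card (Sylow 29 G) := ⟨_, rfl⟩
  rw [← hn] at hd hm hn1 hf hpc hNP hq
  rw [h] at hNP hf
  have hk' : k ≤ 28 := Nat.le_of_dvd (by norm_num) hk
  have hcases : n = 30 := by
    have hmem : n ∈ Nat.divisors 180 := Nat.mem_divisors.2 ⟨hd, by norm_num⟩
    simp only [Nat.divisors_ofNat] at hmem
    simp only [Finset.mem_insert, Finset.mem_singleton] at hmem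
    omega
  subst hcases
  have hN : Nat.card (Subgroup.normalizer ((P : Subgroup G) : Set G)) = 174 := by omega
  rw [hN] at hck
  interval_cases k
  all_goals first
    | omega
    | (have hqc : 2 ∣ c := (by omega); obtain ⟨f, hf1, hf2, hf3, hf4⟩ := hq 2 Nat.prime_two hqc; have hf5 := hf4 rfl; omega)
    | (have hqc : 3 ∣ c := (by omega); obtain ⟨f, hf1, hf2, hf3, -⟩ := hq 3 (by norm_num) hqc; omega)
    | (have hqc : 5 ∣ c := (by omega); obtain ⟨f, hf1, hf2, hf3, -⟩ := hq 5 (by norm_num) hqc; omega)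

theorem no_simple_5280 (h : Nat.card G = 5280) : False := by
  have hG : ∃ x y : G, x * y ≠ y * x :=
    Cfsg.Agent.Lead.nonabelian_of_not_prime (by rw [h]; norm_num)
  have hG2 : 2 < Nat.card G := by rw [h]; norm_num
  have : Fact (Nat.Prime 11) := ⟨by norm_num⟩
  obtain ⟨hd, hm, hn1, hf, hP⟩ :=
    basic hG (p := 11) (a := 1) (m := 480) Nat.one_pos (by rw [h]; norm_num) (by norm_num)
  have hpc := prime_case hG (p := 11) (m := 480) (by rw [h]) (by norm_num)
  have hP' : ∀ R : Sylow 11 G, Nat.card (R : Subgroup G) = 11 := fun R => by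
    have := (hP R).1
    rwa [pow_one] at this
  obtain ⟨P⟩ : Nonempty (Sylow 11 G) := inferInstance
  obtain ⟨k, c, hk, hk1, hck, hq⟩ :=
    Cfsg.Agent.Helper27.Sieve.sylow_sieve hG hG2 (by rw [h]; norm_num) P hP'
  have hNP := (hP P).2
  obtain ⟨n, hn⟩ : ∃ n, n = Nat.card (Sylow 11 G) := ⟨_, rfl⟩
  rw [← hn] at hd hm hn1 hf hpc hNP hq
  rw [h] at hNP hf
  have hk' : k ≤ 10 := Nat.le_of_dvd (by norm_num) hk
  have hcases : n = 12 := by
    have hmem : n ∈ Nat.divisors 480 := Nat.mem_divisors.2 ⟨hd, by norm_num⟩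
    simp only [Nat.divisors_ofNat] at hmem
    simp only [Finset.mem_insert, Finset.mem_singleton] at hmem
    omega
  subst hcases
  have hN : Nat.card (Subgroup.normalizer ((P : Subgroup G) : Set G)) = 440 := by omega
  rw [hN] at hck
  interval_cases k
  all_goals first
    | omega
    | (have hqc : 2 ∣ c := (by omega); obtain ⟨f, hf1, hf2, hf3, hf4⟩ := hq 2 Nat.prime_two hqc; have hf5 := hf4 rfl; omega)
    | (have hqc : 3 ∣ c := (by omega); obtain ⟨f, hf1, hf2, hf3, -⟩ := hq 3 (by norm_num) hqc; omega)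
    | (have hqc : 5 ∣ c := (by omega); obtain ⟨f, hf1, hf2, hf3, -⟩ := hq 5 (by norm_num) hqc; omega)

theorem no_simple_5320 (h : Nat.card G = 5320) : False := by
  have hG : ∃ x y : G, x * y ≠ y * x :=
    Cfsg.Agent.Lead.nonabelian_of_not_prime (by rw [h]; norm_num)
  have hG2 : 2 < Nat.card G := by rw [h]; norm_num
  have : Fact (Nat.Prime 19) := ⟨by norm_num⟩
  obtain ⟨hd, hm, hn1, hf, hP⟩ :=
    basic hG (p := 19) (a := 1) (m := 280) Nat.one_pos (by rw [h]; norm_num) (by norm_num)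
  have hpc := prime_case hG (p := 19) (m := 280) (by rw [h]) (by norm_num)
  have hP' : ∀ R : Sylow 19 G, Nat.card (R : Subgroup G) = 19 := fun R => by
    have := (hP R).1
    rwa [pow_one] at this
  obtain ⟨P⟩ : Nonempty (Sylow 19 G) := inferInstance
  obtain ⟨k, c, hk, hk1, hck, hq⟩ :=
    Cfsg.Agent.Helper27.Sieve.sylow_sieve hG hG2 (by rw [h]; norm_num) P hP'
  have hNP := (hP P).2
  obtain ⟨n, hn⟩ : ∃ n, n = Nat.card (Sylow 19 G) := ⟨_, rfl⟩
  rw [← hn] at hd hm hn1 hf hpc hNP hq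
  rw [h] at hNP hf
  have hk' : k ≤ 18 := Nat.le_of_dvd (by norm_num) hk
  have hcases : n = 20 := by
    have hmem : n ∈ Nat.divisors 280 := Nat.mem_divisors.2 ⟨hd, by norm_num⟩
    simp only [Nat.divisors_ofNat] at hmem
    simp only [Finset.mem_insert, Finset.mem_singleton] at hmem
    omega
  subst hcases
  have hN : Nat.card (Subgroup.normalizer ((P : Subgroup G) : Set G)) = 266 := by omega
  rw [hN] at hck
  interval_cases k
  all_goals first
    | omega
    | (have hqc : 2 ∣ c := (by omega); obtain ⟨f, hf1, hf2, hf3, hf4⟩ := hq 2 Nat.prime_two hqc; have hf5 := hf4 rfl; omega)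
    | (have hqc : 5 ∣ c := (by omega); obtain ⟨f, hf1, hf2, hf3, -⟩ := hq 5 (by norm_num) hqc; omega)
    | (have hqc : 7 ∣ c := (by omega); obtain ⟨f, hf1, hf2, hf3, -⟩ := hq 7 (by norm_num) hqc; omega)

theorem no_simple_5520 (h : Nat.card G = 5520) : False := by
  have hG : ∃ x y : G, x * y ≠ y * x :=
    Cfsg.Agent.Lead.nonabelian_of_not_prime (by rw [h]; norm_num)
  have hG2 : 2 < Nat.card G := by rw [h]; norm_num
  have : Fact (Nat.Prime 23) := ⟨by norm_num⟩
  obtain ⟨hd, hm, hn1, hf, hP⟩ :=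
    basic hG (p := 23) (a := 1) (m := 240) Nat.one_pos (by rw [h]; norm_num) (by norm_num)
  have hpc := prime_case hG (p := 23) (m := 240) (by rw [h]) (by norm_num)
  have hP' : ∀ R : Sylow 23 G, Nat.card (R : Subgroup G) = 23 := fun R => by
    have := (hP R).1
    rwa [pow_one] at this
  obtain ⟨P⟩ : Nonempty (Sylow 23 G) := inferInstance
  obtain ⟨k, c, hk, hk1, hck, hq⟩ :=
    Cfsg.Agent.Helper27.Sieve.sylow_sieve hG hG2 (by rw [h]; norm_num) P hP'
  have hNP := (hP P).2
  obtain ⟨n, hn⟩ : ∃ n, n = Nat.card (Sylow 23 G) := ⟨_, rfl⟩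
  rw [← hn] at hd hm hn1 hf hpc hNP hq
  rw [h] at hNP hf
  have hk' : k ≤ 22 := Nat.le_of_dvd (by norm_num) hk
  have hcases : n = 24 := by
    have hmem : n ∈ Nat.divisors 240 := Nat.mem_divisors.2 ⟨hd, by norm_num⟩
    simp only [Nat.divisors_ofNat] at hmem
    simp only [Finset.mem_insert, Finset.mem_singleton] at hmem
    omega
  subst hcases
  have hN : Nat.card (Subgroup.normalizer ((P : Subgroup G) : Set G)) = 230 := by omega
  rw [hN] at hck
  interval_cases k
  all_goals first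
    | omega
    | (have hqc : 2 ∣ c := (by omega); obtain ⟨f, hf1, hf2, hf3, hf4⟩ := hq 2 Nat.prime_two hqc; have hf5 := hf4 rfl; omega)
    | (have hqc : 3 ∣ c := (by omega); obtain ⟨f, hf1, hf2, hf3, -⟩ := hq 3 (by norm_num) hqc; omega)
    | (have hqc : 5 ∣ c := (by omega); obtain ⟨f, hf1, hf2, hf3, -⟩ := hq 5 (by norm_num) hqc; omega)

theorem no_simple_5544 (h : Nat.card G = 5544) : False := by
  have hG : ∃ x y : G, x * y ≠ y * x :=
    Cfsg.Agent.Lead.nonabelian_of_not_prime (by rw [h]; norm_num)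
  have hG2 : 2 < Nat.card G := by rw [h]; norm_num
  have : Fact (Nat.Prime 11) := ⟨by norm_num⟩
  obtain ⟨hd, hm, hn1, hf, hP⟩ :=
    basic hG (p := 11) (a := 1) (m := 504) Nat.one_pos (by rw [h]; norm_num) (by norm_num)
  have hpc := prime_case hG (p := 11) (m := 504) (by rw [h]) (by norm_num)
  have hP' : ∀ R : Sylow 11 G, Nat.card (R : Subgroup G) = 11 := fun R => by
    have := (hP R).1
    rwa [pow_one] at this
  obtain ⟨P⟩ : Nonempty (Sylow 11 G) := inferInstance
  obtain ⟨k, c, hk, hk1, hck, hq⟩ :=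
    Cfsg.Agent.Helper27.Sieve.sylow_sieve hG hG2 (by rw [h]; norm_num) P hP'
  have hNP := (hP P).2
  obtain ⟨n, hn⟩ : ∃ n, n = Nat.card (Sylow 11 G) := ⟨_, rfl⟩
  rw [← hn] at hd hm hn1 hf hpc hNP hq
  rw [h] at hNP hf
  have hk' : k ≤ 10 := Nat.le_of_dvd (by norm_num) hk
  have hcases : n = 12 ∨ n = 56 := by
    have hmem : n ∈ Nat.divisors 504 := Nat.mem_divisors.2 ⟨hd, by norm_num⟩
    simp only [Nat.divisors_ofNat] at hmem
    simp only [Finset.mem_insert, Finset.mem_singleton] at hmem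
    omega
  rcases hcases with rfl | rfl
  · have hN : Nat.card (Subgroup.normalizer ((P : Subgroup G) : Set G)) = 462 := by omega
    rw [hN] at hck
    interval_cases k
    all_goals first
      | omega
      | (have hqc : 2 ∣ c := (by omega); obtain ⟨f, hf1, hf2, hf3, hf4⟩ := hq 2 Nat.prime_two hqc; have hf5 := hf4 rfl; omega)
      | (have hqc : 3 ∣ c := (by omega); obtain ⟨f, hf1, hf2, hf3, -⟩ := hq 3 (by norm_num) hqc; omega)
      | (have hqc : 7 ∣ c := (by omega); obtain ⟨f, hf1, hf2, hf3, -⟩ := hq 7 (by norm_num) hqc; omega)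
  · exact hpc (by norm_num)

theorem no_simple_5700 (h : Nat.card G = 5700) : False := by
  have hG : ∃ x y : G, x * y ≠ y * x :=
    Cfsg.Agent.Lead.nonabelian_of_not_prime (by rw [h]; norm_num)
  have hG2 : 2 < Nat.card G := by rw [h]; norm_num
  have : Fact (Nat.Prime 19) := ⟨by norm_num⟩
  obtain ⟨hd, hm, hn1, hf, hP⟩ :=
    basic hG (p := 19) (a := 1) (m := 300) Nat.one_pos (by rw [h]; norm_num) (by norm_num)
  have hpc := prime_case hG (p := 19) (m := 300) (by rw [h]) (by norm_num)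
  have hP' : ∀ R : Sylow 19 G, Nat.card (R : Subgroup G) = 19 := fun R => by
    have := (hP R).1
    rwa [pow_one] at this
  obtain ⟨P⟩ : Nonempty (Sylow 19 G) := inferInstance
  obtain ⟨k, c, hk, hk1, hck, hq⟩ :=
    Cfsg.Agent.Helper27.Sieve.sylow_sieve hG hG2 (by rw [h]; norm_num) P hP'
  have hNP := (hP P).2
  obtain ⟨n, hn⟩ : ∃ n, n = Nat.card (Sylow 19 G) := ⟨_, rfl⟩
  rw [← hn] at hd hm hn1 hf hpc hNP hq
  rw [h] at hNP hf
  have hk' : k ≤ 18 := Nat.le_of_dvd (by norm_num) hk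
  have hcases : n = 20 := by
    have hmem : n ∈ Nat.divisors 300 := Nat.mem_divisors.2 ⟨hd, by norm_num⟩
    simp only [Nat.divisors_ofNat] at hmem
    simp only [Finset.mem_insert, Finset.mem_singleton] at hmem
    omega
  subst hcases
  have hN : Nat.card (Subgroup.normalizer ((P : Subgroup G) : Set G)) = 285 := by omega
  rw [hN] at hck
  interval_cases k
  all_goals first
    | omega
    | (have hqc : 2 ∣ c := (by omega); obtain ⟨f, hf1, hf2, hf3, hf4⟩ := hq 2 Nat.prime_two hqc; have hf5 := hf4 rfl; omega)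
    | (have hqc : 3 ∣ c := (by omega); obtain ⟨f, hf1, hf2, hf3, -⟩ := hq 3 (by norm_num) hqc; omega)
    | (have hqc : 5 ∣ c := (by omega); obtain ⟨f, hf1, hf2, hf3, -⟩ := hq 5 (by norm_num) hqc; omega)

theorem no_simple_6120 (h : Nat.card G = 6120) : False := by
  have hG : ∃ x y : G, x * y ≠ y * x :=
    Cfsg.Agent.Lead.nonabelian_of_not_prime (by rw [h]; norm_num)
  have hG2 : 2 < Nat.card G := by rw [h]; norm_num
  have : Fact (Nat.Prime 17) := ⟨by norm_num⟩
  obtain ⟨hd, hm, hn1, hf, hP⟩ :=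
    basic hG (p := 17) (a := 1) (m := 360) Nat.one_pos (by rw [h]; norm_num) (by norm_num)
  have hpc := prime_case hG (p := 17) (m := 360) (by rw [h]) (by norm_num)
  have hP' : ∀ R : Sylow 17 G, Nat.card (R : Subgroup G) = 17 := fun R => by
    have := (hP R).1
    rwa [pow_one] at this
  obtain ⟨P⟩ : Nonempty (Sylow 17 G) := inferInstance
  obtain ⟨k, c, hk, hk1, hck, hq⟩ :=
    Cfsg.Agent.Helper27.Sieve.sylow_sieve hG hG2 (by rw [h]; norm_num) P hP'
  have hNP := (hP P).2
  obtain ⟨n, hn⟩ : ∃ n, n = Nat.card (Sylow 17 G) := ⟨_, rfl⟩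
  rw [← hn] at hd hm hn1 hf hpc hNP hq
  rw [h] at hNP hf
  have hk' : k ≤ 16 := Nat.le_of_dvd (by norm_num) hk
  have hcases : n = 18 ∨ n = 120 := by
    have hmem : n ∈ Nat.divisors 360 := Nat.mem_divisors.2 ⟨hd, by norm_num⟩
    simp only [Nat.divisors_ofNat] at hmem
    simp only [Finset.mem_insert, Finset.mem_singleton] at hmem
    omega
  rcases hcases with rfl | rfl
  · have hN : Nat.card (Subgroup.normalizer ((P : Subgroup G) : Set G)) = 340 := by omega
    rw [hN] at hck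
    interval_cases k
    all_goals first
      | omega
      | (have hqc : 2 ∣ c := (by omega); obtain ⟨f, hf1, hf2, hf3, hf4⟩ := hq 2 Nat.prime_two hqc; have hf5 := hf4 rfl; omega)
      | (have hqc : 3 ∣ c := (by omega); obtain ⟨f, hf1, hf2, hf3, -⟩ := hq 3 (by norm_num) hqc; omega)
      | (have hqc : 5 ∣ c := (by omega); obtain ⟨f, hf1, hf2, hf3, -⟩ := hq 5 (by norm_num) hqc; omega)
  · exact hpc (by norm_num)

theorem no_simple_6160 (h : Nat.card G = 6160) : False := by
  have hG : ∃ x y : G, x * y ≠ y * x :=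
    Cfsg.Agent.Lead.nonabelian_of_not_prime (by rw [h]; norm_num)
  have hG2 : 2 < Nat.card G := by rw [h]; norm_num
  have : Fact (Nat.Prime 7) := ⟨by norm_num⟩
  obtain ⟨hd, hm, hn1, hf, hP⟩ :=
    basic hG (p := 7) (a := 1) (m := 880) Nat.one_pos (by rw [h]; norm_num) (by norm_num)
  have hpc := prime_case hG (p := 7) (m := 880) (by rw [h]) (by norm_num)
  have hP' : ∀ R : Sylow 7 G, Nat.card (R : Subgroup G) = 7 := fun R => by
    have := (hP R).1
    rwa [pow_one] at this
  obtain ⟨P⟩ : Nonempty (Sylow 7 G) := inferInstance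
  obtain ⟨k, c, hk, hk1, hck, hq⟩ :=
    Cfsg.Agent.Helper27.Sieve.sylow_sieve hG hG2 (by rw [h]; norm_num) P hP'
  have hNP := (hP P).2
  obtain ⟨n, hn⟩ : ∃ n, n = Nat.card (Sylow 7 G) := ⟨_, rfl⟩
  rw [← hn] at hd hm hn1 hf hpc hNP hq
  rw [h] at hNP hf
  have hk' : k ≤ 6 := Nat.le_of_dvd (by norm_num) hk
  have hcases : n = 8 ∨ n = 22 ∨ n = 176 := by
    have hmem : n ∈ Nat.divisors 880 := Nat.mem_divisors.2 ⟨hd, by norm_num⟩
    simp only [Nat.divisors_ofNat] at hmem
    simp only [Finset.mem_insert, Finset.mem_singleton] at hmem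
    omega
  rcases hcases with rfl | rfl | rfl
  · exfalso
    revert hf
    decide
  · have hN : Nat.card (Subgroup.normalizer ((P : Subgroup G) : Set G)) = 280 := by omega
    rw [hN] at hck
    interval_cases k
    all_goals first
      | omega
      | (have hqc : 2 ∣ c := (by omega); obtain ⟨f, hf1, hf2, hf3, hf4⟩ := hq 2 Nat.prime_two hqc; have hf5 := hf4 rfl; omega)
      | (have hqc : 5 ∣ c := (by omega); obtain ⟨f, hf1, hf2, hf3, -⟩ := hq 5 (by norm_num) hqc; omega)
      | (have hqc : 11 ∣ c := (by omega); obtain ⟨f, hf1, hf2, hf3, -⟩ := hq 11 (by norm_num) hqc; omega)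
  · exact hpc (by norm_num)

end Cfsg.Agent.Helper3.SmallOrd
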