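import Mathlib
import Cfsg.Agent.Lib.Helper17.OrthTransv
import Cfsg.Agent.Lib.Helper17.OrthMinus
import Cfsg.Agent.Lib.Helper17.OrthPlus

set_option autoImplicit false
set_option linter.unusedSectionVars false

/-! Crossed homomorphisms of the commutator subgroup of an orthogonal group over the field with two elements into the natural module: products of two reflections in non-orthogonal vectors generate (`commutator_le_of_gen`, `commutator_le_of_perm5`), the value of a crossed homomorphism on such a product lies in the plane of the two vectors (`IsCoc.val_eq`), the attached functional `mu` is additive along elliptic lines (`IsCoc.LA_mu`), and a crossed homomorphism is principal as soon as every such functional is given by the polar form (`main_of_lin`). -/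

namespace Cfsg.Agent.Helper27.OrthH1

open Cfsg QuadraticMap Module Cfsg.Agent.Helper17.Spinor
open scoped commutatorElement

theorem z2_cases (x : ZMod 2) : x = 0 ∨ x = 1 := by revert x; decide

theorem z2_two : (2 : ZMod 2) = 0 := by decide

theorem z2_add_self (x : ZMod 2) : x + x = 0 := by revert x; decide

theorem z2_neg (x : ZMod 2) : -x = x := by revert x; decide

theorem z2_ne_zero {x : ZMod 2} : x ≠ 0 ↔ x = 1 := by revert x; decide

theorem z2_ne_one {x : ZMod 2} : x ≠ 1 ↔ x = 0 := by revert x; decide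

section basic

variable {ι : Type} [Fintype ι] [DecidableEq ι] (Q : QuadraticForm (ZMod 2) (ι → ZMod 2))

omit [Fintype ι] [DecidableEq ι] in
theorem v_add_self (v : ι → ZMod 2) : v + v = 0 := by
  funext j
  exact z2_add_self (v j)

omit [Fintype ι] [DecidableEq ι] in
theorem v_neg (v : ι → ZMod 2) : -v = v := by
  funext j
  exact z2_neg (v j)

omit [Fintype ι] [DecidableEq ι] in
theorem v_sub (u v : ι → ZMod 2) : u - v = u + v := by
  rw [sub_eq_add_neg, v_neg]

omit [Fintype ι] [DecidableEq ι] in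
theorem v_add_eq_zero {u v : ι → ZMod 2} : u + v = 0 ↔ u = v := by
  rw [← v_sub, sub_eq_zero]

omit [Fintype ι] [DecidableEq ι] in
theorem v_add_cancel_left (u v : ι → ZMod 2) : u + (u + v) = v := by
  rw [← add_assoc, v_add_self, zero_add]

omit [Fintype ι] [DecidableEq ι] in
theorem B_self (a : ι → ZMod 2) : polar Q a a = 0 := by
  rw [polar_self, two_smul, z2_add_self]

omit [Fintype ι] [DecidableEq ι] in
theorem Qadd (a b : ι → ZMod 2) : Q (a + b) = Q a + Q b + polar Q a b := Q_add Q a b

omit [Fintype ι] [DecidableEq ι] in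
theorem ne_zero_of_Q {a : ι → ZMod 2} (ha : Q a = 1) : a ≠ 0 := by
  rintro rfl
  rw [map_zero] at ha
  exact zero_ne_one ha

omit [Fintype ι] [DecidableEq ι] in
theorem Q_ne {a : ι → ZMod 2} (ha : Q a = 1) : Q a ≠ 0 := by
  rw [ha]; exact one_ne_zero

/-- the action of a reflection -/
theorem t_apply {a : ι → ZMod 2} (ha : Q a = 1) (x : ι → ZMod 2) :
    toEnd Q (tG Q a) x = x + polar Q a x • a := by
  rw [toEnd_tG Q (Q_ne Q ha), refl_apply, ha, inv_one, one_mul, v_sub]

/-- the action of a product of two reflections in non-orthogonal vectors -/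
theorem s_apply {a b : ι → ZMod 2} (ha : Q a = 1) (hb : Q b = 1) (hab : polar Q a b = 1)
    (x : ι → ZMod 2) :
    toEnd Q (tG Q a * tG Q b) x = x + (polar Q a x + polar Q b x) • a + polar Q b x • b := by
  rw [map_mul, Module.End.mul_apply, t_apply Q hb, t_apply Q ha, polar_add_right,
    polar_smul_right, hab, smul_eq_mul, mul_one]
  module

omit [Fintype ι] [DecidableEq ι] in
theorem Q_sum {a b : ι → ZMod 2} (ha : Q a = 1) (hb : Q b = 1) (hab : polar Q a b = 1) :
    Q (a + b) = 1 := by
  rw [Qadd, ha, hb, hab]; decide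

/-- `t_a t_b t_a = t_{a+b}` -/
theorem tG_conj {a b : ι → ZMod 2} (ha : Q a = 1) (hb : Q b = 1) (hab : polar Q a b = 1) :
    tG Q a * tG Q b * tG Q a = tG Q (a + b) := by
  have h1 := mul_tG Q (tG Q a) (Q_ne Q hb)
  rw [t_apply Q ha, hab, one_smul, add_comm] at h1
  rw [h1, mul_assoc, tG_mul_self Q (Q_ne Q ha), mul_one]

/-- reflections in orthogonal vectors commute -/
theorem tG_comm {a b : ι → ZMod 2} (ha : Q a = 1) (hb : Q b = 1) (hab : polar Q a b = 0) :
    tG Q a * tG Q b = tG Q b * tG Q a := by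
  have h1 := mul_tG Q (tG Q a) (Q_ne Q hb)
  rw [t_apply Q ha, hab, zero_smul, add_zero] at h1
  exact h1

/-- the product of two reflections in non-orthogonal vectors is a commutator -/
theorem s_mem_commutator {a b : ι → ZMod 2} (ha : Q a = 1) (hb : Q b = 1)
    (hab : polar Q a b = 1) :
    tG Q a * tG Q b ∈ commutator ↥(Cfsg.isometryGroup (ZMod 2) (⇑Q)) := by
  have hs : Q (a + b) = 1 := Q_sum Q ha hb hab
  have hpa : polar Q (a + b) a = 1 := by
    rw [polar_add_left, B_self, zero_add, polar_comm, hab]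
  -- t_{a+b} t_a t_{a+b} = t_b
  have h1 : tG Q (a + b) * tG Q a * tG Q (a + b) = tG Q b := by
    rw [tG_conj Q hs ha hpa]
    congr 1
    rw [add_comm a b, add_assoc, v_add_self, add_zero]
  have h2 : tG Q a * tG Q b = ⁅tG Q a, tG Q (a + b)⁆ := by
    rw [commutatorElement_def, tG_inv Q (Q_ne Q ha), tG_inv Q (Q_ne Q hs), ← h1]
    group
  rw [h2]
  exact Subgroup.commutator_mem_commutator (Subgroup.mem_top _) (Subgroup.mem_top _)

end basic



open Cfsg QuadraticMap Module Cfsg.Agent.Helper17.Spinor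
open scoped commutatorElement

section gens

variable {ι : Type} [Fintype ι] [DecidableEq ι] (Q : QuadraticForm (ZMod 2) (ι → ZMod 2))

/-- products of two reflections in non-orthogonal non-singular vectors -/
def SS : Set ↥(Cfsg.isometryGroup (ZMod 2) (⇑Q)) :=
  {g | ∃ a b : ι → ZMod 2, Q a = 1 ∧ Q b = 1 ∧ polar Q a b = 1 ∧ g = tG Q a * tG Q b}

/-- the reflections -/
def TT : Set ↥(Cfsg.isometryGroup (ZMod 2) (⇑Q)) :=
  {g | ∃ a : ι → ZMod 2, Q a = 1 ∧ g = tG Q a}

theorem closure_SS_le : Subgroup.closure (SS Q) ≤ commutator ↥(Cfsg.isometryGroup (ZMod 2) (⇑Q)) := by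
  rw [Subgroup.closure_le]
  rintro g ⟨a, b, ha, hb, hab, rfl⟩
  exact s_mem_commutator Q ha hb hab

theorem conj_mem_SS (g : ↥(Cfsg.isometryGroup (ZMod 2) (⇑Q))) {s : ↥(Cfsg.isometryGroup (ZMod 2) (⇑Q))}
    (hs : s ∈ SS Q) : g * s * g⁻¹ ∈ SS Q := by
  obtain ⟨a, b, ha, hb, hab, rfl⟩ := hs
  refine ⟨toEnd Q g a, toEnd Q g b, ?_, ?_, ?_, ?_⟩
  · rw [toEnd_isometry, ha]
  · rw [toEnd_isometry, hb]
  · rw [polar_isometry Q (toEnd Q g) (toEnd_isometry Q g), hab]
  · have h1 := mul_tG Q g (Q_ne Q ha)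
    have h2 := mul_tG Q g (Q_ne Q hb)
    calc g * (tG Q a * tG Q b) * g⁻¹ = (g * tG Q a) * tG Q b * g⁻¹ := by group
      _ = tG Q (toEnd Q g a) * (g * tG Q b) * g⁻¹ := by rw [h1]; group
      _ = tG Q (toEnd Q g a) * tG Q (toEnd Q g b) := by rw [h2]; group

theorem normal_closure_SS : (Subgroup.closure (SS Q)).Normal := by
  constructor
  intro n hn g
  induction hn using Subgroup.closure_induction with
  | mem x hx => exact Subgroup.subset_closure (conj_mem_SS Q g hx)
  | one => rw [mul_one, mul_inv_cancel]; exact Subgroup.one_mem _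
  | mul x y _ _ hx hy =>
    have : g * (x * y) * g⁻¹ = (g * x * g⁻¹) * (g * y * g⁻¹) := by group
    rw [this]; exact Subgroup.mul_mem _ hx hy
  | inv x _ hx =>
    have : g * x⁻¹ * g⁻¹ = (g * x * g⁻¹)⁻¹ := by group
    rw [this]; exact Subgroup.inv_mem _ hx

/-- if the reflections generate the isometry group, then the commutator subgroup is generated by
the products of two reflections in non-orthogonal vectors -/
theorem commutator_le_of_gen (hgen : Subgroup.closure (TT Q) = ⊤) :
    commutator ↥(Cfsg.isometryGroup (ZMod 2) (⇑Q)) ≤ Subgroup.closure (SS Q) := by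
  have := normal_closure_SS Q
  apply Subgroup.Normal.quotient_commutative_iff_commutator_le.mp
  set E := Subgroup.closure (SS Q) with hE
  set π := QuotientGroup.mk' E with hπ
  have hk : ∀ x ∈ π '' TT Q, ∀ y ∈ π '' TT Q, x * y = y * x := by
    rintro _ ⟨_, ⟨a, ha, rfl⟩, rfl⟩ _ ⟨_, ⟨b, hb, rfl⟩, rfl⟩
    rcases z2_cases (polar Q a b) with hab | hab
    · rw [← map_mul, ← map_mul, tG_comm Q ha hb hab]
    · have h1 : π (tG Q a * tG Q b) = 1 := by
        rw [hπ, QuotientGroup.mk'_apply, QuotientGroup.eq_one_iff]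
        exact Subgroup.subset_closure ⟨a, b, ha, hb, hab, rfl⟩
      have h2 : π (tG Q b * tG Q a) = 1 := by
        rw [hπ, QuotientGroup.mk'_apply, QuotientGroup.eq_one_iff]
        exact Subgroup.subset_closure ⟨b, a, hb, ha, by rw [polar_comm, hab], rfl⟩
      rw [← map_mul, ← map_mul, h1, h2]
  have := Subgroup.isMulCommutative_closure hk
  have htop : Subgroup.closure (π '' TT Q) = ⊤ := by
    rw [← MonoidHom.map_closure, hgen, ← MonoidHom.range_eq_map, MonoidHom.range_eq_top]
    exact QuotientGroup.mk'_surjective E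
  refine ⟨⟨fun x y => ?_⟩⟩
  have hx : x ∈ Subgroup.closure (π '' TT Q) := by rw [htop]; exact Subgroup.mem_top x
  have hy : y ∈ Subgroup.closure (π '' TT Q) := by rw [htop]; exact Subgroup.mem_top y
  exact setLike_mul_comm hx hy

theorem s_pow_three {a b : ι → ZMod 2} (ha : Q a = 1) (hb : Q b = 1) (hab : polar Q a b = 1) :
    (tG Q a * tG Q b) ^ 3 = 1 := by
  have hba : polar Q b a = 1 := by rw [polar_comm, hab]
  have h1 := tG_conj Q ha hb hab
  have h2 := tG_conj Q hb ha hba
  rw [add_comm b a] at h2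
  calc (tG Q a * tG Q b) ^ 3
      = (tG Q a * tG Q b * tG Q a) * (tG Q b * tG Q a * tG Q b) := by
        rw [show (3 : ℕ) = 2 + 1 from rfl, pow_succ, pow_two]
        simp only [mul_assoc]
    _ = 1 := by rw [h1, h2, tG_mul_self' Q]

theorem s_ne_one {a b : ι → ZMod 2} (ha : Q a = 1) (hb : Q b = 1) (hab : polar Q a b = 1) :
    tG Q a * tG Q b ≠ 1 := by
  intro h
  have h1 := s_apply Q ha hb hab b
  rw [h, map_one, hab, B_self, add_zero, one_smul, zero_smul, add_zero] at h1
  have h2 : (b : ι → ZMod 2) = b + a := h1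
  have h3 : a = 0 := by
    have := congrArg (fun x => b + x) h2
    simp only [v_add_self, v_add_cancel_left] at this
    exact this.symm
  exact ne_zero_of_Q Q ha h3

end gens

section perm5

variable {G : Type*} [Group G]

/-- in a group isomorphic to the symmetric group on five letters, a normal subgroup containing an
element of order three contains the commutator subgroup -/
theorem commutator_le_of_perm5 (ψ : G ≃* Equiv.Perm (Fin 5)) (E : Subgroup G) [hE : E.Normal]
    {s : G} (hs : s ∈ E) (hs3 : s ^ 3 = 1) (hs1 : s ≠ 1) : commutator G ≤ E := by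
  have hσ3 : (ψ s) ^ 3 = 1 := by rw [← map_pow, hs3, map_one]
  have hσ1 : ψ s ≠ 1 := fun h => hs1 (by rw [← ψ.map_eq_one_iff]; exact h)
  have : Fact (Nat.Prime 3) := ⟨by norm_num⟩
  have hord : orderOf (ψ s) = 3 := orderOf_eq_prime hσ3 hσ1
  obtain ⟨n, hn⟩ := Equiv.Perm.cycleType_prime_order (σ := ψ s) (by rw [hord]; norm_num)
  rw [hord] at hn
  have hsum := Equiv.Perm.sum_cycleType (ψ s)
  have hle : (ψ s).support.card ≤ 5 := by
    have := Finset.card_le_univ (ψ s).support
    simpa using this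
  rw [hn, Multiset.sum_replicate, smul_eq_mul] at hsum
  have hn0 : n = 0 := by omega
  subst hn0
  have h3c : (ψ s).IsThreeCycle := by
    unfold Equiv.Perm.IsThreeCycle
    rw [hn]; rfl
  set N : Subgroup (Equiv.Perm (Fin 5)) := E.map ψ.toMonoidHom with hN
  have hNn : N.Normal := Subgroup.Normal.map hE _ ψ.surjective
  have hσN : ψ s ∈ N := ⟨s, hs, rfl⟩
  have hA : alternatingGroup (Fin 5) ≤ N := by
    have hcl := Equiv.Perm.IsThreeCycle.alternating_normalClosure (α := Fin 5) (by simp) h3c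
    have : (N.subgroupOf (alternatingGroup (Fin 5))).Normal := Subgroup.Normal.subgroupOf hNn _
    have hle' : Subgroup.normalClosure
        ({⟨ψ s, h3c.mem_alternatingGroup⟩} : Set (alternatingGroup (Fin 5))) ≤
        N.subgroupOf (alternatingGroup (Fin 5)) := by
      apply Subgroup.normalClosure_le_normal
      rintro x hx
      rw [Set.mem_singleton_iff] at hx
      subst hx
      rw [SetLike.mem_coe, Subgroup.mem_subgroupOf]
      exact hσN
    rw [hcl] at hle'
    intro τ hτ
    have := hle' (Subgroup.mem_top (⟨τ, hτ⟩ : alternatingGroup (Fin 5)))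
    rw [Subgroup.mem_subgroupOf] at this
    exact this
  intro g hg
  have h1 : g ∈ (Equiv.Perm.sign.comp ψ.toMonoidHom).ker :=
    Abelianization.commutator_subset_ker _ hg
  have h2 : ψ g ∈ alternatingGroup (Fin 5) := by
    rw [Equiv.Perm.mem_alternatingGroup]
    exact h1
  obtain ⟨e, he, hge⟩ := hA h2
  have : e = g := ψ.injective hge
  rw [← this]
  exact he

end perm5



open Cfsg QuadraticMap Module Cfsg.Agent.Helper17.Spinor
open scoped commutatorElement

section cocycle

variable {ι : Type} [Fintype ι] [DecidableEq ι] (Q : QuadraticForm (ZMod 2) (ι → ZMod 2))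

/-- crossed homomorphisms on the commutator subgroup, written on the whole isometry group -/
def IsCoc (φ : ↥(Cfsg.isometryGroup (ZMod 2) (⇑Q)) → (ι → ZMod 2)) : Prop :=
  ∀ g h, g ∈ commutator ↥(Cfsg.isometryGroup (ZMod 2) (⇑Q)) →
    h ∈ commutator ↥(Cfsg.isometryGroup (ZMod 2) (⇑Q)) → φ (g * h) = φ g + toEnd Q g (φ h)

variable {Q} {φ : ↥(Cfsg.isometryGroup (ZMod 2) (⇑Q)) → (ι → ZMod 2)}

theorem IsCoc.map_one (hφ : IsCoc Q φ) : φ 1 = 0 := by
  have h := hφ 1 1 (Subgroup.one_mem _) (Subgroup.one_mem _)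
  rw [mul_one, _root_.map_one, Module.End.one_apply] at h
  rw [v_add_self] at h
  exact h

theorem IsCoc.map_inv (hφ : IsCoc Q φ) {g : ↥(Cfsg.isometryGroup (ZMod 2) (⇑Q))}
    (hg : g ∈ commutator ↥(Cfsg.isometryGroup (ZMod 2) (⇑Q))) :
    φ g⁻¹ = toEnd Q g⁻¹ (φ g) := by
  have h := hφ g⁻¹ g (Subgroup.inv_mem _ hg) hg
  rw [inv_mul_cancel, hφ.map_one] at h
  exact (v_add_eq_zero.1 h.symm)

/-- the value on a product of two reflections lies in the plane of the two vectors -/
theorem IsCoc.exists_pair (hφ : IsCoc Q φ) {a b : ι → ZMod 2} (ha : Q a = 1) (hb : Q b = 1)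
    (hab : polar Q a b = 1) :
    ∃ α β : ZMod 2, φ (tG Q a * tG Q b) = α • a + β • b := by
  set s := tG Q a * tG Q b with hs
  have hsΩ : s ∈ commutator ↥(Cfsg.isometryGroup (ZMod 2) (⇑Q)) := s_mem_commutator Q ha hb hab
  set x := φ s with hx
  have h3 : s * (s * s) = 1 := by
    have h3' : s ^ 3 = 1 := s_pow_three Q ha hb hab
    rw [pow_succ, pow_two] at h3'
    rw [← mul_assoc]
    exact h3'
  have h1 := hφ s (s * s) hsΩ (Subgroup.mul_mem _ hsΩ hsΩ)
  rw [h3, hφ.map_one, hφ s s hsΩ hsΩ, ← hx, map_add] at h1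
  -- x = s (x + s x)
  have h2 : x = toEnd Q s (x + toEnd Q s x) := by
    rw [map_add]
    exact (v_add_eq_zero.1 h1.symm)
  have h4 : ∃ c₁ c₂ : ZMod 2, x + toEnd Q s x = c₁ • a + c₂ • b :=
    ⟨_, _, by rw [hs, s_apply Q ha hb hab, add_assoc, v_add_cancel_left]⟩
  obtain ⟨c₁, c₂, h4⟩ := h4
  rw [h4, hs, s_apply Q ha hb hab] at h2
  exact ⟨c₁ + (polar Q a (c₁ • a + c₂ • b) + polar Q b (c₁ • a + c₂ • b)),
    c₂ + polar Q b (c₁ • a + c₂ • b), by rw [h2]; module⟩

/-- the two coefficients -/
noncomputable def al (Q : QuadraticForm (ZMod 2) (ι → ZMod 2))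
    (φ : ↥(Cfsg.isometryGroup (ZMod 2) (⇑Q)) → (ι → ZMod 2)) (a b : ι → ZMod 2) : ZMod 2 :=
  polar Q (φ (tG Q a * tG Q b)) b

noncomputable def be (Q : QuadraticForm (ZMod 2) (ι → ZMod 2))
    (φ : ↥(Cfsg.isometryGroup (ZMod 2) (⇑Q)) → (ι → ZMod 2)) (a b : ι → ZMod 2) : ZMod 2 :=
  polar Q (φ (tG Q a * tG Q b)) a

theorem IsCoc.val_eq (hφ : IsCoc Q φ) {a b : ι → ZMod 2} (ha : Q a = 1) (hb : Q b = 1)
    (hab : polar Q a b = 1) :
    φ (tG Q a * tG Q b) = al Q φ a b • a + be Q φ a b • b := by
  obtain ⟨α, β, h⟩ := hφ.exists_pair ha hb hab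
  have hba : polar Q b a = 1 := by rw [polar_comm, hab]
  have h1 : al Q φ a b = α := by
    unfold al
    rw [h, polar_add_left, polar_smul_left, polar_smul_left, hab, B_self, smul_eq_mul, smul_eq_mul,
      mul_one, mul_zero, add_zero]
  have h2 : be Q φ a b = β := by
    unfold be
    rw [h, polar_add_left, polar_smul_left, polar_smul_left, hba, B_self, smul_eq_mul, smul_eq_mul,
      mul_one, mul_zero, zero_add]
  rw [h1, h2, h]

theorem inv_s {a b : ι → ZMod 2} (ha : Q a = 1) (hb : Q b = 1) :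
    (tG Q a * tG Q b)⁻¹ = tG Q b * tG Q a := by
  rw [_root_.mul_inv_rev, tG_inv Q (Q_ne Q ha), tG_inv Q (Q_ne Q hb)]

/-- the value on the inverse -/
theorem IsCoc.val_swap (hφ : IsCoc Q φ) {a b : ι → ZMod 2} (ha : Q a = 1) (hb : Q b = 1)
    (hab : polar Q a b = 1) :
    φ (tG Q b * tG Q a) = (al Q φ a b + be Q φ a b) • a + al Q φ a b • b := by
  have hba : polar Q b a = 1 := by rw [polar_comm, hab]
  have h1 := hφ.map_inv (s_mem_commutator Q ha hb hab)
  rw [inv_s ha hb, hφ.val_eq ha hb hab, s_apply Q hb ha hba] at h1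
  rw [h1]
  simp only [polar_add_right, polar_smul_right, hab, hba, B_self, smul_eq_mul, mul_one, mul_zero,
    add_zero, zero_add]
  linear_combination (norm := module) (be Q φ a b) • v_add_self b

theorem IsCoc.al_swap (hφ : IsCoc Q φ) {a b : ι → ZMod 2} (ha : Q a = 1) (hb : Q b = 1)
    (hab : polar Q a b = 1) : al Q φ b a = al Q φ a b := by
  have hba : polar Q b a = 1 := by rw [polar_comm, hab]
  unfold al
  rw [hφ.val_swap ha hb hab]
  simp only [polar_add_left, polar_smul_left, hab, hba, B_self, smul_eq_mul, mul_one, mul_zero,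
    add_zero, zero_add]
  rfl

theorem IsCoc.be_swap (hφ : IsCoc Q φ) {a b : ι → ZMod 2} (ha : Q a = 1) (hb : Q b = 1)
    (hab : polar Q a b = 1) : be Q φ b a = al Q φ a b + be Q φ a b := by
  have hba : polar Q b a = 1 := by rw [polar_comm, hab]
  unfold be
  rw [hφ.val_swap ha hb hab]
  simp only [polar_add_left, polar_smul_left, hab, hba, B_self, smul_eq_mul, mul_one, mul_zero,
    add_zero, zero_add]
  rfl

end cocycle



open Cfsg QuadraticMap Module Cfsg.Agent.Helper17.Spinor
open scoped commutatorElement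

theorem z2_add_eq_zero {x y : ZMod 2} : x + y = 0 ↔ x = y := by revert x y; decide

section cocycle2

variable {ι : Type} [Fintype ι] [DecidableEq ι] {Q : QuadraticForm (ZMod 2) (ι → ZMod 2)}
  {φ : ↥(Cfsg.isometryGroup (ZMod 2) (⇑Q)) → (ι → ZMod 2)}

/-- the candidate value of the linear functional at `a`, computed with the help of `b` -/
noncomputable def MM (Q : QuadraticForm (ZMod 2) (ι → ZMod 2))
    (φ : ↥(Cfsg.isometryGroup (ZMod 2) (⇑Q)) → (ι → ZMod 2)) (a b : ι → ZMod 2) : ZMod 2 :=
  al Q φ a b + be Q φ a b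

theorem IsCoc.MM_swap (hφ : IsCoc Q φ) {a b : ι → ZMod 2} (ha : Q a = 1) (hb : Q b = 1)
    (hab : polar Q a b = 1) : MM Q φ b a = be Q φ a b := by
  unfold MM
  rw [hφ.al_swap ha hb hab, hφ.be_swap ha hb hab, ← add_assoc, z2_add_self, zero_add]

/-- the value on `t_b t_c` through `a` -/
theorem IsCoc.val_through (hφ : IsCoc Q φ) {a b c : ι → ZMod 2} (ha : Q a = 1) (hb : Q b = 1)
    (hc : Q c = 1) (hab : polar Q a b = 1) (hac : polar Q a c = 1) :
    tG Q b * tG Q c ∈ commutator ↥(Cfsg.isometryGroup (ZMod 2) (⇑Q)) ∧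
    φ (tG Q b * tG Q c) = (MM Q φ a b + MM Q φ a c) • a +
      (al Q φ a b + al Q φ a c + be Q φ a c * polar Q b c + be Q φ a c) • b + be Q φ a c • c := by
  have hba : polar Q b a = 1 := by rw [polar_comm, hab]
  have hg : tG Q b * tG Q c = (tG Q b * tG Q a) * (tG Q a * tG Q c) := by
    rw [mul_assoc, ← mul_assoc (tG Q a), tG_mul_self Q (Q_ne Q ha), one_mul]
  have h1 := s_mem_commutator Q hb ha hba
  have h2 := s_mem_commutator Q ha hc hac
  refine ⟨by rw [hg]; exact Subgroup.mul_mem _ h1 h2, ?_⟩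
  rw [hg, hφ _ _ h1 h2, hφ.val_swap ha hb hab, hφ.val_eq ha hc hac, s_apply Q hb ha hba]
  simp only [polar_add_right, polar_smul_right, hab, hba, hac, B_self, smul_eq_mul, mul_one,
    mul_zero, add_zero, zero_add]
  unfold MM
  module

theorem IsCoc.MM_eq (hφ : IsCoc Q φ) {a b c : ι → ZMod 2} (ha : Q a = 1) (hb : Q b = 1)
    (hc : Q c = 1) (hab : polar Q a b = 1) (hac : polar Q a c = 1) :
    MM Q φ a b = MM Q φ a c := by
  by_cases hbc : b = c
  · rw [hbc]
  have hba : polar Q b a = 1 := by rw [polar_comm, hab]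
  have hca : polar Q c a = 1 := by rw [polar_comm, hac]
  obtain ⟨hgΩ, hval⟩ := hφ.val_through ha hb hc hab hac
  rw [← z2_add_eq_zero]
  rcases z2_cases (polar Q b c) with hκ | hκ
  · -- orthogonal: the product is an involution
    have hcb : polar Q c b = 0 := by rw [polar_comm, hκ]
    have hgg : (tG Q b * tG Q c) * (tG Q b * tG Q c) = 1 := by
      calc (tG Q b * tG Q c) * (tG Q b * tG Q c)
          = tG Q b * (tG Q c * tG Q b) * tG Q c := by group
        _ = tG Q b * (tG Q b * tG Q c) * tG Q c := by rw [← tG_comm Q hb hc hκ]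
        _ = (tG Q b * tG Q b) * (tG Q c * tG Q c) := by group
        _ = 1 := by rw [tG_mul_self Q (Q_ne Q hb), tG_mul_self Q (Q_ne Q hc), one_mul]
    have h1 := hφ _ _ hgΩ hgΩ
    rw [hgg, hφ.map_one, map_mul, Module.End.mul_apply, t_apply Q hc, t_apply Q hb,
      polar_add_right, polar_smul_right, hκ, smul_eq_mul, mul_zero, add_zero] at h1
    set y := φ (tG Q b * tG Q c) with hy
    have h2 : polar Q c y • c + polar Q b y • b = 0 := by
      rw [h1]
      rw [← add_assoc, ← add_assoc, v_add_self, zero_add]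
    have h3 : polar Q c y + polar Q b y = 0 := by
      have := congrArg (fun z => polar Q a z) h2
      simp only [polar_add_right, polar_smul_right, hab, hac, smul_eq_mul, mul_one,
        polar_zero_right] at this
      exact this
    have h4 : polar Q b y = 0 := by
      rcases z2_cases (polar Q b y) with h | h
      · exact h
      · exfalso
        rw [h, add_comm] at h3
        have h5 : polar Q c y = 1 := by
          rcases z2_cases (polar Q c y) with h' | h'
          · rw [h'] at h3; exact absurd h3 (by decide)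
          · exact h'
        rw [h, h5, one_smul, one_smul] at h2
        exact hbc (v_add_eq_zero.1 h2).symm
    rw [hval] at h4
    simp only [polar_add_right, polar_smul_right, hba, hκ, B_self, smul_eq_mul, mul_one, mul_zero,
      add_zero] at h4
    exact h4
  · by_cases hcab : c = a + b
    · subst hcab
      have h1 : tG Q a * tG Q (a + b) = tG Q b * tG Q a := by
        rw [← tG_conj Q ha hb hab, ← mul_assoc, ← mul_assoc, tG_mul_self Q (Q_ne Q ha), one_mul]
      have e1 : al Q φ a (a + b) = be Q φ a b := by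
        unfold al
        rw [h1, hφ.val_swap ha hb hab]
        simp only [polar_add_left, polar_add_right, polar_smul_left, hab, hba, B_self, smul_eq_mul,
          mul_one, mul_zero, add_zero, zero_add]
        generalize al Q φ a b = p
        generalize be Q φ a b = q
        revert p q
        decide
      have e2 : be Q φ a (a + b) = al Q φ a b := by
        unfold be
        rw [h1, hφ.val_swap ha hb hab]
        simp only [polar_add_left, polar_smul_left, hba, B_self, smul_eq_mul,
          mul_one, mul_zero, zero_add]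
      have h2 : MM Q φ a (a + b) = MM Q φ a b := by
        unfold MM
        rw [e1, e2, add_comm]
      rw [h2, z2_add_self]
    · have h1 := hφ.val_eq hb hc hκ
      rw [hval, hκ, mul_one] at h1
      set A := MM Q φ a b + MM Q φ a c with hA
      have hcb : polar Q c b = 1 := by rw [polar_comm, hκ]
      have e1 : A + be Q φ a c = be Q φ b c := by
        have := congrArg (fun z => polar Q z b) h1
        simp only [polar_add_left, polar_smul_left, hab, hcb, B_self, smul_eq_mul, mul_one,
          mul_zero, add_zero, zero_add] at this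
        exact this
      have e2 : A + (al Q φ a b + al Q φ a c + be Q φ a c + be Q φ a c) = al Q φ b c := by
        have := congrArg (fun z => polar Q z c) h1
        simp only [polar_add_left, polar_smul_left, hac, hκ, B_self, smul_eq_mul, mul_one,
          mul_zero, add_zero, zero_add] at this
        exact this
      rw [← e1, ← e2] at h1
      have h2 : A • a = A • b + A • c := by
        linear_combination (norm := module) h1
      rcases z2_cases A with h | h
      · exact h
      · exfalso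
        rw [h, one_smul, one_smul, one_smul] at h2
        apply hcab
        rw [h2, add_comm b c, add_assoc, v_add_self, add_zero]

end cocycle2



open Cfsg QuadraticMap Module Cfsg.Agent.Helper17.Spinor
open scoped commutatorElement

section cocycle3

variable {ι : Type} [Fintype ι] [DecidableEq ι] {Q : QuadraticForm (ZMod 2) (ι → ZMod 2)}
  {φ : ↥(Cfsg.isometryGroup (ZMod 2) (⇑Q)) → (ι → ZMod 2)}

/-- additivity along elliptic lines -/
def LA (Q : QuadraticForm (ZMod 2) (ι → ZMod 2)) (μ : (ι → ZMod 2) → ZMod 2) : Prop :=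
  ∀ a b, Q a = 1 → Q b = 1 → polar Q a b = 1 → μ (a + b) = μ a + μ b

open Classical in
/-- the functional attached to a crossed homomorphism -/
noncomputable def mu (Q : QuadraticForm (ZMod 2) (ι → ZMod 2))
    (φ : ↥(Cfsg.isometryGroup (ZMod 2) (⇑Q)) → (ι → ZMod 2)) (a : ι → ZMod 2) : ZMod 2 :=
  if h : ∃ b, Q b = 1 ∧ polar Q a b = 1 then MM Q φ a h.choose else 0

theorem IsCoc.mu_eq (hφ : IsCoc Q φ) {a b : ι → ZMod 2} (ha : Q a = 1) (hb : Q b = 1)
    (hab : polar Q a b = 1) : mu Q φ a = MM Q φ a b := by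
  have h : ∃ b, Q b = 1 ∧ polar Q a b = 1 := ⟨b, hb, hab⟩
  unfold mu
  rw [dif_pos h]
  exact hφ.MM_eq ha h.choose_spec.1 hb h.choose_spec.2 hab

theorem IsCoc.be_eq (hφ : IsCoc Q φ) {a b : ι → ZMod 2} (ha : Q a = 1) (hb : Q b = 1)
    (hab : polar Q a b = 1) : be Q φ a b = mu Q φ b := by
  have hba : polar Q b a = 1 := by rw [polar_comm, hab]
  rw [hφ.mu_eq hb ha hba, hφ.MM_swap ha hb hab]

theorem IsCoc.al_eq (hφ : IsCoc Q φ) {a b : ι → ZMod 2} (ha : Q a = 1) (hb : Q b = 1)
    (hab : polar Q a b = 1) : al Q φ a b = mu Q φ a + mu Q φ b := by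
  rw [← hφ.be_eq ha hb hab, hφ.mu_eq ha hb hab]
  unfold MM
  rw [add_assoc, z2_add_self, add_zero]

theorem IsCoc.val_mu (hφ : IsCoc Q φ) {a b : ι → ZMod 2} (ha : Q a = 1) (hb : Q b = 1)
    (hab : polar Q a b = 1) :
    φ (tG Q a * tG Q b) = (mu Q φ a + mu Q φ b) • a + mu Q φ b • b := by
  rw [hφ.val_eq ha hb hab, hφ.al_eq ha hb hab, hφ.be_eq ha hb hab]

theorem IsCoc.LA_mu (hφ : IsCoc Q φ) : LA Q (mu Q φ) := by
  intro a b ha hb hab
  have hs : Q (a + b) = 1 := Q_sum Q ha hb hab
  have hba : polar Q b a = 1 := by rw [polar_comm, hab]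
  have hpa : polar Q (a + b) a = 1 := by
    rw [polar_add_left, B_self, zero_add, hba]
  have h1 : tG Q (a + b) * tG Q a = tG Q a * tG Q b := by
    rw [← tG_conj Q ha hb hab, mul_assoc, tG_mul_self Q (Q_ne Q ha), mul_one]
  rw [hφ.mu_eq hs ha hpa]
  unfold MM al be
  rw [h1, hφ.val_mu ha hb hab]
  simp only [polar_add_left, polar_add_right, polar_smul_left, hab, hba, B_self, smul_eq_mul,
    mul_one, mul_zero, add_zero, zero_add]
  generalize mu Q φ a = p
  generalize mu Q φ b = q
  revert p q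
  decide

/-- a crossed homomorphism which is principal on the generators is principal -/
theorem IsCoc.principal (hφ : IsCoc Q φ) {v : ι → ZMod 2}
    (hv : ∀ a, Q a = 1 → mu Q φ a = polar Q v a)
    {g : ↥(Cfsg.isometryGroup (ZMod 2) (⇑Q))} (hg : g ∈ Subgroup.closure (SS Q)) :
    g ∈ commutator ↥(Cfsg.isometryGroup (ZMod 2) (⇑Q)) ∧ φ g = toEnd Q g v - v := by
  induction hg using Subgroup.closure_induction with
  | mem x hx =>
    obtain ⟨a, b, ha, hb, hab, rfl⟩ := hx
    refine ⟨s_mem_commutator Q ha hb hab, ?_⟩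
    rw [hφ.val_mu ha hb hab, s_apply Q ha hb hab, hv a ha, hv b hb, polar_comm Q a v,
      polar_comm Q b v, add_assoc, add_sub_cancel_left]
  | one =>
    refine ⟨Subgroup.one_mem _, ?_⟩
    rw [hφ.map_one, _root_.map_one, Module.End.one_apply, sub_self]
  | mul x y _ _ hx hy =>
    refine ⟨Subgroup.mul_mem _ hx.1 hy.1, ?_⟩
    rw [hφ x y hx.1 hy.1, hx.2, hy.2, _root_.map_mul, Module.End.mul_apply, map_sub]
    abel
  | inv x _ hx =>
    refine ⟨Subgroup.inv_mem _ hx.1, ?_⟩
    rw [hφ.map_inv hx.1, hx.2, map_sub, ← Module.End.mul_apply, ← _root_.map_mul, inv_mul_cancel,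
      _root_.map_one, Module.End.one_apply, v_sub, v_sub, add_comm]

/-- the reduction of the vanishing of the first cohomology to two properties of the form -/
theorem main_of_lin
    (hΩ : commutator ↥(Cfsg.isometryGroup (ZMod 2) (⇑Q)) ≤ Subgroup.closure (SS Q))
    (hLin : ∀ μ, LA Q μ → ∃ v, ∀ a, Q a = 1 → μ a = polar Q v a)
    (f : ↥(commutator ↥(Cfsg.isometryGroup (ZMod 2) (⇑Q))) → (ι → ZMod 2))
    (hf : ∀ g h : ↥(commutator ↥(Cfsg.isometryGroup (ZMod 2) (⇑Q))),
      f (g * h) = f g + toEnd Q (g : ↥(Cfsg.isometryGroup (ZMod 2) (⇑Q))) (f h)) :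
    ∃ v : ι → ZMod 2, ∀ g : ↥(commutator ↥(Cfsg.isometryGroup (ZMod 2) (⇑Q))),
      f g = toEnd Q (g : ↥(Cfsg.isometryGroup (ZMod 2) (⇑Q))) v - v := by
  classical
  set φ : ↥(Cfsg.isometryGroup (ZMod 2) (⇑Q)) → (ι → ZMod 2) :=
    fun g => if h : g ∈ commutator ↥(Cfsg.isometryGroup (ZMod 2) (⇑Q)) then f ⟨g, h⟩ else 0 with hφdef
  have hφval : ∀ g : ↥(commutator ↥(Cfsg.isometryGroup (ZMod 2) (⇑Q))), φ g = f g := by
    intro g
    rw [hφdef]
    simp only
    rw [dif_pos g.2]
  have hφ : IsCoc Q φ := by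
    intro g h hg hh
    have := hf ⟨g, hg⟩ ⟨h, hh⟩
    rw [← hφval, ← hφval ⟨g, hg⟩, ← hφval ⟨h, hh⟩] at this
    exact this
  obtain ⟨v, hv⟩ := hLin (mu Q φ) hφ.LA_mu
  refine ⟨v, fun g => ?_⟩
  rw [← hφval]
  exact (hφ.principal hv (hΩ g.2)).2

end cocycle3


end Cfsg.Agent.Helper27.OrthH1
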