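import Mathlib
import Cfsg.Agent.Lib.Helper27.ExOutB
import Cfsg.Agent.Lib.Helper27.OrthH1A
import Cfsg.Agent.S0824

set_option autoImplicit false
set_option linter.unusedSectionVars false

/-! Functionals on the non-singular vectors of a quadratic space over the field with two elements which are additive along elliptic lines: extension of linearity across an orthogonal hyperbolic plane (`hstep`) and across an orthogonal anisotropic plane (`pstep`), and the resulting linearity for the elliptic spaces of dimension four and six and the hyperbolic space of dimension eight (`lin_dim4`, `lin_dim6`, `lin_dim8`), together with generation of the commutator subgroups (`comm_le_dim4`, `comm_le_dim6`, `comm_le_dim8`). -/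

namespace Cfsg.Agent.Helper27.OrthH1

open Cfsg QuadraticMap Module Cfsg.Agent.Helper17.Spinor

section lin

variable {ι : Type} {Q : QuadraticForm (ZMod 2) (ι → ZMod 2)} {μ : (ι → ZMod 2) → ZMod 2}

/-- linearity of `μ` on the non-singular vectors of `U` -/
def Lin (Q : QuadraticForm (ZMod 2) (ι → ZMod 2)) (μ : (ι → ZMod 2) → ZMod 2)
    (U : Submodule (ZMod 2) (ι → ZMod 2)) : Prop :=
  ∃ v, ∀ a ∈ U, Q a = 1 → μ a = polar Q v a

theorem LA.shift (hμ : LA Q μ) (v : ι → ZMod 2) : LA Q (fun a => μ a + polar Q v a) := by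
  intro a b ha hb hab
  simp only
  rw [hμ a b ha hb hab, polar_add_right]
  ring

theorem z2_mul_self (x : ZMod 2) : x * x = x := by revert x; decide

theorem Q_smul (c : ZMod 2) (x : ι → ZMod 2) : Q (c • x) = c * Q x := by
  rw [QuadraticMap.map_smul, smul_eq_mul, z2_mul_self]

/-- the base of the induction: an anisotropic plane -/
theorem lin_base (hμ : LA Q μ) {p q : ι → ZMod 2} (hp : Q p = 1) (hq : Q q = 1)
    (hpq : polar Q p q = 1) : Lin Q μ (Submodule.span (ZMod 2) {p, q}) := by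
  have hqp : polar Q q p = 1 := by rw [polar_comm, hpq]
  refine ⟨μ q • p + μ p • q, ?_⟩
  intro a ha hQa
  obtain ⟨γ, δ, rfl⟩ := Submodule.mem_span_pair.1 ha
  simp only [polar_add_left, polar_add_right, polar_smul_left, polar_smul_right, hpq, hqp, B_self,
    smul_eq_mul, mul_one, mul_zero, add_zero, zero_add]
  rcases z2_cases γ with rfl | rfl <;> rcases z2_cases δ with rfl | rfl
  · rw [zero_smul, zero_smul, add_zero, map_zero] at hQa
    exact absurd hQa (by decide)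
  · rw [zero_smul, one_smul, zero_add]; ring
  · rw [zero_smul, one_smul, add_zero]; ring
  · rw [one_smul, one_smul, hμ p q hp hq hpq]; ring

end lin



open Cfsg QuadraticMap Module Cfsg.Agent.Helper17.Spinor

section hstep

variable {ι : Type} {Q : QuadraticForm (ZMod 2) (ι → ZMod 2)} {μ : (ι → ZMod 2) → ZMod 2}

/-- two distinct orthogonal non-singular vectors of `U` have a common non-singular non-orthogonal
neighbour in `U` -/
def D2N (Q : QuadraticForm (ZMod 2) (ι → ZMod 2)) (U : Submodule (ZMod 2) (ι → ZMod 2)) : Prop :=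
  ∀ a ∈ U, ∀ b ∈ U, Q a = 1 → Q b = 1 → polar Q a b = 0 → a ≠ b →
    ∃ c ∈ U, Q c = 1 ∧ polar Q a c = 1 ∧ polar Q b c = 1

/-- every singular vector of `U` is the sum of two orthogonal non-singular vectors of `U` -/
def SD (Q : QuadraticForm (ZMod 2) (ι → ZMod 2)) (U : Submodule (ZMod 2) (ι → ZMod 2)) : Prop :=
  ∀ s ∈ U, Q s = 0 → ∃ u ∈ U, ∃ w ∈ U, Q u = 1 ∧ Q w = 1 ∧ polar Q u w = 0 ∧ s = u + w

theorem hstep_const (hμ : LA Q μ) (U : Submodule (ZMod 2) (ι → ZMod 2))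
    (h0 : ∀ a ∈ U, Q a = 1 → μ a = 0) (hD : D2N Q U) {h : ι → ZMod 2} (hh : Q h = 0)
    (hUh : ∀ u ∈ U, polar Q u h = 0) :
    ∀ u ∈ U, ∀ u' ∈ U, Q u = 1 → Q u' = 1 → μ (u + h) = μ (u' + h) := by
  have adj : ∀ u ∈ U, ∀ u' ∈ U, Q u = 1 → Q u' = 1 → polar Q u u' = 1 →
      μ (u + h) = μ (u' + h) := by
    intro u hu u' hu' hQu hQu' huu'
    have h1 : Q (u + h) = 1 := by rw [Qadd, hQu, hh, hUh u hu]; decide
    have h2 : Q (u + u') = 1 := Q_sum Q hQu hQu' huu'
    have h3 : polar Q (u + h) (u + u') = 1 := by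
      rw [polar_add_left, polar_add_right, polar_add_right, B_self, huu', polar_comm Q h u,
        polar_comm Q h u', hUh u hu, hUh u' hu']
      decide
    have h4 := hμ _ _ h1 h2 h3
    have h5 : u + h + (u + u') = u' + h := by
      linear_combination (norm := module) v_add_self u
    rw [h5, h0 _ (U.add_mem hu hu') h2, add_zero] at h4
    exact h4.symm
  intro u hu u' hu' hQu hQu'
  by_cases huu : u = u'
  · rw [huu]
  rcases z2_cases (polar Q u u') with hp | hp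
  · obtain ⟨c, hc, hQc, h1, h2⟩ := hD u hu u' hu' hQu hQu' hp huu
    rw [adj u hu c hc hQu hQc h1, adj u' hu' c hc hQu' hQc h2]
  · exact adj u hu u' hu' hQu hQu' hp

/-- the hyperbolic step, for a functional vanishing on `U` -/
theorem hstep0 (hμ : LA Q μ) (U : Submodule (ZMod 2) (ι → ZMod 2))
    (h0 : ∀ a ∈ U, Q a = 1 → μ a = 0) (hD : D2N Q U) (hS : SD Q U) {e f : ι → ZMod 2}
    (he : Q e = 0) (hf : Q f = 0) (hef : polar Q e f = 1)
    (hUe : ∀ u ∈ U, polar Q u e = 0) (hUf : ∀ u ∈ U, polar Q u f = 0) :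
    ∃ v, (∀ u ∈ U, polar Q v u = 0) ∧ ∀ u ∈ U, ∀ γ δ : ZMod 2,
      Q (u + (γ • e + δ • f)) = 1 → μ (u + (γ • e + δ • f)) = polar Q v (u + (γ • e + δ • f)) := by
  have hfe : polar Q f e = 1 := by rw [polar_comm, hef]
  obtain ⟨u₀, hu₀, w₀, hw₀, hQu₀, -, -, -⟩ := hS 0 U.zero_mem (map_zero Q)
  have ce := hstep_const hμ U h0 hD he hUe
  have cf := hstep_const hμ U h0 hD hf hUf
  refine ⟨μ (u₀ + f) • e + μ (u₀ + e) • f, ?_, ?_⟩
  · intro u hu
    rw [polar_add_left, polar_smul_left, polar_smul_left, polar_comm Q e u, polar_comm Q f u,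
      hUe u hu, hUf u hu, smul_zero, smul_zero, add_zero]
  intro u hu γ δ hQ
  have hpol : polar Q (μ (u₀ + f) • e + μ (u₀ + e) • f) (u + (γ • e + δ • f)) =
      γ * μ (u₀ + e) + δ * μ (u₀ + f) := by
    simp only [polar_add_left, polar_add_right, polar_smul_left, polar_smul_right,
      polar_comm Q e u, polar_comm Q f u, hUe u hu, hUf u hu, hef, hfe, B_self, smul_eq_mul,
      mul_one, mul_zero, add_zero, zero_add]
  have hQ' : Q u + γ * δ = 1 := by
    rw [Qadd, Qadd, Q_smul, Q_smul, he, hf] at hQ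
    simp only [polar_add_right, polar_smul_left, polar_smul_right, hUe u hu, hUf u hu, hef,
      smul_eq_mul, mul_one, mul_zero, add_zero, zero_add] at hQ
    rw [← hQ]; ring
  rw [hpol]
  rcases z2_cases γ with rfl | rfl <;> rcases z2_cases δ with rfl | rfl
  · rw [zero_smul, zero_smul, add_zero, add_zero, zero_mul, zero_mul, add_zero]
    rw [mul_zero, add_zero] at hQ'
    exact h0 u hu hQ'
  · rw [zero_smul, one_smul, zero_add, zero_mul, one_mul, zero_add]
    rw [zero_mul, add_zero] at hQ'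
    exact cf u hu u₀ hu₀ hQ' hQu₀
  · rw [zero_smul, one_smul, add_zero, zero_mul, one_mul, add_zero]
    rw [mul_zero, add_zero] at hQ'
    exact ce u hu u₀ hu₀ hQ' hQu₀
  · rw [one_smul, one_smul, one_mul, one_mul]
    have hQu : Q u = 0 := by
      rcases z2_cases (Q u) with h | h
      · exact h
      · rw [h] at hQ'; exact absurd hQ' (by decide)
    obtain ⟨u₁, hu₁, w₁, hw₁, hQu₁, hQw₁, huw, rfl⟩ := hS u hu hQu
    have h1 : Q (u₁ + e) = 1 := by rw [Qadd, hQu₁, he, hUe u₁ hu₁]; decide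
    have h2 : Q (w₁ + f) = 1 := by rw [Qadd, hQw₁, hf, hUf w₁ hw₁]; decide
    have h3 : polar Q (u₁ + e) (w₁ + f) = 1 := by
      rw [polar_add_left, polar_add_right, polar_add_right, huw, hUf u₁ hu₁, polar_comm Q e w₁,
        hUe w₁ hw₁, hef]
      decide
    have h4 := hμ _ _ h1 h2 h3
    have h5 : u₁ + e + (w₁ + f) = u₁ + w₁ + (e + f) := by abel
    rw [h5] at h4
    rw [h4, ce u₁ hu₁ u₀ hu₀ hQu₁ hQu₀, cf w₁ hw₁ u₀ hu₀ hQw₁ hQu₀]

/-- the hyperbolic step -/
theorem hstep (hμ : LA Q μ) (U : Submodule (ZMod 2) (ι → ZMod 2)) (hL : Lin Q μ U)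
    (hD : D2N Q U) (hS : SD Q U) {e f : ι → ZMod 2}
    (he : Q e = 0) (hf : Q f = 0) (hef : polar Q e f = 1)
    (hUe : ∀ u ∈ U, polar Q u e = 0) (hUf : ∀ u ∈ U, polar Q u f = 0) :
    Lin Q μ (U ⊔ Submodule.span (ZMod 2) {e, f}) := by
  obtain ⟨v', hv'⟩ := hL
  have hμ' := hμ.shift v'
  have h0 : ∀ a ∈ U, Q a = 1 → (fun a => μ a + polar Q v' a) a = 0 := by
    intro a ha hQa
    simp only
    rw [hv' a ha hQa, z2_add_self]
  obtain ⟨v, -, hv⟩ := hstep0 hμ' U h0 hD hS he hf hef hUe hUf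
  refine ⟨v + v', ?_⟩
  intro x hx hQx
  obtain ⟨u, hu, y, hy, rfl⟩ := Submodule.mem_sup.1 hx
  obtain ⟨γ, δ, rfl⟩ := Submodule.mem_span_pair.1 hy
  have := hv u hu γ δ hQx
  rw [polar_add_left, ← this, add_assoc, z2_add_self, add_zero]

end hstep



open Cfsg QuadraticMap Module Cfsg.Agent.Helper17.Spinor

section pstep

variable {ι : Type} {Q : QuadraticForm (ZMod 2) (ι → ZMod 2)} {μ : (ι → ZMod 2) → ZMod 2}

/-- non-degeneracy of the polar form on `U` -/
def ND (Q : QuadraticForm (ZMod 2) (ι → ZMod 2)) (U : Submodule (ZMod 2) (ι → ZMod 2)) : Prop :=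
  ∀ s ∈ U, s ≠ 0 → ∃ y ∈ U, polar Q s y = 1

theorem ND.sep {U : Submodule (ZMod 2) (ι → ZMod 2)} (hND : ND Q U) {s s' : ι → ZMod 2}
    (hs : s ∈ U) (hs' : s' ∈ U) (hs0 : s ≠ 0) (hs'0 : s' ≠ 0) (hne : s ≠ s') :
    ∃ x ∈ U, polar Q s x = 1 ∧ polar Q s' x = 1 := by
  have h1 : s + s' ≠ 0 := fun h => hne (v_add_eq_zero.1 h)
  obtain ⟨y, hy, hy1⟩ := hND (s + s') (U.add_mem hs hs') h1
  rw [polar_add_left] at hy1
  rcases z2_cases (polar Q s y) with h | h
  · rw [h, zero_add] at hy1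
    obtain ⟨z, hz, hz1⟩ := hND s hs hs0
    rcases z2_cases (polar Q s' z) with h' | h'
    · refine ⟨y + z, U.add_mem hy hz, ?_, ?_⟩
      · rw [polar_add_right, h, hz1, zero_add]
      · rw [polar_add_right, hy1, h', add_zero]
    · exact ⟨z, hz, hz1, h'⟩
  · rw [h] at hy1
    have hy1' : polar Q s' y = 0 := by
      rcases z2_cases (polar Q s' y) with h' | h'
      · exact h'
      · rw [h'] at hy1; exact absurd hy1 (by decide)
    obtain ⟨z, hz, hz1⟩ := hND s' hs' hs'0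
    rcases z2_cases (polar Q s z) with h' | h'
    · refine ⟨y + z, U.add_mem hy hz, ?_, ?_⟩
      · rw [polar_add_right, h, h', add_zero]
      · rw [polar_add_right, hy1', hz1, zero_add]
    · exact ⟨z, hz, h', hz1⟩

theorem ND.sing_sep {U : Submodule (ZMod 2) (ι → ZMod 2)} (hND : ND Q U) {s s' : ι → ZMod 2}
    (hs : s ∈ U) (hs' : s' ∈ U) (hQs : Q s = 0) (hs0 : s ≠ 0) (hs'0 : s' ≠ 0)
    (hne : s ≠ s') (hss : polar Q s s' = 0) :
    ∃ t ∈ U, Q t = 0 ∧ polar Q s t = 1 ∧ polar Q s' t = 1 := by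
  obtain ⟨x, hx, h1, h2⟩ := hND.sep hs hs' hs0 hs'0 hne
  rcases z2_cases (Q x) with h | h
  · exact ⟨x, hx, h, h1, h2⟩
  · refine ⟨x + s, U.add_mem hx hs, ?_, ?_, ?_⟩
    · rw [Qadd, h, hQs, polar_comm, h1]; decide
    · rw [polar_add_right, h1, B_self, add_zero]
    · rw [polar_add_right, h2, polar_comm, hss, add_zero]

theorem pstep_const (hμ : LA Q μ) (U : Submodule (ZMod 2) (ι → ZMod 2))
    (h0 : ∀ a ∈ U, Q a = 1 → μ a = 0) (hND : ND Q U) {p : ι → ZMod 2} (hp : Q p = 1)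
    (hUp : ∀ u ∈ U, polar Q u p = 0) :
    ∀ s ∈ U, ∀ s' ∈ U, Q s = 0 → Q s' = 0 → s ≠ 0 → s' ≠ 0 → μ (s + p) = μ (s' + p) := by
  have adj : ∀ s ∈ U, ∀ s' ∈ U, Q s = 0 → Q s' = 0 → polar Q s s' = 1 →
      μ (s + p) = μ (s' + p) := by
    intro s hs s' hs' hQs hQs' hss
    have h1 : Q (s + p) = 1 := by rw [Qadd, hQs, hp, hUp s hs]; decide
    have h2 : Q (s' + p) = 1 := by rw [Qadd, hQs', hp, hUp s' hs']; decide
    have h3 : polar Q (s + p) (s' + p) = 1 := by
      rw [polar_add_left, polar_add_right, polar_add_right, hss, hUp s hs, polar_comm Q p s',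
        hUp s' hs', B_self]
      decide
    have h4 := hμ _ _ h1 h2 h3
    have h5 : s + p + (s' + p) = s + s' := by
      linear_combination (norm := module) v_add_self p
    have h6 : Q (s + s') = 1 := by rw [Qadd, hQs, hQs', hss]; decide
    rw [h5, h0 _ (U.add_mem hs hs') h6] at h4
    exact z2_add_eq_zero.1 h4.symm
  intro s hs s' hs' hQs hQs' hs0 hs'0
  by_cases hne : s = s'
  · rw [hne]
  rcases z2_cases (polar Q s s') with h | h
  · obtain ⟨t, ht, hQt, h1, h2⟩ := hND.sing_sep hs hs' hQs hs0 hs'0 hne h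
    rw [adj s hs t ht hQs hQt h1, adj s' hs' t ht hQs' hQt h2]
  · exact adj s hs s' hs' hQs hQs' h

/-- existence of two distinct orthogonal non-zero singular vectors -/
def TS2 (Q : QuadraticForm (ZMod 2) (ι → ZMod 2)) (U : Submodule (ZMod 2) (ι → ZMod 2)) : Prop :=
  ∃ s ∈ U, ∃ s' ∈ U, s ≠ 0 ∧ s' ≠ 0 ∧ s ≠ s' ∧ Q s = 0 ∧ Q s' = 0 ∧ polar Q s s' = 0

theorem pstep_key (hμ : LA Q μ) (U : Submodule (ZMod 2) (ι → ZMod 2))
    (h0 : ∀ a ∈ U, Q a = 1 → μ a = 0) (hND : ND Q U) (hT : TS2 Q U) {p q : ι → ZMod 2}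
    (hp : Q p = 1) (hq : Q q = 1) (hpq : polar Q p q = 1)
    (hUp : ∀ u ∈ U, polar Q u p = 0) (hUq : ∀ u ∈ U, polar Q u q = 0) :
    ∀ s ∈ U, Q s = 0 → μ (s + p) = μ p := by
  intro s hs hQs
  by_cases hs0 : s = 0
  · rw [hs0, zero_add]
  obtain ⟨s₁, hs₁, s₂, hs₂, h10, h20, h12, hQ1, hQ2, hpol⟩ := hT
  have cp := pstep_const hμ U h0 hND hp hUp
  rw [cp s hs s₂ hs₂ hQs hQ2 hs0 h20]
  have hs₃ : s₁ + s₂ ∈ U := U.add_mem hs₁ hs₂
  have hQ3 : Q (s₁ + s₂) = 0 := by rw [Qadd, hQ1, hQ2, hpol]; decide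
  have h30 : s₁ + s₂ ≠ 0 := fun h => h12 (v_add_eq_zero.1 h)
  have e1 : μ (s₁ + s₂ + p) = μ (s₁ + p) := cp _ hs₃ _ hs₁ hQ3 hQ1 h30 h10
  have a1 : Q (s₁ + p) = 1 := by rw [Qadd, hQ1, hp, hUp s₁ hs₁]; decide
  have a2 : Q (s₂ + q) = 1 := by rw [Qadd, hQ2, hq, hUq s₂ hs₂]; decide
  have a3 : Q (s₁ + s₂ + p) = 1 := by rw [Qadd, hQ3, hp, hUp _ hs₃]; decide
  have a4 : Q (s₂ + p) = 1 := by rw [Qadd, hQ2, hp, hUp s₂ hs₂]; decide
  have b1 : polar Q (s₁ + p) (s₂ + q) = 1 := by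
    rw [polar_add_left, polar_add_right, polar_add_right, hpol, hUq s₁ hs₁, polar_comm Q p s₂,
      hUp s₂ hs₂, hpq]
    decide
  have b2 : polar Q (s₁ + s₂ + p) q = 1 := by
    rw [polar_add_left, hUq _ hs₃, hpq, zero_add]
  have b3 : polar Q (s₂ + p) (s₂ + q) = 1 := by
    rw [polar_add_left, polar_add_right, polar_add_right, B_self, hUq s₂ hs₂, polar_comm Q p s₂,
      hUp s₂ hs₂, hpq]
    decide
  have c1 := hμ _ _ a1 a2 b1
  have c2 := hμ _ _ a3 hq b2
  have c3 := hμ _ _ a4 a2 b3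
  have c4 := hμ _ _ hp hq hpq
  have d1 : s₁ + p + (s₂ + q) = s₁ + s₂ + p + q := by abel
  have d2 : s₂ + p + (s₂ + q) = p + q := by
    linear_combination (norm := module) v_add_self s₂
  rw [d1, c2, e1] at c1
  rw [d2, c4] at c3
  have e2 : μ (s₂ + q) = μ q := by
    have := congrArg (fun x => μ (s₁ + p) + x) c1
    simp only [← add_assoc, z2_add_self, zero_add] at this
    exact this.symm
  rw [e2] at c3
  have := congrArg (fun x => x + μ q) c3
  simp only [add_assoc, z2_add_self, add_zero] at this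
  exact this.symm

/-- the anisotropic step, for a functional vanishing on `U` -/
theorem pstep0 (hμ : LA Q μ) (U : Submodule (ZMod 2) (ι → ZMod 2))
    (h0 : ∀ a ∈ U, Q a = 1 → μ a = 0) (hND : ND Q U) (hT : TS2 Q U) {p q : ι → ZMod 2}
    (hp : Q p = 1) (hq : Q q = 1) (hpq : polar Q p q = 1)
    (hUp : ∀ u ∈ U, polar Q u p = 0) (hUq : ∀ u ∈ U, polar Q u q = 0) :
    ∃ v, ∀ u ∈ U, ∀ γ δ : ZMod 2,
      Q (u + (γ • p + δ • q)) = 1 → μ (u + (γ • p + δ • q)) = polar Q v (u + (γ • p + δ • q)) := by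
  have hqp : polar Q q p = 1 := by rw [polar_comm, hpq]
  have kp := pstep_key hμ U h0 hND hT hp hq hpq hUp hUq
  have kq := pstep_key hμ U h0 hND hT hq hp hqp hUq hUp
  refine ⟨μ q • p + μ p • q, ?_⟩
  intro u hu γ δ hQ
  have hpol : polar Q (μ q • p + μ p • q) (u + (γ • p + δ • q)) = γ * μ p + δ * μ q := by
    simp only [polar_add_left, polar_add_right, polar_smul_left, polar_smul_right,
      polar_comm Q p u, polar_comm Q q u, hUp u hu, hUq u hu, hpq, hqp, B_self, smul_eq_mul,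
      mul_one, mul_zero, add_zero, zero_add]
  have hQ' : Q u + (γ + δ + γ * δ) = 1 := by
    rw [Qadd, Qadd, Q_smul, Q_smul, hp, hq] at hQ
    simp only [polar_add_right, polar_smul_left, polar_smul_right, hUp u hu, hUq u hu, hpq,
      smul_eq_mul, mul_one, mul_zero, add_zero, zero_add] at hQ
    rw [← hQ]; ring
  have hQu : γ ≠ 0 ∨ δ ≠ 0 → Q u = 0 := by
    intro h
    rcases z2_cases (Q u) with h' | h'
    · exact h'
    · exfalso
      rw [h'] at hQ'
      have aux : ∀ γ δ : ZMod 2, 1 + (γ + δ + γ * δ) = 1 → (γ ≠ 0 ∨ δ ≠ 0) → False := by decide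
      exact aux γ δ hQ' h
  rw [hpol]
  rcases z2_cases γ with rfl | rfl <;> rcases z2_cases δ with rfl | rfl
  · rw [zero_smul, zero_smul, add_zero, add_zero, zero_mul, zero_mul, add_zero]
    rw [mul_zero, add_zero, add_zero, add_zero] at hQ'
    exact h0 u hu hQ'
  · rw [zero_smul, one_smul, zero_add, zero_mul, one_mul, zero_add]
    exact kq u hu (hQu (Or.inr one_ne_zero))
  · rw [zero_smul, one_smul, add_zero, zero_mul, one_mul, add_zero]
    exact kp u hu (hQu (Or.inl one_ne_zero))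
  · rw [one_smul, one_smul, one_mul, one_mul]
    have hQu' := hQu (Or.inl one_ne_zero)
    have a1 : Q (u + p) = 1 := by rw [Qadd, hQu', hp, hUp u hu]; decide
    have b1 : polar Q (u + p) q = 1 := by rw [polar_add_left, hUq u hu, hpq, zero_add]
    have c1 := hμ _ _ a1 hq b1
    rw [add_assoc] at c1
    rw [c1, kp u hu hQu']

/-- the anisotropic step -/
theorem pstep (hμ : LA Q μ) (U : Submodule (ZMod 2) (ι → ZMod 2)) (hL : Lin Q μ U)
    (hND : ND Q U) (hT : TS2 Q U) {p q : ι → ZMod 2}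
    (hp : Q p = 1) (hq : Q q = 1) (hpq : polar Q p q = 1)
    (hUp : ∀ u ∈ U, polar Q u p = 0) (hUq : ∀ u ∈ U, polar Q u q = 0) :
    Lin Q μ (U ⊔ Submodule.span (ZMod 2) {p, q}) := by
  obtain ⟨v', hv'⟩ := hL
  have hμ' := hμ.shift v'
  have h0 : ∀ a ∈ U, Q a = 1 → (fun a => μ a + polar Q v' a) a = 0 := by
    intro a ha hQa
    simp only
    rw [hv' a ha hQa, z2_add_self]
  obtain ⟨v, hv⟩ := pstep0 hμ' U h0 hND hT hp hq hpq hUp hUq
  refine ⟨v + v', ?_⟩
  intro x hx hQx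
  obtain ⟨u, hu, y, hy, rfl⟩ := Submodule.mem_sup.1 hx
  obtain ⟨γ, δ, rfl⟩ := Submodule.mem_span_pair.1 hy
  have := hv u hu γ δ hQx
  rw [polar_add_left, ← this, add_assoc, z2_add_self, add_zero]

end pstep



open Cfsg QuadraticMap Module Cfsg.Agent.Helper17.Spinor

section frames

variable {ι : Type} {Q : QuadraticForm (ZMod 2) (ι → ZMod 2)}

theorem orth_span {p q x : ι → ZMod 2} (hp : polar Q p x = 0) (hq : polar Q q x = 0) :
    ∀ u ∈ Submodule.span (ZMod 2) {p, q}, polar Q u x = 0 := by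
  intro u hu
  obtain ⟨γ, δ, rfl⟩ := Submodule.mem_span_pair.1 hu
  rw [polar_add_left, polar_smul_left, polar_smul_left, hp, hq, smul_zero, smul_zero, add_zero]

theorem orth_sup {U U' : Submodule (ZMod 2) (ι → ZMod 2)} {x : ι → ZMod 2}
    (hU : ∀ u ∈ U, polar Q u x = 0) (hU' : ∀ u ∈ U', polar Q u x = 0) :
    ∀ u ∈ U ⊔ U', polar Q u x = 0 := by
  intro u hu
  obtain ⟨a, ha, b, hb, rfl⟩ := Submodule.mem_sup.1 hu
  rw [polar_add_left, hU a ha, hU' b hb, add_zero]

/-- an anisotropic plane -/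
structure Fr2 (Q : QuadraticForm (ZMod 2) (ι → ZMod 2)) (p q : ι → ZMod 2) : Prop where
  hp : Q p = 1
  hq : Q q = 1
  hpq : polar Q p q = 1

theorem Fr2.hqp {p q : ι → ZMod 2} (h : Fr2 Q p q) : polar Q q p = 1 := by
  rw [polar_comm, h.hpq]

theorem Fr2.Q_eq {p q : ι → ZMod 2} (h : Fr2 Q p q) (α β : ZMod 2) :
    Q (α • p + β • q) = α + β + α * β := by
  rw [Qadd, Q_smul, Q_smul, h.hp, h.hq, polar_smul_left, polar_smul_right, h.hpq]
  simp only [smul_eq_mul, mul_one]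

theorem Fr2.polar_eq {p q : ι → ZMod 2} (h : Fr2 Q p q) (α β α' β' : ZMod 2) :
    polar Q (α • p + β • q) (α' • p + β' • q) = α * β' + β * α' := by
  simp only [polar_add_left, polar_add_right, polar_smul_left, polar_smul_right, h.hpq, h.hqp,
    B_self, smul_eq_mul, mul_one, mul_zero, add_zero, zero_add]
  ring

theorem Fr2.d2n {p q : ι → ZMod 2} (h : Fr2 Q p q) : D2N Q (Submodule.span (ZMod 2) {p, q}) := by
  intro a ha b hb hQa hQb hab hne
  exfalso
  obtain ⟨α, β, rfl⟩ := Submodule.mem_span_pair.1 ha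
  obtain ⟨α', β', rfl⟩ := Submodule.mem_span_pair.1 hb
  rw [h.Q_eq] at hQa hQb
  rw [h.polar_eq] at hab
  have aux : ∀ α β α' β' : ZMod 2, α + β + α * β = 1 → α' + β' + α' * β' = 1 →
      α * β' + β * α' = 0 → α = α' ∧ β = β' := by decide
  obtain ⟨h1, h2⟩ := aux α β α' β' hQa hQb hab
  exact hne (by rw [h1, h2])

theorem Fr2.sd {p q : ι → ZMod 2} (h : Fr2 Q p q) : SD Q (Submodule.span (ZMod 2) {p, q}) := by
  intro s hs hQs
  obtain ⟨α, β, rfl⟩ := Submodule.mem_span_pair.1 hs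
  rw [h.Q_eq] at hQs
  have aux : ∀ α β : ZMod 2, α + β + α * β = 0 → α = 0 ∧ β = 0 := by decide
  obtain ⟨h1, h2⟩ := aux α β hQs
  have hp : p ∈ Submodule.span (ZMod 2) {p, q} := Submodule.subset_span (by simp)
  refine ⟨p, hp, p, hp, h.hp, h.hp, B_self Q p, ?_⟩
  rw [h1, h2, zero_smul, zero_smul, add_zero, v_add_self]

theorem Fr2.nd {p q : ι → ZMod 2} (h : Fr2 Q p q) : ND Q (Submodule.span (ZMod 2) {p, q}) := by
  intro s hs hs0
  obtain ⟨α, β, rfl⟩ := Submodule.mem_span_pair.1 hs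
  have hp : p ∈ Submodule.span (ZMod 2) {p, q} := Submodule.subset_span (by simp)
  have hq : q ∈ Submodule.span (ZMod 2) {p, q} := Submodule.subset_span (by simp)
  rcases z2_cases α with rfl | rfl
  · rcases z2_cases β with rfl | rfl
    · exfalso; apply hs0; rw [zero_smul, zero_smul, add_zero]
    · refine ⟨p, hp, ?_⟩
      rw [zero_smul, one_smul, zero_add, h.hqp]
  · refine ⟨q, hq, ?_⟩
    rw [polar_add_left, polar_smul_left, polar_smul_left, h.hpq, B_self, smul_zero, add_zero,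
      one_smul]

/-- non-degeneracy passes to the orthogonal sum with a plane with non-orthogonal basis -/
theorem ND.sup {U : Submodule (ZMod 2) (ι → ZMod 2)} (hU : ND Q U) {e f : ι → ZMod 2}
    (hef : polar Q e f = 1) (hUe : ∀ u ∈ U, polar Q u e = 0) (hUf : ∀ u ∈ U, polar Q u f = 0) :
    ND Q (U ⊔ Submodule.span (ZMod 2) {e, f}) := by
  have hfe : polar Q f e = 1 := by rw [polar_comm, hef]
  intro s hs hs0
  obtain ⟨u, hu, y, hy, rfl⟩ := Submodule.mem_sup.1 hs
  obtain ⟨γ, δ, rfl⟩ := Submodule.mem_span_pair.1 hy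
  have he' : e ∈ U ⊔ Submodule.span (ZMod 2) {e, f} :=
    Submodule.mem_sup_right (Submodule.subset_span (by simp))
  have hf' : f ∈ U ⊔ Submodule.span (ZMod 2) {e, f} :=
    Submodule.mem_sup_right (Submodule.subset_span (by simp))
  by_cases hu0 : u = 0
  · subst hu0
    rcases z2_cases γ with rfl | rfl
    · rcases z2_cases δ with rfl | rfl
      · exfalso; apply hs0; rw [zero_smul, zero_smul, add_zero, add_zero]
      · refine ⟨e, he', ?_⟩
        rw [zero_smul, one_smul, zero_add, zero_add, hfe]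
    · refine ⟨f, hf', ?_⟩
      rw [zero_add, polar_add_left, polar_smul_left, polar_smul_left, hef, B_self, smul_zero,
        add_zero, one_smul]
  · obtain ⟨y, hy, hy1⟩ := hU u hu hu0
    refine ⟨y, Submodule.mem_sup_left hy, ?_⟩
    rw [polar_add_left, polar_add_left, polar_smul_left, polar_smul_left, polar_comm Q e y,
      polar_comm Q f y, hUe y hy, hUf y hy, smul_zero, smul_zero, add_zero, add_zero, hy1]

/-- an anisotropic plane and an orthogonal hyperbolic plane -/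
structure Fr4 (Q : QuadraticForm (ZMod 2) (ι → ZMod 2)) (p q e f : ι → ZMod 2) : Prop where
  hpq : Fr2 Q p q
  he : Q e = 0
  hf : Q f = 0
  hef : polar Q e f = 1
  hpe : polar Q p e = 0
  hpf : polar Q p f = 0
  hqe : polar Q q e = 0
  hqf : polar Q q f = 0

theorem Fr4.Q_eq {p q e f : ι → ZMod 2} (h : Fr4 Q p q e f) (α β γ δ : ZMod 2) :
    Q (α • p + β • q + (γ • e + δ • f)) = α + β + α * β + γ * δ := by
  rw [Qadd, h.hpq.Q_eq, Qadd, Q_smul, Q_smul, h.he, h.hf]
  simp only [polar_add_left, polar_add_right, polar_smul_left, polar_smul_right, h.hef, h.hpe,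
    h.hpf, h.hqe, h.hqf, smul_eq_mul, mul_one, mul_zero, add_zero, zero_add]
  ring

theorem Fr4.polar_eq {p q e f : ι → ZMod 2} (h : Fr4 Q p q e f) (α β γ δ α' β' γ' δ' : ZMod 2) :
    polar Q (α • p + β • q + (γ • e + δ • f)) (α' • p + β' • q + (γ' • e + δ' • f)) =
      α * β' + β * α' + γ * δ' + δ * γ' := by
  have hfe : polar Q f e = 1 := by rw [polar_comm, h.hef]
  have hep : polar Q e p = 0 := by rw [polar_comm, h.hpe]
  have hfp : polar Q f p = 0 := by rw [polar_comm, h.hpf]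
  have heq : polar Q e q = 0 := by rw [polar_comm, h.hqe]
  have hfq : polar Q f q = 0 := by rw [polar_comm, h.hqf]
  simp only [polar_add_left, polar_add_right, polar_smul_left, polar_smul_right, h.hpq.hpq,
    h.hpq.hqp, h.hef, hfe, h.hpe, h.hpf, h.hqe, h.hqf, hep, hfp, heq, hfq,
    B_self, smul_eq_mul, mul_one, mul_zero, add_zero, zero_add]
  ring

theorem Fr4.mem {p q e f : ι → ZMod 2} (α β γ δ : ZMod 2) :
    α • p + β • q + (γ • e + δ • f) ∈
      Submodule.span (ZMod 2) {p, q} ⊔ Submodule.span (ZMod 2) {e, f} :=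
  Submodule.add_mem_sup (Submodule.mem_span_pair.2 ⟨α, β, rfl⟩)
    (Submodule.mem_span_pair.2 ⟨γ, δ, rfl⟩)

theorem Fr4.exists_coord {p q e f x : ι → ZMod 2}
    (hx : x ∈ Submodule.span (ZMod 2) {p, q} ⊔ Submodule.span (ZMod 2) {e, f}) :
    ∃ α β γ δ : ZMod 2, x = α • p + β • q + (γ • e + δ • f) := by
  obtain ⟨u, hu, y, hy, rfl⟩ := Submodule.mem_sup.1 hx
  obtain ⟨α, β, rfl⟩ := Submodule.mem_span_pair.1 hu
  obtain ⟨γ, δ, rfl⟩ := Submodule.mem_span_pair.1 hy
  exact ⟨α, β, γ, δ, rfl⟩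

set_option synthInstance.maxSize 2000 in
set_option synthInstance.maxHeartbeats 400000 in
theorem d2n4_aux : ∀ α β γ δ α' β' γ' δ' : ZMod 2, α + β + α * β + γ * δ = 1 →
    α' + β' + α' * β' + γ' * δ' = 1 → α * β' + β * α' + γ * δ' + δ * γ' = 0 →
    ¬ (α = α' ∧ β = β' ∧ γ = γ' ∧ δ = δ') →
    ∃ a b c d : ZMod 2, a + b + a * b + c * d = 1 ∧ α * b + β * a + γ * d + δ * c = 1 ∧
      α' * b + β' * a + γ' * d + δ' * c = 1 := by
  decide

set_option synthInstance.maxSize 2000 in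
set_option synthInstance.maxHeartbeats 400000 in
theorem sd4_aux : ∀ α β γ δ : ZMod 2, α + β + α * β + γ * δ = 0 →
    ∃ a b c d a' b' c' d' : ZMod 2, a + b + a * b + c * d = 1 ∧ a' + b' + a' * b' + c' * d' = 1 ∧
      a * b' + b * a' + c * d' + d * c' = 0 ∧ α = a + a' ∧ β = b + b' ∧ γ = c + c' ∧
      δ = d + d' := by
  decide

theorem Fr4.d2n {p q e f : ι → ZMod 2} (h : Fr4 Q p q e f) :
    D2N Q (Submodule.span (ZMod 2) {p, q} ⊔ Submodule.span (ZMod 2) {e, f}) := by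
  intro a ha b hb hQa hQb hab hne
  obtain ⟨α, β, γ, δ, rfl⟩ := Fr4.exists_coord ha
  obtain ⟨α', β', γ', δ', rfl⟩ := Fr4.exists_coord hb
  rw [h.Q_eq] at hQa hQb
  rw [h.polar_eq] at hab
  have hne' : ¬ (α = α' ∧ β = β' ∧ γ = γ' ∧ δ = δ') := by
    rintro ⟨h1, h2, h3, h4⟩
    exact hne (by rw [h1, h2, h3, h4])
  obtain ⟨a', b', c', d', h1, h2, h3⟩ := d2n4_aux α β γ δ α' β' γ' δ' hQa hQb hab hne'
  refine ⟨a' • p + b' • q + (c' • e + d' • f), Fr4.mem _ _ _ _, ?_, ?_, ?_⟩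
  · rw [h.Q_eq, h1]
  · rw [h.polar_eq, h2]
  · rw [h.polar_eq, h3]

theorem Fr4.sd {p q e f : ι → ZMod 2} (h : Fr4 Q p q e f) :
    SD Q (Submodule.span (ZMod 2) {p, q} ⊔ Submodule.span (ZMod 2) {e, f}) := by
  intro s hs hQs
  obtain ⟨α, β, γ, δ, rfl⟩ := Fr4.exists_coord hs
  rw [h.Q_eq] at hQs
  obtain ⟨a, b, c, d, a', b', c', d', h1, h2, h3, rfl, rfl, rfl, rfl⟩ := sd4_aux α β γ δ hQs
  refine ⟨a • p + b • q + (c • e + d • f), Fr4.mem _ _ _ _,
    a' • p + b' • q + (c' • e + d' • f), Fr4.mem _ _ _ _, ?_, ?_, ?_, ?_⟩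
  · rw [h.Q_eq, h1]
  · rw [h.Q_eq, h2]
  · rw [h.polar_eq, h3]
  · module

end frames



open Cfsg QuadraticMap Module Cfsg.Agent.Helper17.Spinor

section concrete

theorem minusQ_val (m : ℕ) (v : (Fin m ⊕ Fin m) ⊕ Fin 2 → ZMod 2) :
    minusQ m (1 : ZMod 2) 1 v = Cfsg.quadFormMinus m (ZMod 2) 1 1 v :=
  (congrFun (quadFormMinus_eq (k := m) (1 : ZMod 2) 1) v).symm

theorem minusQ_polar (m : ℕ) (u v : (Fin m ⊕ Fin m) ⊕ Fin 2 → ZMod 2) :
    polar (minusQ m (1 : ZMod 2) 1) u v = ∑ j, u j * v (ExOut.dualM m j) := by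
  unfold polar
  rw [minusQ_val, minusQ_val, minusQ_val, ExOut.minus_polar]
  ring

theorem minus_Q_eq {m : ℕ} {v : (Fin m ⊕ Fin m) ⊕ Fin 2 → ZMod 2} {c : ZMod 2}
    (h : (∑ i : Fin m, v (Sum.inl (Sum.inl i)) * v (Sum.inl (Sum.inr i))) +
      (v (Sum.inr 0) ^ 2 + 1 * v (Sum.inr 0) * v (Sum.inr 1) + 1 * v (Sum.inr 1) ^ 2) = c) :
    minusQ m (1 : ZMod 2) 1 v = c := by
  rw [minusQ_val]
  exact h

theorem minus_pol_eq {m : ℕ} {u v : (Fin m ⊕ Fin m) ⊕ Fin 2 → ZMod 2} {c : ZMod 2}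
    (h : ∑ j, u j * v (ExOut.dualM m j) = c) : polar (minusQ m (1 : ZMod 2) 1) u v = c := by
  rw [minusQ_polar, h]

theorem plus_Q_eq {m : ℕ} {v : Fin m ⊕ Fin m → ZMod 2} {c : ZMod 2}
    (h : ∑ i : Fin m, v (Sum.inl i) * v (Sum.inr i) = c) : plusQ m (ZMod 2) v = c := by
  rw [plusQ_apply, h]

theorem plus_pol_eq {m : ℕ} {u v : Fin m ⊕ Fin m → ZMod 2} {c : ZMod 2}
    (h : ∑ i : Fin m, (u (Sum.inl i) * v (Sum.inr i) + v (Sum.inl i) * u (Sum.inr i)) = c) :
    polar (plusQ m (ZMod 2)) u v = c := by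
  rw [polar_plusQ, h]

theorem mem_of_singles {ι : Type} [Fintype ι] [DecidableEq ι]
    (U : Submodule (ZMod 2) (ι → ZMod 2)) (h : ∀ j, (Pi.single j 1 : ι → ZMod 2) ∈ U)
    (x : ι → ZMod 2) : x ∈ U := by
  rw [← Finset.univ_sum_single x]
  apply Submodule.sum_mem
  intro j _
  have : (Pi.single j (x j) : ι → ZMod 2) = x j • Pi.single j 1 := by
    rw [← Pi.single_smul, smul_eq_mul, mul_one]
  rw [this]
  exact U.smul_mem _ (h j)

end concrete



open Cfsg QuadraticMap Module Cfsg.Agent.Helper17.Spinor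

section dim4

/-- index type of the four-dimensional elliptic space -/
abbrev I4 : Type := (Fin 1 ⊕ Fin 1) ⊕ Fin 2

def p4 : I4 → ZMod 2 := Pi.single (Sum.inr 0) 1
def q4 : I4 → ZMod 2 := Pi.single (Sum.inr 1) 1
def e4 : I4 → ZMod 2 := Pi.single (Sum.inl (Sum.inl 0)) 1
def f4 : I4 → ZMod 2 := Pi.single (Sum.inl (Sum.inr 0)) 1

theorem fr4_dim4 : Fr4 (minusQ 1 (1 : ZMod 2) 1) p4 q4 e4 f4 := by
  refine ⟨⟨?_, ?_, ?_⟩, ?_, ?_, ?_, ?_, ?_, ?_, ?_⟩
  · exact minus_Q_eq (by decide)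
  · exact minus_Q_eq (by decide)
  · exact minus_pol_eq (by decide)
  · exact minus_Q_eq (by decide)
  · exact minus_Q_eq (by decide)
  · exact minus_pol_eq (by decide)
  · exact minus_pol_eq (by decide)
  · exact minus_pol_eq (by decide)
  · exact minus_pol_eq (by decide)
  · exact minus_pol_eq (by decide)

theorem top_dim4 (x : I4 → ZMod 2) :
    x ∈ Submodule.span (ZMod 2) {p4, q4} ⊔ Submodule.span (ZMod 2) {e4, f4} := by
  apply mem_of_singles
  rintro ((j | j) | j)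
  · have : j = 0 := Subsingleton.elim _ _
    subst this
    exact Submodule.mem_sup_right (Submodule.subset_span (by left; rfl))
  · have : j = 0 := Subsingleton.elim _ _
    subst this
    exact Submodule.mem_sup_right (Submodule.subset_span (by right; rfl))
  · fin_cases j
    · exact Submodule.mem_sup_left (Submodule.subset_span (by left; rfl))
    · exact Submodule.mem_sup_left (Submodule.subset_span (by right; rfl))

theorem lin_dim4 (μ : (I4 → ZMod 2) → ZMod 2) (hμ : LA (minusQ 1 (1 : ZMod 2) 1) μ) :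
    ∃ v, ∀ a, minusQ 1 (1 : ZMod 2) 1 a = 1 → μ a = polar (minusQ 1 (1 : ZMod 2) 1) v a := by
  have fr := fr4_dim4
  have L2 := lin_base hμ fr.hpq.hp fr.hpq.hq fr.hpq.hpq
  have L4 := hstep hμ _ L2 fr.hpq.d2n fr.hpq.sd fr.he fr.hf fr.hef
    (orth_span fr.hpe fr.hqe) (orth_span fr.hpf fr.hqf)
  obtain ⟨v, hv⟩ := L4
  exact ⟨v, fun a ha => hv a (top_dim4 a) ha⟩

end dim4



open Cfsg QuadraticMap Module Cfsg.Agent.Helper17.Spinor

section dim6

/-- index type of the six-dimensional elliptic space -/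
abbrev I6 : Type := (Fin 2 ⊕ Fin 2) ⊕ Fin 2

def p6 : I6 → ZMod 2 := Pi.single (Sum.inr 0) 1
def q6 : I6 → ZMod 2 := Pi.single (Sum.inr 1) 1
def e6 : I6 → ZMod 2 := Pi.single (Sum.inl (Sum.inl 0)) 1
def f6 : I6 → ZMod 2 := Pi.single (Sum.inl (Sum.inr 0)) 1
def e6' : I6 → ZMod 2 := Pi.single (Sum.inl (Sum.inl 1)) 1
def f6' : I6 → ZMod 2 := Pi.single (Sum.inl (Sum.inr 1)) 1

theorem fr4_dim6 : Fr4 (minusQ 2 (1 : ZMod 2) 1) p6 q6 e6 f6 := by
  refine ⟨⟨?_, ?_, ?_⟩, ?_, ?_, ?_, ?_, ?_, ?_, ?_⟩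
  · exact minus_Q_eq (by decide)
  · exact minus_Q_eq (by decide)
  · exact minus_pol_eq (by decide)
  · exact minus_Q_eq (by decide)
  · exact minus_Q_eq (by decide)
  · exact minus_pol_eq (by decide)
  · exact minus_pol_eq (by decide)
  · exact minus_pol_eq (by decide)
  · exact minus_pol_eq (by decide)
  · exact minus_pol_eq (by decide)

theorem top_dim6 (x : I6 → ZMod 2) :
    x ∈ (Submodule.span (ZMod 2) {p6, q6} ⊔ Submodule.span (ZMod 2) {e6, f6}) ⊔
      Submodule.span (ZMod 2) {e6', f6'} := by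
  apply mem_of_singles
  rintro ((j | j) | j)
  · fin_cases j
    · exact Submodule.mem_sup_left (Submodule.mem_sup_right
        (Submodule.subset_span (by left; rfl)))
    · exact Submodule.mem_sup_right (Submodule.subset_span (by left; rfl))
  · fin_cases j
    · exact Submodule.mem_sup_left (Submodule.mem_sup_right
        (Submodule.subset_span (by right; rfl)))
    · exact Submodule.mem_sup_right (Submodule.subset_span (by right; rfl))
  · fin_cases j
    · exact Submodule.mem_sup_left (Submodule.mem_sup_left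
        (Submodule.subset_span (by left; rfl)))
    · exact Submodule.mem_sup_left (Submodule.mem_sup_left
        (Submodule.subset_span (by right; rfl)))

theorem lin_dim6 (μ : (I6 → ZMod 2) → ZMod 2) (hμ : LA (minusQ 2 (1 : ZMod 2) 1) μ) :
    ∃ v, ∀ a, minusQ 2 (1 : ZMod 2) 1 a = 1 → μ a = polar (minusQ 2 (1 : ZMod 2) 1) v a := by
  have fr := fr4_dim6
  have L2 := lin_base hμ fr.hpq.hp fr.hpq.hq fr.hpq.hpq
  have L4 := hstep hμ _ L2 fr.hpq.d2n fr.hpq.sd fr.he fr.hf fr.hef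
    (orth_span fr.hpe fr.hqe) (orth_span fr.hpf fr.hqf)
  have L6 := hstep hμ _ L4 fr.d2n fr.sd (e := e6') (f := f6')
    (minus_Q_eq (by decide)) (minus_Q_eq (by decide)) (minus_pol_eq (by decide))
    (orth_sup (orth_span (minus_pol_eq (by decide)) (minus_pol_eq (by decide)))
      (orth_span (minus_pol_eq (by decide)) (minus_pol_eq (by decide))))
    (orth_sup (orth_span (minus_pol_eq (by decide)) (minus_pol_eq (by decide)))
      (orth_span (minus_pol_eq (by decide)) (minus_pol_eq (by decide))))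
  obtain ⟨v, hv⟩ := L6
  exact ⟨v, fun a ha => hv a (top_dim6 a) ha⟩

end dim6

section dim8

/-- index type of the eight-dimensional hyperbolic space -/
abbrev I8 : Type := Fin 4 ⊕ Fin 4

def E8 (i : Fin 4) : I8 → ZMod 2 := Pi.single (Sum.inl i) 1
def F8 (i : Fin 4) : I8 → ZMod 2 := Pi.single (Sum.inr i) 1

def p8 : I8 → ZMod 2 := E8 0 + F8 0
def q8 : I8 → ZMod 2 := E8 0 + E8 1 + F8 1
def p8' : I8 → ZMod 2 := E8 1 + F8 1
def q8' : I8 → ZMod 2 := E8 0 + F8 0 + E8 1

theorem fr4_dim8 : Fr4 (plusQ 4 (ZMod 2)) p8' q8' (E8 2) (F8 2) := by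
  refine ⟨⟨?_, ?_, ?_⟩, ?_, ?_, ?_, ?_, ?_, ?_, ?_⟩
  · exact plus_Q_eq (by decide)
  · exact plus_Q_eq (by decide)
  · exact plus_pol_eq (by decide)
  · exact plus_Q_eq (by decide)
  · exact plus_Q_eq (by decide)
  · exact plus_pol_eq (by decide)
  · exact plus_pol_eq (by decide)
  · exact plus_pol_eq (by decide)
  · exact plus_pol_eq (by decide)
  · exact plus_pol_eq (by decide)

/-- the chain of subspaces -/
def U8_6 : Submodule (ZMod 2) (I8 → ZMod 2) :=
  (Submodule.span (ZMod 2) {p8', q8'} ⊔ Submodule.span (ZMod 2) {E8 2, F8 2}) ⊔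
      Submodule.span (ZMod 2) {E8 3, F8 3}

theorem top_dim8 (x : I8 → ZMod 2) : x ∈ U8_6 ⊔ Submodule.span (ZMod 2) {p8, q8} := by
  have hp : p8 ∈ U8_6 ⊔ Submodule.span (ZMod 2) {p8, q8} :=
    Submodule.mem_sup_right (Submodule.subset_span (by left; rfl))
  have hq : q8 ∈ U8_6 ⊔ Submodule.span (ZMod 2) {p8, q8} :=
    Submodule.mem_sup_right (Submodule.subset_span (by right; rfl))
  have hp' : p8' ∈ U8_6 ⊔ Submodule.span (ZMod 2) {p8, q8} :=
    Submodule.mem_sup_left (Submodule.mem_sup_left (Submodule.mem_sup_left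
      (Submodule.subset_span (by left; rfl))))
  have hq' : q8' ∈ U8_6 ⊔ Submodule.span (ZMod 2) {p8, q8} :=
    Submodule.mem_sup_left (Submodule.mem_sup_left (Submodule.mem_sup_left
      (Submodule.subset_span (by right; rfl))))
  apply mem_of_singles
  rintro (j | j)
  · fin_cases j
    · have : (Pi.single (Sum.inl 0) 1 : I8 → ZMod 2) = q8 + p8' := by decide
      show (Pi.single (Sum.inl 0) 1 : I8 → ZMod 2) ∈ _
      rw [this]
      exact Submodule.add_mem _ hq hp'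
    · have : (Pi.single (Sum.inl 1) 1 : I8 → ZMod 2) = q8' + p8 := by decide
      show (Pi.single (Sum.inl 1) 1 : I8 → ZMod 2) ∈ _
      rw [this]
      exact Submodule.add_mem _ hq' hp
    · exact Submodule.mem_sup_left (Submodule.mem_sup_left (Submodule.mem_sup_right
        (Submodule.subset_span (by left; rfl))))
    · exact Submodule.mem_sup_left (Submodule.mem_sup_right
        (Submodule.subset_span (by left; rfl)))
  · fin_cases j
    · have : (Pi.single (Sum.inr 0) 1 : I8 → ZMod 2) = p8 + q8 + p8' := by decide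
      show (Pi.single (Sum.inr 0) 1 : I8 → ZMod 2) ∈ _
      rw [this]
      exact Submodule.add_mem _ (Submodule.add_mem _ hp hq) hp'
    · have : (Pi.single (Sum.inr 1) 1 : I8 → ZMod 2) = p8' + q8' + p8 := by decide
      show (Pi.single (Sum.inr 1) 1 : I8 → ZMod 2) ∈ _
      rw [this]
      exact Submodule.add_mem _ (Submodule.add_mem _ hp' hq') hp
    · exact Submodule.mem_sup_left (Submodule.mem_sup_left (Submodule.mem_sup_right
        (Submodule.subset_span (by right; rfl))))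
    · exact Submodule.mem_sup_left (Submodule.mem_sup_right
        (Submodule.subset_span (by right; rfl)))

theorem lin_dim8 (μ : (I8 → ZMod 2) → ZMod 2) (hμ : LA (plusQ 4 (ZMod 2)) μ) :
    ∃ v, ∀ a, plusQ 4 (ZMod 2) a = 1 → μ a = polar (plusQ 4 (ZMod 2)) v a := by
  have fr := fr4_dim8
  have L2 := lin_base hμ fr.hpq.hp fr.hpq.hq fr.hpq.hpq
  have L4 := hstep hμ _ L2 fr.hpq.d2n fr.hpq.sd fr.he fr.hf fr.hef
    (orth_span fr.hpe fr.hqe) (orth_span fr.hpf fr.hqf)
  have o3e : ∀ u ∈ Submodule.span (ZMod 2) {p8', q8'} ⊔ Submodule.span (ZMod 2) {E8 2, F8 2},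
      polar (plusQ 4 (ZMod 2)) u (E8 3) = 0 :=
    orth_sup (orth_span (plus_pol_eq (by decide)) (plus_pol_eq (by decide)))
      (orth_span (plus_pol_eq (by decide)) (plus_pol_eq (by decide)))
  have o3f : ∀ u ∈ Submodule.span (ZMod 2) {p8', q8'} ⊔ Submodule.span (ZMod 2) {E8 2, F8 2},
      polar (plusQ 4 (ZMod 2)) u (F8 3) = 0 :=
    orth_sup (orth_span (plus_pol_eq (by decide)) (plus_pol_eq (by decide)))
      (orth_span (plus_pol_eq (by decide)) (plus_pol_eq (by decide)))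
  have hEF3 : polar (plusQ 4 (ZMod 2)) (E8 3) (F8 3) = 1 := plus_pol_eq (by decide)
  have L6 : Lin (plusQ 4 (ZMod 2)) μ U8_6 := hstep hμ _ L4 fr.d2n fr.sd (e := E8 3) (f := F8 3)
    (plus_Q_eq (by decide)) (plus_Q_eq (by decide)) hEF3 o3e o3f
  have nd6 : ND (plusQ 4 (ZMod 2)) U8_6 :=
    (fr.hpq.nd.sup fr.hef (orth_span fr.hpe fr.hqe) (orth_span fr.hpf fr.hqf)).sup hEF3 o3e o3f
  have ts : TS2 (plusQ 4 (ZMod 2)) U8_6 := by
    refine ⟨E8 2, ?_, E8 3, ?_, ?_, ?_, ?_, ?_, ?_, ?_⟩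
    · exact Submodule.mem_sup_left (Submodule.mem_sup_right
        (Submodule.subset_span (by left; rfl)))
    · exact Submodule.mem_sup_right (Submodule.subset_span (by left; rfl))
    · decide
    · decide
    · decide
    · exact plus_Q_eq (by decide)
    · exact plus_Q_eq (by decide)
    · exact plus_pol_eq (by decide)
  have L8 := pstep hμ _ L6 nd6 ts (p := p8) (q := q8)
    (plus_Q_eq (by decide)) (plus_Q_eq (by decide)) (plus_pol_eq (by decide))
    (orth_sup (orth_sup (orth_span (plus_pol_eq (by decide)) (plus_pol_eq (by decide)))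
      (orth_span (plus_pol_eq (by decide)) (plus_pol_eq (by decide))))
      (orth_span (plus_pol_eq (by decide)) (plus_pol_eq (by decide))))
    (orth_sup (orth_sup (orth_span (plus_pol_eq (by decide)) (plus_pol_eq (by decide)))
      (orth_span (plus_pol_eq (by decide)) (plus_pol_eq (by decide))))
      (orth_span (plus_pol_eq (by decide)) (plus_pol_eq (by decide))))
  obtain ⟨v, hv⟩ := L8
  exact ⟨v, fun a ha => hv a (top_dim8 a) ha⟩

end dim8



open Cfsg QuadraticMap Module Cfsg.Agent.Helper17.Spinor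

section gen

variable {ι : Type} [Fintype ι] [DecidableEq ι] (Q : QuadraticForm (ZMod 2) (ι → ZMod 2))

theorem closure_TT_eq_top (hQ : (polarBilin Q).Nondegenerate)
    (hex : Fintype.card (ZMod 2) ≠ 2 ∨ Fintype.card ι ≠ 4) : Subgroup.closure (TT Q) = ⊤ := by
  rw [eq_top_iff]
  intro g _
  obtain ⟨vs, hvs, rfl⟩ := exists_prod_tG Q hQ hex g
  apply Subgroup.list_prod_mem
  intro x hx
  obtain ⟨v, hv, rfl⟩ := List.mem_map.1 hx
  exact Subgroup.subset_closure ⟨v, z2_ne_zero.1 (hvs v hv), rfl⟩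

end gen

theorem comm_le_dim6 : commutator ↥(Cfsg.isometryGroup (ZMod 2) (⇑(minusQ 2 (1 : ZMod 2) 1))) ≤
    Subgroup.closure (SS (minusQ 2 (1 : ZMod 2) 1)) := by
  apply commutator_le_of_gen
  apply closure_TT_eq_top
  · apply minusQ_nondeg
    decide
  · right
    decide

theorem comm_le_dim8 : commutator ↥(Cfsg.isometryGroup (ZMod 2) (⇑(plusQ 4 (ZMod 2)))) ≤
    Subgroup.closure (SS (plusQ 4 (ZMod 2))) := by
  apply commutator_le_of_gen
  apply closure_TT_eq_top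
  · exact plusQ_nondeg
  · right
    decide

theorem comm_le_dim4 : commutator ↥(Cfsg.isometryGroup (ZMod 2) (⇑(minusQ 1 (1 : ZMod 2) 1))) ≤
    Subgroup.closure (SS (minusQ 1 (1 : ZMod 2) 1)) := by
  have h := Cfsg.Agent.S0824.result (F := ZMod 2) (ZMod.card 2)
  rw [quadFormMinus_eq] at h
  obtain ⟨ψ⟩ := h
  have := normal_closure_SS (minusQ 1 (1 : ZMod 2) 1)
  have fr := fr4_dim4
  exact commutator_le_of_perm5 ψ _
    (Subgroup.subset_closure ⟨p4, q4, fr.hpq.hp, fr.hpq.hq, fr.hpq.hpq, rfl⟩)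
    (s_pow_three _ fr.hpq.hp fr.hpq.hq fr.hpq.hpq) (s_ne_one _ fr.hpq.hp fr.hpq.hq fr.hpq.hpq)


end Cfsg.Agent.Helper27.OrthH1
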