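import Mathlib
import Cfsg.Agent.Lib.Helper27.PSLpGen

set_option autoImplicit false

/-! The finite check for `p = 13` and the resulting recognition of `PSL₂(13)` by its order `1092`. -/

namespace Cfsg.Agent.Helper27.PSLp

set_option maxRecDepth 100000 in
theorem stmt13 : Stmt 13 [0, 0, 1, 4, 2, 9, 5, 11, 3, 8, 10, 7, 6] := by decide +kernel

theorem dl13 : DL 13 2 [0, 0, 1, 4, 2, 9, 5, 11, 3, 8, 10, 7, 6] := by decide +kernel

theorem syl13 : SylArith 13 6 := by decide +kernel

theorem psl13 {G : Type*} [Group G] [Finite G] [IsSimpleGroup G] (hG : Nat.card G = 1092)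
    {F : Type*} [Field F] [Fintype F] (hF : Fintype.card F = 13) :
    Nonempty (G ≃* Matrix.ProjectiveSpecialLinearGroup (Fin 2) F) := by
  haveI : Fact (Nat.Prime 13) := ⟨by norm_num⟩
  exact transfer (main_generic (p := 13) (m := 6) (by norm_num) dl13 stmt13 syl13
    (by rw [hG])) hF

end Cfsg.Agent.Helper27.PSLp
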