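import Mathlib
import Cfsg.Agent.Lib.Helper27.PSLpGen

set_option autoImplicit false

/-! The finite check for `p = 19` and the resulting recognition of `PSL₂(19)` by its order `3420`. -/

namespace Cfsg.Agent.Helper27.PSLp

set_option maxRecDepth 100000 in
theorem stmt19 : Stmt 19 [0, 0, 1, 13, 2, 16, 14, 6, 3, 8, 17, 12, 15, 5, 7, 11, 4, 10, 9] := by decide +kernel

theorem dl19 : DL 19 2 [0, 0, 1, 13, 2, 16, 14, 6, 3, 8, 17, 12, 15, 5, 7, 11, 4, 10, 9] := by decide +kernel

theorem syl19 : SylArith 19 9 := by decide +kernel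

theorem psl19 {G : Type*} [Group G] [Finite G] [IsSimpleGroup G] (hG : Nat.card G = 3420)
    {F : Type*} [Field F] [Fintype F] (hF : Fintype.card F = 19) :
    Nonempty (G ≃* Matrix.ProjectiveSpecialLinearGroup (Fin 2) F) := by
  haveI : Fact (Nat.Prime 19) := ⟨by norm_num⟩
  exact transfer (main_generic (p := 19) (m := 9) (by norm_num) dl19 stmt19 syl19
    (by rw [hG])) hF

end Cfsg.Agent.Helper27.PSLp
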