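import Mathlib
import Cfsg.Agent.Lib.Helper27.PSLpGen

set_option autoImplicit false

/-! The finite check for `p = 23` and the resulting recognition of `PSL₂(23)` by its order `6072`. -/

namespace Cfsg.Agent.Helper27.PSLp

set_option maxRecDepth 100000 in
theorem stmt23 : Stmt 23 [0, 0, 2, 16, 4, 1, 18, 19, 6, 10, 3, 9, 20, 14, 21, 17, 8, 7, 12, 15, 5, 13, 11] := by decide +kernel

theorem dl23 : DL 23 5 [0, 0, 2, 16, 4, 1, 18, 19, 6, 10, 3, 9, 20, 14, 21, 17, 8, 7, 12, 15, 5, 13, 11] := by decide +kernel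

theorem syl23 : SylArith 23 11 := by decide +kernel

theorem psl23 {G : Type*} [Group G] [Finite G] [IsSimpleGroup G] (hG : Nat.card G = 6072)
    {F : Type*} [Field F] [Fintype F] (hF : Fintype.card F = 23) :
    Nonempty (G ≃* Matrix.ProjectiveSpecialLinearGroup (Fin 2) F) := by
  haveI : Fact (Nat.Prime 23) := ⟨by norm_num⟩
  exact transfer (main_generic (p := 23) (m := 11) (by norm_num) dl23 stmt23 syl23
    (by rw [hG])) hF

end Cfsg.Agent.Helper27.PSLp
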