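import Mathlib

/-!
# S4613 (helper27): abstract core.

`OppData p H`: the finite group `H` has a pair of "opposite" Sylow `p`-subgroups `U`, `V` with the big-cell
characterisation.  For a SIMPLE group this forces every automorphism of `p'`-order centralising a Sylow
`p`-subgroup to be trivial (`rigid_of_oppData`).  `OppData` passes to subgroups containing `U`, `V`, to central
quotients and along isomorphisms.
-/

set_option autoImplicit false
set_option linter.unusedSectionVars false
set_option linter.unusedVariables false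

namespace Cfsg.Agent.Helper27.Rig

variable {G : Type*} [Group G]

/-- the conjugate subgroup `g V g⁻¹` -/
def cj (g : G) (V : Subgroup G) : Subgroup G := V.map (MulAut.conj g).toMonoidHom

theorem mem_cj {g : G} {V : Subgroup G} {y : G} : y ∈ cj g V ↔ g⁻¹ * y * g ∈ V := by
  unfold cj
  constructor
  · rintro ⟨v, hv, rfl⟩
    have : g⁻¹ * ((MulAut.conj g).toMonoidHom v) * g = v := by
      simp [MulAut.conj_apply, mul_assoc]
    rw [this]; exact hv
  · intro h
    refine ⟨g⁻¹ * y * g, h, ?_⟩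
    simp [MulAut.conj_apply, mul_assoc]

theorem conj_mem_cj {g : G} {V : Subgroup G} {v : G} (hv : v ∈ V) : g * v * g⁻¹ ∈ cj g V := by
  rw [mem_cj]
  have : g⁻¹ * (g * v * g⁻¹) * g = v := by group
  rw [this]; exact hv

theorem cj_one (V : Subgroup G) : cj 1 V = V := by
  ext y; rw [mem_cj]; simp

theorem cj_mul (g h : G) (V : Subgroup G) : cj (g * h) V = cj g (cj h V) := by
  ext y
  rw [mem_cj, mem_cj, mem_cj]
  have : (g * h)⁻¹ * y * (g * h) = h⁻¹ * (g⁻¹ * y * g) * h := by group
  rw [this]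

theorem cj_of_mem {g : G} {V : Subgroup G} (hg : g ∈ V) : cj g V = V := by
  ext y
  rw [mem_cj]
  constructor
  · intro h
    have : y = g * (g⁻¹ * y * g) * g⁻¹ := by group
    rw [this]
    exact V.mul_mem (V.mul_mem hg h) (V.inv_mem hg)
  · intro h
    exact V.mul_mem (V.mul_mem (V.inv_mem hg) h) hg

theorem cj_inv_cj (g : G) (V : Subgroup G) : cj g⁻¹ (cj g V) = V := by
  rw [← cj_mul, inv_mul_cancel, cj_one]

theorem cj_mono {g : G} {V W : Subgroup G} (h : V ≤ W) : cj g V ≤ cj g W := Subgroup.map_mono h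

theorem cj_inf (g : G) (V W : Subgroup G) : cj g (V ⊓ W) = cj g V ⊓ cj g W := by
  ext y
  simp only [mem_cj, Subgroup.mem_inf]

theorem cj_bot (g : G) : cj g (⊥ : Subgroup G) = ⊥ := by
  unfold cj; exact Subgroup.map_bot _

/-- image of a conjugate under an automorphism -/
theorem map_cj (α : MulAut G) (g : G) (V : Subgroup G) :
    (cj g V).map α.toMonoidHom = cj (α g) (V.map α.toMonoidHom) := by
  ext y
  constructor
  · rintro ⟨z, hz, rfl⟩
    have hz' : g⁻¹ * z * g ∈ V := mem_cj.1 hz
    rw [mem_cj]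
    refine ⟨g⁻¹ * z * g, hz', ?_⟩
    simp
  · intro hy
    rw [mem_cj] at hy
    obtain ⟨v, hv, hvy⟩ := hy
    refine ⟨g * v * g⁻¹, conj_mem_cj hv, ?_⟩
    have h1 : α.toMonoidHom (g * v * g⁻¹) = α g * α.toMonoidHom v * (α g)⁻¹ := by simp
    rw [h1, hvy]
    group

theorem isPGroup_cj {p : ℕ} {V : Subgroup G} (h : IsPGroup p V) (g : G) : IsPGroup p (cj g V) :=
  h.map _

theorem index_cj (g : G) (V : Subgroup G) : (cj g V).index = V.index := by
  unfold cj
  exact Subgroup.index_map_of_bijective (MulAut.conj g).bijective V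

/-- **Opposite Sylow pair.**  `U` is a Sylow `p`-subgroup (a nontrivial `p`-group of index prime to `p`), `V` a
conjugate of `U` with `U ⊓ V = ⊥`, every conjugate of `V` meeting `U` trivially is a `U`-conjugate of `V`
("big cell"), some `x ∈ V` has `x U x⁻¹ ⊓ U = ⊥`, and `⟨U, V⟩` is normal. -/
structure IsOpp (p : ℕ) (U V : Subgroup G) : Prop where
  pgroup : IsPGroup p U
  ne_bot : U ≠ ⊥
  index : ¬ p ∣ U.index
  conj : ∃ n : G, V = cj n U
  inf : U ⊓ V = ⊥
  cell : ∀ g : G, U ⊓ cj g V = ⊥ → ∃ u ∈ U, cj g V = cj u V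
  gen : ∃ x ∈ V, U ⊓ cj x U = ⊥
  normal : (Subgroup.closure ((U : Set G) ∪ (V : Set G))).Normal

/-- **Opposite Sylow data.** -/
def OppData (p : ℕ) (G : Type*) [Group G] : Prop :=
  ∃ U V : Subgroup G, IsOpp p U V

end Cfsg.Agent.Helper27.Rig
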