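import Mathlib
import Cfsg.Agent.Lib.Helper27.RigDefs

/-!
# S4613 (helper27): `OppData p G`, `G` simple  ⇒  rigidity.
-/

set_option autoImplicit false
set_option linter.unusedSectionVars false
set_option linter.unusedVariables false

namespace Cfsg.Agent.Helper27.Rig

open scoped Pointwise

variable {G : Type*} [Group G]

/-- two subgroups that are both "Sylow" (p-groups of index prime to p) are conjugate -/
theorem exists_cj_of_sylow [Finite G] (p : ℕ) [Fact p.Prime] (A B : Subgroup G) (hA : IsPGroup p A)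
    (hAi : ¬ p ∣ A.index) (hB : IsPGroup p B) (hBi : ¬ p ∣ B.index) : ∃ g : G, B = cj g A := by
  let PA : Sylow p G := hA.toSylow hAi
  let PB : Sylow p G := hB.toSylow hBi
  have hPA : (PA : Subgroup G) = A := IsPGroup.toSylow_coe hA hAi
  have hPB : (PB : Subgroup G) = B := IsPGroup.toSylow_coe hB hBi
  obtain ⟨g, hg⟩ := MulAction.exists_smul_eq G PA PB
  refine ⟨g, ?_⟩
  have h1 : ((g • PA : Sylow p G) : Subgroup G) = MulAut.conj g • (PA : Subgroup G) :=
    Sylow.coe_subgroup_smul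
  rw [hg, hPB, hPA] at h1
  rw [h1]
  ext y
  rw [mem_cj, Subgroup.mem_pointwise_smul_iff_inv_smul_mem]
  simp [MulAut.smul_def]

/-- a `p`-subgroup normalising a "Sylow" subgroup meets it ... : `P ⊓ N(Q) = P ⊓ Q` -/
theorem inf_normalizer_eq [Finite G] (p : ℕ) [Fact p.Prime] (P Q : Subgroup G) (hP : IsPGroup p P)
    (hQ : IsPGroup p Q) (hQi : ¬ p ∣ Q.index) :
    P ⊓ Subgroup.normalizer (Q : Set G) = P ⊓ Q := by
  let PQ : Sylow p G := hQ.toSylow hQi
  have hPQ : (PQ : Subgroup G) = Q := IsPGroup.toSylow_coe hQ hQi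
  have := hP.inf_normalizer_sylow PQ
  rw [hPQ] at this
  exact this

theorem mem_normalizer_of_cj_eq {g : G} {V : Subgroup G} (h : cj g V = V) :
    g ∈ Subgroup.normalizer (V : Set G) :=
  Subgroup.mem_normalizer_iff_map_conj_eq.2 h

/-- core: an automorphism killed by a power prime to `p` and fixing `U` pointwise is trivial -/
theorem rigid_core [Finite G] [IsSimpleGroup G] (p : ℕ) [Fact p.Prime] (U V : Subgroup G)
    (hUp : IsPGroup p U) (hUne : U ≠ ⊥) (hUidx : ¬ p ∣ U.index) (hVn : ∃ n : G, V = cj n U)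
    (hUV : U ⊓ V = ⊥) (hP1 : ∀ g : G, U ⊓ cj g V = ⊥ → ∃ u ∈ U, cj g V = cj u V)
    (hx : ∃ x ∈ V, U ⊓ cj x U = ⊥)
    (hnorm : (Subgroup.closure ((U : Set G) ∪ (V : Set G))).Normal)
    (α : MulAut G) (m : ℕ) (hm : ¬ p ∣ m) (hαm : α ^ m = 1) (hfix : ∀ u ∈ U, α u = u) : α = 1 := by
  have hp : p.Prime := Fact.out
  obtain ⟨n, rfl⟩ := hVn
  have hVp : IsPGroup p (cj n U) := isPGroup_cj hUp n
  have hVidx : ¬ p ∣ (cj n U).index := by rw [index_cj]; exact hUidx
  set V := cj n U with hV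
  -- `U.map α = U`
  have hUmap : U.map α.toMonoidHom = U := by
    ext y
    constructor
    · rintro ⟨u, hu, rfl⟩
      have : α.toMonoidHom u = u := hfix u hu
      rw [this]; exact hu
    · intro hy
      exact ⟨y, hy, hfix y hy⟩
  -- W := V.map α is opposite to U
  have hW : U ⊓ V.map α.toMonoidHom = ⊥ := by
    have h1 : (U ⊓ V).map α.toMonoidHom = U.map α.toMonoidHom ⊓ V.map α.toMonoidHom :=
      Subgroup.map_inf _ _ _ α.injective
    rw [hUV, Subgroup.map_bot, hUmap] at h1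
    exact h1.symm
  have hWp : IsPGroup p (V.map α.toMonoidHom) := hVp.map _
  have hWi : ¬ p ∣ (V.map α.toMonoidHom).index := by
    rw [Subgroup.index_map_of_bijective α.bijective]; exact hVidx
  obtain ⟨g, hg⟩ := exists_cj_of_sylow p V (V.map α.toMonoidHom) hVp hVidx hWp hWi
  rw [hg] at hW
  obtain ⟨u₀, hu₀, hu₀V⟩ := hP1 g hW
  rw [← hg] at hu₀V
  -- powers
  have hpow : ∀ k : ℕ, V.map (α ^ k).toMonoidHom = cj (u₀ ^ k) V := by
    intro k
    induction k with
    | zero =>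
      rw [pow_zero, pow_zero, cj_one]
      ext y; simp
    | succ k ih =>
      have h1 : V.map (α ^ (k + 1)).toMonoidHom = (V.map (α ^ k).toMonoidHom).map α.toMonoidHom := by
        rw [Subgroup.map_map]
        congr 1
        rw [pow_succ']
        rfl
      rw [h1, ih, map_cj, hu₀V, ← cj_mul]
      have : α (u₀ ^ k) = u₀ ^ k := hfix _ (U.pow_mem hu₀ k)
      rw [this, pow_succ]
  have hm1 : cj (u₀ ^ m) V = V := by
    rw [← hpow m, hαm]
    ext y; simp
  have hu₀m : u₀ ^ m = 1 := by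
    have h1 : u₀ ^ m ∈ U ⊓ Subgroup.normalizer (V : Set G) := ⟨U.pow_mem hu₀ m, mem_normalizer_of_cj_eq hm1⟩
    rw [inf_normalizer_eq p U V hUp hVp hVidx, hUV] at h1
    exact (Subgroup.mem_bot).1 h1
  have hu₀1 : u₀ = 1 := by
    obtain ⟨k, hk⟩ := hUp ⟨u₀, hu₀⟩
    have hk' : u₀ ^ (p ^ k) = 1 := by
      have := congrArg Subtype.val hk
      simpa using this
    have hcop : Nat.Coprime (p ^ k) m := by
      apply Nat.Coprime.pow_left
      exact (Nat.Prime.coprime_iff_not_dvd hp).2 hm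
    have h1 : orderOf u₀ ∣ p ^ k := orderOf_dvd_of_pow_eq_one hk'
    have h2 : orderOf u₀ ∣ m := orderOf_dvd_of_pow_eq_one hu₀m
    have h3 : orderOf u₀ ∣ 1 := by
      have := Nat.dvd_gcd h1 h2
      rwa [hcop] at this
    exact orderOf_eq_one_iff.1 (Nat.dvd_one.1 h3)
  have hVmap : V.map α.toMonoidHom = V := by
    rw [hu₀V, hu₀1, cj_one]
  have hVu : ∀ u ∈ U, (cj u V).map α.toMonoidHom = cj u V := by
    intro u hu
    rw [map_cj, hVmap]
    have : α u = u := hfix u hu
    rw [this]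
  -- the element x
  obtain ⟨x, hxV, hxU⟩ := hx
  have hxUp : IsPGroup p (cj x U) := isPGroup_cj hUp x
  have hxUi : ¬ p ∣ (cj x U).index := by rw [index_cj]; exact hUidx
  obtain ⟨g', hg'⟩ := exists_cj_of_sylow p V (cj x U) hVp hVidx hxUp hxUi
  rw [hg'] at hxU
  obtain ⟨u', hu', hu'V⟩ := hP1 g' hxU
  rw [← hg'] at hu'V
  have h1 : (cj x U).map α.toMonoidHom = cj x U := by
    rw [hu'V]; exact hVu u' hu'
  rw [map_cj, hUmap] at h1
  have h2 : cj (x⁻¹ * α x) U = U := by
    rw [cj_mul, h1, cj_inv_cj]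
  have hαxV : α x ∈ V := by
    rw [← hVmap]
    exact ⟨x, hxV, rfl⟩
  have hαx : α x = x := by
    have h3 : x⁻¹ * α x ∈ V ⊓ Subgroup.normalizer (U : Set G) :=
      ⟨V.mul_mem (V.inv_mem hxV) hαxV, mem_normalizer_of_cj_eq h2⟩
    rw [inf_normalizer_eq p V U hVp hUp hUidx, inf_comm, hUV] at h3
    have := (Subgroup.mem_bot).1 h3
    have e : α x = x * (x⁻¹ * α x) := by group
    rw [e, this, mul_one]
  -- α fixes V pointwise
  have hfixV : ∀ v ∈ V, α v = v := by
    intro v hv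
    have h3 : u' * v * u'⁻¹ ∈ cj x U := by
      rw [hu'V]; exact conj_mem_cj hv
    rw [mem_cj] at h3
    -- u' v u'⁻¹ = x w x⁻¹ with w ∈ U
    set w := x⁻¹ * (u' * v * u'⁻¹) * x with hw
    have e1 : u' * v * u'⁻¹ = x * w * x⁻¹ := by rw [hw]; group
    have e2 : α (u' * v * u'⁻¹) = u' * v * u'⁻¹ := by
      rw [e1, map_mul, map_mul, map_inv, hαx, hfix w h3]
    rw [map_mul, map_mul, map_inv, hfix u' hu'] at e2
    have e3 : α v = u'⁻¹ * (u' * α v * u'⁻¹) * u' := by group
    rw [e3, e2]; group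
  -- α fixes the closure
  have hK : Subgroup.closure ((U : Set G) ∪ (V : Set G)) = ⊤ := by
    rcases hnorm.eq_bot_or_eq_top with h | h
    · exfalso
      apply hUne
      rw [eq_bot_iff, ← h]
      intro y hy
      exact Subgroup.subset_closure (Set.mem_union_left _ hy)
    · exact h
  apply MulEquiv.ext
  intro y
  have hy : y ∈ Subgroup.closure ((U : Set G) ∪ (V : Set G)) := by rw [hK]; trivial
  show α y = y
  induction hy using Subgroup.closure_induction with
  | mem z hz =>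
    rcases hz with hz | hz
    · exact hfix z hz
    · exact hfixV z hz
  | one => exact map_one α
  | mul a b _ _ iha ihb => rw [map_mul, iha, ihb]
  | inv a _ iha => rw [map_inv, iha]

/-- **S4613 from `OppData`.** -/
theorem rigid_of_oppData [Finite G] [IsSimpleGroup G] (p : ℕ) [Fact p.Prime] (h : OppData p G)
    (α : MulAut G) (hα : ¬ p ∣ orderOf α) (U' : Sylow p G)
    (hfix : ∀ x ∈ (U' : Subgroup G), α x = x) : α = 1 := by
  obtain ⟨U, V, ⟨hUp, hUne, hUidx, hVn, hUV, hP1, hx, hnorm⟩⟩ := h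
  obtain ⟨g, hg⟩ := exists_cj_of_sylow p U (U' : Subgroup G) hUp hUidx U'.isPGroup'
    (Sylow.not_dvd_index U')
  -- β = conj g⁻¹ ∘ α ∘ conj g
  set c : MulAut G := MulAut.conj g with hc
  set β : MulAut G := c⁻¹ * α * c with hβ
  have hβfix : ∀ u ∈ U, β u = u := by
    intro u hu
    have h1 : g * u * g⁻¹ ∈ (U' : Subgroup G) := by rw [hg]; exact conj_mem_cj hu
    have h2 := hfix _ h1
    show c⁻¹ (α (c u)) = u
    have : c u = g * u * g⁻¹ := by rw [hc]; simp
    rw [this, h2, hc]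
    simp
    group
  have hβm : β ^ orderOf α = 1 := by
    have : β ^ orderOf α = c⁻¹ * α ^ orderOf α * c := by
      rw [hβ]
      have := conj_pow (a := c⁻¹) (b := α) (i := orderOf α)
      simpa [mul_assoc] using this
    rw [this, pow_orderOf_eq_one, mul_one, inv_mul_cancel]
  have hβ1 := rigid_core p U V hUp hUne hUidx hVn hUV hP1 hx hnorm β (orderOf α) hα hβm hβfix
  rw [hβ] at hβ1
  have : α = c * (c⁻¹ * α * c) * c⁻¹ := by group
  rw [this, hβ1]; group

end Cfsg.Agent.Helper27.Rig
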