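import Mathlib
import Cfsg.Agent.Lib.Helper27.RigMain

/-!
# S4613 (helper27): transfer of `IsOpp` / `OppData`
* `isOpp_map` : along a surjective homomorphism with central kernel (e.g. `SL → PSL`);
* `oppData_of_mulEquiv` : along an isomorphism;
* `isOpp_comap` : to a subgroup (injective hom `j : K →* H`) whose range contains `U` and `V`;
* `isOpp_of_TI` : the rank one criterion (TI Sylow subgroups, `U` transitive on the others).
-/

set_option autoImplicit false
set_option linter.unusedSectionVars false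
set_option linter.unusedVariables false

namespace Cfsg.Agent.Helper27.Rig

variable {G H : Type*} [Group G] [Group H]

theorem map_cj_hom (f : H →* G) (g : H) (V : Subgroup H) : (cj g V).map f = cj (f g) (V.map f) := by
  ext y
  constructor
  · rintro ⟨z, hz, rfl⟩
    have hz' : g⁻¹ * z * g ∈ V := mem_cj.1 hz
    rw [mem_cj]
    refine ⟨g⁻¹ * z * g, hz', ?_⟩
    simp
  · intro hy
    rw [mem_cj] at hy
    obtain ⟨v, hv, hvy⟩ := hy
    refine ⟨g * v * g⁻¹, conj_mem_cj hv, ?_⟩
    have h1 : f (g * v * g⁻¹) = f g * f v * (f g)⁻¹ := by simp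
    rw [h1, hvy]
    group

/-- a central element of `U` is trivial (it would lie in `V` too) -/
theorem IsOpp.central_eq_one {p : ℕ} {U V : Subgroup H} (h : IsOpp p U V) (z : H) (hz : z ∈ Subgroup.center H)
    (hzU : z ∈ U) : z = 1 := by
  obtain ⟨n, hn⟩ := h.conj
  have hzV : z ∈ V := by
    rw [hn, mem_cj]
    have hc : n * z = z * n := (Subgroup.mem_center_iff.1 hz n)
    have : n⁻¹ * z * n = z := by
      calc n⁻¹ * z * n = n⁻¹ * (z * n) := by group
        _ = n⁻¹ * (n * z) := by rw [hc]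
        _ = z := by group
    rw [this]; exact hzU
  have : z ∈ U ⊓ V := ⟨hzU, hzV⟩
  rw [h.inf] at this
  exact Subgroup.mem_bot.1 this

/-- a central `p`-element is trivial -/
theorem IsOpp.central_pElt_eq_one [Finite H] {p : ℕ} [Fact p.Prime] {U V : Subgroup H} (h : IsOpp p U V)
    (z : H) (hz : z ∈ Subgroup.center H) (hzp : ∃ k : ℕ, z ^ p ^ k = 1) : z = 1 := by
  apply h.central_eq_one z hz
  -- `zpowers z` is a normal `p`-subgroup, hence inside the Sylow subgroup `U`
  let PU : Sylow p H := h.pgroup.toSylow h.index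
  have hPU : (PU : Subgroup H) = U := IsPGroup.toSylow_coe h.pgroup h.index
  have hZp : IsPGroup p (Subgroup.zpowers z) := by
    obtain ⟨k, hk⟩ := hzp
    rintro ⟨y, hy⟩
    obtain ⟨i, rfl⟩ := Subgroup.mem_zpowers_iff.1 hy
    refine ⟨k, ?_⟩
    apply Subtype.ext
    show (z ^ i) ^ p ^ k = 1
    rw [← zpow_natCast, ← zpow_mul, mul_comm, zpow_mul, zpow_natCast, hk, one_zpow]
  have hZn : (Subgroup.zpowers z).Normal := by
    constructor
    intro y hy g
    obtain ⟨i, rfl⟩ := Subgroup.mem_zpowers_iff.1 hy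
    have hc : g * z ^ i = z ^ i * g :=
      (Subgroup.mem_center_iff.1 ((Subgroup.center H).zpow_mem hz i) g)
    have : g * z ^ i * g⁻¹ = z ^ i := by rw [hc]; group
    rw [this]; exact hy
  have hsup : IsPGroup p (U ⊔ Subgroup.zpowers z : Subgroup H) :=
    h.pgroup.to_sup_of_normal_right hZp
  have := PU.is_maximal' (Q := U ⊔ Subgroup.zpowers z) hsup (by rw [hPU]; exact le_sup_left)
  rw [hPU] at this
  have h1 : Subgroup.zpowers z ≤ U := by rw [← this]; exact le_sup_right
  exact h1 (Subgroup.mem_zpowers z)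

/-- `z = a⁻¹ b` central with `a, b` `p`-elements: then `z` is a `p`-element -/
theorem pElt_of_central_quot {p : ℕ} (a b : H) (ha : ∃ k : ℕ, a ^ p ^ k = 1) (hb : ∃ k : ℕ, b ^ p ^ k = 1)
    (hz : a⁻¹ * b ∈ Subgroup.center H) : ∃ k : ℕ, (a⁻¹ * b) ^ p ^ k = 1 := by
  obtain ⟨i, hi⟩ := ha
  obtain ⟨j, hj⟩ := hb
  -- `a` commutes with `z := a⁻¹ b`, hence with `b`
  have hc : Commute a (a⁻¹ * b) := (Subgroup.mem_center_iff.1 hz a)
  have hab : Commute a b := by
    have : b = a * (a⁻¹ * b) := by group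
    rw [this]
    exact (Commute.refl a).mul_right hc
  refine ⟨i + j, ?_⟩
  have h1 : Commute a⁻¹ b := hab.inv_left
  rw [h1.mul_pow, inv_pow, pow_add, pow_mul, hi, one_pow, inv_one, one_mul, mul_comm (p ^ i), pow_mul, hj,
    one_pow]

theorem IsOpp.pElt_of_mem {p : ℕ} {U V : Subgroup H} (h : IsOpp p U V) {u : H} (hu : u ∈ U) :
    ∃ k : ℕ, u ^ p ^ k = 1 := by
  obtain ⟨k, hk⟩ := h.pgroup ⟨u, hu⟩
  refine ⟨k, ?_⟩
  have := congrArg Subtype.val hk
  simpa using this

/-- **Transfer along a surjective homomorphism with central kernel.** -/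
theorem isOpp_map [Finite H] (p : ℕ) [Fact p.Prime] (f : H →* G) (hf : Function.Surjective f)
    (hker : f.ker ≤ Subgroup.center H) {U V : Subgroup H} (h : IsOpp p U V) :
    IsOpp p (U.map f) (V.map f) := by
  -- key: `f a = f b` with `a, b` p-elements forces `a = b`
  have key : ∀ a b : H, (∃ k : ℕ, a ^ p ^ k = 1) → (∃ k : ℕ, b ^ p ^ k = 1) → f a = f b → a = b := by
    intro a b ha hb hab
    have hz : a⁻¹ * b ∈ Subgroup.center H := by
      apply hker
      rw [MonoidHom.mem_ker, map_mul, map_inv, hab, inv_mul_cancel]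
    have := h.central_pElt_eq_one (a⁻¹ * b) hz (pElt_of_central_quot a b ha hb hz)
    calc a = a * (a⁻¹ * b) := by rw [this, mul_one]
      _ = b := by group
  obtain ⟨n, hn⟩ := h.conj
  have hVp : ∀ v ∈ V, ∃ k : ℕ, v ^ p ^ k = 1 := by
    intro v hv
    rw [hn, mem_cj] at hv
    obtain ⟨k, hk⟩ := h.pElt_of_mem hv
    refine ⟨k, ?_⟩
    have : v = n * (n⁻¹ * v * n) * n⁻¹ := by group
    rw [this, conj_pow, hk]; group
  have hcjUp : ∀ x : H, ∀ y ∈ cj x U, ∃ k : ℕ, y ^ p ^ k = 1 := by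
    intro x y hy
    rw [mem_cj] at hy
    obtain ⟨k, hk⟩ := h.pElt_of_mem hy
    refine ⟨k, ?_⟩
    have : y = x * (x⁻¹ * y * x) * x⁻¹ := by group
    rw [this, conj_pow, hk]; group
  have hcjVp : ∀ x : H, ∀ y ∈ cj x V, ∃ k : ℕ, y ^ p ^ k = 1 := by
    intro x y hy
    rw [mem_cj] at hy
    obtain ⟨k, hk⟩ := hVp _ hy
    refine ⟨k, ?_⟩
    have : y = x * (x⁻¹ * y * x) * x⁻¹ := by group
    rw [this, conj_pow, hk]; group
  -- intersections of images
  have hinf : ∀ A B : Subgroup H, (∀ a ∈ A, ∃ k : ℕ, a ^ p ^ k = 1) → (∀ b ∈ B, ∃ k : ℕ, b ^ p ^ k = 1) →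
      A ⊓ B = ⊥ → A.map f ⊓ B.map f = ⊥ := by
    intro A B hA hB hAB
    rw [eq_bot_iff]
    rintro y ⟨⟨a, ha, rfl⟩, ⟨b, hb, hba⟩⟩
    have hab : a = b := key a b (hA a ha) (hB b hb) hba.symm
    have : a ∈ A ⊓ B := ⟨ha, hab ▸ hb⟩
    rw [hAB] at this
    rw [Subgroup.mem_bot.1 this, map_one]
    exact Subgroup.mem_bot.2 rfl
  refine ⟨h.pgroup.map f, ?_, ?_, ⟨f n, ?_⟩, ?_, ?_, ?_, ?_⟩
  · -- nontrivial
    intro hbot
    apply h.ne_bot
    rw [eq_bot_iff]
    intro u hu
    have h1 : f u ∈ U.map f := ⟨u, hu, rfl⟩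
    rw [hbot] at h1
    have h2 : f u = f 1 := by rw [Subgroup.mem_bot.1 h1, map_one]
    have := key u 1 (h.pElt_of_mem hu) ⟨0, by simp⟩ h2
    exact Subgroup.mem_bot.2 this
  · intro hd
    exact h.index (dvd_trans hd (Subgroup.index_map_dvd U hf))
  · rw [hn, map_cj_hom]
  · exact hinf U V (fun a ha => h.pElt_of_mem ha) hVp h.inf
  · -- big cell
    intro g' hg'
    obtain ⟨g, rfl⟩ := hf g'
    have h1 : U ⊓ cj g V = ⊥ := by
      rw [eq_bot_iff]
      intro y hy
      have h2 : f y ∈ U.map f ⊓ cj (f g) (V.map f) := by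
        refine ⟨⟨y, hy.1, rfl⟩, ?_⟩
        rw [← map_cj_hom]
        exact ⟨y, hy.2, rfl⟩
      rw [hg'] at h2
      have h3 : f y = f 1 := by rw [Subgroup.mem_bot.1 h2, map_one]
      have := key y 1 (h.pElt_of_mem hy.1) ⟨0, by simp⟩ h3
      exact Subgroup.mem_bot.2 this
    obtain ⟨u, hu, huV⟩ := h.cell g h1
    refine ⟨f u, ⟨u, hu, rfl⟩, ?_⟩
    rw [← map_cj_hom, ← map_cj_hom, huV]
  · obtain ⟨x, hxV, hxU⟩ := h.gen
    refine ⟨f x, ⟨x, hxV, rfl⟩, ?_⟩
    rw [← map_cj_hom]
    exact hinf U (cj x U) (fun a ha => h.pElt_of_mem ha) (hcjUp x) hxU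
  · have h1 : Subgroup.closure ((U.map f : Set G) ∪ (V.map f : Set G)) =
        (Subgroup.closure ((U : Set H) ∪ (V : Set H))).map f := by
      rw [MonoidHom.map_closure, Set.image_union]
      rfl
    rw [h1]
    haveI := h.normal
    exact Subgroup.Normal.map h.normal f hf

/-- transfer of `OppData` along a surjective homomorphism with central kernel -/
theorem oppData_of_surjective [Finite H] (p : ℕ) [Fact p.Prime] (f : H →* G) (hf : Function.Surjective f)
    (hker : f.ker ≤ Subgroup.center H) (h : OppData p H) : OppData p G := by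
  obtain ⟨U, V, hUV⟩ := h
  exact ⟨U.map f, V.map f, isOpp_map p f hf hker hUV⟩

/-- `OppData` is invariant under isomorphism -/
theorem oppData_of_mulEquiv [Finite H] (p : ℕ) [Fact p.Prime] (e : G ≃* H) (h : OppData p H) :
    OppData p G := by
  apply oppData_of_surjective p e.symm.toMonoidHom e.symm.surjective ?_ h
  intro z hz
  have : z = 1 := by
    have h1 : e.symm z = 1 := hz
    have := congrArg e h1
    simpa using this
  rw [this]; exact Subgroup.one_mem _

/-- central quotient -/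
theorem oppData_quotient_center [Finite H] (p : ℕ) [Fact p.Prime] (h : OppData p H) :
    OppData p (H ⧸ Subgroup.center H) := by
  apply oppData_of_surjective p (QuotientGroup.mk' (Subgroup.center H)) (QuotientGroup.mk'_surjective _) ?_ h
  rw [QuotientGroup.ker_mk']

end Cfsg.Agent.Helper27.Rig
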