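import Mathlib
import Cfsg.Agent.Lib.Helper27.RigTransfer

/-!
# S4613 (helper27): `IsOpp` for subgroups and the rank one criterion
* `isOpp_comap` : `j : K →* H` injective, `U, V ≤ j.range`, `IsOpp p U V` ⇒ `IsOpp p (U.comap j) (V.comap j)`;
* `isOpp_of_TI` : TI Sylow `p`-subgroups with `U` transitive on the other ones ⇒ `IsOpp p U (n U n⁻¹)`.
-/

set_option autoImplicit false
set_option linter.unusedSectionVars false
set_option linter.unusedVariables false

namespace Cfsg.Agent.Helper27.Rig

variable {G H K : Type*} [Group G] [Group H] [Group K]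

theorem comap_cj (j : K →* H) (g : K) (V : Subgroup H) : (cj (j g) V).comap j = cj g (V.comap j) := by
  ext y
  rw [Subgroup.mem_comap, mem_cj, mem_cj, Subgroup.mem_comap]
  simp

theorem conj_mem_closure_of_forall {S : Set G} {L : Subgroup G} (hS : ∀ g : G, ∀ s ∈ S, g * s * g⁻¹ ∈ L)
    (hL : L = Subgroup.closure S) : L.Normal := by
  constructor
  intro k hk g
  rw [hL] at hk
  induction hk using Subgroup.closure_induction with
  | mem z hz => exact hS g z hz
  | one => simp [L.one_mem]
  | mul a b _ _ iha ihb =>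
    have : g * (a * b) * g⁻¹ = (g * a * g⁻¹) * (g * b * g⁻¹) := by group
    rw [this]; exact L.mul_mem iha ihb
  | inv a _ iha =>
    have : g * a⁻¹ * g⁻¹ = (g * a * g⁻¹)⁻¹ := by group
    rw [this]; exact L.inv_mem iha

/-- **Restriction to a subgroup containing `U` and `V`.** -/
theorem isOpp_comap [Finite K] (p : ℕ) [Fact p.Prime] (j : K →* H) (hj : Function.Injective j)
    {U V : Subgroup H} (h : IsOpp p U V) (hU : U ≤ j.range) (hV : V ≤ j.range) :
    IsOpp p (U.comap j) (V.comap j) := by
  obtain ⟨n, hn⟩ := h.conj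
  have hUp : IsPGroup p (U.comap j) := h.pgroup.comap_of_injective j hj
  have hVp0 : IsPGroup p V := by rw [hn]; exact isPGroup_cj h.pgroup n
  have hVp : IsPGroup p (V.comap j) := hVp0.comap_of_injective j hj
  have hidx : ∀ A : Subgroup H, A ≤ j.range → ¬ p ∣ A.index → ¬ p ∣ (A.comap j).index := by
    intro A hA hAi hd
    apply hAi
    rw [Subgroup.index_comap] at hd
    rw [← Subgroup.relIndex_mul_index hA]
    exact dvd_mul_of_dvd_left hd _
  have hUi : ¬ p ∣ (U.comap j).index := hidx U hU h.index
  have hVi : ¬ p ∣ (V.comap j).index := hidx V hV (by rw [hn, index_cj]; exact h.index)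
  have hbot : (⊥ : Subgroup H).comap j = ⊥ := by
    rw [eq_bot_iff]
    intro y hy
    rw [Subgroup.mem_comap, Subgroup.mem_bot] at hy
    exact Subgroup.mem_bot.2 (hj (by rw [hy, map_one]))
  refine ⟨hUp, ?_, hUi, exists_cj_of_sylow p _ _ hUp hUi hVp hVi, ?_, ?_, ?_, ?_⟩
  · intro hb
    apply h.ne_bot
    rw [eq_bot_iff]
    intro u hu
    obtain ⟨k, rfl⟩ := hU hu
    have : k ∈ U.comap j := hu
    rw [hb] at this
    rw [Subgroup.mem_bot.1 this, map_one]
    exact Subgroup.mem_bot.2 rfl
  · rw [← Subgroup.comap_inf, h.inf, hbot]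
  · intro g hg
    have h1 : U ⊓ cj (j g) V = ⊥ := by
      rw [eq_bot_iff]
      intro y hy
      obtain ⟨k, rfl⟩ := hU hy.1
      have h2 : k ∈ U.comap j ⊓ cj g (V.comap j) := by
        refine ⟨hy.1, ?_⟩
        rw [← comap_cj]
        exact hy.2
      rw [hg] at h2
      rw [Subgroup.mem_bot.1 h2, map_one]
      exact Subgroup.mem_bot.2 rfl
    obtain ⟨u, hu, huV⟩ := h.cell (j g) h1
    obtain ⟨k, rfl⟩ := hU hu
    refine ⟨k, hu, ?_⟩
    rw [← comap_cj, ← comap_cj, huV]
  · obtain ⟨x, hxV, hxU⟩ := h.gen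
    obtain ⟨k, rfl⟩ := hV hxV
    refine ⟨k, hxV, ?_⟩
    rw [← comap_cj, ← Subgroup.comap_inf, hxU, hbot]
  · have h1 : Subgroup.closure (((U.comap j : Subgroup K) : Set K) ∪ ((V.comap j : Subgroup K) : Set K)) =
        (Subgroup.closure ((U : Set H) ∪ (V : Set H))).comap j := by
      apply le_antisymm
      · rw [Subgroup.closure_le]
        rintro y (hy | hy)
        · exact Subgroup.subset_closure (Set.mem_union_left _ hy)
        · exact Subgroup.subset_closure (Set.mem_union_right _ hy)
      · intro y hy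
        rw [Subgroup.mem_comap] at hy
        have h2 : Subgroup.closure ((U : Set H) ∪ (V : Set H)) ≤
            (Subgroup.closure (((U.comap j : Subgroup K) : Set K) ∪ ((V.comap j : Subgroup K) : Set K))).map j := by
          rw [Subgroup.closure_le]
          rintro z (hz | hz)
          · obtain ⟨k, rfl⟩ := hU hz
            exact ⟨k, Subgroup.subset_closure (Set.mem_union_left _ hz), rfl⟩
          · obtain ⟨k, rfl⟩ := hV hz
            exact ⟨k, Subgroup.subset_closure (Set.mem_union_right _ hz), rfl⟩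
        obtain ⟨k, hk, hky⟩ := h2 hy
        rw [← hj hky]; exact hk
    rw [h1]
    have := h.normal
    exact Subgroup.Normal.comap h.normal j

/-- **Rank one criterion**: the Sylow `p`-subgroups are TI and `U` is transitive on the other ones. -/
theorem isOpp_of_TI [Finite G] (p : ℕ) [Fact p.Prime] (U : Subgroup G) (hUp : IsPGroup p U) (hUne : U ≠ ⊥)
    (hUidx : ¬ p ∣ U.index) (n : G) (hn : cj n U ≠ U) (hTI : ∀ g : G, cj g U = U ∨ U ⊓ cj g U = ⊥)
    (htr : ∀ g : G, cj g U ≠ U → ∃ u ∈ U, cj g U = cj u (cj n U)) : IsOpp p U (cj n U) := by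
  have hUV : U ⊓ cj n U = ⊥ := (hTI n).resolve_left hn
  have hVp : IsPGroup p (cj n U) := isPGroup_cj hUp n
  refine ⟨hUp, hUne, hUidx, ⟨n, rfl⟩, hUV, ?_, ?_, ?_⟩
  · intro g hg
    rw [← cj_mul] at hg ⊢
    apply htr
    intro he
    rw [he, inf_idem] at hg
    exact hUne hg
  · -- some nontrivial x ∈ V
    have hVne : cj n U ≠ ⊥ := by
      intro hb
      apply hUne
      have := cj_inv_cj n U
      rw [hb, cj_bot] at this
      exact this.symm
    obtain ⟨x, hx1⟩ := (Subgroup.ne_bot_iff_exists_ne_one.1 hVne)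
    refine ⟨x, x.2, ?_⟩
    rcases hTI x with he | he
    · exfalso
      have h1 : (x : G) ∈ cj n U ⊓ Subgroup.normalizer (U : Set G) := ⟨x.2, mem_normalizer_of_cj_eq he⟩
      rw [inf_normalizer_eq p _ U hVp hUp hUidx, inf_comm, hUV] at h1
      apply hx1
      exact Subtype.ext (Subgroup.mem_bot.1 h1)
    · exact he
  · -- normality of the closure
    apply conj_mem_closure_of_forall (S := (U : Set G) ∪ (cj n U : Set G)) ?_ rfl
    -- every conjugate of U lies in the closure
    have hall : ∀ g : G, cj g U ≤ Subgroup.closure ((U : Set G) ∪ (cj n U : Set G)) := by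
      intro g
      by_cases he : cj g U = U
      · rw [he]
        intro y hy
        exact Subgroup.subset_closure (Set.mem_union_left _ hy)
      · obtain ⟨u, hu, hug⟩ := htr g he
        rw [hug]
        intro y hy
        rw [mem_cj] at hy
        have hu' : u ∈ Subgroup.closure ((U : Set G) ∪ (cj n U : Set G)) :=
          Subgroup.subset_closure (Set.mem_union_left _ hu)
        have hy' : u⁻¹ * y * u ∈ Subgroup.closure ((U : Set G) ∪ (cj n U : Set G)) :=
          Subgroup.subset_closure (Set.mem_union_right _ hy)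
        have : y = u * (u⁻¹ * y * u) * u⁻¹ := by group
        rw [this]
        exact Subgroup.mul_mem _ (Subgroup.mul_mem _ hu' hy') (Subgroup.inv_mem _ hu')
    rintro g s (hs | hs)
    · exact hall g (conj_mem_cj hs)
    · have : g * s * g⁻¹ ∈ cj g (cj n U) := conj_mem_cj hs
      rw [← cj_mul] at this
      exact hall _ this

end Cfsg.Agent.Helper27.Rig
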