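import Mathlib
import Cfsg.Prelude.Def_Classical
import Cfsg.Agent.Lib.Helper5.S74PSPLIFT
import Cfsg.Agent.Lib.Helper2.SpCenter

/-! S12-ODDLIFT (S2512, design helper5): an element of odd order of `PSp` lifts to a symplectic
matrix of the same order. -/

set_option autoImplicit false
set_option linter.style.haveILetI false

open Polynomial

namespace Cfsg.Agent.Helper5.S12

open Cfsg.Agent.Helper15
open Cfsg.Agent.Helper15.S74 (psp_lift)

universe v v₁ v₂ u

theorem s12_oddlift_negOne_mul_self {F : Type u} [Field F] (n : ℕ) :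
    Cfsg.Agent.Helper2.Sp.negOne (Fin n) F * Cfsg.Agent.Helper2.Sp.negOne (Fin n) F = 1 := by
  apply Subtype.ext
  rw [Submonoid.coe_mul, Cfsg.Agent.Helper2.Sp.negOne_coe, OneMemClass.coe_one, neg_mul_neg, one_mul]

theorem s12_oddlift_pow_even {G : Type*} [Monoid G] (z : G) (hz : z * z = 1) (j : ℕ)
    (hj : Even j) : z ^ j = 1 := by
  obtain ⟨k, rfl⟩ := hj
  rw [← two_mul, pow_mul, pow_two, hz, one_pow]

theorem s12_oddlift_pow_odd {G : Type*} [Monoid G] (z : G) (hz : z * z = 1) (j : ℕ)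
    (hj : Odd j) : z ^ j = z := by
  obtain ⟨k, rfl⟩ := hj
  rw [pow_succ, s12_oddlift_pow_even z hz (2 * k) (even_two_mul k), one_mul]

/-- PIECE S12-ODDLIFT. -/
theorem odd_lift {F : Type u} [Field F] (n : ℕ) (hn : 1 ≤ n) (x : Cfsg.PSp n F)
    (hodd : Odd (orderOf x)) :
    ∃ A : Matrix.symplecticGroup (Fin n) F, orderOf A = orderOf x := by
  have hNpos : 0 < orderOf x := hodd.pos
  obtain ⟨A, hAN, hAj⟩ := psp_lift n hn x (orderOf x) rfl
  rcases hAN with h1 | h1
  · refine ⟨A, ?_⟩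
    rw [orderOf_eq_iff hNpos]
    exact ⟨h1, fun m hm hm0 => (hAj m hm0 hm).1⟩
  · have hzz := s12_oddlift_negOne_mul_self (F := F) n
    have hcomm : Commute A (Cfsg.Agent.Helper2.Sp.negOne (Fin n) F) :=
      Subgroup.mem_center_iff.mp Cfsg.Agent.Helper2.Sp.negOne_mem_center A
    refine ⟨A * Cfsg.Agent.Helper2.Sp.negOne (Fin n) F, ?_⟩
    rw [orderOf_eq_iff hNpos]
    refine ⟨?_, ?_⟩
    · rw [hcomm.mul_pow, h1, s12_oddlift_pow_odd _ hzz _ hodd, hzz]
    · intro m hm hm0 hcontra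
      rw [hcomm.mul_pow] at hcontra
      rcases Nat.even_or_odd m with he | ho
      · rw [s12_oddlift_pow_even _ hzz m he, mul_one] at hcontra
        exact (hAj m hm0 hm).1 hcontra
      · rw [s12_oddlift_pow_odd _ hzz m ho] at hcontra
        apply (hAj m hm0 hm).2
        calc A ^ m = A ^ m * (Cfsg.Agent.Helper2.Sp.negOne (Fin n) F *
              Cfsg.Agent.Helper2.Sp.negOne (Fin n) F) := by rw [hzz, mul_one]
          _ = (A ^ m * Cfsg.Agent.Helper2.Sp.negOne (Fin n) F) *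
              Cfsg.Agent.Helper2.Sp.negOne (Fin n) F := by rw [mul_assoc]
          _ = Cfsg.Agent.Helper2.Sp.negOne (Fin n) F := by rw [hcontra, one_mul]

end Cfsg.Agent.Helper5.S12
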