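import Mathlib
import Cfsg.Prelude.Def_Classical
import Cfsg.Agent.Lib.Helper10.EOAssembly

/-! S12-POLYDATA (S2512, design helper5): the polynomial data of a symplectic matrix. -/

set_option autoImplicit false
set_option linter.style.haveILetI false
set_option linter.unusedVariables false

open Polynomial

namespace Cfsg.Agent.Helper5.S12

open Cfsg.Agent.Helper10

universe v v₁ v₂ u

/-- PIECE S12-POLYDATA. -/
theorem polydata {F : Type u} [Field F] [DecidableEq F[X]] (n : ℕ) (hn : 1 ≤ n)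
    (A : Matrix.symplecticGroup (Fin n) F) (a : ℕ) (ha : orderOf A = a) (ha0 : 0 < a) :
    ∃ s : Multiset F[X], (∀ f ∈ s, f.Monic ∧ Irreducible f ∧ f.coeff 0 ≠ 0) ∧
      (∀ f ∈ s, f ∣ X ^ a - 1) ∧ (∀ f ∈ s, s.count (EO.star f) = s.count f) ∧
      (∑ f ∈ s.toFinset, s.count f * f.natDegree ≤ 2 * n) ∧
      (∀ N : ℕ, s.prod ∣ X ^ N - 1 → a ∣ N) := by
  have hne : Nonempty (Fin n ⊕ Fin n) := ⟨Sum.inl ⟨0, hn⟩⟩
  obtain ⟨B, hBdef⟩ : ∃ B : Matrix (Fin n ⊕ Fin n) (Fin n ⊕ Fin n) F, B = A.1 := ⟨_, rfl⟩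
  have hB : B.transpose * (Matrix.J (Fin n) F) * B = Matrix.J (Fin n) F := by
    rw [hBdef]
    exact
    _root_.SymplecticGroup.mem_iff'.1 A.2
  obtain ⟨h0, hstar⟩ := EO.minpoly_self_reciprocal B (Matrix.J (Fin n) F)
    (Matrix.isUnit_det_J (Fin n) F) hB
  have hmonic : (minpoly F B).Monic := minpoly.monic (Matrix.isIntegral B)
  have hdeg : (minpoly F B).natDegree ≤ 2 * n := by
    have h1 := Matrix.minpoly_dvd_charpoly B
    have h2 := Polynomial.natDegree_le_of_dvd h1 (Matrix.charpoly_monic B).ne_zero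
    rwa [Matrix.charpoly_natDegree_eq_dim, EO.card_sum_fin] at h2
  obtain ⟨s, hsprod, hs⟩ := EO.exists_factorization (minpoly F B) hmonic h0
  have hBa : B ^ a = 1 := by
    have h1 : A ^ a = 1 := by rw [← ha]; exact pow_orderOf_eq_one A
    have h2 := congrArg Subtype.val h1
    rw [SubmonoidClass.coe_pow, OneMemClass.coe_one] at h2
    rw [hBdef]
    exact h2
  have hμa : minpoly F B ∣ X ^ a - 1 := by
    apply minpoly.dvd
    simp [hBa]
  refine ⟨s, hs, ?_, ?_, ?_, ?_⟩
  · intro f hf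
    exact (Multiset.dvd_prod hf).trans (hsprod ▸ hμa)
  · intro f hf
    exact EO.count_star s hs (by rw [hsprod]; exact hstar) f hf
  · rw [← EO.natDegree_prod_eq_sum s (fun f hf => (hs f hf).1), hsprod]
    exact hdeg
  · intro N hN
    rw [hsprod] at hN
    have h1 := Polynomial.aeval_eq_zero_of_dvd_aeval_eq_zero hN (minpoly.aeval F B)
    have h2 : B ^ N = 1 := by simpa [sub_eq_zero] using h1
    have h3 : A ^ N = 1 := by
      apply Subtype.ext
      rw [SubmonoidClass.coe_pow, OneMemClass.coe_one, ← hBdef]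
      exact h2
    rw [← ha]
    exact orderOf_dvd_of_pow_eq_one h3

end Cfsg.Agent.Helper5.S12
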