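import Mathlib
import Cfsg.Agent.Lib.Helper15.S52Defs

/-!
# S3452, piece S52-GLDOUBLE

A `2 × 2` matrix `M` with `det M ≠ 0` and a double eigenvalue `l` satisfies `M ^ p = l ^ p • 1`
in characteristic `p`.  (The hypothesis `det M ≠ 0` is needed: `M = diag(1,0)`, `l = 0`.)
-/

set_option autoImplicit false
set_option linter.unusedVariables false

namespace Cfsg.Agent.Helper15.S52

theorem s52_gldouble_trace {F : Type*} [Field F] (M : Matrix (Fin 2) (Fin 2) F) (l : F)
    (hdet : M.det ≠ 0) (hl : l ^ 2 - M.trace * l + M.det = 0) (hl' : l ^ 2 = M.det) :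
    M.trace = 2 * l := by
  have hl0 : l ≠ 0 := by
    intro h0
    apply hdet
    rw [← hl', h0]
    ring
  have h1 : l * (2 * l - M.trace) = 0 := by
    have : l * (2 * l - M.trace) = (l ^ 2 - M.trace * l + M.det) + (l ^ 2 - M.det) := by ring
    rw [this, hl, hl']
    ring
  rcases mul_eq_zero.mp h1 with h | h
  · exact absurd h hl0
  · exact (sub_eq_zero.mp h).symm

theorem s52_gldouble_sq {F : Type*} [Field F] (M : Matrix (Fin 2) (Fin 2) F) (l : F)
    (htr : M.trace = 2 * l) (hl' : l ^ 2 = M.det) :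
    (M - l • (1 : Matrix (Fin 2) (Fin 2) F)) * (M - l • (1 : Matrix (Fin 2) (Fin 2) F)) = 0 := by
  rw [Matrix.trace_fin_two] at htr
  rw [Matrix.det_fin_two] at hl'
  have h11 : M 1 1 = 2 * l - M 0 0 := by rw [← htr]; ring
  ext i j
  fin_cases i <;> fin_cases j
  · simp only [Fin.zero_eta, Fin.isValue, Matrix.mul_apply, Fin.sum_univ_two, Matrix.sub_apply,
      Matrix.smul_apply, Matrix.one_apply_eq, Matrix.zero_apply, smul_eq_mul, mul_one, ne_eq,
      zero_ne_one, one_ne_zero, not_false_eq_true, Matrix.one_apply_ne, mul_zero, sub_zero]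
    rw [h11] at hl'
    linear_combination hl'
  · simp only [Fin.zero_eta, Fin.isValue, Fin.mk_one, Matrix.mul_apply, Fin.sum_univ_two,
      Matrix.sub_apply, Matrix.smul_apply, Matrix.one_apply_eq, Matrix.zero_apply, smul_eq_mul,
      mul_one, ne_eq, zero_ne_one, one_ne_zero, not_false_eq_true, Matrix.one_apply_ne, mul_zero,
      sub_zero]
    rw [h11]
    ring
  · simp only [Fin.zero_eta, Fin.isValue, Fin.mk_one, Matrix.mul_apply, Fin.sum_univ_two,
      Matrix.sub_apply, Matrix.smul_apply, Matrix.one_apply_eq, Matrix.zero_apply, smul_eq_mul,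
      mul_one, ne_eq, zero_ne_one, one_ne_zero, not_false_eq_true, Matrix.one_apply_ne, mul_zero,
      sub_zero]
    rw [h11]
    ring
  · simp only [Fin.isValue, Fin.mk_one, Matrix.mul_apply, Fin.sum_univ_two,
      Matrix.sub_apply, Matrix.smul_apply, Matrix.one_apply_eq, Matrix.zero_apply, smul_eq_mul,
      mul_one, ne_eq, zero_ne_one, one_ne_zero, not_false_eq_true, Matrix.one_apply_ne, mul_zero,
      sub_zero]
    rw [h11] at hl' ⊢
    linear_combination hl'

/-- PIECE S52-GLDOUBLE (with the necessary extra hypothesis `hdet`) -/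
theorem gl_pow_double {F : Type*} [Field F] (M : Matrix (Fin 2) (Fin 2) F) (l : F)
    (hdet : M.det ≠ 0)
    (hl : l ^ 2 - M.trace * l + M.det = 0) (hl' : l ^ 2 = M.det) (p : ℕ) [Fact p.Prime]
    [CharP F p] : M ^ p = (l ^ p) • (1 : Matrix (Fin 2) (Fin 2) F) := by
  have htr := s52_gldouble_trace M l hdet hl hl'
  have hsq := s52_gldouble_sq M l htr hl'
  set N : Matrix (Fin 2) (Fin 2) F := M - l • (1 : Matrix (Fin 2) (Fin 2) F) with hN
  have hM : M = l • (1 : Matrix (Fin 2) (Fin 2) F) + N := by rw [hN]; abel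
  have hcomm : Commute (l • (1 : Matrix (Fin 2) (Fin 2) F)) N := by
    apply Commute.smul_left
    exact Commute.one_left N
  have hp2 : 2 ≤ p := (Fact.out : p.Prime).two_le
  have hNp : N ^ p = 0 := by
    obtain ⟨k, hk⟩ := Nat.exists_eq_add_of_le hp2
    rw [hk, pow_add, pow_two, hsq, zero_mul]
  have hpow : (l • (1 : Matrix (Fin 2) (Fin 2) F)) ^ p = (l ^ p) • (1 : Matrix (Fin 2) (Fin 2) F) := by
    rw [smul_pow, one_pow]
  rw [hM, add_pow_char_of_commute p hcomm, hNp, add_zero, hpow]

end Cfsg.Agent.Helper15.S52
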