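import Mathlib
import Cfsg.Agent.Lib.Helper15.S52Defs
import Cfsg.Agent.Lib.Helper19.S52PGLUP
import Cfsg.Agent.Lib.Helper27.S52GLDOUBLE

/-!
# S3452: `pgl_orderOf_dvd` with the corrected `hdouble` hypothesis (`det M ≠ 0` added), and the
version with `hdouble` discharged by `gl_pow_double`.
-/

set_option autoImplicit false
set_option linter.unusedVariables false

namespace Cfsg.Agent.Helper15.S52

open Cfsg.Agent.Helper2

/-- `pgl_orderOf_dvd` with `hdouble` only asked for invertible matrices -/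
theorem s52_gldouble_pgl_orderOf_dvd {F : Type*} [Field F] [Fintype F] (p : ℕ) [Fact p.Prime]
    [CharP F p]
    (hsplit : ∀ (M : Matrix (Fin 2) (Fin 2) F) (l : F), M.det ≠ 0 →
      l ^ 2 - M.trace * l + M.det = 0 → l ^ 2 ≠ M.det → M ^ (Fintype.card F - 1) = 1)
    (hdouble : ∀ (M : Matrix (Fin 2) (Fin 2) F) (l : F), M.det ≠ 0 →
      l ^ 2 - M.trace * l + M.det = 0 →
      l ^ 2 = M.det → M ^ p = (l ^ p) • (1 : Matrix (Fin 2) (Fin 2) F))
    (hnoroot : ∀ M : Matrix (Fin 2) (Fin 2) F, (∀ l : F, l ^ 2 - M.trace * l + M.det ≠ 0) →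
      M ^ (Fintype.card F + 1) = M.det • (1 : Matrix (Fin 2) (Fin 2) F))
    (g : PGL2 F) :
    orderOf g ∣ Fintype.card F - 1 ∨ orderOf g ∣ Fintype.card F + 1 ∨ orderOf g ∣ p := by
  classical
  obtain ⟨A, rfl⟩ := QuotientGroup.mk_surjective g
  have hdet : (A : Matrix (Fin 2) (Fin 2) F).det ≠ 0 := by
    have h1 : IsUnit (A : Matrix (Fin 2) (Fin 2) F) := A.isUnit
    exact ((Matrix.isUnit_iff_isUnit_det _).1 h1).ne_zero
  by_cases hroot : ∃ l : F, l ^ 2 - (A : Matrix (Fin 2) (Fin 2) F).trace * l +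
      (A : Matrix (Fin 2) (Fin 2) F).det = 0
  · obtain ⟨l, hl⟩ := hroot
    by_cases hl2 : l ^ 2 = (A : Matrix (Fin 2) (Fin 2) F).det
    · right; right
      apply orderOf_dvd_of_pow_eq_one
      exact s52_pglup_pow_eq_one A p (l ^ p) (hdouble _ l hdet hl hl2)
    · left
      apply orderOf_dvd_of_pow_eq_one
      apply s52_pglup_pow_eq_one A _ 1
      rw [one_smul]
      exact hsplit _ l hdet hl hl2
  · push Not at hroot
    right; left
    apply orderOf_dvd_of_pow_eq_one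
    exact s52_pglup_pow_eq_one A _ _ (hnoroot _ hroot)

/-- the same with `hdouble` discharged -/
theorem s52_gldouble_pgl_orderOf_dvd' {F : Type*} [Field F] [Fintype F] (p : ℕ) [Fact p.Prime]
    [CharP F p]
    (hsplit : ∀ (M : Matrix (Fin 2) (Fin 2) F) (l : F), M.det ≠ 0 →
      l ^ 2 - M.trace * l + M.det = 0 → l ^ 2 ≠ M.det → M ^ (Fintype.card F - 1) = 1)
    (hnoroot : ∀ M : Matrix (Fin 2) (Fin 2) F, (∀ l : F, l ^ 2 - M.trace * l + M.det ≠ 0) →
      M ^ (Fintype.card F + 1) = M.det • (1 : Matrix (Fin 2) (Fin 2) F))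
    (g : PGL2 F) :
    orderOf g ∣ Fintype.card F - 1 ∨ orderOf g ∣ Fintype.card F + 1 ∨ orderOf g ∣ p :=
  s52_gldouble_pgl_orderOf_dvd p hsplit
    (fun M l hdet hl hl' => gl_pow_double M l hdet hl hl' p) hnoroot g

end Cfsg.Agent.Helper15.S52
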