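import Mathlib
import Cfsg.Agent.Lib.Helper15.S64Defs
import Cfsg.Agent.Lib.Helper2.OutCongr

/-! S64-SYL3 (S3664, design helper15): every element of order 3 of `L = Sz(8) ⋊ Aut(F_8)` is conjugate to
a field automorphism. -/

set_option autoImplicit false
set_option linter.unusedSectionVars false
set_option linter.unusedVariables false

namespace Cfsg.Agent.Helper15.S64

open Matrix Cfsg.Agent.Helper2 Cfsg.Agent.Helper2.Sz
open scoped Pointwise

variable {F : Type*} [Field F] [Fintype F] (S : SzData F 1)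
  (hF : Fintype.card F = 2 ^ (2 * 1 + 1))

theorem s64_syl3_factorization : (29120 * 3 : ℕ).factorization 3 = 1 := by
  rw [Nat.factorization_mul (by norm_num) (by norm_num), Finsupp.add_apply,
    Nat.factorization_eq_zero_of_not_dvd (by norm_num : ¬ 3 ∣ 29120),
    Nat.Prime.factorization_self Nat.prime_three]

/-- PIECE S64-SYL3 -/
theorem exists_conj_inr (hcard : Nat.card (Lgrp S hF) = 29120 * 3) (y : Lgrp S hF)
    (hy : orderOf y = 3) :
    ∃ (c : Lgrp S hF) (ψ : F ≃+* F), ψ ≠ 1 ∧ c * y * c⁻¹ = SemidirectProduct.inr ψ := by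
  have : Fact (Nat.Prime 3) := ⟨Nat.prime_three⟩
  have : Fact (Nat.Prime 2) := ⟨Nat.prime_two⟩
  have hF3 : Fintype.card F = 2 ^ 3 := hF
  have haut : Nat.card (F ≃+* F) = 3 := Cfsg.Agent.Helper2.OutCongr.card_ringEquiv (p := 2) (n := 3) hF3
  have hR : Nat.card (SemidirectProduct.inr : (F ≃+* F) →* Lgrp S hF).range = 3 := by
    rw [← haut]
    exact Nat.card_congr (MonoidHom.ofInjective SemidirectProduct.inr_injective).toEquiv.symm
  have hY : Nat.card (Subgroup.zpowers y) = 3 := by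
    rw [Nat.card_zpowers, hy]
  have hpow : 3 ^ (Nat.card (Lgrp S hF)).factorization 3 = 3 := by
    rw [hcard, s64_syl3_factorization, pow_one]
  let P₁ : Sylow 3 (Lgrp S hF) :=
    Sylow.ofCard (SemidirectProduct.inr : (F ≃+* F) →* Lgrp S hF).range (by rw [hR, hpow])
  let P₂ : Sylow 3 (Lgrp S hF) := Sylow.ofCard (Subgroup.zpowers y) (by rw [hY, hpow])
  obtain ⟨c, hc⟩ := MulAction.exists_smul_eq (Lgrp S hF) P₂ P₁
  have hc' : MulAut.conj c • (Subgroup.zpowers y) =
      (SemidirectProduct.inr : (F ≃+* F) →* Lgrp S hF).range := by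
    have := congrArg (fun P : Sylow 3 (Lgrp S hF) => (P : Subgroup (Lgrp S hF))) hc
    simpa [Sylow.coe_subgroup_smul, P₁, P₂] using this
  have hmem : c * y * c⁻¹ ∈ MulAut.conj c • (Subgroup.zpowers y) := by
    have h1 := Subgroup.smul_mem_pointwise_smul y (MulAut.conj c) (Subgroup.zpowers y)
      (Subgroup.mem_zpowers y)
    simpa [MulAut.smul_def] using h1
  rw [hc'] at hmem
  obtain ⟨ψ, hψ⟩ := hmem
  refine ⟨c, ψ, ?_, hψ.symm⟩
  rintro rfl
  rw [map_one] at hψ
  have hy1 : y = 1 := by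
    have h2 : c * y * c⁻¹ = 1 := hψ.symm
    have h3 : y = c⁻¹ * (c * y * c⁻¹) * c := by group
    rw [h3, h2]
    group
  rw [hy1, orderOf_one] at hy
  norm_num at hy

end Cfsg.Agent.Helper15.S64
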