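import Mathlib
import Cfsg.Agent.Lib.Helper6.SpP0

/-!
Central extensions of a group with Steinberg relations of type `C`: the canonical lifts of the root elements
satisfy the Steinberg relations again.
-/

set_option autoImplicit false
set_option linter.unusedSectionVars false
set_option linter.unusedVariables false

namespace Cfsg.Agent.Helper27.SpExtREL

open Cfsg.Agent.Helper6 Cfsg.Agent.Helper6.SLn Cfsg.Agent.Helper6.SpN

variable {I : Type*} [Fintype I] [DecidableEq I] {K : Type*} [Field K] {Γ E : Type*} [Group Γ] [Group E]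
  {T : I ⊕ I → I ⊕ I → K → Γ} {L : I ⊕ I → K → Γ}

theorem exists_third (h3 : 3 ≤ Fintype.card I) (a b : I ⊕ I) :
    ∃ c : I ⊕ I, c ≠ a ∧ c ≠ ng a ∧ c ≠ b ∧ c ≠ ng b := by
  have : ∃ i : I, i ≠ av a ∧ i ≠ av b := by
    by_contra hcon0
    have hcon : ∀ i : I, i ≠ av a → i = av b := fun i h => by
      by_contra h2
      exact hcon0 ⟨i, h, h2⟩
    have hsub : (Finset.univ : Finset I) ⊆ {av a, av b} := by
      intro i _
      by_cases h : i = av a
      · simp [h]
      · simp [hcon i h]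
    have h1 := Finset.card_le_card hsub
    have h2 : ({av a, av b} : Finset I).card ≤ 2 := Finset.card_le_two
    rw [Finset.card_univ] at h1
    omega
  obtain ⟨i, hi1, hi2⟩ := this
  have e : av (Sum.inl i : I ⊕ I) = i := rfl
  exact ⟨Sum.inl i, ne_of_av_ne (by rw [e]; exact hi1), ne_ng_of_av_ne (by rw [e]; exact hi1),
    ne_of_av_ne (by rw [e]; exact hi2), ne_ng_of_av_ne (by rw [e]; exact hi2)⟩

section

variable (R : SpRel T L) (π : E →* Γ) (h3 : 3 ≤ Fintype.card I) (C : CLift T L π)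
  {T' : I ⊕ I → I ⊕ I → K → E} {L' : I ⊕ I → K → E} (HS : ShortLift T π T')
include R h3 C HS

theorem addT' (a b : I ⊕ I) (hab : a ≠ b) (hab' : a ≠ ng b) (t u : K) :
    T' a b t * T' a b u = T' a b (t + u) := by
  obtain ⟨c, hca, hcna, hcb, hcnb⟩ := exists_third h3 a b
  have hac : a ≠ c := hca.symm
  have hac' : a ≠ ng c := fun h => hcna (by rw [h, ng_ng])
  have hx := HS.map a c hac hac' 1
  have hy := HS.map c b hcb hcnb t
  have hy' := HS.map c b hcb hcnb u
  have e1 := HS.eq a c b hac hac' hcb hcnb hab hab' 1 t _ _ hx hy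
  have e2 := HS.eq a c b hac hac' hcb hcnb hab hab' 1 u _ _ hx hy'
  have hyy : π (T' c b t * T' c b u) = T c b (t + u) := by
    rw [map_mul, hy, hy', R.addT c b hcb hcnb]
  have e3 := HS.eq a c b hac hac' hcb hcnb hab hab' 1 (t + u) _ _ hx hyy
  have hcomm : Commute (T' c b t) (cm (T' a c 1) (T' c b u)) := by
    rw [e2]
    exact C.tt c b a b hcb hcnb hab hab' hab hac' hcb.symm (ne_ng b) _ _ _ _ hy
      (HS.map a b hab hab' _)
  rw [cm_mul_right' _ _ _ hcomm, e1, e2] at e3
  simpa using e3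

theorem zeroT' (a b : I ⊕ I) (hab : a ≠ b) (hab' : a ≠ ng b) : T' a b 0 = 1 := by
  have := addT' R π h3 C HS a b hab hab' 0 0
  rw [add_zero] at this
  exact mul_eq_left.1 this

theorem negT' (a b : I ⊕ I) (hab : a ≠ b) (hab' : a ≠ ng b) (t : K) :
    T' a b (-t) = (T' a b t)⁻¹ := by
  rw [eq_inv_iff_mul_eq_one, addT' R π h3 C HS a b hab hab', neg_add_cancel,
    zeroT' R π h3 C HS a b hab hab']

theorem commT' (a b : I ⊕ I) (hab : a ≠ b) (hab' : a ≠ ng b) (t u : K) :
    Commute (T' a b t) (T' a b u) := by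
  show T' a b t * T' a b u = T' a b u * T' a b t
  rw [addT' R π h3 C HS a b hab hab', addT' R π h3 C HS a b hab hab', add_comm]

theorem symT'' (a b : I ⊕ I) (hab : a ≠ b) (hab' : a ≠ ng b) (t : K) :
    T' a b t = T' (ng b) (ng a) (-(sg K a * sg K b * t)) := by
  obtain ⟨c, hca, hcna, hcb, hcnb⟩ := exists_third h3 a b
  have hac : a ≠ c := hca.symm
  have hac' : a ≠ ng c := fun h => hcna (by rw [h, ng_ng])
  have hx := HS.map a c hac hac' 1
  have hy := HS.map c b hcb hcnb t
  have e1 := HS.eq a c b hac hac' hcb hcnb hab hab' 1 t _ _ hx hy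
  have hx2 : π (T' a c 1) = T (ng c) (ng a) (-(sg K a * sg K c * 1)) := by
    rw [hx, R.symT a c hac hac']
  have hy2 : π (T' c b t) = T (ng b) (ng c) (-(sg K c * sg K b * t)) := by
    rw [hy, R.symT c b hcb hcnb]
  have k1 : ng b ≠ ng c := ng_ne_ng.mpr hcb.symm
  have k2 : ng b ≠ ng (ng c) := by rw [ng_ng]; exact fun h => hcnb h.symm
  have k3 : ng c ≠ ng a := ng_ne_ng.mpr hca
  have k4 : ng c ≠ ng (ng a) := by rw [ng_ng]; exact fun h => hac' h.symm
  have k5 : ng b ≠ ng a := ng_ne_ng.mpr hab.symm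
  have k6 : ng b ≠ ng (ng a) := by rw [ng_ng]; exact fun h => hab' h.symm
  have e2 := HS.eq (ng b) (ng c) (ng a) k1 k2 k3 k4 k5 k6 _ _ _ _ hy2 hx2
  rw [one_mul] at e1
  calc T' a b t = cm (T' a c 1) (T' c b t) := e1.symm
    _ = (cm (T' c b t) (T' a c 1))⁻¹ := (cm_inv_swap _ _).symm
    _ = (T' (ng b) (ng a) (-(sg K c * sg K b * t) * -(sg K a * sg K c * 1)))⁻¹ := by rw [e2]
    _ = T' (ng b) (ng a) (-(-(sg K c * sg K b * t) * -(sg K a * sg K c * 1))) :=
        (negT' R π h3 C HS _ _ k5 k6 _).symm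
    _ = T' (ng b) (ng a) (-(sg K a * sg K b * t)) := by
        congr 1
        have h := sg_mul_self (K := K) c
        linear_combination (-(sg K a * sg K b * t)) * h

theorem symT_ng'' (a b : I ⊕ I) (hab : a ≠ b) (hab' : a ≠ ng b) (t : K) :
    T' a (ng b) t = T' b (ng a) (sg K a * sg K b * t) := by
  rw [symT'' R π h3 C HS a (ng b) hab' (by rw [ng_ng]; exact hab), ng_ng, sg_ng]
  congr 1
  ring

variable (HL : LongLift T L π T' L')
include HL

theorem addL' (a : I ⊕ I) (t u : K) : L' a t * L' a u = L' a (t + u) := by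
  obtain ⟨b, hba, hbna, -, -⟩ := exists_third h3 a a
  have hab : a ≠ b := hba.symm
  have hab' : a ≠ ng b := fun h => hbna (by rw [h, ng_ng])
  have hanb : a ≠ ng (ng b) := by rw [ng_ng]; exact hab
  have hss : (sg K a * sg K b) * (sg K a * sg K b) = 1 := by
    have h1 := sg_mul_self (K := K) a
    have h2 := sg_mul_self (K := K) b
    linear_combination (sg K b * sg K b) * h1 + h2
  have hx := HS.map a b hab hab' 1
  have hl := HL.map b (sg K a * sg K b * t)
  have hl' := HL.map b (sg K a * sg K b * u)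
  have e1 := HL.eq a b hab hab' 1 (sg K a * sg K b * t) _ _ hx hl
  have e2 := HL.eq a b hab hab' 1 (sg K a * sg K b * u) _ _ hx hl'
  have hll : π (L' b (sg K a * sg K b * t) * L' b (sg K a * sg K b * u)) =
      L b (sg K a * sg K b * t + sg K a * sg K b * u) := by
    rw [map_mul, hl, hl', R.addL]
  have e3 := HL.eq a b hab hab' 1 (sg K a * sg K b * t + sg K a * sg K b * u) _ _ hx hll
  have s1 : sg K a * sg K b * 1 ^ 2 * (sg K a * sg K b * t) = t := by
    linear_combination t * hss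
  have s2 : sg K a * sg K b * 1 ^ 2 * (sg K a * sg K b * u) = u := by
    linear_combination u * hss
  have s3 : sg K a * sg K b * 1 ^ 2 * (sg K a * sg K b * t + sg K a * sg K b * u) = t + u := by
    linear_combination (t + u) * hss
  rw [s1, one_mul] at e1
  rw [s2, one_mul] at e2
  rw [s3, one_mul] at e3
  have hcomm : Commute (L' b (sg K a * sg K b * t))
      (cm (T' a b 1) (L' b (sg K a * sg K b * u))) := by
    rw [e2]
    apply Commute.mul_right
    · exact (C.tl a (ng b) b hab' hanb (ne_ng b) hbna _ _ _ _ (HS.map a (ng b) hab' hanb _) hl).symm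
    · exact C.ll b a hab' _ _ _ _ hl (HL.map a _)
  rw [cm_mul_right' _ _ _ hcomm, e1, e2] at e3
  have hcomm2 : Commute (L' a t) (T' a (ng b) (sg K a * sg K b * u)) :=
    (C.tl a (ng b) a hab' hanb hab' (ne_ng a) _ _ _ _ (HS.map a (ng b) hab' hanb _)
      (HL.map a t)).symm
  have e4 : T' a (ng b) (sg K a * sg K b * t) * L' a t *
      (T' a (ng b) (sg K a * sg K b * u) * L' a u) =
      T' a (ng b) (sg K a * sg K b * t + sg K a * sg K b * u) * (L' a t * L' a u) := by
    rw [← addT' R π h3 C HS a (ng b) hab' hanb]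
    calc T' a (ng b) (sg K a * sg K b * t) * L' a t *
          (T' a (ng b) (sg K a * sg K b * u) * L' a u)
        = T' a (ng b) (sg K a * sg K b * t) * (L' a t * T' a (ng b) (sg K a * sg K b * u)) *
          L' a u := by simp only [mul_assoc]
      _ = T' a (ng b) (sg K a * sg K b * t) * (T' a (ng b) (sg K a * sg K b * u) * L' a t) *
          L' a u := by rw [hcomm2.eq]
      _ = _ := by simp only [mul_assoc]
  rw [e4] at e3
  exact mul_left_cancel e3

theorem zeroL' (a : I ⊕ I) : L' a 0 = 1 := by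
  have := addL' R π h3 C HS HL a 0 0
  rw [add_zero] at this
  exact mul_eq_left.1 this

theorem negL' (a : I ⊕ I) (t : K) : L' a (-t) = (L' a t)⁻¹ := by
  rw [eq_inv_iff_mul_eq_one, addL' R π h3 C HS HL a, neg_add_cancel, zeroL' R π h3 C HS HL a]

/-- the polarised form of the long commutator formula -/
theorem polar (a b : I ⊕ I) (hab : a ≠ b) (hab' : a ≠ ng b) (t w : K) :
    cm (T' a b t) (T' a (ng b) w) = L' a (2 * (sg K a * sg K b) * t * w) := by
  have hanb : a ≠ ng (ng b) := by rw [ng_ng]; exact hab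
  have hx := HS.map a b hab hab' t
  have hx' := HS.map a b hab hab' 1
  have hl := HL.map b w
  have hxx : π (T' a b t * T' a b 1) = T a b (t + 1) := by
    rw [map_mul, hx, hx', R.addT a b hab hab']
  have E1 := HL.eq a b hab hab' (t + 1) w _ _ hxx hl
  have E2 := HL.eq a b hab hab' 1 w _ _ hx' hl
  have E3 := HL.eq a b hab hab' t w _ _ hx hl
  rw [one_mul] at E2
  have hid : cm (T' a b t * T' a b 1) (L' b w) =
      T' a b t * cm (T' a b 1) (L' b w) * (T' a b t)⁻¹ * cm (T' a b t) (L' b w) := by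
    unfold cm
    group
  rw [hid, E2, E3] at E1
  -- abbreviations
  set x := T' a b t with hxdef
  set A₁ := T' a (ng b) w with hA₁
  set B₁ := L' a (sg K a * sg K b * 1 ^ 2 * w) with hB₁
  set At := T' a (ng b) (t * w) with hAt
  set Bt := L' a (sg K a * sg K b * t ^ 2 * w) with hBt
  set A2 := T' a (ng b) ((t + 1) * w) with hA2
  set B2 := L' a (sg K a * sg K b * (t + 1) ^ 2 * w) with hB2
  have cxB : Commute x B₁ :=
    C.tl a b a hab hab' hab (ne_ng a) _ _ _ _ hx (HL.map a _)
  have cTL : ∀ v v' : K, Commute (T' a (ng b) v) (L' a v') := fun v v' =>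
    C.tl a (ng b) a hab' hanb hab' (ne_ng a) _ _ _ _ (HS.map a (ng b) hab' hanb _) (HL.map a _)
  have hAA : A₁ * At = A2 := by
    rw [hA₁, hAt, hA2, addT' R π h3 C HS a (ng b) hab' hanb]
    congr 1
    ring
  have hBB : B₁ * Bt = L' a (sg K a * sg K b * 1 ^ 2 * w + sg K a * sg K b * t ^ 2 * w) := by
    rw [hB₁, hBt, addL' R π h3 C HS HL]
  -- E1 : x * (A₁ * B₁) * x⁻¹ * (At * Bt) = A2 * B2
  have hZ : x * (A₁ * B₁) * x⁻¹ = cm x A₁ * A₁ * B₁ := by
    have : x * (A₁ * B₁) * x⁻¹ = (x * A₁ * x⁻¹ * A₁⁻¹) * A₁ * (x * B₁ * x⁻¹) := by group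
    rw [this, cxB.eq, mul_inv_cancel_right]
    rfl
  rw [hZ] at E1
  have E5 : cm x A₁ * A2 * (B₁ * Bt) = A2 * B2 := by
    rw [← E1, ← hAA]
    have := (cTL (t * w) (sg K a * sg K b * 1 ^ 2 * w)).eq
    calc cm x A₁ * (A₁ * At) * (B₁ * Bt) = cm x A₁ * A₁ * (At * B₁) * Bt := by
          simp only [mul_assoc]
      _ = cm x A₁ * A₁ * (B₁ * At) * Bt := by rw [← hAt, ← hB₁] at this; rw [this]
      _ = _ := by simp only [mul_assoc]
  have E6 : cm x A₁ = A2 * (B2 * (B₁ * Bt)⁻¹) * A2⁻¹ := by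
    rw [← mul_assoc, ← E5]
    group
  have hBdiff : B2 * (B₁ * Bt)⁻¹ = L' a (2 * (sg K a * sg K b) * t * w) := by
    rw [hBB, ← negL' R π h3 C HS HL, hB2, addL' R π h3 C HS HL]
    congr 1
    ring
  rw [E6, hBdiff]
  have := (cTL ((t + 1) * w) (2 * (sg K a * sg K b) * t * w)).eq
  rw [← hA2] at this
  rw [this, mul_inv_cancel_right]

theorem r5' (a b : I ⊕ I) (hab : a ≠ b) (hab' : a ≠ ng b) (t u : K) :
    T' a b t * T' b (ng a) u * (T' a b t)⁻¹ * (T' b (ng a) u)⁻¹ = L' a (2 * t * u) := by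
  have hss : (sg K a * sg K b) * (sg K a * sg K b) = 1 := by
    have h1 := sg_mul_self (K := K) a
    have h2 := sg_mul_self (K := K) b
    linear_combination (sg K b * sg K b) * h1 + h2
  have e1 : T' b (ng a) u = T' a (ng b) (sg K a * sg K b * u) := by
    rw [symT_ng'' R π h3 C HS a b hab hab']
    congr 1
    linear_combination (-u) * hss
  have e2 := polar R π h3 C HS HL a b hab hab' t (sg K a * sg K b * u)
  rw [← e1] at e2
  have e3 : 2 * (sg K a * sg K b) * t * (sg K a * sg K b * u) = 2 * t * u := by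
    linear_combination (2 * t * u) * hss
  rw [e3] at e2
  exact e2

end

/-- Piece REL: the canonical lifts satisfy the Steinberg relations of type `C`. -/
theorem spRel_of_lifts (R : SpRel T L) (π : E →* Γ) (hc : π.ker ≤ Subgroup.center E)
    (hs : Function.Surjective π) (h3 : 3 ≤ Fintype.card I) (C : CLift T L π)
    {T' : I ⊕ I → I ⊕ I → K → E} {L' : I ⊕ I → K → E} (HS : ShortLift T π T')
    (HL : LongLift T L π T' L') : SpRel T' L' where
  addT := addT' R π h3 C HS
  addL := addL' R π h3 C HS HL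
  symT := symT'' R π h3 C HS
  commTT := fun a b c d hab hab' hcd hcd' hcb hca hda hdb t u =>
    C.tt a b c d hab hab' hcd hcd' hcb hca hda hdb t u _ _ (HS.map a b hab hab' t)
      (HS.map c d hcd hcd' u)
  commTL := fun a b c hab hab' hcb hca t u =>
    C.tl a b c hab hab' hcb hca t u _ _ (HS.map a b hab hab' t) (HL.map c u)
  commLL := fun a c hca t u => C.ll a c hca t u _ _ (HL.map a t) (HL.map c u)
  r3 := fun a b c hab hab' hbc hbc' hac hac' t u =>
    HS.eq a b c hab hab' hbc hbc' hac hac' t u _ _ (HS.map a b hab hab' t) (HS.map b c hbc hbc' u)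
  r4 := fun a b hab hab' t u =>
    HL.eq a b hab hab' t u _ _ (HS.map a b hab hab' t) (HL.map b u)
  r5 := r5' R π h3 C HS HL

end Cfsg.Agent.Helper27.SpExtREL
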