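import Mathlib
import Cfsg.Prelude
import Cfsg.Agent.Lib.Helper13.SuBN2
import Cfsg.Agent.Lib.Helper11.UnitaryGen2
import Cfsg.Agent.Lib.Helper27.SuTransport

/-! PIECE GENC of S2546: generation by transvections, transported to the Witt basis. -/

set_option autoImplicit false

namespace Cfsg.Agent.Helper27.SuTp

open Matrix Cfsg.Agent.Helper13.SuBN

variable {n : ℕ} {F : Type*} [Field F] {φ : F →+* F}

theorem Kmat_mulVec (z : Fin n → F) (a : Fin n) : (Kmat n F *ᵥ z) a = z (Fin.rev a) := by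
  rw [Matrix.mulVec, dotProduct, Finset.sum_eq_single (Fin.rev a)]
  · rw [Kmat_apply, if_pos rfl, one_mul]
  · intro b _ hb
    rw [Kmat_apply, if_neg hb, zero_mul]
  · intro h; exact absurd (Finset.mem_univ _) h

/-- the Witt form is the standard hermitian form in the basis `P` -/
theorem hdot_wittBasis (P : Matrix (Fin n) (Fin n) F) (hPK : Pᵀ * P.map φ = Kmat n F)
    (x y : Fin n → F) :
    Cfsg.Agent.Helper11.Herm.hdot φ (P *ᵥ x) (P *ᵥ y) = ∑ a, x a * φ (y (Fin.rev a)) := by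
  rw [Cfsg.Agent.Helper11.Herm.hdot_mulVec, hPK, dotProduct]
  apply Finset.sum_congr rfl
  intro a _
  rw [Kmat_mulVec]
  rfl

/-- elements of `WSU` preserve the Witt form -/
theorem witt_form_mulVec (P : Matrix (Fin n) (Fin n) F) (hP : IsUnit P.det)
    (hPK : Pᵀ * P.map φ = Kmat n F) (h : WSU n φ) (x y : Fin n → F) :
    ∑ a, (mt h *ᵥ x) a * φ ((mt h *ᵥ y) (Fin.rev a)) = ∑ a, x a * φ (y (Fin.rev a)) := by
  have hU := isU_conj φ P (mt h) hP hPK h.2.1
  have h1 : P⁻¹ * P = 1 := Matrix.nonsing_inv_mul P hP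
  have e : ∀ z : Fin n → F, (P * mt h * P⁻¹) *ᵥ (P *ᵥ z) = P *ᵥ (mt h *ᵥ z) := by
    intro z
    rw [Matrix.mulVec_mulVec, Matrix.mulVec_mulVec, Matrix.mul_assoc (P * mt h), h1,
      Matrix.mul_one]
  rw [← hdot_wittBasis P hPK, ← hdot_wittBasis P hPK, ← e, ← e, hU.hdot_mulVec]

theorem witt_form_smul_ev (z : Fin n → F) (lam : F) (b : Fin n) :
    ∑ a, z a * φ ((lam • (ev b : Fin n → F)) (Fin.rev a)) = z (Fin.rev b) * φ lam := by
  rw [Finset.sum_eq_single (Fin.rev b)]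
  · rw [Fin.rev_rev, Pi.smul_apply, ev_self, smul_eq_mul, mul_one]
  · intro a _ ha
    have hne : b ≠ Fin.rev a := by
      intro e
      apply ha
      rw [e, Fin.rev_rev]
    rw [Pi.smul_apply, ev_ne hne, smul_zero, map_zero, mul_zero]
  · intro h; exact absurd (Finset.mem_univ _) h

end Cfsg.Agent.Helper27.SuTp

namespace Cfsg.Agent.Helper13.SuP

open Matrix Cfsg.Agent.Helper13.SuBN Cfsg.Agent.Helper27.SuTp Cfsg.Agent.Helper11.Herm

variable {n : ℕ} {F : Type*} [Field F] {φ : F →+* F}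

/-! PIECE GENC: generation by transvections, transported to the Witt basis
(`[Finite F]` is needed by `mem_TM_of_isU_of_det`) -/
theorem sup_eq_top_of_witt_basis [Finite F] (hφφ : ∀ x, φ (φ x) = x) (hφ1 : φ ≠ RingHom.id F)
    (hN1 : ∀ c : F, c ≠ 0 → φ c = c → ∃ l : F, l ≠ 0 ∧ l * φ l = c) (hn : 4 ≤ n)
    (P : Matrix (Fin n) (Fin n) F) (hP : IsUnit P.det) (hPK : Pᵀ * P.map φ = Kmat n F)
    (htrans : ∀ v : Fin n → F, v ≠ 0 → ∑ a, v a * φ (v (Fin.rev a)) = 0 →
      ∃ h ∈ bor n φ ⊔ mon n φ, ∃ c : F, mt h *ᵥ v = c • (ev ⟨0, by omega⟩ : Fin n → F)) :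
    bor n φ ⊔ mon n φ = ⊤ := by
  rw [eq_top_iff]
  intro g _
  have hPQ : P * P⁻¹ = 1 := Matrix.mul_nonsing_inv P hP
  have hQP : P⁻¹ * P = 1 := Matrix.nonsing_inv_mul P hP
  have hU : IsU φ (P * mt g * P⁻¹) := isU_conj φ P (mt g) hP hPK g.2.1
  have hdet : (P * mt g * P⁻¹).det = 1 := by
    rw [Matrix.det_conj ((Matrix.isUnit_iff_isUnit_det _).2 hP), mt_det]
  have hTM := mem_TM_of_isU_of_det φ hφ1 hφφ hN1
    (Or.inl (by rw [Fintype.card_fin]; exact hn)) (⟨0, by omega⟩ : Fin n) _ hU hdet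
  have hz : (⟨0, by omega⟩ : Fin n) ≠ Fin.rev ⟨0, by omega⟩ := by
    intro e
    have := congrArg Fin.val e
    rw [Fin.val_rev] at this
    simp only at this
    omega
  have hzlt : (⟨0, by omega⟩ : Fin n) < Fin.rev ⟨0, by omega⟩ := by
    rw [Fin.lt_def, Fin.val_rev]
    simp only
    omega
  have key : ∀ M ∈ TM φ, ∃ g' ∈ bor n φ ⊔ mon n φ, mt g' = P⁻¹ * M * P := by
    intro M hM
    induction hM using Submonoid.closure_induction with
    | mem M hM =>
      obtain ⟨v, c, hv, hc, rfl⟩ := hM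
      have hPw : P *ᵥ (P⁻¹ *ᵥ v) = v := by
        rw [Matrix.mulVec_mulVec, hPQ, Matrix.one_mulVec]
      by_cases hw0 : P⁻¹ *ᵥ v = 0
      · have hv0 : v = 0 := by rw [← hPw, hw0, Matrix.mulVec_zero]
        refine ⟨1, Subgroup.one_mem _, ?_⟩
        have h1 : tv φ v c = 1 := by
          rw [Matrix.ext_iff_mulVec]
          intro x
          rw [tv_mulVec, hv0, smul_zero, add_zero, Matrix.one_mulVec]
        rw [h1, mt_one, Matrix.mul_one, hQP]
      · have hiso : ∑ a, (P⁻¹ *ᵥ v) a * φ ((P⁻¹ *ᵥ v) (Fin.rev a)) = 0 := by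
          rw [← hdot_wittBasis P hPK, hPw, hv]
        obtain ⟨h, hh, lam, hlam⟩ := htrans _ hw0 hiso
        have htr : c * lam * φ lam + φ (c * lam * φ lam) = 0 := by
          rw [map_mul, map_mul, hφφ]
          linear_combination (lam * φ lam) * hc
        have hL : Lm φ (⟨0, by omega⟩ : Fin n) (c * lam * φ lam) ∈ bor n φ ⊔ mon n φ :=
          Subgroup.mem_sup_left (Lm_mem_bor hz hzlt htr)
        refine ⟨h⁻¹ * Lm φ (⟨0, by omega⟩ : Fin n) (c * lam * φ lam) * h,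
          Subgroup.mul_mem _ (Subgroup.mul_mem _ (Subgroup.inv_mem _ hh) hL) hh, ?_⟩
        have hkey : mt h * (P⁻¹ * tv φ v c * P) =
            mt (Lm φ (⟨0, by omega⟩ : Fin n) (c * lam * φ lam)) * mt h := by
          rw [Matrix.ext_iff_mulVec]
          intro x
          have hd : hdot φ (P *ᵥ x) v =
              (mt h *ᵥ x) (Fin.rev ⟨0, by omega⟩) * φ lam := by
            calc hdot φ (P *ᵥ x) v = hdot φ (P *ᵥ x) (P *ᵥ (P⁻¹ *ᵥ v)) := by rw [hPw]
              _ = ∑ a, x a * φ ((P⁻¹ *ᵥ v) (Fin.rev a)) := hdot_wittBasis P hPK x _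
              _ = ∑ a, (mt h *ᵥ x) a * φ ((mt h *ᵥ (P⁻¹ *ᵥ v)) (Fin.rev a)) :=
                (witt_form_mulVec P hP hPK h x _).symm
              _ = (mt h *ᵥ x) (Fin.rev ⟨0, by omega⟩) * φ lam := by
                rw [hlam]
                exact witt_form_smul_ev _ lam _
          simp only [← Matrix.mulVec_mulVec]
          rw [tv_mulVec, Matrix.mulVec_add, Matrix.mulVec_smul, Matrix.mulVec_add,
            Matrix.mulVec_smul, hlam, Lm_mulVec hz htr, hd, Matrix.mulVec_mulVec _ P⁻¹ P, hQP,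
            Matrix.one_mulVec, smul_smul]
          congr 2
          ring
        rw [mt_mul, mt_mul, Matrix.mul_assoc, ← hkey, ← Matrix.mul_assoc, mt_inv_mul,
          Matrix.one_mul]
    | one => exact ⟨1, Subgroup.one_mem _, by rw [mt_one, Matrix.mul_one, hQP]⟩
    | mul M N _ _ hM hN =>
      obtain ⟨g1, hg1, e1⟩ := hM
      obtain ⟨g2, hg2, e2⟩ := hN
      refine ⟨g1 * g2, Subgroup.mul_mem _ hg1 hg2, ?_⟩
      rw [mt_mul, e1, e2]
      calc P⁻¹ * M * P * (P⁻¹ * N * P) = P⁻¹ * M * (P * P⁻¹) * N * P := by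
            simp only [Matrix.mul_assoc]
        _ = P⁻¹ * (M * N) * P := by
            rw [hPQ, Matrix.mul_one]
            simp only [Matrix.mul_assoc]
  obtain ⟨g', hg', e⟩ := key _ hTM
  have hgg : g' = g := by
    apply mt_injective
    rw [e]
    calc P⁻¹ * (P * mt g * P⁻¹) * P = (P⁻¹ * P) * mt g * (P⁻¹ * P) := by
          simp only [Matrix.mul_assoc]
      _ = mt g := by rw [hQP, Matrix.one_mul, Matrix.mul_one]
  rw [← hgg]
  exact hg'

end Cfsg.Agent.Helper13.SuP
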