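import Mathlib
import Cfsg.Agent.Lib.Helper27.SyDefs

/-! # S1774 piece SY-C : `[Qa, D] ≤ E = C_{Qa}(z)` -/

set_option autoImplicit false

namespace Cfsg.Agent.Helper27.Sy

variable {G : Type*} [Group G] {z a x0 : G} {Q Qa : Subgroup G}

theorem syc_twist_cases (h : Cfg2 z a Q Qa x0) {w : G} (hw : w ∈ Qa)
    (hcase : z * w * z⁻¹ = w ∨ z * w * z⁻¹ = a * w) : z * w = w * z := by
  rcases hcase with h1 | h1
  · exact mul_inv_eq_iff_eq_mul.mp h1
  · exact absurd h1 (h.noTwist w hw)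

theorem Cfg2.cy_comm (h : Cfg2 z a Q Qa x0) {y : G} (hy : y ∈ Qa) :
    z * (y⁻¹ * (z * y * z⁻¹)) = (y⁻¹ * (z * y * z⁻¹)) * z := by
  have hzz := h.S.zz
  have hzi : z⁻¹ = z := inv_eq_of_mul_eq_one_left hzz
  have haz : a * z = z * a := h.S.cen a h.aQ
  have hai : a⁻¹ = a := inv_eq_of_mul_eq_one_left h.Sa.zz
  have hzy : z * y * z⁻¹ ∈ Qa := h.Sa.nrm z haz.symm y hy
  set c := y⁻¹ * (z * y * z⁻¹) with hc
  have hcQ : c ∈ Qa := Qa.mul_mem (Qa.inv_mem hy) hzy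
  have hcz : z * c * z⁻¹ = c⁻¹ := by
    rw [hc]
    have e1 : z * (y⁻¹ * (z * y * z⁻¹)) * z⁻¹ = (z * y⁻¹ * z⁻¹) * ((z * z) * y * (z * z)⁻¹) := by
      group
    rw [e1, hzz]
    group
  apply syc_twist_cases h hcQ
  rcases h.Sa.sq c hcQ with h1 | h1
  · left
    rw [hcz]
    exact inv_eq_of_mul_eq_one_left h1
  · right
    rw [hcz]
    -- c⁻¹ = a * c since c * c = a
    have : c⁻¹ = a⁻¹ * c := by
      rw [← h1]; group
    rw [this, hai]

theorem Cfg2.D1 (h : Cfg2 z a Q Qa x0) {y d : G} (hy : y ∈ Qa) (hd : d ∈ Q)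
    (hda : d * a = a * d) :
    z * (y⁻¹ * (d * y * d⁻¹)) = (y⁻¹ * (d * y * d⁻¹)) * z := by
  have hzz := h.S.zz
  have haa := h.Sa.zz
  have hai : a⁻¹ = a := inv_eq_of_mul_eq_one_left haa
  have haz : a * z = z * a := h.S.cen a h.aQ
  have hdz : d * z = z * d := h.S.cen d hd
  have hzy : z * y * z⁻¹ ∈ Qa := h.Sa.nrm z haz.symm y hy
  have hyd : d * y * d⁻¹ ∈ Qa := h.Sa.nrm d hda y hy
  set c := y⁻¹ * (z * y * z⁻¹) with hc
  have hcQ : c ∈ Qa := Qa.mul_mem (Qa.inv_mem hy) hzy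
  have hcz : c * z = z * c := (h.cy_comm hy).symm
  set w := y⁻¹ * (d * y * d⁻¹) with hw
  have hwQ : w ∈ Qa := Qa.mul_mem (Qa.inv_mem hy) hyd
  have hac : ∀ x ∈ Qa, x * a = a * x := h.Sa.cen
  -- z * y * z⁻¹ = y * c
  have e1 : z * y * z⁻¹ = y * c := by rw [hc]; group
  -- z * (d y d⁻¹) * z⁻¹ = d * (z y z⁻¹) * d⁻¹
  have hdz' : z * d = d * z := hdz.symm
  have hdzi : z⁻¹ * d⁻¹ = d⁻¹ * z⁻¹ := by
    rw [← mul_inv_rev, ← mul_inv_rev, hdz]
  have e2 : z * (d * y * d⁻¹) * z⁻¹ = d * (z * y * z⁻¹) * d⁻¹ := by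
    calc z * (d * y * d⁻¹) * z⁻¹ = (z * d) * y * (d⁻¹ * z⁻¹) := by group
      _ = (d * z) * y * (z⁻¹ * d⁻¹) := by rw [hdz', hdzi]
      _ = d * (z * y * z⁻¹) * d⁻¹ := by group
  -- z * w * z⁻¹ = c⁻¹ * w * (d * c * d⁻¹)
  have e3 : z * w * z⁻¹ = c⁻¹ * w * (d * c * d⁻¹) := by
    calc z * w * z⁻¹ = (z * y * z⁻¹)⁻¹ * (z * (d * y * d⁻¹) * z⁻¹) := by rw [hw]; group
      _ = (y * c)⁻¹ * (d * (y * c) * d⁻¹) := by rw [e2, e1]
      _ = c⁻¹ * w * (d * c * d⁻¹) := by rw [hw]; group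
  apply syc_twist_cases h hwQ
  have hcomm := h.Sa.comm w hwQ c hcQ
  rcases h.commDE d hd hda c hcQ hcz with h1 | h1
  · have h2 : d * c * d⁻¹ = c := by
      have := mul_inv_eq_one.mp h1
      exact this
    rw [e3, h2]
    rcases hcomm with h3 | h3
    · left
      rw [mul_assoc, h3]; group
    · right
      rw [mul_assoc, h3]
      have := hac c hcQ
      calc c⁻¹ * (a * (c * w)) = c⁻¹ * ((a * c) * w) := by group
        _ = c⁻¹ * ((c * a) * w) := by rw [this]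
        _ = a * w := by group
  · have h2 : d * c * d⁻¹ = a * c := by
      have := mul_inv_eq_iff_eq_mul.mp h1
      exact this
    rw [e3, h2]
    have hcw : c⁻¹ * w ∈ Qa := Qa.mul_mem (Qa.inv_mem hcQ) hwQ
    have h4 : c⁻¹ * w * (a * c) = a * (c⁻¹ * (w * c)) := by
      calc c⁻¹ * w * (a * c) = ((c⁻¹ * w) * a) * c := by group
        _ = (a * (c⁻¹ * w)) * c := by rw [hac _ hcw]
        _ = a * (c⁻¹ * (w * c)) := by group
    rw [h4]
    rcases hcomm with h3 | h3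
    · right
      rw [h3]; group
    · left
      rw [h3]
      have := hac c hcQ
      calc a * (c⁻¹ * (a * (c * w))) = a * (c⁻¹ * ((a * c) * w)) := by group
        _ = a * (c⁻¹ * ((c * a) * w)) := by rw [this]
        _ = (a * a) * w := by group
        _ = w := by rw [haa, one_mul]

theorem Cfg2.toCfg3 (h : Cfg2 z a Q Qa x0) : Cfg3 z a Q Qa x0 :=
  { h with D1 := fun _ hy _ hd hda => h.D1 hy hd hda }

end Cfsg.Agent.Helper27.Sy
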