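import Mathlib
import Cfsg.Agent.Lib.Helper27.SyDefs

/-! # S1774 piece SY-E : `D = {1, z, a, za}`, `E ≤ ⟨a⟩`, contradiction -/

set_option autoImplicit false

namespace Cfsg.Agent.Helper27.Sy

variable {G : Type*} [Group G] {z a x0 : G} {Q Qa : Subgroup G}

theorem Cfg4.D_eq (h : Cfg4 z a Q Qa x0) {d : G} (hd : d ∈ Q) (hda : d * a = a * d) :
    d = 1 ∨ d = z ∨ d = a ∨ d = z * a := by
  apply h.invD d hd
  · intro d' hd' hd'a
    rcases h.S.comm d hd d' hd' with h1 | h1
    · exact h1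
    · exfalso
      apply h.notComm d hd hda d' hd' hd'a
      rw [h1]; group
  · rcases h.S.sq d hd with h1 | h1
    · exact h1
    · exact absurd h1 (h.notSq d hd hda)

/-- an element commuting with `z` and `a` commutes with `D`. -/
theorem sye_comm_D (h : Cfg4 z a Q Qa x0) {e : G} (hez : e * z = z * e) (hea : e * a = a * e)
    {d : G} (hd : d ∈ Q) (hda : d * a = a * d) : e * d = d * e := by
  rcases h.D_eq hd hda with h1 | h1 | h1 | h1
  · rw [h1, mul_one, one_mul]
  · rw [h1, hez]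
  · rw [h1, hea]
  · rw [h1, ← mul_assoc, hez, mul_assoc, hea, mul_assoc]

/-- an element of `Qa` commuting with `z` and `x0` lies in `{1, a}`. -/
theorem sye_of_comm_x0 (h : Cfg4 z a Q Qa x0) {e : G} (he : e ∈ Qa) (hez : e * z = z * e)
    (hex : e * x0 = x0 * e) : e = 1 ∨ e = a := by
  have hea : e * a = a * e := h.Sa.cen e he
  apply h.inter e _ he
  apply h.S.self e hez
  intro x hx
  rcases h.coset x hx with h1 | h1
  · exact sye_comm_D h hez hea hx h1
  · have hx' : x0⁻¹ * x ∈ Q := Q.mul_mem (Q.inv_mem h.x0Q) hx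
    have h2 := sye_comm_D h hez hea hx' h1
    calc e * x = (e * x0) * (x0⁻¹ * x) := by group
      _ = x0 * (e * (x0⁻¹ * x)) := by rw [hex]; group
      _ = x0 * ((x0⁻¹ * x) * e) := by rw [h2]
      _ = x * e := by group

theorem Cfg4.E_le (h : Cfg4 z a Q Qa x0) {e : G} (he : e ∈ Qa) (hez : e * z = z * e) :
    e = 1 ∨ e = a := by
  have hzz := h.S.zz
  have haa := h.Sa.zz
  have hz1 := h.S.z1
  have hzi : z⁻¹ = z := inv_eq_of_mul_eq_one_left hzz
  have hai : a⁻¹ = a := inv_eq_of_mul_eq_one_left haa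
  have haz : a * z = z * a := h.S.cen a h.aQ
  have hea : e * a = a * e := h.Sa.cen e he
  have hx0Q := h.x0Q
  have hx0z : x0 * z = z * x0 := h.S.cen x0 hx0Q
  have hx0a := h.x0a
  -- a * x0 = z * x0 * a
  have hax0 : a * x0 = z * (x0 * a) := by
    have h1 : x0 * a = z * a * x0 := by
      rw [← hx0a]; group
    rw [h1]
    calc a * x0 = (z * z) * (a * x0) := by rw [hzz, one_mul]
      _ = z * (z * a * x0) := by group
  have hexQ : e * x0 * e⁻¹ ∈ Q := h.S.nrm e hez x0 hx0Q
  set c := x0⁻¹ * (e * x0 * e⁻¹) with hc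
  have hcQ : c ∈ Q := Q.mul_mem (Q.inv_mem hx0Q) hexQ
  have hx0c : x0 * c = e * x0 * e⁻¹ := by rw [hc]; group
  -- c commutes with a
  have f2 : x0⁻¹ * (z * a) * x0 = a := by rw [← hx0a]; group
  have f3 : e * (z * a) * e⁻¹ = z * a := by
    rw [mul_inv_eq_iff_eq_mul, ← mul_assoc, hez, mul_assoc, hea, mul_assoc]
  have f4 : e⁻¹ * a * e = a := by
    calc e⁻¹ * a * e = e⁻¹ * (a * e) := by group
      _ = e⁻¹ * (e * a) := by rw [hea]
      _ = a := by group
  have hca : c * a = a * c := by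
    have h1 : c * a * c⁻¹ = x0⁻¹ * (e * (x0 * (e⁻¹ * a * e) * x0⁻¹) * e⁻¹) * x0 := by
      rw [hc]; group
    rw [f4, hx0a, f3, f2] at h1
    exact mul_inv_eq_iff_eq_mul.mp h1
  -- the square condition
  have hsq : (x0 * c) * (x0 * c) = x0 * x0 := by
    rw [hx0c]
    have h1 : e * x0 * e⁻¹ * (e * x0 * e⁻¹) = e * (x0 * x0) * e⁻¹ := by group
    rw [h1]
    rcases h.S.sq x0 hx0Q with h2 | h2
    · rw [h2]; group
    · rw [h2, mul_inv_eq_iff_eq_mul, hez]
  -- (x0 * a) * (x0 * a) = z * (x0 * x0)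
  have hsqa : (x0 * a) * (x0 * a) = z * (x0 * x0) := by
    calc (x0 * a) * (x0 * a) = x0 * (a * x0) * a := by group
      _ = x0 * (z * (x0 * a)) * a := by rw [hax0]
      _ = (x0 * z) * x0 * (a * a) := by group
      _ = z * (x0 * x0) := by rw [hx0z, haa]; group
  rcases h.D_eq hcQ hca with h1 | h1 | h1 | h1
  · -- c = 1 : e commutes with x0
    rw [h1, mul_one] at hx0c
    have hex : e * x0 = x0 * e := (mul_inv_eq_iff_eq_mul.mp hx0c.symm)
    exact sye_of_comm_x0 h he hez hex
  · -- c = z : e * a commutes with x0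
    rw [h1] at hx0c
    have hex : e * x0 = x0 * z * e := (mul_inv_eq_iff_eq_mul.mp hx0c.symm)
    have hea' : e * a ∈ Qa := Qa.mul_mem he h.Sa.zQ
    have hez' : (e * a) * z = z * (e * a) := by
      rw [mul_assoc, haz, ← mul_assoc, hez, mul_assoc]
    have hex' : (e * a) * x0 = x0 * (e * a) := by
      calc (e * a) * x0 = e * (a * x0) := by group
        _ = e * (z * (x0 * a)) := by rw [hax0]
        _ = (e * z) * x0 * a := by group
        _ = z * (e * x0) * a := by rw [hez]; group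
        _ = z * (x0 * z * e) * a := by rw [hex]
        _ = (z * x0) * z * e * a := by group
        _ = (x0 * z) * z * e * a := by rw [hx0z]
        _ = x0 * (z * z) * (e * a) := by group
        _ = x0 * (e * a) := by rw [hzz, mul_one]
    rcases sye_of_comm_x0 h hea' hez' hex' with h2 | h2
    · right
      have : e = a⁻¹ := eq_inv_of_mul_eq_one_left h2
      rw [this, hai]
    · left
      exact mul_eq_right.mp h2
  · -- c = a : impossible
    exfalso
    rw [h1, hsqa] at hsq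
    exact hz1 (mul_eq_right.mp hsq)
  · -- c = z * a : impossible
    exfalso
    rw [h1] at hsq
    have h2 : x0 * (z * a) * (x0 * (z * a)) = (x0 * z) * a * ((x0 * z) * a) := by group
    rw [h2, hx0z] at hsq
    have h3 : z * x0 * a * (z * x0 * a) = z * ((x0 * a) * z) * (x0 * a) := by group
    have hxaQ : x0 * a ∈ Q := Q.mul_mem hx0Q h.aQ
    rw [h3, h.S.cen _ hxaQ] at hsq
    have h4 : z * (z * (x0 * a)) * (x0 * a) = (z * z) * ((x0 * a) * (x0 * a)) := by group
    rw [h4, hzz, one_mul, hsqa] at hsq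
    exact hz1 (mul_eq_right.mp hsq)

theorem Cfg4.false (h : Cfg4 z a Q Qa x0)
    (hfp : ∃ y ∈ Qa, y ≠ 1 ∧ y ≠ a ∧ (z * y * z⁻¹ = y ∨ z * y * z⁻¹ = a * y)) : False := by
  obtain ⟨y, hy, hy1, hya, hcase⟩ := hfp
  rcases hcase with h1 | h1
  · have hyz : y * z = z * y := (mul_inv_eq_iff_eq_mul.mp h1).symm
    rcases h.E_le hy hyz with h2 | h2
    · exact hy1 h2
    · exact hya h2
  · exact h.noTwist y hy h1

end Cfsg.Agent.Helper27.Sy
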