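import Mathlib
import Cfsg.Prelude.Def_ClassificationK
import Cfsg.Agent.Lib.Helper27.SyDefs
import Cfsg.Agent.Lib.Helper7.FStar

/-! # S1774 piece SY-FSTAR : from the hypotheses of S1774 to `Side` -/

set_option autoImplicit false

namespace Cfsg.Agent.Helper27.Sy

open Subgroup

variable {G : Type*} [Group G] [Finite G]

theorem syfstar_zz {z : G} (hz : orderOf z = 2) : z * z = 1 := by
  have := pow_orderOf_eq_one z
  rwa [hz, pow_two] at this

theorem syfstar_z1 {z : G} (hz : orderOf z = 2) : z ≠ 1 := by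
  intro h
  rw [h, orderOf_one] at hz
  omega

/-- `z` as an element of `F*(C_G(z))`. -/
theorem syfstar_zF (z : G) :
    ∃ hzC : z ∈ Subgroup.centralizer ({z} : Set G),
      (⟨z, hzC⟩ : ↥(Subgroup.centralizer ({z} : Set G))) ∈
        Cfsg.generalizedFittingSubgroup ↥(Subgroup.centralizer ({z} : Set G)) := by
  have hzC : z ∈ Subgroup.centralizer ({z} : Set G) := mem_centralizer_singleton_iff.mpr rfl
  refine ⟨hzC, ?_⟩
  apply Cfsg.Agent.Helper7.centralizer_generalizedFittingSubgroup_le
  rw [mem_centralizer_iff]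
  intro h _
  apply Subtype.ext
  exact mem_centralizer_singleton_iff.mp h.2

/-- `F*(C_G(z))` is not abelian when it contains a conjugate `≠ z` of `z`. -/
theorem fstar_nonab (z : G) (hz : orderOf z = 2)
    (hQ : Cfsg.IsOfSymplecticType ↥(Cfsg.generalizedFittingSubgroup ↥(Subgroup.centralizer ({z} : Set G))))
    (g : G) (hne : g * z * g⁻¹ ≠ z)
    (hin : g * z * g⁻¹ ∈ (Cfsg.generalizedFittingSubgroup ↥(Subgroup.centralizer ({z} : Set G))).map
      (Subgroup.centralizer ({z} : Set G)).subtype) :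
    ∃ x y : ↥(Cfsg.generalizedFittingSubgroup ↥(Subgroup.centralizer ({z} : Set G))), x * y ≠ y * x := by
  classical
  by_contra hcon
  push_neg at hcon
  set C := Subgroup.centralizer ({z} : Set G) with hCdef
  set F := Cfsg.generalizedFittingSubgroup ↥C with hFdef
  have hzz := syfstar_zz hz
  have hz1 := syfstar_z1 hz
  obtain ⟨hzC, hzF⟩ := syfstar_zF z
  obtain ⟨c, hcF, hca⟩ := hin
  set zF : ↥F := ⟨⟨z, hzC⟩, hzF⟩ with hzFdef
  set aF : ↥F := ⟨c, hcF⟩ with haFdef
  have hval : ∀ u v : ↥F, ((u : ↥C) : G) = ((v : ↥C) : G) → u = v := fun u v h =>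
    Subtype.ext (Subtype.ext h)
  have hcaG : (c : G) = g * z * g⁻¹ := hca
  have hzFsq : zF ^ 2 = 1 := by
    apply hval
    simp only [hzFdef, pow_two]
    exact hzz
  have haFsq : aF ^ 2 = 1 := by
    apply hval
    simp only [haFdef, pow_two]
    show (c : G) * (c : G) = 1
    rw [hcaG]
    calc g * z * g⁻¹ * (g * z * g⁻¹) = g * (z * z) * g⁻¹ := by group
      _ = 1 := by rw [hzz]; group
  have hzF1 : zF ≠ 1 := by
    intro h
    apply hz1
    have := congrArg (fun u : ↥F => ((u : ↥C) : G)) h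
    exact this
  have haF1 : aF ≠ 1 := by
    intro h
    apply hz1
    have h2 : (c : G) = 1 := by
      have := congrArg (fun u : ↥F => ((u : ↥C) : G)) h
      exact this
    rw [hcaG] at h2
    have := congrArg (fun t => g⁻¹ * t * g) h2
    simpa [mul_assoc] using this
  have haz : aF ≠ zF := by
    intro h
    apply hne
    have h2 : (c : G) = z := by
      have := congrArg (fun u : ↥F => ((u : ↥C) : G)) h
      exact this
    rw [← hcaG, h2]
  -- `F` is cyclic
  have hcomT : IsMulCommutative ↥(⊤ : Subgroup ↥F) :=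
    ⟨⟨fun a b => Subtype.ext (hcon a.1 b.1)⟩⟩
  have hcycT : IsCyclic ↥(⊤ : Subgroup ↥F) := hQ.2 ⊤ inferInstance hcomT
  haveI hcyc : IsCyclic ↥F :=
    isCyclic_of_surjective (Subgroup.topEquiv : ↥(⊤ : Subgroup ↥F) ≃* ↥F)
      (Subgroup.topEquiv : ↥(⊤ : Subgroup ↥F) ≃* ↥F).surjective
  haveI : Fintype ↥F := Fintype.ofFinite _
  have hle := IsCyclic.card_pow_eq_one_le (α := ↥F) (n := 2) (by norm_num)
  have hsub : ({1, zF, aF} : Finset ↥F) ⊆ Finset.univ.filter (fun a : ↥F => a ^ 2 = 1) := by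
    intro x hx
    simp only [Finset.mem_insert, Finset.mem_singleton] at hx
    simp only [Finset.mem_filter, Finset.mem_univ, true_and]
    rcases hx with rfl | rfl | rfl
    · exact one_pow 2
    · exact hzFsq
    · exact haFsq
  have h3 : ({1, zF, aF} : Finset ↥F).card = 3 := by
    rw [Finset.card_eq_three]
    exact ⟨1, zF, aF, fun h => hzF1 h.symm, fun h => haF1 h.symm, fun h => haz h.symm, rfl⟩
  have := Finset.card_le_card hsub
  omega

theorem side_of_struct (z : G) (hz : orderOf z = 2)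
    (hst : Struct ↥(Cfsg.generalizedFittingSubgroup ↥(Subgroup.centralizer ({z} : Set G)))) :
    Side z ((Cfsg.generalizedFittingSubgroup ↥(Subgroup.centralizer ({z} : Set G))).map
      (Subgroup.centralizer ({z} : Set G)).subtype) := by
  classical
  set C := Subgroup.centralizer ({z} : Set G) with hCdef
  set F := Cfsg.generalizedFittingSubgroup ↥C with hFdef
  have hzz := syfstar_zz hz
  have hz1 := syfstar_z1 hz
  obtain ⟨hzC, hzF⟩ := syfstar_zF z
  set zF : ↥F := ⟨⟨z, hzC⟩, hzF⟩ with hzFdef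
  have hval : ∀ u v : ↥F, ((u : ↥C) : G) = ((v : ↥C) : G) → u = v := fun u v h =>
    Subtype.ext (Subtype.ext h)
  have hzFcen : ∀ x : ↥F, zF * x = x * zF := by
    intro x
    apply hval
    exact (mem_centralizer_singleton_iff.mp x.1.2).symm
  have hzFsq : zF * zF = 1 := by
    apply hval
    exact hzz
  have hzF1 : zF ≠ 1 := by
    intro h
    apply hz1
    have := congrArg (fun u : ↥F => ((u : ↥C) : G)) h
    exact this
  obtain ⟨z0, hz01, hz0z0, hz0c, hsq, hcomm, hinv⟩ := hst
  have hz0 : z0 = zF := by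
    rcases hinv zF hzFcen hzFsq with h | h
    · exact absurd h hzF1
    · exact h.symm
  rw [hz0] at hsq hcomm hinv
  haveI hFn : F.Normal := Cfsg.Agent.Helper7.generalizedFittingSubgroup_normal
  have hFcent : centralizer (F : Set ↥C) ≤ F :=
    Cfsg.Agent.Helper7.centralizer_generalizedFittingSubgroup_le
  refine
    { zz := hzz
      z1 := hz1
      zQ := ⟨⟨z, hzC⟩, hzF, rfl⟩
      cen := ?_
      sq := ?_
      comm := ?_
      inv1 := ?_
      nrm := ?_
      self := ?_ }
  · rintro _ ⟨c, -, rfl⟩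
    exact mem_centralizer_singleton_iff.mp c.2
  · rintro _ ⟨c, hc, rfl⟩
    rcases hsq ⟨c, hc⟩ with h | h
    · left
      have := congrArg (fun u : ↥F => ((u : ↥C) : G)) h
      exact this
    · right
      have := congrArg (fun u : ↥F => ((u : ↥C) : G)) h
      exact this
  · rintro _ ⟨c, hc, rfl⟩ _ ⟨d, hd, rfl⟩
    rcases hcomm ⟨c, hc⟩ ⟨d, hd⟩ with h | h
    · left
      have := congrArg (fun u : ↥F => ((u : ↥C) : G)) h
      exact this
    · right
      have := congrArg (fun u : ↥F => ((u : ↥C) : G)) h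
      exact this
  · rintro _ ⟨c, hc, rfl⟩ hcen hcc
    have h1 : ∀ x : ↥F, (⟨c, hc⟩ : ↥F) * x = x * ⟨c, hc⟩ := by
      intro x
      apply hval
      exact hcen _ ⟨x.1, x.2, rfl⟩
    have h2 : (⟨c, hc⟩ : ↥F) * ⟨c, hc⟩ = 1 := by
      apply hval
      exact hcc
    rcases hinv ⟨c, hc⟩ h1 h2 with h | h
    · left
      have := congrArg (fun u : ↥F => ((u : ↥C) : G)) h
      exact this
    · right
      have := congrArg (fun u : ↥F => ((u : ↥C) : G)) h
      exact this
  · intro c hcz
    rintro _ ⟨f, hf, rfl⟩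
    have hcC : c ∈ C := mem_centralizer_singleton_iff.mpr hcz
    have := hFn.conj_mem f hf ⟨c, hcC⟩
    exact ⟨_, this, rfl⟩
  · intro c hcz hcen
    have hcC : c ∈ C := mem_centralizer_singleton_iff.mpr hcz
    have h1 : (⟨c, hcC⟩ : ↥C) ∈ centralizer (F : Set ↥C) := by
      rw [mem_centralizer_iff]
      intro f hf
      apply Subtype.ext
      exact (hcen _ ⟨f, hf, rfl⟩).symm
    exact ⟨_, hFcent h1, rfl⟩

end Cfsg.Agent.Helper27.Sy
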