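import Mathlib
import Cfsg.Agent.Lib.Helper15.SylowGraph
import Cfsg.Agent.Lib.Helper15.StronglyEmbedded
import Cfsg.Agent.Lib.Helper7.Frattini
import Cfsg.Agent.Lib.Helper7.CoprimeGen2
import Cfsg.Agent.Lib.Helper1.SylowBasic
import Cfsg.Agent.Lib.Helper3.Thompson

set_option autoImplicit false

/-! The stabilizer of a connected component of the Sylow intersection graph behaves like a strongly
`p`-embedded subgroup. -/

namespace Cfsg.Agent.Helper27

open Cfsg.Agent.Helper15

variable {G : Type*} [Group G]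

/-- A Sylow subgroup meets a normal subgroup of order divisible by `p` in an element of order `p`. -/
theorem exists_order_p_in_sylow [Finite G] {p : ℕ} [Fact p.Prime] (S : Sylow p G)
    (N : Subgroup G) [hNn : N.Normal] (hN : p ∣ Nat.card N) :
    ∃ x ∈ (S : Subgroup G), x ∈ N ∧ orderOf x = p := by
  obtain ⟨x, hx⟩ := exists_prime_orderOf_dvd_card' p hN
  have hxo : orderOf (x : G) = p := by rw [Subgroup.orderOf_coe, hx]
  have hQp : IsPGroup p (Subgroup.zpowers (x : G)) :=
    IsPGroup.of_card (n := 1) (by rw [Nat.card_zpowers, hxo, pow_one])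
  obtain ⟨S', hS'⟩ := hQp.exists_le_sylow
  obtain ⟨g, hg⟩ := MulAction.exists_smul_eq G S' S
  refine ⟨g * x * g⁻¹, ?_, hNn.conj_mem _ x.2 g, ?_⟩
  · have : g * x * g⁻¹ ∈ g • S' := by
      rw [Helper1.mem_smul_sylow_iff]
      have : g⁻¹ * (g * (x : G) * g⁻¹) * g = x := by group
      rw [this]
      exact hS' (Subgroup.mem_zpowers _)
    rw [hg] at this
    exact this
  · rw [orderOf_conj', hxo]

/-- Membership criterion for the component stabilizer. -/
theorem mem_componentStabilizer_of_conj_le {p : ℕ} (S : Sylow p G) (Q : Subgroup G) (g : G)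
    (hQ : Q ≠ ⊥) (hQS : Q ≤ (S : Subgroup G)) (hQg : ∀ q ∈ Q, g⁻¹ * q * g ∈ (S : Subgroup G)) :
    g ∈ componentStabilizer p S := by
  rw [mem_componentStabilizer]
  by_cases heq : S = g • S
  · rw [← heq]
  · apply Relation.ReflTransGen.single
    refine ⟨heq, ?_⟩
    intro hbot
    apply hQ
    rw [eq_bot_iff, ← hbot]
    intro q hq
    refine ⟨hQS hq, ?_⟩
    show q ∈ g • S
    rw [Helper1.mem_smul_sylow_iff]
    exact hQg q hq

theorem mem_componentStabilizer_of_mem_normalizer {p : ℕ} (S : Sylow p G) (Q : Subgroup G) (g : G)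
    (hQ : Q ≠ ⊥) (hQS : Q ≤ (S : Subgroup G)) (hg : g ∈ Subgroup.normalizer (Q : Set G)) :
    g ∈ componentStabilizer p S := by
  apply mem_componentStabilizer_of_conj_le S Q g hQ hQS
  intro q hq
  have hg' : g⁻¹ ∈ Subgroup.normalizer (Q : Set G) := Subgroup.inv_mem _ hg
  have := (Subgroup.mem_normalizer_iff.mp hg' q).mp hq
  rw [inv_inv] at this
  exact hQS this

/-- A normal `p'`-subgroup lies in the component stabilizer when the Sylow subgroup contains an
elementary abelian subgroup of order greater than `p`. -/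
theorem le_componentStabilizer_of_coprime [Finite G] {p : ℕ} [Fact p.Prime] (S : Sylow p G)
    (D : Subgroup G) [D.Normal] (hD : ¬ p ∣ Nat.card D) (E : Subgroup G)
    (hE : Cfsg.IsElementaryAbelian p E) (hES : E ≤ (S : Subgroup G)) (hEcard : p < Nat.card E) :
    D ≤ componentStabilizer p S := by
  have hED : E ≤ Subgroup.normalizer (D : Set G) := by
    rw [Subgroup.normalizer_eq_top]; exact le_top
  have hgen := Helper7.le_hyperGen p E D hE hD hED
  refine hgen.trans ?_
  unfold Helper7.hyperGen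
  apply iSup_le
  rintro ⟨B, hBE, hBidx⟩
  have hBne : B ≠ ⊥ := by
    intro hB
    rw [hB, Subgroup.relIndex_bot_left] at hBidx
    exact absurd hBidx (not_le.mpr hEcard)
  obtain ⟨y, hy1⟩ := (Subgroup.ne_bot_iff_exists_ne_one).mp hBne
  intro d hd
  have hdy : (y : G) * d = d * y := (hd.2 y y.2)
  apply mem_componentStabilizer_of_conj_le S (Subgroup.zpowers (y : G)) d
  · intro h
    rw [Subgroup.zpowers_eq_bot] at h
    exact hy1 (Subtype.ext h)
  · exact (Subgroup.zpowers_le).mpr (hES (hBE y.2))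
  · intro q hq
    obtain ⟨k, rfl⟩ := Subgroup.mem_zpowers_iff.mp hq
    have hc : Commute (y : G) d := hdy
    have : d⁻¹ * (y : G) ^ k * d = (y : G) ^ k := by
      have := (hc.zpow_left k).eq
      rw [mul_assoc, this]; group
    rw [this]
    exact Subgroup.zpow_mem _ (hES (hBE y.2)) k

/-- If `Q ⊔ K` is normal with `Q ≠ 1` a subgroup of `S` and `K ≤ componentStabilizer` a `p'`-group,
then the component stabilizer is everything. -/
theorem componentStabilizer_eq_top [Finite G] {p : ℕ} [Fact p.Prime] (S : Sylow p G)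
    (K : Subgroup G) [K.Normal] (hK : (Nat.card K).Coprime p) (hKH : K ≤ componentStabilizer p S)
    (Q : Subgroup G) (hQ : Q ≠ ⊥) (hQS : Q ≤ (S : Subgroup G)) (hn : (Q ⊔ K).Normal) :
    componentStabilizer p S = ⊤ := by
  rw [eq_top_iff]
  intro g _
  have hQp : IsPGroup p Q := S.2.to_le hQS
  have hg : g ∈ Subgroup.normalizer ((Q ⊔ K : Subgroup G) : Set G) := by
    rw [Subgroup.normalizer_eq_top]; exact Subgroup.mem_top g
  obtain ⟨r, hr, hrg⟩ := Helper7.exists_mul_mem_normalizer hQp hK hg
  have h1 : r * g ∈ componentStabilizer p S :=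
    mem_componentStabilizer_of_mem_normalizer S Q _ hQ hQS hrg
  have e : g = r⁻¹ * (r * g) := by group
  rw [e]
  exact Subgroup.mul_mem _ (Subgroup.inv_mem _ (hKH hr)) h1

end Cfsg.Agent.Helper27
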