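import Mathlib
import Cfsg.Agent.Lib.Helper11.TGBase
import Cfsg.Agent.Lib.Helper11.TGDefsD4
import Cfsg.Agent.Lib.Lead.TwD4Grp
import Cfsg.Agent.Lib.Lead.TwTorus

/-!
# S2407 piece D4MEM: membership in `³D₄(q)` (helper27)
-/

set_option autoImplicit false
set_option linter.unusedSectionVars false
set_option linter.unusedVariables false

namespace Cfsg.Agent.Helper11.TG

open Cfsg Cfsg.Lie Cfsg.Agent.Lead.Chev Cfsg.Agent.Lead.Tw Cfsg.Agent.Helper11.CG

section D4

variable {K : Type*} [Field K] [Fintype K] {q : ℕ} (hq : 1 < q) (hK : Fintype.card K = q ^ 3)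
  (f : K ≃+* K) (hf : ∀ t, f t = t ^ q)

include hK hf in
theorem d4_fixed (g : GL chevD4.Idx K) (hg : g ∈ twistedD4 K q) : (D4.tw f).σ g = g := by
  rw [D4.twisted_eq hK f hf] at hg
  exact (D4.orthData f).fixed g hg

include hK hf in
theorem d4_le_group : twistedD4 K q ≤ chevD4.group K := by
  rw [D4.twisted_eq hK f hf]
  exact (D4.orthData f).le_group

theorem d4mem_rank : chevD4.rank = 4 := by decide

include hK hf in
theorem d4_h_mem (a b : K) (ha : a ≠ 0) (hb : b ≠ 0) (hbq : b ^ q = b) :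
    hD4 f a b ∈ twistedD4 K q := by
  rw [D4.twisted_eq hK f hf]
  have hm1 : ∀ i < chevD4.rank, (D4.tw f).c (chevD4.simple i) (-1) = -1 := by
    intro i hi
    rw [d4mem_rank] at hi
    rw [D4.c_simple f i hi, map_neg, map_one]
  have hp1 : ∀ i < chevD4.rank, (D4.tw f).c (chevD4.neg (chevD4.simple i)) 1 = 1 := by
    intro i hi
    rw [d4mem_rank] at hi
    rw [D4.c_neg_simple f i hi, map_one]
  have h1 := (D4.orthData f).prod_hGLt_mem hm1 hp1 [0, 2, 3] (by decide) (D4.tri a q)
    (D4.fixPos_tri hK f hf a) (by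
      intro i hi
      simp only [List.mem_cons, List.not_mem_nil, or_false] at hi
      rcases hi with rfl | rfl | rfl
      · simpa [D4.tri] using ha
      · simpa [D4.tri] using pow_ne_zero q ha
      · have e : D4.tri a q 3 = a ^ (q ^ 2) := by simp [D4.tri]
        rw [e]
        exact pow_ne_zero _ ha)
  have h2 := (D4.orthData f).prod_hGLt_mem hm1 hp1 [1] (by decide) (fun _ => b)
    (D4.fixPos_single hK f hf 1 (by norm_num) rfl b hbq) (fun _ _ => hb)
  have e0 : D4.tri a q 0 = a := by simp [D4.tri]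
  have e2 : D4.tri a q 2 = f a := by simp [D4.tri, hf]
  have e3 : D4.tri a q 3 = f (f a) := by
    rw [hf, hf, D4.frob_sq hK f hf]
    simp [D4.tri]
  simp only [List.map_cons, List.map_nil, List.prod_cons, List.prod_nil, mul_one, e0, e2, e3] at h1 h2
  unfold hD4
  have e : ((hGLt chevD4 (D4.hF (K := K)).xadd (chevD4.simple 0) a *
      hGLt chevD4 (D4.hF (K := K)).xadd (chevD4.simple 2) (f a)) *
      hGLt chevD4 (D4.hF (K := K)).xadd (chevD4.simple 3) (f (f a))) =
      hGLt chevD4 (D4.hF (K := K)).xadd (chevD4.simple 0) a *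
      (hGLt chevD4 (D4.hF (K := K)).xadd (chevD4.simple 2) (f a) *
      hGLt chevD4 (D4.hF (K := K)).xadd (chevD4.simple 3) (f (f a))) := by
    rw [mul_assoc]
  rw [e]
  exact mul_mem h1 h2

include hK hf in
theorem d4_n_mem : nWordGL chevD4 (D4.hF (K := K)).xadd wD4 ∈ twistedD4 K q := by
  rw [D4.twisted_eq hK f hf]
  have e : wD4 = [1] ++ [0, 2, 3] := rfl
  rw [e, nWordGL_append]
  exact mul_mem ((D4.orthData f).s_mem [1] (by decide)) ((D4.orthData f).s_mem [0, 2, 3] (by decide))

include hK hf in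
theorem d4_y_mem (t : K) :
    yC D4.hF (D4.tw f) 3 (xGL chevD4 (D4.hF (K := K)).xadd 18 t) ∈ twistedD4 K q := by
  rw [D4.twisted_eq hK f hf]
  have h1 := (D4.orthData f).xs_mem [0, 2, 3] (by decide) (D4.tri t q) (D4.fixPos_tri hK f hf t)
  have e0 : D4.tri t q 0 = t := by simp [D4.tri]
  have e2 : D4.tri t q 2 = f t := by simp [D4.tri, hf]
  have e3 : D4.tri t q 3 = f (f t) := by
    rw [hf, hf, D4.frob_sq hK f hf]
    simp [D4.tri]
  unfold xs at h1
  simp only [List.map_cons, List.map_nil, List.prod_cons, List.prod_nil, mul_one, e0, e2, e3] at h1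
  have s0 : chevD4.simple 0 = 18 := by decide +kernel
  have s2 : chevD4.simple 2 = 13 := by decide +kernel
  have s3 : chevD4.simple 3 = 12 := by decide +kernel
  rw [s0, s2, s3] at h1
  have r18 : (D4.tw f).ρ 18 = 13 := by
    have := (D4.tw f).ρ_simple 0 (by decide)
    rw [s0] at this
    rw [this]
    show chevD4.simple (D4.πs 0) = 13
    decide +kernel
  have r13 : (D4.tw f).ρ 13 = 12 := by
    have := (D4.tw f).ρ_simple 2 (by decide)
    rw [s2] at this
    rw [this]
    show chevD4.simple (D4.πs 2) = 12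
    decide +kernel
  have c18 : ∀ u : K, (D4.tw f).c 18 u = f u := by
    intro u
    have := D4.c_simple f 0 (by norm_num) u
    rwa [s0] at this
  have c13 : ∀ u : K, (D4.tw f).c 13 u = f u := by
    intro u
    have := D4.c_simple f 2 (by norm_num) u
    rwa [s2] at this
  rw [yC_three, (D4.tw f).map_x 18 (by decide), r18, c18, (D4.tw f).map_x 13 (by decide), r13, c13,
    mul_assoc]
  exact h1

end D4

end Cfsg.Agent.Helper11.TG
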