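import Mathlib

/-!
# S1786 / TI-ALG piece TIALG-ID (sub-lead helper5): identities in an alternative ring
`alg_assoc_swap12/swap23/swap13/rot`, `alg_assoc_R` (`(x, xy, z) = (x, y, z) x`), `alg_assoc_LR` (its linearisation).
-/

set_option autoImplicit false

namespace Cfsg.Agent.Helper26.TI

section
variable {D : Type*} [NonUnitalNonAssocRing D]

theorem tialg_id_xxy (hl : ∀ x y : D, x * (x * y) = x * x * y) (x y : D) : associator x x y = 0 := by
  rw [associator_apply]; exact sub_eq_zero.mpr (hl x y).symm

theorem tialg_id_yxx (hr : ∀ x y : D, y * x * x = y * (x * x)) (x y : D) : associator y x x = 0 := by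
  rw [associator_apply]; exact sub_eq_zero.mpr (hr x y)

theorem tialg_id_add1 (a b y z : D) : associator (a + b) y z = associator a y z + associator b y z := by
  simp only [associator_apply, add_mul]; abel

theorem tialg_id_add2 (x a b z : D) : associator x (a + b) z = associator x a z + associator x b z := by
  simp only [associator_apply, add_mul, mul_add]; abel

theorem tialg_id_add3 (x y a b : D) : associator x y (a + b) = associator x y a + associator x y b := by
  simp only [associator_apply, mul_add]; abel

end

theorem alg_assoc_swap12 {D : Type*} [NonUnitalNonAssocRing D]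
    (hl : ∀ x y : D, x * (x * y) = x * x * y) (hr : ∀ x y : D, y * x * x = y * (x * x)) (x y z : D) :
    associator x y z = - associator y x z := by
  have h := tialg_id_xxy hl (x + y) z
  rw [tialg_id_add1, tialg_id_add2, tialg_id_add2, tialg_id_xxy hl, tialg_id_xxy hl] at h
  linear_combination (norm := abel) h

theorem alg_assoc_swap23 {D : Type*} [NonUnitalNonAssocRing D]
    (hl : ∀ x y : D, x * (x * y) = x * x * y) (hr : ∀ x y : D, y * x * x = y * (x * x)) (x y z : D) :
    associator x y z = - associator x z y := by
  have h := tialg_id_yxx hr (y + z) x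
  rw [tialg_id_add2, tialg_id_add3, tialg_id_add3, tialg_id_yxx hr, tialg_id_yxx hr] at h
  linear_combination (norm := abel) h

theorem alg_assoc_rot {D : Type*} [NonUnitalNonAssocRing D]
    (hl : ∀ x y : D, x * (x * y) = x * x * y) (hr : ∀ x y : D, y * x * x = y * (x * x)) (x y z : D) :
    associator x y z = associator y z x := by
  rw [alg_assoc_swap12 hl hr x y z, alg_assoc_swap23 hl hr y x z, neg_neg]

theorem alg_assoc_swap13 {D : Type*} [NonUnitalNonAssocRing D]
    (hl : ∀ x y : D, x * (x * y) = x * x * y) (hr : ∀ x y : D, y * x * x = y * (x * x)) (x y z : D) :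
    associator x y z = - associator z y x := by
  rw [alg_assoc_rot hl hr x y z, alg_assoc_swap12 hl hr y z x]

section
variable {D : Type*} [NonUnitalNonAssocRing D]

theorem tialg_id_flex (hl : ∀ x y : D, x * (x * y) = x * x * y) (hr : ∀ x y : D, y * x * x = y * (x * x))
    (x y : D) : associator x y x = 0 := by
  rw [alg_assoc_swap23 hl hr x y x, tialg_id_xxy hl, neg_zero]

/-- (E1): `(x², y, z) = (x, xy, z) + x (x, y, z)`. -/
theorem tialg_id_E1 (hl : ∀ x y : D, x * (x * y) = x * x * y) (x y z : D) :
    associator (x * x) y z = associator x (x * y) z + x * associator x y z := by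
  have h := associator_cocycle x x y z
  rw [tialg_id_xxy hl x (y * z), tialg_id_xxy hl x y, zero_mul] at h
  linear_combination (norm := abel) -h

/-- `(y, z, x²) = (y, z, x) x + (y, zx, x)`. -/
theorem tialg_id_E2a (hr : ∀ x y : D, y * x * x = y * (x * x)) (x y z : D) :
    associator y z (x * x) = associator y z x * x + associator y (z * x) x := by
  simp only [associator_apply, sub_mul]
  rw [← hr x (y * z), ← hr x z]
  abel

/-- (E2): `(x², y, z) = (x, y, z) x - (x, zx, y)`. -/
theorem tialg_id_E2 (hl : ∀ x y : D, x * (x * y) = x * x * y) (hr : ∀ x y : D, y * x * x = y * (x * x))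
    (x y z : D) :
    associator (x * x) y z = associator x y z * x - associator x (z * x) y := by
  rw [alg_assoc_rot hl hr (x * x) y z, tialg_id_E2a hr x y z, ← alg_assoc_rot hl hr x y z,
    alg_assoc_swap13 hl hr y (z * x) x]
  abel

/-- (E4): `(x, xy, z) + (x, yx, z) + (x, xz, y) = x (x, y, z)`. -/
theorem tialg_id_E4 (hl : ∀ x y : D, x * (x * y) = x * x * y) (hr : ∀ x y : D, y * x * x = y * (x * x))
    (x y z : D) :
    associator x (x * y) z + associator x (y * x) z + associator x (x * z) y = x * associator x y z := by
  have h := associator_cocycle x y x z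
  rw [tialg_id_flex hl hr x y, zero_mul] at h
  have h1 : associator (x * y) x z = - associator x (x * y) z := alg_assoc_swap12 hl hr _ _ _
  have h2 : associator x y (x * z) = - associator x (x * z) y := alg_assoc_swap23 hl hr _ _ _
  have h3 : associator y x z = - associator x y z := alg_assoc_swap12 hl hr _ _ _
  rw [h1, h2, h3, mul_neg] at h
  linear_combination (norm := abel) h

/-- `B = 0`: `(x, yx, z) = x (x, y, z)`. -/
theorem tialg_id_B (hl : ∀ x y : D, x * (x * y) = x * x * y) (hr : ∀ x y : D, y * x * x = y * (x * x))
    (x y z : D) : associator x (y * x) z = x * associator x y z := by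
  -- A(x,y,z) = -B(x,z,y) from E1, E2
  have hA : ∀ y z : D, associator x (x * y) z - associator x y z * x
      = - (associator x (z * x) y - x * associator x z y) := by
    intro y z
    have e1 := tialg_id_E1 hl x y z
    have e2 := tialg_id_E2 hl hr x y z
    have e3 : associator x z y = - associator x y z := alg_assoc_swap23 hl hr _ _ _
    rw [e3, mul_neg]
    linear_combination (norm := abel) e2 - e1
  have e4 := tialg_id_E4 hl hr x z y
  have a1 := hA z y
  have a2 := hA y z
  have e3 : associator x z y = - associator x y z := alg_assoc_swap23 hl hr _ _ _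
  rw [e3, mul_neg] at e4 a2
  rw [e3, neg_mul] at a1
  linear_combination (norm := abel) (-1 : ℤ) • e4 + a1 + a2

end

/-- (R): `(x, xy, z) = (x, y, z) x`. -/
theorem alg_assoc_R {D : Type*} [NonUnitalNonAssocRing D]
    (hl : ∀ x y : D, x * (x * y) = x * x * y) (hr : ∀ x y : D, y * x * x = y * (x * x)) (x y z : D) :
    associator x (x * y) z = associator x y z * x := by
  have e1 := tialg_id_E1 hl x y z
  have e2 := tialg_id_E2 hl hr x y z
  have b := tialg_id_B hl hr x z y
  have e3 : associator x z y = - associator x y z := alg_assoc_swap23 hl hr _ _ _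
  rw [e3, mul_neg] at b
  linear_combination (norm := abel) e2 - e1 - b

/-- (LR): linearisation of (R) in `x`. -/
theorem alg_assoc_LR {D : Type*} [NonUnitalNonAssocRing D]
    (hl : ∀ x y : D, x * (x * y) = x * x * y) (hr : ∀ x y : D, y * x * x = y * (x * x)) (x w y z : D) :
    associator x (w * y) z + associator w (x * y) z = associator x y z * w + associator w y z * x := by
  have h := alg_assoc_R hl hr (x + w) y z
  have hx := alg_assoc_R hl hr x y z
  have hw := alg_assoc_R hl hr w y z
  rw [add_mul, tialg_id_add1, tialg_id_add2, tialg_id_add2, tialg_id_add1, add_mul, mul_add, mul_add] at h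
  linear_combination (norm := abel) h - hx - hw

end Cfsg.Agent.Helper26.TI
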