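import Mathlib
import Cfsg.Agent.Lib.Helper3.TT232G

set_option autoImplicit false

namespace Cfsg.Agent.Helper27.TT232B

variable {X : Type*} [Group X] {V : Type*} [CommGroup V]

/-- `r` lies in `R` and is inverted by `d`. -/
def Inv (R : Subgroup X) (d : X) (r : X) : Prop := r ∈ R ∧ d * r * d⁻¹ = r⁻¹

structure Setup (ρ : X →* MulAut V) (R : Subgroup X) (d : X) : Prop where
  hV2 : ∀ w : V, w * w = 1
  inj : Function.Injective ρ
  normal : R.Normal
  odd : ∀ r ∈ R, ∃ n : ℕ, r ^ (2 * n + 1) = 1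
  pgrp : IsPGroup 3 R
  nontriv : ∃ r ∈ R, r ≠ 1
  hd2 : d * d = 1
  hd1 : d ≠ 1
  star : ∀ i, Inv R d i → i ≠ 1 → ∀ w : V, ρ i w = w → ρ d w = w
  cube : ∀ i, Inv R d i → i ^ 3 = 1
  gen : Subgroup.closure {i | Inv R d i} = R

variable {ρ : X →* MulAut V} {R : Subgroup X} {d : X}

theorem dinv (S : Setup ρ R d) : d⁻¹ = d := by
  have := S.hd2
  exact inv_eq_of_mul_eq_one_right this

theorem Inv.one (R : Subgroup X) (d : X) : Inv R d 1 := ⟨R.one_mem, by simp⟩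

theorem Inv.inv {i : X} (h : Inv R d i) : Inv R d i⁻¹ := by
  refine ⟨R.inv_mem h.1, ?_⟩
  have := h.2
  calc d * i⁻¹ * d⁻¹ = (d * i * d⁻¹)⁻¹ := by group
    _ = (i⁻¹)⁻¹ := by rw [this]

theorem Inv.pow {i : X} (h : Inv R d i) (n : ℕ) : Inv R d (i ^ n) := by
  refine ⟨R.pow_mem h.1 n, ?_⟩
  have := h.2
  calc d * i ^ n * d⁻¹ = (d * i * d⁻¹) ^ n := by
        rw [conj_pow]
    _ = (i ^ n)⁻¹ := by rw [this, inv_pow]

/-- the inverted part of an element -/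
theorem inv_part (S : Setup ρ R d) {r : X} (hr : r ∈ R) : Inv R d (r * (d * r * d⁻¹)⁻¹) := by
  have hn := S.normal
  have h1 : d * r * d⁻¹ ∈ R := hn.conj_mem r hr d
  refine ⟨R.mul_mem hr (R.inv_mem h1), ?_⟩
  have hd := dinv S
  have hd2 := S.hd2
  have e1 : d * (r * (d * r * d⁻¹)⁻¹) * d⁻¹ = (d * r * d⁻¹) * (d * d * r⁻¹ * (d⁻¹ * d⁻¹)) := by group
  rw [e1, hd, hd2]
  group

/-- square roots are unique in `R` -/
theorem sq_inj (S : Setup ρ R d) {a b : X} (ha : a ∈ R) (hb : b ∈ R) (h : a * a = b * b)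
    (hab : a * b = b * a) : a = b := by
  -- (a b⁻¹)^2 = 1 and odd order
  have hc : (a * b⁻¹) * (a * b⁻¹) = 1 := by
    have : a * b⁻¹ = b⁻¹ * a := by
      calc a * b⁻¹ = b⁻¹ * (b * a) * b⁻¹ := by group
        _ = b⁻¹ * (a * b) * b⁻¹ := by rw [hab]
        _ = b⁻¹ * a := by group
    calc (a * b⁻¹) * (a * b⁻¹) = (a * b⁻¹) * (b⁻¹ * a) := by rw [← this]
      _ = a * (b * b)⁻¹ * a := by group
      _ = a * (a * a)⁻¹ * a := by rw [h]
      _ = 1 := by group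
  obtain ⟨n, hn⟩ := S.odd (a * b⁻¹) (R.mul_mem ha (R.inv_mem hb))
  have h2 : (a * b⁻¹) ^ 2 = 1 := by rw [pow_two]; exact hc
  have : a * b⁻¹ = 1 := by
    rw [pow_succ, pow_mul, h2, one_pow, one_mul] at hn
    exact hn
  exact mul_inv_eq_one.1 this


theorem mem_zpowers_sq (S : Setup ρ R d) {g : X} (hg : g ∈ R) : g ∈ Subgroup.zpowers (g * g) := by
  obtain ⟨n, hn⟩ := S.odd g hg
  have : g = (g * g) ^ (n + 1) := by
    rw [← pow_two, ← pow_mul]
    have : 2 * (n + 1) = (2 * n + 1) + 1 := by ring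
    rw [this, pow_succ, hn, one_mul]
  refine Subgroup.mem_zpowers_iff.2 ⟨((n + 1 : ℕ) : ℤ), ?_⟩
  rw [zpow_natCast]
  exact this.symm

/-- every inverted element is a square of an inverted element (a power of itself) -/
theorem exists_sqrt {i : X} (S : Setup ρ R d) (hi : Inv R d i) : ∃ s, Inv R d s ∧ s * s = i := by
  obtain ⟨n, hn⟩ := S.odd i hi.1
  refine ⟨i ^ (n + 1), hi.pow _, ?_⟩
  rw [← pow_add]
  have : n + 1 + (n + 1) = (2 * n + 1) + 1 := by ring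
  rw [this, pow_succ, hn, one_mul]

/-- if `c = [j₁,j]` commutes with `j₁, j, d` and `c^3 = 1` then `j₁ j c` is inverted -/
theorem inv_lemma {j₁ j c : X} (h₁ : Inv R d j₁) (h : Inv R d j)
    (hc : c = j₁ * j * j₁⁻¹ * j⁻¹) (hc1 : c * j₁ = j₁ * c) (hc2 : c * j = j * c)
    (hcd : d * c * d⁻¹ = c) (hc3 : c ^ 3 = 1) (hcR : c ∈ R) : Inv R d (j₁ * j * c) := by
  refine ⟨R.mul_mem (R.mul_mem h₁.1 h.1) hcR, ?_⟩
  have e1 : d * (j₁ * j * c) * d⁻¹ = (d * j₁ * d⁻¹) * (d * j * d⁻¹) * (d * c * d⁻¹) := by group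
  rw [e1, h₁.2, h.2, hcd]
  -- goal: j₁⁻¹ * j⁻¹ * c = (j₁ * j * c)⁻¹
  have hcc : c⁻¹ * c⁻¹ = c := by
    have : c * c * c = 1 := by rw [← hc3, pow_succ, pow_two]
    calc c⁻¹ * c⁻¹ = c⁻¹ * c⁻¹ * (c * c * c) := by rw [this, mul_one]
      _ = c := by group
  have h3 : j₁ * j = c * j * j₁ := by rw [hc]; group
  have C1 : Commute c⁻¹ j₁⁻¹ := (show Commute c j₁ from hc1).inv_left.inv_right
  have C2 : Commute c⁻¹ j⁻¹ := (show Commute c j from hc2).inv_left.inv_right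
  have C3 : Commute c⁻¹ (j₁⁻¹ * j⁻¹) := C1.mul_right C2
  symm
  calc (j₁ * j * c)⁻¹ = c⁻¹ * (j₁ * j)⁻¹ := by group
    _ = c⁻¹ * (c * j * j₁)⁻¹ := by rw [h3]
    _ = (c⁻¹ * (j₁⁻¹ * j⁻¹)) * c⁻¹ := by group
    _ = ((j₁⁻¹ * j⁻¹) * c⁻¹) * c⁻¹ := by rw [C3.eq]
    _ = j₁⁻¹ * j⁻¹ * (c⁻¹ * c⁻¹) := by group
    _ = j₁⁻¹ * j⁻¹ * c := by rw [hcc]


/-- fixed points of an automorphism -/
def fixSub (f : MulAut V) : Subgroup V where
  carrier := {v | f v = v}
  one_mem' := map_one f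
  mul_mem' := by
    intro a b ha hb
    show f (a * b) = a * b
    rw [map_mul, ha, hb]
  inv_mem' := by
    intro a ha
    show f a⁻¹ = a⁻¹
    rw [map_inv, ha]

theorem mem_fixSub (f : MulAut V) (v : V) : v ∈ fixSub f ↔ f v = v := Iff.rfl

theorem rho_mul (ρ : X →* MulAut V) (a b : X) (v : V) : ρ (a * b) v = ρ a (ρ b v) := by
  rw [map_mul, MulAut.mul_apply]

theorem rho_comm_fix {a b : X} (hab : a * b = b * a) {v : V} (hv : ρ a v = v) :
    ρ a (ρ b v) = ρ b v := by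
  rw [← rho_mul, hab, rho_mul, hv]

theorem cube_comm {i₁ i z : X} (hi3 : i ^ 3 = 1)
    (hz : z = i₁ * i * i₁⁻¹ * i⁻¹) (hz2 : z * i = i * z) : z ^ 3 = 1 := by
  have h1 : i₁ * i * i₁⁻¹ = z * i := by rw [hz]; group
  have h2 : (i₁ * i * i₁⁻¹) ^ 3 = 1 := by rw [conj_pow, hi3]; group
  rw [h1, (show Commute z i from hz2).mul_pow, hi3, mul_one] at h2
  exact h2

theorem key (S : Setup ρ R d) {i₁ i z : X} (h₁ : Inv R d i₁) (h : Inv R d i)
    (h₁1 : i₁ ≠ 1) (hi1 : i ≠ 1) (hne : i ≠ i₁) (hne' : i ≠ i₁⁻¹)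
    (hz : z = i₁ * i * i₁⁻¹ * i⁻¹) (hz1 : z * i₁ = i₁ * z) (hz2 : z * i = i * z)
    (hzd : d * z * d⁻¹ = z) :
    ∀ w : V, ρ z w = w → ρ d w = w := by
  have hn := S.normal
  have hzR : z ∈ R := by
    rw [hz]
    exact R.mul_mem (R.mul_mem (R.mul_mem h₁.1 h.1) (R.inv_mem h₁.1)) (R.inv_mem h.1)
  have hi3 : i ^ 3 = 1 := S.cube i h
  have hi13 : i₁ ^ 3 = 1 := S.cube i₁ h₁
  have hz3 : z ^ 3 = 1 := cube_comm hi3 hz hz2
  have Cz1 : Commute z i₁ := hz1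
  have Cz2 : Commute z i := hz2
  -- the products
  have hI3 : Inv R d (i₁ * i * z) := inv_lemma h₁ h hz hz1 hz2 hzd hz3 hzR
  have hii : Inv R d (i * i) := by simpa [pow_two] using h.pow 2
  have hzz : z * z = i₁ * (i * i) * i₁⁻¹ * (i * i)⁻¹ := by
    have h1 : i₁ * i * i₁⁻¹ = z * i := by rw [hz]; group
    calc z * z = z * z * (i * i) * (i * i)⁻¹ := by group
      _ = (z * i) * (z * i) * (i * i)⁻¹ := by
          have : z * z * (i * i) = (z * i) * (z * i) := by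
            calc z * z * (i * i) = z * (z * i) * i := by group
              _ = z * (i * z) * i := by rw [hz2]
              _ = (z * i) * (z * i) := by group
          rw [this]
      _ = (i₁ * i * i₁⁻¹) * (i₁ * i * i₁⁻¹) * (i * i)⁻¹ := by rw [h1]
      _ = i₁ * (i * i) * i₁⁻¹ * (i * i)⁻¹ := by group
  have hzz3 : (z * z) ^ 3 = 1 := by
    rw [← pow_two, ← pow_mul, mul_comm, pow_mul, hz3, one_pow]
  have hI4 : Inv R d (i₁ * (i * i) * (z * z)) := by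
    refine inv_lemma h₁ hii hzz ?_ ?_ ?_ hzz3 (R.mul_mem hzR hzR)
    · exact (Cz1.mul_left Cz1).eq
    · exact ((Cz2.mul_right Cz2).mul_left (Cz2.mul_right Cz2)).eq
    · calc d * (z * z) * d⁻¹ = (d * z * d⁻¹) * (d * z * d⁻¹) := by group
        _ = z * z := by rw [hzd]
  -- if i commutes with i₁ then z = 1
  have hz_one_of_comm : i₁ * i = i * i₁ → z = 1 := by
    intro hc
    rw [hz, hc]; group
  have hne3 : i₁ * i * z ≠ 1 := by
    intro h1
    have hi : i = i₁⁻¹ * z⁻¹ := by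
      calc i = i₁⁻¹ * (i₁ * i * z) * z⁻¹ := by group
        _ = i₁⁻¹ * z⁻¹ := by rw [h1]; group
    have hc : Commute i₁ i := by
      rw [hi]
      exact (Commute.refl i₁).inv_right.mul_right Cz1.symm.inv_right
    have hz1' := hz_one_of_comm hc.eq
    rw [hz1'] at hi
    apply hne'
    rw [hi]; group
  have hne4 : i₁ * (i * i) * (z * z) ≠ 1 := by
    intro h1
    have hi : i * i = i₁⁻¹ * (z * z)⁻¹ := by
      calc i * i = i₁⁻¹ * (i₁ * (i * i) * (z * z)) * (z * z)⁻¹ := by group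
        _ = i₁⁻¹ * (z * z)⁻¹ := by rw [h1]; group
    have hc2 : Commute i₁ (i * i) := by
      rw [hi]
      exact (Commute.refl i₁).inv_right.mul_right (Cz1.mul_left Cz1).symm.inv_right
    have hi4 : i = (i * i) * (i * i) := by
      calc i = i * i ^ 3 := by rw [hi3, mul_one]
        _ = (i * i) * (i * i) := by rw [pow_succ, pow_two]; group
    have hc : Commute i₁ i := by
      rw [hi4]; exact hc2.mul_right hc2
    have hz1' := hz_one_of_comm hc.eq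
    rw [hz1'] at hi
    apply hne
    have hinv : i * i = i⁻¹ := by
      have : i * i * i = 1 := by rw [← hi3, pow_succ, pow_two]
      exact (inv_eq_of_mul_eq_one_left this).symm
    rw [hinv] at hi
    have : i⁻¹ = i₁⁻¹ := by rw [hi]; group
    exact inv_injective this
  intro w hw
  refine Cfsg.Agent.Helper3.TT232.gen_lemma S.hV2 (ρ i₁) (ρ i) (ρ d) (fixSub (ρ z)) ?_ ?_ ?_ ?_ ?_ ?_ ?_ ?_ ?_ w hw
  · intro v hv
    exact rho_comm_fix hz1 hv
  · intro v hv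
    exact rho_comm_fix hz2 hv
  · intro v hv
    have e : i₁ * i = z * (i * i₁) := by rw [hz]; group
    have hv' : ρ z (ρ i (ρ i₁ v)) = ρ i (ρ i₁ v) :=
      rho_comm_fix hz2 (rho_comm_fix hz1 hv)
    rw [← rho_mul, e, rho_mul, rho_mul, hv']
  · intro v _
    rw [← rho_mul, ← rho_mul]
    have : i₁ * i₁ * i₁ = i₁ ^ 3 := by rw [pow_succ, pow_two]
    rw [this, hi13, map_one]; rfl
  · intro v _
    rw [← rho_mul, ← rho_mul]
    have : i * i * i = i ^ 3 := by rw [pow_succ, pow_two]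
    rw [this, hi3, map_one]; rfl
  · intro v _ hv1
    exact S.star i₁ h₁ h₁1 v hv1
  · intro v _ hv1
    exact S.star i h hi1 v hv1
  · intro v hv hv1
    apply S.star _ hI3 hne3 v
    rw [rho_mul, rho_mul]
    rw [(mem_fixSub _ _).1 hv]
    exact hv1
  · intro v hv hv1
    apply S.star _ hI4 hne4 v
    rw [rho_mul, rho_mul, rho_mul, rho_mul]
    rw [(mem_fixSub _ _).1 hv, (mem_fixSub _ _).1 hv]
    exact hv1

theorem comm_cases (S : Setup ρ R d) {i₁ i : X} (h₁ : Inv R d i₁) (h : Inv R d i)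
    (h₁1 : i₁ ≠ 1) (hc : i₁ * i = i * i₁) : i = 1 ∨ i = i₁ ∨ i = i₁⁻¹ := by
  by_contra hcon
  push Not at hcon
  obtain ⟨n1, n2, n3⟩ := hcon
  have hz : (1 : X) = i₁ * i * i₁⁻¹ * i⁻¹ := by rw [hc]; group
  have := key S h₁ h h₁1 n1 n2 n3 hz (by simp) (by simp) (by simp)
  have hd : ρ d = 1 := by
    apply MulEquiv.ext
    intro w
    have := this w (by rw [map_one]; rfl)
    rw [this]; rfl
  apply S.hd1
  apply S.inj
  rw [hd, map_one]

end Cfsg.Agent.Helper27.TT232B
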