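import Mathlib
import Cfsg.Agent.Lib.Helper27.TT232B1

set_option autoImplicit false

namespace Cfsg.Agent.Helper27.TT232B

variable {X : Type*} [Group X] {V : Type*} [CommGroup V]
variable {ρ : X →* MulAut V} {R : Subgroup X} {d : X}

/-- central in `R` -/
def Cen (R : Subgroup X) (z : X) : Prop := z ∈ R ∧ ∀ r ∈ R, z * r = r * z

theorem Cen.one (R : Subgroup X) : Cen R 1 := ⟨R.one_mem, by simp⟩

theorem Cen.mul {a b : X} (ha : Cen R a) (hb : Cen R b) : Cen R (a * b) := by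
  refine ⟨R.mul_mem ha.1 hb.1, fun r hr => ?_⟩
  calc a * b * r = a * (b * r) := by group
    _ = a * (r * b) := by rw [hb.2 r hr]
    _ = (a * r) * b := by group
    _ = (r * a) * b := by rw [ha.2 r hr]
    _ = r * (a * b) := by group

theorem Cen.inv {a : X} (ha : Cen R a) : Cen R a⁻¹ := by
  refine ⟨R.inv_mem ha.1, fun r hr => ?_⟩
  calc a⁻¹ * r = a⁻¹ * (r * a) * a⁻¹ := by group
    _ = a⁻¹ * (a * r) * a⁻¹ := by rw [ha.2 r hr]
    _ = r * a⁻¹ := by group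

theorem Cen.conj (hn : R.Normal) {a : X} (ha : Cen R a) (g : X) : Cen R (g * a * g⁻¹) := by
  refine ⟨hn.conj_mem a ha.1 g, fun r hr => ?_⟩
  have h1 : g⁻¹ * r * g ∈ R := by
    have := hn.conj_mem r hr g⁻¹
    simpa using this
  calc g * a * g⁻¹ * r = g * (a * (g⁻¹ * r * g)) * g⁻¹ := by group
    _ = g * ((g⁻¹ * r * g) * a) * g⁻¹ := by rw [ha.2 _ h1]
    _ = r * (g * a * g⁻¹) := by group

/-- an element of `R` of order dividing 2 is trivial -/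
theorem eq_one_of_sq (S : Setup ρ R d) {c : X} (hc : c ∈ R) (h2 : c * c = 1) : c = 1 := by
  obtain ⟨n, hn⟩ := S.odd c hc
  have h2' : c ^ 2 = 1 := by rw [pow_two]; exact h2
  rw [pow_succ, pow_mul, h2', one_pow, one_mul] at hn
  exact hn

/-- Case (i): a non-trivial central inverted element forces `R` cyclic of order 3. -/
theorem cyclic_case (S : Setup ρ R d) {i₀ : X} (h₀ : Inv R d i₀) (h01 : i₀ ≠ 1) (hc : Cen R i₀) :
    R = Subgroup.zpowers i₀ := by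
  apply le_antisymm
  · rw [← S.gen, Subgroup.closure_le]
    intro i hi
    have hcomm : i₀ * i = i * i₀ := hc.2 i hi.1
    rcases comm_cases S h₀ hi h01 hcomm with h | h | h
    · rw [h]; exact Subgroup.one_mem _
    · rw [h]; exact Subgroup.mem_zpowers _
    · rw [h]; exact Subgroup.inv_mem _ (Subgroup.mem_zpowers _)
  · rw [Subgroup.zpowers_le]; exact h₀.1

/-- Case (ii): `d` centralizes the centre of `R`. -/
theorem d_cen (S : Setup ρ R d) (hZI : ∀ i, Inv R d i → Cen R i → i = 1) {z : X} (hz : Cen R z) :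
    d * z * d⁻¹ = z := by
  have h1 := inv_part S hz.1
  have h2 : Cen R (z * (d * z * d⁻¹)⁻¹) := hz.mul (hz.conj S.normal d).inv
  have h3 := hZI _ h1 h2
  have : z = d * z * d⁻¹ := by
    calc z = (z * (d * z * d⁻¹)⁻¹) * (d * z * d⁻¹) := by group
      _ = d * z * d⁻¹ := by rw [h3, one_mul]
  exact this.symm

/-- second centre -/
def Q2 (R : Subgroup X) (y : X) : Prop := y ∈ R ∧ ∀ r ∈ R, Cen R (y * r * y⁻¹ * r⁻¹)

theorem Q2.mul {a b : X} (ha : Q2 R a) (hb : Q2 R b) : Q2 R (a * b) := by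
  refine ⟨R.mul_mem ha.1 hb.1, fun r hr => ?_⟩
  have h1 := hb.2 r hr
  have h2 := ha.2 r hr
  have e : a * b * r * (a * b)⁻¹ * r⁻¹ = (b * r * b⁻¹ * r⁻¹) * (a * r * a⁻¹ * r⁻¹) := by
    calc a * b * r * (a * b)⁻¹ * r⁻¹ = (a * (b * r * b⁻¹ * r⁻¹)) * (r * a⁻¹ * r⁻¹) := by group
      _ = ((b * r * b⁻¹ * r⁻¹) * a) * (r * a⁻¹ * r⁻¹) := by rw [← h1.2 a ha.1]
      _ = (b * r * b⁻¹ * r⁻¹) * (a * r * a⁻¹ * r⁻¹) := by group
  rw [e]
  exact h1.mul h2

theorem Q2.inv {a : X} (ha : Q2 R a) : Q2 R a⁻¹ := by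
  refine ⟨R.inv_mem ha.1, fun r hr => ?_⟩
  have h2 := (ha.2 r hr).inv
  have e : a⁻¹ * r * a⁻¹⁻¹ * r⁻¹ = (a * r * a⁻¹ * r⁻¹)⁻¹ := by
    calc a⁻¹ * r * a⁻¹⁻¹ * r⁻¹ = a⁻¹ * ((a * r * a⁻¹ * r⁻¹)⁻¹ * a) := by group
      _ = a⁻¹ * (a * (a * r * a⁻¹ * r⁻¹)⁻¹) := by rw [h2.2 a ha.1]
      _ = (a * r * a⁻¹ * r⁻¹)⁻¹ := by group
  rw [e]
  exact h2

theorem Q2.conj (hn : R.Normal) {a : X} (ha : Q2 R a) (g : X) : Q2 R (g * a * g⁻¹) := by
  refine ⟨hn.conj_mem a ha.1 g, fun r hr => ?_⟩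
  have h1 : g⁻¹ * r * g ∈ R := by
    have := hn.conj_mem r hr g⁻¹
    simpa using this
  have h2 := (ha.2 _ h1).conj hn g
  have e : g * a * g⁻¹ * r * (g * a * g⁻¹)⁻¹ * r⁻¹ =
      g * (a * (g⁻¹ * r * g) * a⁻¹ * (g⁻¹ * r * g)⁻¹) * g⁻¹ := by group
  rw [e]
  exact h2

theorem exists_ucs2 {G : Type*} [Group G] [hG : Group.IsNilpotent G]
    (hna : ∃ a b : G, a * b ≠ b * a) :
    ∃ y : G, (∀ r : G, y * r * y⁻¹ * r⁻¹ ∈ Subgroup.center G) ∧ y ∉ Subgroup.center G := by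
  by_contra H
  push Not at H
  have key : ∀ n, Subgroup.upperCentralSeries G n ≤ Subgroup.center G := by
    intro n
    induction n with
    | zero => rw [Subgroup.upperCentralSeries_zero]; exact bot_le
    | succ n ih =>
      intro x hx
      rw [Subgroup.mem_upperCentralSeries_succ_iff] at hx
      exact H x (fun r => ih (hx r))
  obtain ⟨n, hn⟩ := hG.nilpotent'
  obtain ⟨a, b, hab⟩ := hna
  apply hab
  have : a ∈ Subgroup.center G := key n (by rw [hn]; trivial)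
  exact (Subgroup.mem_center_iff.1 this b).symm

theorem exists_second_center [Finite X] (S : Setup ρ R d)
    (hna : ∃ a ∈ R, ∃ b ∈ R, a * b ≠ b * a) : ∃ y, Q2 R y ∧ ¬ Cen R y := by
  have : Fact (Nat.Prime 3) := ⟨Nat.prime_three⟩
  have : Group.IsNilpotent ↥R := S.pgrp.isNilpotent
  obtain ⟨a, ha, b, hb, hab⟩ := hna
  have hna' : ∃ a b : ↥R, a * b ≠ b * a := by
    refine ⟨⟨a, ha⟩, ⟨b, hb⟩, fun h => hab ?_⟩
    exact congrArg Subtype.val h
  obtain ⟨y, hy1, hy2⟩ := exists_ucs2 hna'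
  refine ⟨(y : X), ⟨y.2, fun r hr => ⟨?_, fun s hs => ?_⟩⟩, ?_⟩
  · exact R.mul_mem (R.mul_mem (R.mul_mem y.2 hr) (R.inv_mem y.2)) (R.inv_mem hr)
  · have := hy1 ⟨r, hr⟩
    rw [Subgroup.mem_center_iff] at this
    have h2 := this ⟨s, hs⟩
    have h3 := congrArg Subtype.val h2
    simp only [Subgroup.coe_mul, Subgroup.coe_inv] at h3
    exact h3.symm
  · intro hc
    apply hy2
    rw [Subgroup.mem_center_iff]
    intro g
    apply Subtype.ext
    simp only [Subgroup.coe_mul]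
    exact (hc.2 g g.2).symm

theorem comm_of_comm_inv (S : Setup ρ R d) {y : X}
    (h : ∀ i, Inv R d i → y * i = i * y) : ∀ r ∈ R, y * r = r * y := by
  intro r hr
  have hle : Subgroup.closure {i | Inv R d i} ≤ Subgroup.centralizer {y} := by
    rw [Subgroup.closure_le]
    intro i hi
    rw [SetLike.mem_coe, Subgroup.mem_centralizer_iff]
    intro x hx
    rw [Set.mem_singleton_iff] at hx
    rw [hx]
    exact h i hi
  rw [S.gen] at hle
  have := hle hr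
  rw [Subgroup.mem_centralizer_iff] at this
  exact this y (Set.mem_singleton y)

theorem exists_i1 [Finite X] (S : Setup ρ R d) (hZI : ∀ i, Inv R d i → Cen R i → i = 1)
    (hna : ∃ a ∈ R, ∃ b ∈ R, a * b ≠ b * a) :
    ∃ i₁, Inv R d i₁ ∧ ¬ Cen R i₁ ∧ Q2 R i₁ := by
  obtain ⟨y, hy, hyc⟩ := exists_second_center S hna
  have hdy : d * y * d⁻¹ ≠ y := by
    intro hfix
    apply hyc
    refine ⟨hy.1, comm_of_comm_inv S ?_⟩
    intro i hi
    have hc := hy.2 i hi.1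
    have hcd := d_cen S hZI hc
    -- d c d⁻¹ = y i⁻¹ y⁻¹ i = c⁻¹
    have e1 : d * (y * i * y⁻¹ * i⁻¹) * d⁻¹ =
        (d * y * d⁻¹) * (d * i * d⁻¹) * (d * y * d⁻¹)⁻¹ * (d * i * d⁻¹)⁻¹ := by group
    rw [e1, hfix, hi.2] at hcd
    have e2 : y * i⁻¹ * y⁻¹ * i⁻¹⁻¹ = i⁻¹ * (y * i * y⁻¹ * i⁻¹)⁻¹ * i := by group
    rw [e2, ← (hc.inv).2 i⁻¹ (R.inv_mem hi.1)] at hcd
    have e3 : (y * i * y⁻¹ * i⁻¹)⁻¹ * i⁻¹ * i = (y * i * y⁻¹ * i⁻¹)⁻¹ := by group
    rw [e3] at hcd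
    have hsq : (y * i * y⁻¹ * i⁻¹) * (y * i * y⁻¹ * i⁻¹) = 1 := by
      nth_rewrite 1 [← hcd]
      group
    have h1 := eq_one_of_sq S hc.1 hsq
    calc y * i = (y * i * y⁻¹ * i⁻¹) * (i * y) := by group
      _ = i * y := by rw [h1, one_mul]
  have hI := inv_part S hy.1
  refine ⟨_, hI, ?_, hy.mul (hy.conj S.normal d).inv⟩
  intro hc
  have := hZI _ hI hc
  apply hdy
  calc d * y * d⁻¹ = (y * (d * y * d⁻¹)⁻¹)⁻¹ * y := by group
    _ = y := by rw [this]; group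

end Cfsg.Agent.Helper27.TT232B
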