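import Mathlib
import Cfsg.Agent.Lib.Helper27.TT232B2

set_option autoImplicit false

namespace Cfsg.Agent.Helper27.TT232B

variable {X : Type*} [Group X] {V : Type*} [CommGroup V]
variable {ρ : X →* MulAut V} {R : Subgroup X} {d : X}

/-- the commutator map of `i₁` -/
def psi (i₁ r : X) : X := i₁ * r * i₁⁻¹ * r⁻¹

theorem psi_one (i₁ : X) : psi i₁ 1 = 1 := by unfold psi; group

theorem psi_eq_one_iff (i₁ r : X) : psi i₁ r = 1 ↔ i₁ * r = r * i₁ := by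
  unfold psi
  constructor
  · intro h
    calc i₁ * r = (i₁ * r * i₁⁻¹ * r⁻¹) * (r * i₁) := by group
      _ = r * i₁ := by rw [h, one_mul]
  · intro h
    calc i₁ * r * i₁⁻¹ * r⁻¹ = (i₁ * r) * i₁⁻¹ * r⁻¹ := by group
      _ = (r * i₁) * i₁⁻¹ * r⁻¹ := by rw [h]
      _ = 1 := by group

theorem psi_mul {i₁ r s : X} (hQ : Q2 R i₁) (hr : r ∈ R) (hs : s ∈ R) :
    psi i₁ (r * s) = psi i₁ r * psi i₁ s := by
  have hc := hQ.2 s hs
  have := hc.2 r⁻¹ (R.inv_mem hr)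
  unfold psi at *
  calc i₁ * (r * s) * i₁⁻¹ * (r * s)⁻¹ = (i₁ * r * i₁⁻¹) * ((i₁ * s * i₁⁻¹ * s⁻¹) * r⁻¹) := by group
    _ = (i₁ * r * i₁⁻¹) * (r⁻¹ * (i₁ * s * i₁⁻¹ * s⁻¹)) := by rw [this]
    _ = i₁ * r * i₁⁻¹ * r⁻¹ * (i₁ * s * i₁⁻¹ * s⁻¹) := by group

theorem psi_cen {i₁ r : X} (hQ : Q2 R i₁) (hr : r ∈ R) : Cen R (psi i₁ r) := hQ.2 r hr

theorem psi_comm {i₁ r s : X} (hQ : Q2 R i₁) (hr : r ∈ R) (hs : s ∈ R) :
    psi i₁ r * psi i₁ s = psi i₁ s * psi i₁ r :=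
  (psi_cen hQ hr).2 _ (psi_cen hQ hs).1

theorem psi_inv {i₁ r : X} (hQ : Q2 R i₁) (hr : r ∈ R) : psi i₁ r⁻¹ = (psi i₁ r)⁻¹ := by
  have h := psi_mul hQ hr (R.inv_mem hr)
  rw [mul_inv_cancel, psi_one] at h
  exact (inv_eq_of_mul_eq_one_right h.symm).symm

theorem i1_ne_one {i₁ : X} (hnc : ¬ Cen R i₁) : i₁ ≠ 1 := by
  intro h
  apply hnc
  rw [h]
  exact Cen.one R

theorem psi_cube (S : Setup ρ R d) {i₁ i : X} (hQ : Q2 R i₁) (hi : Inv R d i) :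
    (psi i₁ i) ^ 3 = 1 :=
  cube_comm (S.cube i hi) rfl ((psi_cen hQ hi.1).2 i hi.1)

theorem key_psi (S : Setup ρ R d) (hZI : ∀ i, Inv R d i → Cen R i → i = 1) {i₁ i : X}
    (h₁ : Inv R d i₁) (hnc : ¬ Cen R i₁) (hQ : Q2 R i₁) (hi : Inv R d i) (hne : psi i₁ i ≠ 1) :
    ∀ w : V, ρ (psi i₁ i) w = w → ρ d w = w := by
  have hc := psi_cen hQ hi.1
  have n1 : i ≠ 1 := by
    intro h; apply hne; rw [h, psi_one]
  have n2 : i ≠ i₁ := by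
    intro h; apply hne; rw [h, psi_eq_one_iff]
  have n3 : i ≠ i₁⁻¹ := by
    intro h; apply hne; rw [h, psi_eq_one_iff]; group
  exact key S h₁ hi (i1_ne_one hnc) n1 n2 n3 rfl (hc.2 i₁ h₁.1) (hc.2 i hi.1) (d_cen S hZI hc)

theorem exists_i2 (S : Setup ρ R d) {i₁ : X} (h₁ : Inv R d i₁) (hnc : ¬ Cen R i₁) :
    ∃ i₂, Inv R d i₂ ∧ psi i₁ i₂ ≠ 1 := by
  by_contra H
  push Not at H
  apply hnc
  refine ⟨h₁.1, comm_of_comm_inv S ?_⟩
  intro i hi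
  exact (psi_eq_one_iff i₁ i).1 (H i hi)

/-- the inverted part of a product of two inverted elements -/
theorem inv_prod (S : Setup ρ R d) {a b : X} (ha : Inv R d a) (hb : Inv R d b) :
    Inv R d (a * b * (b * a)) := by
  have h := inv_part S (R.mul_mem ha.1 hb.1)
  have e : d * (a * b) * d⁻¹ = (d * a * d⁻¹) * (d * b * d⁻¹) := by group
  rw [e, ha.2, hb.2] at h
  have e2 : (a⁻¹ * b⁻¹)⁻¹ = b * a := by group
  rw [e2] at h
  exact h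

theorem rho_fix_sq {z : X} {v : V} (h : ρ z v = v) : ρ (z * z) v = v := by
  rw [rho_mul, h, h]

theorem psi_image [Finite X] (S : Setup ρ R d) (hZI : ∀ i, Inv R d i → Cen R i → i = 1) {i₁ i₂ : X}
    (h₁ : Inv R d i₁) (hnc : ¬ Cen R i₁) (hQ : Q2 R i₁) (h₂ : Inv R d i₂) (hne : psi i₁ i₂ ≠ 1)
    {j : X} (hj : Inv R d j) :
    psi i₁ j = 1 ∨ psi i₁ j = psi i₁ i₂ ∨ psi i₁ j = psi i₁ i₂ * psi i₁ i₂ := by
  by_contra H
  push Not at H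
  obtain ⟨m1, m2, m3⟩ := H
  set z₁ := psi i₁ i₂ with hz₁
  set z₂ := psi i₁ j with hz₂
  have c₁ : Cen R z₁ := psi_cen hQ h₂.1
  have c₂ : Cen R z₂ := psi_cen hQ hj.1
  have z13 : z₁ ^ 3 = 1 := psi_cube S hQ h₂
  have z23 : z₂ ^ 3 = 1 := psi_cube S hQ hj
  have hcomm : z₁ * z₂ = z₂ * z₁ := c₁.2 z₂ c₂.1
  have C12 : Commute z₁ z₂ := hcomm
  have z1inv : z₁⁻¹ = z₁ * z₁ := by
    have : z₁ * z₁ * z₁ = 1 := by rw [← z13, pow_succ, pow_two]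
    exact inv_eq_of_mul_eq_one_left this
  -- third element
  have hj3 : Inv R d (i₂ * j * (j * i₂)) := inv_prod S h₂ hj
  have hp3 : psi i₁ (i₂ * j * (j * i₂)) = (z₁ * z₂) * (z₁ * z₂) := by
    rw [psi_mul hQ (R.mul_mem h₂.1 hj.1) (R.mul_mem hj.1 h₂.1), psi_mul hQ h₂.1 hj.1,
      psi_mul hQ hj.1 h₂.1, ← hz₁, ← hz₂, hcomm]
  have hne3 : (z₁ * z₂) * (z₁ * z₂) ≠ 1 := by
    intro h
    have := eq_one_of_sq S (R.mul_mem c₁.1 c₂.1) h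
    apply m3
    calc z₂ = z₁⁻¹ * (z₁ * z₂) := by group
      _ = z₁ * z₁ := by rw [this, mul_one, z1inv]
  -- fourth element
  have hjj : Inv R d (j * j) := by simpa [pow_two] using hj.pow 2
  have hj4 : Inv R d (i₂ * (j * j) * (j * j * i₂)) := inv_prod S h₂ hjj
  have hp4 : psi i₁ (i₂ * (j * j) * (j * j * i₂)) = (z₁ * z₂ * z₂) * (z₁ * z₂ * z₂) := by
    rw [psi_mul hQ (R.mul_mem h₂.1 hjj.1) (R.mul_mem hjj.1 h₂.1), psi_mul hQ h₂.1 hjj.1,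
      psi_mul hQ hjj.1 h₂.1, psi_mul hQ hj.1 hj.1, ← hz₁, ← hz₂]
    have : z₂ * z₂ * z₁ = z₁ * z₂ * z₂ := ((C12.symm).mul_left (C12.symm)).eq ▸ by group
    rw [this]
    group
  have hne4 : (z₁ * z₂ * z₂) * (z₁ * z₂ * z₂) ≠ 1 := by
    intro h
    have h1 := eq_one_of_sq S (R.mul_mem (R.mul_mem c₁.1 c₂.1) c₂.1) h
    apply m2
    have h2 : z₂ * z₂ = z₁⁻¹ := by
      calc z₂ * z₂ = z₁⁻¹ * (z₁ * z₂ * z₂) := by group
        _ = z₁⁻¹ := by rw [h1, mul_one]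
    have h3 : z₂ = (z₂ * z₂) * (z₂ * z₂) := by
      calc z₂ = z₂ * z₂ ^ 3 := by rw [z23, mul_one]
        _ = (z₂ * z₂) * (z₂ * z₂) := by rw [pow_succ, pow_two]; group
    rw [h3, h2, z1inv]
    calc z₁ * z₁ * (z₁ * z₁) = z₁ * z₁ ^ 3 := by rw [pow_succ, pow_two]; group
      _ = z₁ := by rw [z13, mul_one]
  -- apply the generation lemma with W = ⊤
  have hall : ∀ v ∈ (⊤ : Subgroup V), ρ d v = v := by
    refine Cfsg.Agent.Helper3.TT232.gen_lemma S.hV2 (ρ z₁) (ρ z₂) (ρ d) ⊤ (fun _ _ => Subgroup.mem_top _)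
      (fun _ _ => Subgroup.mem_top _) ?_ ?_ ?_ ?_ ?_ ?_ ?_
    · intro v _
      rw [← rho_mul, hcomm, rho_mul]
    · intro v _
      rw [← rho_mul, ← rho_mul]
      have : z₁ * z₁ * z₁ = z₁ ^ 3 := by rw [pow_succ, pow_two]
      rw [this, z13, map_one]; rfl
    · intro v _
      rw [← rho_mul, ← rho_mul]
      have : z₂ * z₂ * z₂ = z₂ ^ 3 := by rw [pow_succ, pow_two]
      rw [this, z23, map_one]; rfl
    · intro v _ hv
      exact key_psi S hZI h₁ hnc hQ h₂ hne v hv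
    · intro v _ hv
      exact key_psi S hZI h₁ hnc hQ hj m1 v hv
    · intro v _ hv
      have hv' : ρ (z₁ * z₂) v = v := by rw [rho_mul]; exact hv
      apply key_psi S hZI h₁ hnc hQ hj3 (by rw [hp3]; exact hne3) v
      rw [hp3]
      exact rho_fix_sq hv'
    · intro v _ hv
      have hv' : ρ (z₁ * z₂ * z₂) v = v := by rw [rho_mul, rho_mul]; exact hv
      apply key_psi S hZI h₁ hnc hQ hj4 (by rw [hp4]; exact hne4) v
      rw [hp4]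
      exact rho_fix_sq hv'
  apply S.hd1
  apply S.inj
  rw [map_one]
  apply MulEquiv.ext
  intro w
  rw [hall w (Subgroup.mem_top _)]
  rfl

end Cfsg.Agent.Helper27.TT232B
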