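import Mathlib
import Cfsg.Agent.Lib.Helper27.TT232B3

set_option autoImplicit false

namespace Cfsg.Agent.Helper27.TT232B

variable {X : Type*} [Group X] {V : Type*} [CommGroup V]
variable {ρ : X →* MulAut V} {R : Subgroup X} {d : X}

theorem mem_of_psi_eq (S : Setup ρ R d) {i₁ : X}
    (h₁ : Inv R d i₁) (hnc : ¬ Cen R i₁) (hQ : Q2 R i₁) {P : Subgroup X} (hP1 : i₁ ∈ P)
    {j w : X} (hj : Inv R d j) (hw : Inv R d w) (hwP : w ∈ P) (h : psi i₁ j = psi i₁ w) :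
    j ∈ P := by
  have hd := dinv S
  have hrR : j * w⁻¹ ∈ R := R.mul_mem hj.1 (R.inv_mem hw.1)
  have hpr : psi i₁ (j * w⁻¹) = 1 := by
    rw [psi_mul hQ hj.1 (R.inv_mem hw.1), psi_inv hQ hw.1, h, mul_inv_cancel]
  have hcr : i₁ * (j * w⁻¹) = (j * w⁻¹) * i₁ := (psi_eq_one_iff _ _).1 hpr
  have Cr : Commute i₁ (j * w⁻¹) := hcr
  have ht := inv_part S hrR
  have e1 : d * (j * w⁻¹) * d⁻¹ = j⁻¹ * w := by
    calc d * (j * w⁻¹) * d⁻¹ = (d * j * d⁻¹) * (d * w * d⁻¹)⁻¹ := by group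
      _ = j⁻¹ * w := by rw [hj.2, hw.2, inv_inv]
  have w3 : w ^ 3 = 1 := S.cube w hw
  have hww : w⁻¹ * w⁻¹ = w := by
    have : w * w * w = 1 := by rw [← w3, pow_succ, pow_two]
    calc w⁻¹ * w⁻¹ = w⁻¹ * w⁻¹ * (w * w * w) := by rw [this, mul_one]
      _ = w := by group
  have e2 : j * w⁻¹ * (j⁻¹ * w)⁻¹ = j * w * j := by
    calc j * w⁻¹ * (j⁻¹ * w)⁻¹ = j * (w⁻¹ * w⁻¹) * j := by group
      _ = j * w * j := by rw [hww]
  -- i₁ commutes with d r d⁻¹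
  have Cr2 : Commute i₁ (j⁻¹ * w) := by
    have h1 : d * i₁⁻¹ * d⁻¹ = i₁ := by
      have := (h₁.inv).2
      rwa [inv_inv] at this
    have : Commute (d * i₁⁻¹ * d⁻¹) (d * (j * w⁻¹) * d⁻¹) := by
      have c := Cr.inv_left
      show d * i₁⁻¹ * d⁻¹ * (d * (j * w⁻¹) * d⁻¹) = d * (j * w⁻¹) * d⁻¹ * (d * i₁⁻¹ * d⁻¹)
      calc d * i₁⁻¹ * d⁻¹ * (d * (j * w⁻¹) * d⁻¹) = d * (i₁⁻¹ * (j * w⁻¹)) * d⁻¹ := by group
        _ = d * ((j * w⁻¹) * i₁⁻¹) * d⁻¹ := by rw [c.eq]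
        _ = d * (j * w⁻¹) * d⁻¹ * (d * i₁⁻¹ * d⁻¹) := by group
    rwa [h1, e1] at this
  rw [e1, e2] at ht
  have Ct : i₁ * (j * w * j) = (j * w * j) * i₁ := by
    rw [← e2]
    exact (Cr.mul_right Cr2.inv_right).eq
  have htP : j * w * j ∈ P := by
    rcases comm_cases S h₁ ht (i1_ne_one hnc) Ct with h | h | h
    · rw [h]; exact P.one_mem
    · rw [h]; exact hP1
    · rw [h]; exact P.inv_mem hP1
  have hwj : w * j ∈ R := R.mul_mem hw.1 hj.1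
  have h3 := mem_zpowers_sq S hwj
  have h4 : (w * j) * (w * j) ∈ P := by
    have : (w * j) * (w * j) = w * (j * w * j) := by group
    rw [this]
    exact P.mul_mem hwP htP
  have h5 : w * j ∈ P := (Subgroup.zpowers_le.2 h4) h3
  have : j = w⁻¹ * (w * j) := by group
  rw [this]
  exact P.mul_mem (P.inv_mem hwP) h5

theorem R_le [Finite X] (S : Setup ρ R d) (hZI : ∀ i, Inv R d i → Cen R i → i = 1) {i₁ i₂ : X}
    (h₁ : Inv R d i₁) (hnc : ¬ Cen R i₁) (hQ : Q2 R i₁) (h₂ : Inv R d i₂) (hne : psi i₁ i₂ ≠ 1) :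
    R ≤ Subgroup.closure {i₁, i₂} := by
  have hP1 : i₁ ∈ Subgroup.closure ({i₁, i₂} : Set X) :=
    Subgroup.subset_closure (Set.mem_insert _ _)
  have hP2 : i₂ ∈ Subgroup.closure ({i₁, i₂} : Set X) :=
    Subgroup.subset_closure (Set.mem_insert_of_mem _ (Set.mem_singleton _))
  conv_lhs => rw [← S.gen]
  rw [Subgroup.closure_le]
  intro j hj
  have hj' : Inv R d j := hj
  rcases psi_image S hZI h₁ hnc hQ h₂ hne hj' with h | h | h
  · exact mem_of_psi_eq S h₁ hnc hQ hP1 hj' (Inv.one R d) (Subgroup.one_mem _)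
      (by rw [h, psi_one])
  · exact mem_of_psi_eq S h₁ hnc hQ hP1 hj' h₂ hP2 h
  · have h22 : Inv R d (i₂ * i₂) := by simpa [pow_two] using h₂.pow 2
    exact mem_of_psi_eq S h₁ hnc hQ hP1 hj' h22 (Subgroup.mul_mem _ hP2 hP2)
      (by rw [h, psi_mul hQ h₂.1 h₂.1])

/-- normal forms -/
theorem card_le_27 {i₁ i₂ z : X} (h13 : i₁ ^ 3 = 1) (h23 : i₂ ^ 3 = 1) (hz3 : z ^ 3 = 1)
    (hz : z = i₁ * i₂ * i₁⁻¹ * i₂⁻¹) (hz1 : z * i₁ = i₁ * z) (hz2 : z * i₂ = i₂ * z) :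
    Nat.card ↥(Subgroup.closure ({i₁, i₂} : Set X)) ≤ 27 := by
  have C1 : Commute z i₁ := hz1
  have C2 : Commute z i₂ := hz2
  have hswap : i₂ * i₁ = i₁ * i₂ * (z * z) := by
    have hzinv : z⁻¹ = z * z := by
      have : z * z * z = 1 := by rw [← hz3, pow_succ, pow_two]
      exact inv_eq_of_mul_eq_one_left this
    have h1 : i₁ * i₂ = z * (i₂ * i₁) := by rw [hz]; group
    calc i₂ * i₁ = z⁻¹ * (z * (i₂ * i₁)) := by group
      _ = z⁻¹ * (i₁ * i₂) := by rw [h1]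
      _ = (i₁ * i₂) * z⁻¹ := ((C1.inv_left).mul_right (C2.inv_left)).eq
      _ = i₁ * i₂ * (z * z) := by rw [hzinv]
  have hA : ∀ a : ℕ, i₂ * i₁ ^ a = i₁ ^ a * i₂ * (z * z) ^ a := by
    intro a
    induction a with
    | zero => simp
    | succ a ih =>
      have Czz : Commute (z * z) i₁ := C1.mul_left C1
      calc i₂ * i₁ ^ (a + 1) = (i₂ * i₁ ^ a) * i₁ := by rw [pow_succ]; group
        _ = i₁ ^ a * i₂ * (z * z) ^ a * i₁ := by rw [ih]
        _ = i₁ ^ a * i₂ * (i₁ * (z * z) ^ a) := by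
            rw [mul_assoc (i₁ ^ a * i₂), (Czz.pow_left a).eq]
        _ = i₁ ^ a * (i₂ * i₁) * (z * z) ^ a := by group
        _ = i₁ ^ a * (i₁ * i₂ * (z * z)) * (z * z) ^ a := by rw [hswap]
        _ = i₁ ^ (a + 1) * i₂ * (z * z) ^ (a + 1) := by
            rw [pow_succ, pow_succ' (z * z)]; simp only [mul_assoc]
  let T : Set X := {g | ∃ a b c : ℕ, g = i₁ ^ a * i₂ ^ b * z ^ c}
  have hT1 : ∀ g ∈ T, i₁ * g ∈ T := by
    rintro g ⟨a, b, c, rfl⟩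
    refine ⟨a + 1, b, c, ?_⟩
    rw [pow_succ']; group
  have hT2 : ∀ g ∈ T, i₂ * g ∈ T := by
    rintro g ⟨a, b, c, rfl⟩
    refine ⟨a, b + 1, c + 2 * a, ?_⟩
    have Cz2b : Commute ((z * z) ^ a) (i₂ ^ b) := ((C2.mul_left C2).pow_left a).pow_right b
    calc i₂ * (i₁ ^ a * i₂ ^ b * z ^ c) = (i₂ * i₁ ^ a) * i₂ ^ b * z ^ c := by group
      _ = i₁ ^ a * i₂ * (z * z) ^ a * i₂ ^ b * z ^ c := by rw [hA]
      _ = i₁ ^ a * i₂ * (i₂ ^ b * (z * z) ^ a) * z ^ c := by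
          rw [mul_assoc (i₁ ^ a * i₂), Cz2b.eq]
      _ = i₁ ^ a * i₂ ^ (b + 1) * z ^ (c + 2 * a) := by
          rw [pow_succ' i₂, pow_add z, ← pow_two, ← pow_mul]
          have : Commute (z ^ c) (z ^ (2 * a)) := (Commute.refl z).pow_pow _ _
          rw [this.eq]; group
  have hinv1 : i₁⁻¹ = i₁ * i₁ := by
    have : i₁ * i₁ * i₁ = 1 := by rw [← h13, pow_succ, pow_two]
    exact inv_eq_of_mul_eq_one_left this
  have hinv2 : i₂⁻¹ = i₂ * i₂ := by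
    have : i₂ * i₂ * i₂ = 1 := by rw [← h23, pow_succ, pow_two]
    exact inv_eq_of_mul_eq_one_left this
  have hPT : ∀ g ∈ Subgroup.closure ({i₁, i₂} : Set X), g ∈ T := by
    intro g hg
    induction hg using Subgroup.closure_induction_left with
    | one => exact ⟨0, 0, 0, by simp⟩
    | mul_left x hx y _ ih =>
      rcases hx with rfl | hx
      · exact hT1 y ih
      · rw [Set.mem_singleton_iff] at hx
        rw [hx]; exact hT2 y ih
    | inv_mul_cancel x hx y _ ih =>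
      rcases hx with rfl | hx
      · rw [hinv1, mul_assoc]; exact hT1 _ (hT1 y ih)
      · rw [Set.mem_singleton_iff] at hx
        rw [hx, hinv2, mul_assoc]; exact hT2 _ (hT2 y ih)
  let f : Fin 3 × Fin 3 × Fin 3 → X := fun t => i₁ ^ (t.1 : ℕ) * i₂ ^ (t.2.1 : ℕ) * z ^ (t.2.2 : ℕ)
  have hsub : (Subgroup.closure ({i₁, i₂} : Set X) : Set X) ⊆ Set.range f := by
    intro g hg
    obtain ⟨a, b, c, rfl⟩ := hPT g hg
    refine ⟨(⟨a % 3, Nat.mod_lt _ (by norm_num)⟩, ⟨b % 3, Nat.mod_lt _ (by norm_num)⟩,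
      ⟨c % 3, Nat.mod_lt _ (by norm_num)⟩), ?_⟩
    show i₁ ^ (a % 3) * i₂ ^ (b % 3) * z ^ (c % 3) = _
    rw [← pow_eq_pow_mod a h13, ← pow_eq_pow_mod b h23, ← pow_eq_pow_mod c hz3]
  have hfin : (Set.range f).Finite := Set.finite_range f
  calc Nat.card ↥(Subgroup.closure ({i₁, i₂} : Set X))
      = (Subgroup.closure ({i₁, i₂} : Set X) : Set X).ncard := (Nat.card_coe_set_eq _)
    _ ≤ (Set.range f).ncard := Set.ncard_le_ncard hsub hfin
    _ ≤ Nat.card (Fin 3 × Fin 3 × Fin 3) := by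
        rw [← Set.image_univ]
        calc (f '' Set.univ).ncard ≤ (Set.univ : Set (Fin 3 × Fin 3 × Fin 3)).ncard :=
              Set.ncard_image_le (Set.finite_univ)
          _ = Nat.card (Fin 3 × Fin 3 × Fin 3) := Set.ncard_univ _
    _ = 27 := by simp

end Cfsg.Agent.Helper27.TT232B
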