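import Mathlib
import Cfsg.Agent.Lib.Helper27.TT232B4

set_option autoImplicit false

namespace Cfsg.Agent.Helper27.TT232B

variable {X : Type*} [Group X] {V : Type*} [CommGroup V]
variable {ρ : X →* MulAut V} {R : Subgroup X} {d : X}

theorem comm_of_card_le_nine {G : Type*} [Group G] [Finite G] (hp : IsPGroup 3 G)
    (hc : Nat.card G < 27) : ∀ a b : G, a * b = b * a := by
  have : Fact (Nat.Prime 3) := ⟨Nat.prime_three⟩
  obtain ⟨m, hm⟩ := IsPGroup.iff_card.1 hp
  have hm3 : m < 3 := by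
    by_contra h
    push Not at h
    have : 3 ^ 3 ≤ 3 ^ m := Nat.pow_le_pow_right (by norm_num) h
    omega
  interval_cases m
  · intro a b
    have : Subsingleton G := (Nat.card_eq_one_iff_unique.1 (by simpa using hm)).1
    exact Subsingleton.elim _ _
  · have hcyc : IsCyclic G := isCyclic_of_prime_card (p := 3) (by simpa using hm)
    intro a b
    exact (IsCyclic.commGroup (α := G)).mul_comm a b
  · exact IsPGroup.commutative_of_card_eq_prime_sq (p := 3) hm

theorem setup_main [Finite X] (S : Setup ρ R d) :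
    (Nat.card R = 3 ∧ ∃ i₀, Inv R d i₀ ∧ i₀ ≠ 1) ∨
    (Nat.card R = 27 ∧ ∃ a b, Inv R d a ∧ Inv R d b ∧ a * b ≠ b * a ∧
      Subgroup.closure {a, b} = R) := by
  have hp3 : Fact (Nat.Prime 3) := ⟨Nat.prime_three⟩
  by_cases hZ : ∃ i₀, Inv R d i₀ ∧ Cen R i₀ ∧ i₀ ≠ 1
  · left
    obtain ⟨i₀, h₀, hc, h01⟩ := hZ
    have hR := cyclic_case S h₀ h01 hc
    have h3 := S.cube i₀ h₀
    have ho : orderOf i₀ = 3 := orderOf_eq_prime h3 h01
    refine ⟨?_, i₀, h₀, h01⟩
    rw [hR, Nat.card_zpowers, ho]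
  · right
    push Not at hZ
    have hZI : ∀ i, Inv R d i → Cen R i → i = 1 := hZ
    have hna : ∃ a ∈ R, ∃ b ∈ R, a * b ≠ b * a := by
      by_contra H
      push Not at H
      have hall : ∀ i, Inv R d i → i = 1 := fun i hi => hZI i hi ⟨hi.1, fun r hr => H i hi.1 r hr⟩
      have hbot : R = ⊥ := by
        rw [← S.gen, Subgroup.closure_eq_bot_iff]
        intro i hi
        rw [Set.mem_singleton_iff]
        exact hall i hi
      obtain ⟨r, hr, hr1⟩ := S.nontriv
      rw [hbot, Subgroup.mem_bot] at hr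
      exact hr1 hr
    obtain ⟨i₁, h₁, hnc, hQ⟩ := exists_i1 S hZI hna
    obtain ⟨i₂, h₂, hne⟩ := exists_i2 S h₁ hnc
    have hle := R_le S hZI h₁ hnc hQ h₂ hne
    have hge : Subgroup.closure ({i₁, i₂} : Set X) ≤ R := by
      rw [Subgroup.closure_le]
      intro x hx
      rcases hx with rfl | hx
      · exact h₁.1
      · rw [Set.mem_singleton_iff] at hx; rw [hx]; exact h₂.1
    have heq : Subgroup.closure ({i₁, i₂} : Set X) = R := le_antisymm hge hle
    have hc := psi_cen hQ h₂.1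
    have hcard : Nat.card ↥(Subgroup.closure ({i₁, i₂} : Set X)) ≤ 27 :=
      card_le_27 (S.cube i₁ h₁) (S.cube i₂ h₂) (psi_cube S hQ h₂) rfl
        (hc.2 i₁ h₁.1) (hc.2 i₂ h₂.1)
    rw [heq] at hcard
    have hnc' : i₁ * i₂ ≠ i₂ * i₁ := fun h => hne ((psi_eq_one_iff _ _).2 h)
    refine ⟨?_, i₁, i₂, h₁, h₂, hnc', heq⟩
    by_contra hlt
    have hlt' : Nat.card ↥R < 27 := lt_of_le_of_ne hcard hlt
    have := comm_of_card_le_nine S.pgrp hlt' ⟨i₁, h₁.1⟩ ⟨i₂, h₂.1⟩
    exact hnc' (congrArg Subtype.val this)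

end Cfsg.Agent.Helper27.TT232B
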