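import Mathlib
import Cfsg.Agent.Lib.Helper27.TT232B5

set_option autoImplicit false

namespace Cfsg.Agent.Helper27.TT232B

/-- PIECE B (the abstract theorem). -/
theorem partB {X : Type*} [Group X] [Finite X] {V : Type*} [CommGroup V]
    (hV2 : ∀ w : V, w * w = 1)
    (ρ : X →* MulAut V) (hρ : Function.Injective ρ)
    (E : Set X)
    (hEo : ∀ x ∈ E, x * x = 1 ∧ x ≠ 1)
    (hE3 : ∀ x ∈ E, ∀ y ∈ E, (x * y) ^ 2 = 1 ∨ (x * y) ^ 3 = 1)
    (hEc : ∀ g : X, ∀ x ∈ E, g * x * g⁻¹ ∈ E)
    (hEt : ∀ x ∈ E, ∀ y ∈ E, ∃ g : X, g * x * g⁻¹ = y)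
    (hEg : Subgroup.closure E = ⊤)
    (hstar : ∀ x ∈ E, ∀ y ∈ E, (x * y) ^ 3 = 1 → x * y ≠ 1 → ∀ w : V, ρ (x * y) w = w → ρ x w = w)
    (P : Sylow 3 X) (hPn : (P : Subgroup X).Normal) (k : ℕ) (hPi : (P : Subgroup X).index = 2 ^ k)
    (h2 : ¬ IsPGroup 2 X) :
    (Nat.card X = 6 ∧ ∃ a b : X, a * b ≠ b * a) ∨
    (Nat.card X = 54 ∧ ∃ a b d : X, a ^ 3 = 1 ∧ b ^ 3 = 1 ∧ d ^ 2 = 1 ∧ d ≠ 1 ∧
        d * a * d⁻¹ = a⁻¹ ∧ d * b * d⁻¹ = b⁻¹ ∧ a * b ≠ b * a ∧
        Subgroup.closure {a, b, d} = ⊤ ∧ d ∈ E ∧ d * a ∈ E ∧ d * b ∈ E) := by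
  classical
  have hp3 : Fact (Nat.Prime 3) := ⟨Nat.prime_three⟩
  have hp2 : Fact (Nat.Prime 2) := ⟨Nat.prime_two⟩
  -- E is nonempty
  obtain ⟨d, hdE⟩ : E.Nonempty := by
    by_contra hE
    rw [Set.not_nonempty_iff_eq_empty] at hE
    rw [hE, Subgroup.closure_empty] at hEg
    apply h2
    intro g
    refine ⟨0, ?_⟩
    have : g ∈ (⊤ : Subgroup X) := Subgroup.mem_top g
    rw [← hEg, Subgroup.mem_bot] at this
    rw [this, one_pow]
  obtain ⟨R, hRdef⟩ : ∃ R : Subgroup X, R = (P : Subgroup X) := ⟨_, rfl⟩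
  have hRn : R.Normal := by rw [hRdef]; exact hPn
  have hR3 : IsPGroup 3 R := by rw [hRdef]; exact P.isPGroup'
  have hRi : R.index = 2 ^ k := by rw [hRdef]; exact hPi
  have hd2 : d * d = 1 := (hEo d hdE).1
  have hd1 : d ≠ 1 := (hEo d hdE).2
  have hdinv : d⁻¹ = d := inv_eq_of_mul_eq_one_right hd2
  have hodd : ∀ r ∈ R, ∃ n : ℕ, r ^ (2 * n + 1) = 1 := by
    intro r hr
    obtain ⟨m, hm⟩ := hR3 ⟨r, hr⟩
    have ho : Odd (3 ^ m) := Odd.pow (by decide)
    obtain ⟨n, hn⟩ := ho
    refine ⟨n, ?_⟩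
    rw [← hn]
    have := congrArg Subtype.val hm
    simpa using this
  have sq_one : ∀ r ∈ R, r * r = 1 → r = 1 := by
    intro r hr h
    obtain ⟨n, hn⟩ := hodd r hr
    have h2' : r ^ 2 = 1 := by rw [pow_two]; exact h
    rw [pow_succ, pow_mul, h2', one_pow, one_mul] at hn
    exact hn
  have hdR : d ∉ R := fun h => hd1 (sq_one d h hd2)
  -- the quotient by R is commutative
  have hquot : ∀ e ∈ E, e * d ∈ R := by
    have hQ2 : IsPGroup 2 (X ⧸ R) := by
      apply IsPGroup.of_card (n := k)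
      rw [← Subgroup.index_eq_card, hRi]
    let π : X →* X ⧸ R := QuotientGroup.mk' R
    have hπsq : ∀ x ∈ E, π x * π x = 1 := by
      intro x hx
      rw [← map_mul, (hEo x hx).1, map_one]
    have hcomm : ∀ x ∈ E, ∀ y ∈ E, π x * π y = π y * π x := by
      intro x hx y hy
      rcases hE3 x hx y hy with h | h
      · have h1 : (π x * π y) * (π x * π y) = 1 := by
          rw [← map_mul, ← pow_two, ← map_pow, h, map_one]
        calc π x * π y = π y * (π y * π x * (π y * π x)) * π x := by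
              have e : π y * (π y * π x * (π y * π x)) * π x
                  = (π y * π y) * (π x * π y) * (π x * π x) := by group
              rw [e, hπsq x hx, hπsq y hy, one_mul, mul_one]
          _ = π y * π x := by
              have e : π y * π x * (π y * π x) = (π y) * ((π x * π y) * (π x * π y)) * (π y)⁻¹ := by
                group
              rw [e, h1, mul_one, mul_inv_cancel, mul_one]
      · have h1 : (π x * π y) ^ 3 = 1 := by rw [← map_mul, ← map_pow, h, map_one]
        obtain ⟨m, hm⟩ := hQ2 (π x * π y)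
        have h3 : (π x * π y) ^ Nat.gcd 3 (2 ^ m) = 1 := pow_gcd_eq_one.2 ⟨h1, hm⟩
        have hg : Nat.gcd 3 (2 ^ m) = 1 := Nat.Coprime.pow_right m (by decide)
        rw [hg, pow_one] at h3
        have hxy : π x = π y := by
          calc π x = (π x * π y) * (π y)⁻¹ := by group
            _ = (π y)⁻¹ := by rw [h3, one_mul]
            _ = π y := inv_eq_of_mul_eq_one_right (hπsq y hy)
        rw [hxy]
    have hcl : Subgroup.closure (π '' E) = ⊤ := by
      rw [← MonoidHom.map_closure, hEg, Subgroup.map_top_of_surjective π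
        (QuotientGroup.mk'_surjective R)]
    have hcen : ∀ e ∈ E, ∀ q : X ⧸ R, q * π e = π e * q := by
      intro e he q
      have hle : Subgroup.closure (π '' E) ≤ Subgroup.centralizer {π e} := by
        rw [Subgroup.closure_le]
        rintro _ ⟨x, hx, rfl⟩
        rw [SetLike.mem_coe, Subgroup.mem_centralizer_iff]
        intro y hy
        rw [Set.mem_singleton_iff] at hy
        rw [hy]
        exact hcomm e he x hx
      have hq : q ∈ Subgroup.centralizer {π e} := hle (by rw [hcl]; exact Subgroup.mem_top q)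
      rw [Subgroup.mem_centralizer_iff] at hq
      exact (hq (π e) (Set.mem_singleton _)).symm
    intro e he
    obtain ⟨g, hg⟩ := hEt d hdE e he
    have h1 : π e = π d := by
      rw [← hg, map_mul, map_mul, hcen d hdE (π g), map_inv]
      group
    have h2' : π (e * d) = 1 := by rw [map_mul, h1, hπsq d hdE]
    exact (QuotientGroup.eq_one_iff _).1 h2'
  -- products e * d are inverted
  have hinvE : ∀ e ∈ E, TT232B.Inv R d (e * d) := by
    intro e he
    refine ⟨hquot e he, ?_⟩
    have heinv : e⁻¹ = e := inv_eq_of_mul_eq_one_right (hEo e he).1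
    calc d * (e * d) * d⁻¹ = d * e := by group
      _ = d⁻¹ * e⁻¹ := by rw [hdinv, heinv]
      _ = (e * d)⁻¹ := by group
  -- d * i ∈ E for inverted i
  have hdi : ∀ i, TT232B.Inv R d i → d * i ∈ E := by
    intro i hi
    obtain ⟨n, hn⟩ := hodd i hi.1
    have hs : TT232B.Inv R d (i ^ (n + 1)) := hi.pow _
    have hss : i ^ (n + 1) * i ^ (n + 1) = i := by
      rw [← pow_add]
      have : n + 1 + (n + 1) = (2 * n + 1) + 1 := by ring
      rw [this, pow_succ, hn, one_mul]
    have h1 : d * i ^ (n + 1) = (i ^ (n + 1))⁻¹ * d := by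
      have := hs.2
      calc d * i ^ (n + 1) = (d * i ^ (n + 1) * d⁻¹) * d := by group
        _ = (i ^ (n + 1))⁻¹ * d := by rw [this]
    have h3 : d * i = (i ^ (n + 1))⁻¹ * d * ((i ^ (n + 1))⁻¹)⁻¹ := by
      rw [inv_inv, ← h1, mul_assoc, hss]
    rw [h3]
    exact hEc _ d hdE
  have hcube : ∀ i, TT232B.Inv R d i → i ^ 3 = 1 := by
    intro i hi
    have hddi : d * (d * i) = i := by rw [← mul_assoc, hd2, one_mul]
    rcases hE3 d hdE (d * i) (hdi i hi) with h | h
    · rw [hddi, pow_two] at h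
      rw [sq_one i hi.1 h, one_pow]
    · rw [hddi] at h; exact h
  have hstar' : ∀ i, TT232B.Inv R d i → i ≠ 1 → ∀ w : V, ρ i w = w → ρ d w = w := by
    intro i hi hi1 w hw
    have hddi : d * (d * i) = i := by rw [← mul_assoc, hd2, one_mul]
    apply hstar d hdE (d * i) (hdi i hi)
    · rw [hddi]; exact hcube i hi
    · rw [hddi]; exact hi1
    · rw [hddi]; exact hw
  -- generation
  obtain ⟨R₁, hR₁⟩ : ∃ R₁ : Subgroup X, R₁ = Subgroup.closure {i | TT232B.Inv R d i} := ⟨_, rfl⟩
  have hR₁le : R₁ ≤ R := by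
    rw [hR₁, Subgroup.closure_le]
    intro i hi
    exact hi.1
  have hR₁d : ∀ x ∈ R₁, d * x * d⁻¹ ∈ R₁ := by
    intro x hx
    have hmap : R₁.map (MulAut.conj d).toMonoidHom ≤ R₁ := by
      rw [hR₁, MonoidHom.map_closure, Subgroup.closure_le]
      rintro _ ⟨i, hi, rfl⟩
      apply Subgroup.subset_closure
      show TT232B.Inv R d (MulAut.conj d i)
      rw [MulAut.conj_apply, (show TT232B.Inv R d i from hi).2]
      exact (show TT232B.Inv R d i from hi).inv
    have := hmap (Subgroup.mem_map_of_mem _ hx)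
    simpa [MulAut.conj_apply] using this
  have hall : ∀ x : X, x ∈ R₁ ∨ x * d ∈ R₁ := by
    intro x
    have hx : x ∈ Subgroup.closure E := by rw [hEg]; exact Subgroup.mem_top x
    have step : ∀ e ∈ E, ∀ y, (y ∈ R₁ ∨ y * d ∈ R₁) → (e * y ∈ R₁ ∨ e * y * d ∈ R₁) := by
      intro e he y hy
      have hi : e * d ∈ R₁ := by
        rw [hR₁]; exact Subgroup.subset_closure (hinvE e he)
      have hed : e = (e * d) * d := by rw [mul_assoc, hd2, mul_one]
      rcases hy with hy | hy
      · right
        have : e * y * d = (e * d) * (d * y * d⁻¹) := by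
          rw [hdinv]
          calc e * y * d = e * (d * d) * y * d := by rw [hd2, mul_one]
            _ = e * d * (d * y * d) := by group
        rw [this]
        exact R₁.mul_mem hi (hR₁d y hy)
      · left
        have : e * y = (e * d) * (d * (y * d) * d⁻¹) := by
          calc e * y = e * (d * d) * y := by rw [hd2, mul_one]
            _ = (e * d) * (d * (y * d) * d⁻¹) := by group
        rw [this]
        exact R₁.mul_mem hi (hR₁d _ hy)
    induction hx using Subgroup.closure_induction_left with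
    | one => left; exact R₁.one_mem
    | mul_left e he y _ ih => exact step e he y ih
    | inv_mul_cancel e he y _ ih =>
      have heinv : e⁻¹ = e := inv_eq_of_mul_eq_one_right (hEo e he).1
      rw [heinv]
      exact step e he y ih
  have hgen : Subgroup.closure {i | TT232B.Inv R d i} = R := by
    rw [← hR₁]
    apply le_antisymm hR₁le
    intro r hr
    rcases hall r with h | h
    · exact h
    · exfalso
      apply hdR
      have : d = r⁻¹ * (r * d) := by group
      rw [this]
      exact R.mul_mem (R.inv_mem hr) (hR₁le h)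
  have hidx : R.index = 2 := by
    rw [Subgroup.index_eq_two_iff_exists_notMem_and]
    refine ⟨d, hdR, fun b => ?_⟩
    rcases hall b with h | h
    · right; exact hR₁le h
    · left; exact hR₁le h
  have hcardX : Nat.card X = Nat.card R * 2 := by
    rw [← hidx, Subgroup.card_mul_index]
  have hnontriv : ∃ r ∈ R, r ≠ 1 := by
    by_contra H
    push Not at H
    have hbot : R = ⊥ := by
      rw [Subgroup.eq_bot_iff_forall]; exact H
    apply h2
    apply IsPGroup.of_card (n := 1)
    rw [hcardX, hbot, Subgroup.card_bot]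
    norm_num
  have S : Setup ρ R d :=
    { hV2 := hV2, inj := hρ, normal := hRn, odd := hodd, pgrp := hR3, nontriv := hnontriv,
      hd2 := hd2, hd1 := hd1, star := hstar', cube := hcube, gen := hgen }
  rcases setup_main S with ⟨h3, i₀, h₀, h01⟩ | ⟨h27, a, b, ha, hb, hab, hcl⟩
  · left
    refine ⟨by rw [hcardX, h3], d, i₀, fun h => ?_⟩
    have h1 : d * i₀ * d⁻¹ = i₀ := by rw [h]; group
    rw [h₀.2] at h1
    apply h01
    apply sq_one i₀ h₀.1
    calc i₀ * i₀ = i₀⁻¹ * i₀ := by rw [h1]
      _ = 1 := inv_mul_cancel _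
  · right
    refine ⟨by rw [hcardX, h27], a, b, d, hcube a ha, hcube b hb, by rw [pow_two]; exact hd2, hd1,
      ha.2, hb.2, hab, ?_, hdE, hdi a ha, hdi b hb⟩
    rw [eq_top_iff]
    intro x _
    have hRle : R ≤ Subgroup.closure ({a, b, d} : Set X) := by
      rw [← hcl]
      apply Subgroup.closure_mono
      intro y hy
      rcases hy with rfl | hy
      · exact Set.mem_insert _ _
      · rw [Set.mem_singleton_iff] at hy
        rw [hy]; exact Set.mem_insert_of_mem _ (Set.mem_insert _ _)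
    have hdK : d ∈ Subgroup.closure ({a, b, d} : Set X) :=
      Subgroup.subset_closure (Set.mem_insert_of_mem _ (Set.mem_insert_of_mem _ (Set.mem_singleton _)))
    rcases hall x with h | h
    · exact hRle (hR₁le h)
    · have : x = (x * d) * d⁻¹ := by group
      rw [this]
      exact Subgroup.mul_mem _ (hRle (hR₁le h)) (Subgroup.inv_mem _ hdK)

end Cfsg.Agent.Helper27.TT232B
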