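import Mathlib
import Cfsg.Agent.Lib.Helper27.Tw6Defs
import Cfsg.Agent.Lib.Helper13.InvNAsmA
import Cfsg.Agent.Lib.Lead.TwCore

/-!
S2182, pieces RCOMM and FIXA: the cell word of an element of the twisted group commutes with `ρ`, and the unipotent
part of the form `a h n_w` of an element of the twisted group is fixed.
-/

set_option autoImplicit false
set_option linter.unusedSectionVars false
set_option linter.unusedVariables false

namespace Cfsg.Agent.Helper27.Tw6

open Cfsg Cfsg.Lie Cfsg.Agent.Lead.Chev Cfsg.Agent.Lead.Tw Cfsg.Agent.Helper13.InvN Cfsg.Agent.Helper6.ChevL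

variable {K : Type*} [Field K] [Fintype K] {D : ChevalleyDatum} {hF : ChevFacts D K}
  {T : Twist D K hF.xadd} {π' : ℕ → ℕ} {S l₀ : List (List ℕ)} {f : K ≃+* K} (hX : Ctx hF T π' S l₀ f)
include hX

/-- PIECE RCOMM: the word of the cell of an element of `G₁` commutes with `ρ` -/
theorem cell_rhoComm (g : GL D.Idx K) (hg : g ∈ orthGroup hF T S) (w : List ℕ) (hw : WOK D w)
    (h : InCell hF g w) : RhoComm D T.ρ w := by
  have hS := hX.corS
  have hI := hX.corI
  obtain ⟨u₁, hu₁, n, hn, u, hu, h1, h2, h3, e⟩ := hX.twg.exists_decomp hS g hg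
  obtain ⟨k, hk, w', hw', hc, en⟩ := hX.twg.exists_word n hn h2
  have hcell : InCell hF g w' :=
    ⟨u₁ * k, mul_mem (posUnipotent_le_borel D hu₁) (diagonal_le_borel D hk), u, posUnipotent_le_borel D hu, by
      rw [e, en]; group⟩
  have hsame := invol_cell_unique hF hS hI g w' w hw' hw hcell h
  exact hc.congr T.ρ_lt hsame

/-- PIECE FIXA: the unipotent part of the form of an element of `G₁` is fixed -/
theorem good_fixed (t : GL D.Idx K) (ht : t ∈ orthGroup hF T S) (w : List ℕ) (hw : WOK D w)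
    (a h : GL D.Idx K) (hG : Good hF t w a h) : T.σ a = a ∧ a ∈ orthGroup hF T S := by
  have hS := hX.corS
  have hI := hX.corI
  have hcell := asm_good_cell hF hS hI t w a h hG
  obtain ⟨e, haU, hh, -⟩ := hG
  have hfix := hX.orth.fixed t ht
  have haG := hF.posUnipotent_le_group haU
  have hhG := hF.diagonal_le_group hh
  have hnG := nWordGL_mem_group D hF.xadd w
  obtain ⟨h', hh', en⟩ := T.map_nWordGL hF w hw
  have hwπ := T.map_valid hF w hw
  have hσa := T.map_mem_posUnipotent hF a haU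
  have hσh := T.map_mem_diagonal hF h hh
  -- `t` lies in the cell of `w.map π`
  have et : t = T.σ a * (T.σ h * h') * nWordGL D hF.xadd (w.map T.π) := by
    rw [← hfix]
    conv_lhs => rw [e, T.map_mul _ _ (mul_mem haG hhG) hnG, T.map_mul _ _ haG hhG, en]
    group
  have hcell' : InCell hF t (w.map T.π) :=
    ⟨T.σ a * (T.σ h * h'), mul_mem (posUnipotent_le_borel D hσa) (diagonal_le_borel D (mul_mem hσh hh')), 1,
      one_mem _, by rw [mul_one]; exact et⟩
  have hsame := invol_cell_unique hF hS hI t (w.map T.π) w hwπ hw hcell' hcell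
  have hk := monomial_mul_inv_mem_diagonal hF 1 1 (one_mem _) (one_mem _) (w.map T.π) w hwπ hw hsame
  rw [one_mul, one_mul] at hk
  set k := nWordGL D hF.xadd (w.map T.π) * (nWordGL D hF.xadd w)⁻¹ with hkdef
  have en2 : nWordGL D hF.xadd (w.map T.π) = k * nWordGL D hF.xadd w := by rw [hkdef]; group
  -- `a⁻¹ σ(a) ∈ U ∩ H`
  have e2 : a⁻¹ * T.σ a = h * (T.σ h * h' * k)⁻¹ := by
    have e3 : a * h * nWordGL D hF.xadd w = T.σ a * (T.σ h * h' * k) * nWordGL D hF.xadd w := by
      rw [← e, et, en2]; group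
    have e4 : a * h = T.σ a * (T.σ h * h' * k) := mul_right_cancel e3
    calc a⁻¹ * T.σ a = a⁻¹ * (T.σ a * (T.σ h * h' * k)) * (T.σ h * h' * k)⁻¹ := by group
      _ = a⁻¹ * (a * h) * (T.σ h * h' * k)⁻¹ := by rw [e4]
      _ = _ := by group
  have h1 : a⁻¹ * T.σ a = 1 := by
    apply ChevFacts'.eq_one_of_mem_posUnipotent_of_mem_diagonal hF _ (mul_mem (inv_mem haU) hσa)
    rw [e2]
    exact mul_mem hh (inv_mem (mul_mem (mul_mem hσh hh') hk))
  have hσ : T.σ a = a := by
    calc T.σ a = a * (a⁻¹ * T.σ a) := by group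
      _ = a := by rw [h1, mul_one]
  exact ⟨hσ, hX.twg.U_le a haU hσ⟩

end Cfsg.Agent.Helper27.Tw6
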