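import Mathlib
import Cfsg.Agent.Lib.Helper27.Tw6Defs
import Cfsg.Agent.Lib.Helper27.Tw6FIXA
import Cfsg.Agent.Lib.Helper17.InvNCONDM

/-!
S2182, piece CONDT: in a cell which is maximal among the conjugates under the twisted group, every class is made negative
or permuted.
-/

set_option autoImplicit false
set_option linter.unusedSectionVars false
set_option linter.unusedVariables false

namespace Cfsg.Agent.Helper27.Tw6

open Cfsg Cfsg.Lie Cfsg.Agent.Lead.Chev Cfsg.Agent.Lead.Tw Cfsg.Agent.Helper13.InvN Cfsg.Agent.Helper6.ChevL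

variable {K : Type*} [Field K] [Fintype K] [CharP K 2] {D : ChevalleyDatum} {hF : ChevFacts D K}
  {T : Twist D K hF.xadd} {π' : ℕ → ℕ} {S l₀ : List (List ℕ)} {f : K ≃+* K} (hX : Ctx hF T π' S l₀ f)
include hX

/-- one conjugation step by `n_i`: the cell of `i :: (w ++ [i])`, longer by 2 -/
theorem tw6condt_step (g : GL D.Idx K) (w : List ℕ) (hw : WOK D w) (i : ℕ) (hi : i < D.rank)
    (hcell : InCell hF g w) (hpos : D.IsPosRoot (reflWord D w (D.simple i)))
    (hpos2 : D.IsPosRoot (reflWord D (w ++ [i]).reverse (D.simple i))) :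
    InCell hF (nGL D hF.xadd (D.simple i) * g * (nGL D hF.xadd (D.simple i))⁻¹) (i :: (w ++ [i])) ∧
      len D w + 2 ≤ len D (i :: (w ++ [i])) := by
  have hS := hX.corS
  have hI := hX.corI
  have h1 := cell_mul_simple hF hS hI g w hw i hi hpos hcell
  have h2 := cell_simple_mul hF hS hI _ (w ++ [i]) (hw.snoc hi) i hi hpos2 h1
  have e : nGL D hF.xadd (D.simple i) * (g * (nGL D hF.xadd (D.simple i))⁻¹) =
      nGL D hF.xadd (D.simple i) * g * (nGL D hF.xadd (D.simple i))⁻¹ := by group
  rw [e] at h2
  have l1 := len_snoc_lt hF hS hI w hw i hi hpos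
  have l2 := len_cons_lt hF hS hI (w ++ [i]) (hw.snoc hi) i hi hpos2
  exact ⟨h2, by omega⟩

/-- PIECE CONDT: maximality among the `G₁`-conjugates: every class is made negative or permuted -/
theorem condT_of_max (g : GL D.Idx K) (hg : g ∈ orthGroup hF T S) (hgg : g * g = 1) (w : List ℕ) (hw : WOK D w)
    (h : IsMaxCellT hF (orthGroup hF T S) g w) : CondT D S w := by
  have hS := hX.corS
  have hI := hX.corI
  obtain ⟨hcell, hmax⟩ := h
  obtain ⟨hinv, hrev⟩ := invol_of_sq hF hS hI g hgg w hw hcell
  have hrc := cell_rhoComm hX g hg w hw hcell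
  intro v hv
  have hvalid := hX.valid v hv
  have hpm := hX.orth.perm v hv
  by_cases hex : ∃ i ∈ v, D.IsNegRoot (reflWord D w (D.simple i))
  · left
    obtain ⟨i₀, hi₀, hn₀⟩ := hex
    intro k hk
    rcases hX.orb v hv i₀ hi₀ k hk with rfl | rfl
    · exact hn₀
    · rw [← T.ρ_simple i₀ (hvalid i₀ hi₀), hrc _ (hF.simple_lt i₀ (hvalid i₀ hi₀))]
      exact T.ρ_negRoot hF _ hn₀
  · right
    push Not at hex
    have hpos : ∀ i ∈ v, D.IsPosRoot (reflWord D w (D.simple i)) := by
      intro i hi
      rcases hF.sign.pos_or_neg _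
        (reflWord_lt D (etaOf D) hF.facts w hw _ (hF.simple_lt i (hvalid i hi))) with h1 | h1
      · exact h1
      · exact absurd h1 (hex i hi)
    by_cases hex2 : ∃ i ∈ v, ∃ j ∈ v, reflWord D w (D.simple i) = D.simple j
    · obtain ⟨i₀, hi₀, j₀, hj₀, e₀⟩ := hex2
      intro k hk
      rcases hX.orb v hv i₀ hi₀ k hk with rfl | rfl
      · exact ⟨j₀, hj₀, e₀⟩
      · refine ⟨T.π j₀, hpm.mem j₀ hj₀, ?_⟩
        rw [← T.ρ_simple i₀ (hvalid i₀ hi₀), hrc _ (hF.simple_lt i₀ (hvalid i₀ hi₀)), e₀,
          T.ρ_simple j₀ (hvalid j₀ hj₀)]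
    · exfalso
      push Not at hex2
      have hnv := hX.orth.s_mem v hv
      have hnd := (hX.orth.cls v hv).nodup
      have hlen := hX.len2 v hv
      have hne := hX.orth.ne_nil v hv
      match v, hv, hvalid, hpos, hex2, hnv, hnd, hlen, hne with
      | [], _, _, _, _, _, _, _, hne => exact hne rfl
      | [i], hv, hvalid, hpos, hex2, hnv, _, _, _ =>
        have hi := hvalid i (by simp)
        have hp := hpos i (by simp)
        have hfix : reflWord D w (D.simple i) ≠ D.simple i := hex2 i (by simp) i (by simp)
        have hpos2 : D.IsPosRoot (reflWord D (w ++ [i]).reverse (D.simple i)) := by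
          rw [List.reverse_append, List.reverse_singleton, List.singleton_append]
          show D.IsPosRoot (D.reflectRoot i (reflWord D w.reverse (D.simple i)))
          rw [hrev _ (hF.simple_lt i hi)]
          exact hF.refl.refl_pos i hi _ hp hfix
        obtain ⟨c1, c2⟩ := tw6condt_step hX g w hw i hi hcell hp hpos2
        have en : nWordGL D hF.xadd [i] = nGL D hF.xadd (D.simple i) := by
          rw [nWordGL_cons, nWordGL_nil, mul_one]
        rw [en] at hnv
        have h3 := hmax _ hnv (i :: (w ++ [i])) (WOK.cons hi (hw.snoc hi)) c1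
        omega
      | [i, j], hv, hvalid, hpos, hex2, hnv, hnd, _, _ =>
        have hi := hvalid i (by simp)
        have hj := hvalid j (by simp)
        have hij : i ≠ j := by
          intro h
          simp [h] at hnd
        have hpi := hpos i (by simp)
        have hpj := hpos j (by simp)
        have hαi := hF.simple_lt i hi
        have hαj := hF.simple_lt j hj
        have hrji : D.reflectRoot j (D.simple i) = D.simple i :=
          hX.orthRefl _ hv j (by simp) i (by simp) (Ne.symm hij)
        -- step 1: conjugation by `n_j`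
        have hpos2j : D.IsPosRoot (reflWord D (w ++ [j]).reverse (D.simple j)) := by
          rw [List.reverse_append, List.reverse_singleton, List.singleton_append]
          show D.IsPosRoot (D.reflectRoot j (reflWord D w.reverse (D.simple j)))
          rw [hrev _ hαj]
          exact hF.refl.refl_pos j hj _ hpj (hex2 j (by simp) j (by simp))
        obtain ⟨c1, c2⟩ := tw6condt_step hX g w hw j hj hcell hpj hpos2j
        have hw1 : WOK D (j :: (w ++ [j])) := WOK.cons hj (hw.snoc hj)
        -- `s_j (w α_i)` is positive and is not `α_i`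
        have hsj : D.IsPosRoot (D.reflectRoot j (reflWord D w (D.simple i))) :=
          hF.refl.refl_pos j hj _ hpi (hex2 i (by simp) j (by simp))
        have hsjne : D.reflectRoot j (reflWord D w (D.simple i)) ≠ D.simple i := by
          intro h
          have h1 := congrArg (D.reflectRoot j) h
          rw [(hF.facts j hj).winv _ hpi.1, hrji] at h1
          exact hex2 i (by simp) i (by simp) h1
        -- step 2: conjugation by `n_i`
        have hposi : D.IsPosRoot (reflWord D (j :: (w ++ [j])) (D.simple i)) := by
          show D.IsPosRoot (D.reflectRoot j (reflWord D (w ++ [j]) (D.simple i)))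
          rw [reflWord_append]
          show D.IsPosRoot (D.reflectRoot j (reflWord D w (D.reflectRoot j (D.simple i))))
          rw [hrji]
          exact hsj
        have hpos2i : D.IsPosRoot (reflWord D ((j :: (w ++ [j])) ++ [i]).reverse (D.simple i)) := by
          rw [List.reverse_append, List.reverse_singleton, List.singleton_append, List.reverse_cons,
            List.reverse_append, List.reverse_singleton, List.singleton_append]
          show D.IsPosRoot (D.reflectRoot i (reflWord D ((j :: w.reverse) ++ [j]) (D.simple i)))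
          rw [reflWord_append]
          show D.IsPosRoot (D.reflectRoot i (D.reflectRoot j (reflWord D w.reverse (D.reflectRoot j (D.simple i)))))
          rw [hrji, hrev _ hαi]
          exact hF.refl.refl_pos i hi _ hsj hsjne
        obtain ⟨d1, d2⟩ := tw6condt_step hX _ (j :: (w ++ [j])) hw1 i hi c1 hposi hpos2i
        have en : nWordGL D hF.xadd [i, j] = nGL D hF.xadd (D.simple i) * nGL D hF.xadd (D.simple j) := by
          rw [nWordGL_cons, nWordGL_cons, nWordGL_nil, mul_one]
        have e : nWordGL D hF.xadd [i, j] * g * (nWordGL D hF.xadd [i, j])⁻¹ =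
            nGL D hF.xadd (D.simple i) * (nGL D hF.xadd (D.simple j) * g * (nGL D hF.xadd (D.simple j))⁻¹) *
              (nGL D hF.xadd (D.simple i))⁻¹ := by
          rw [en]; group
        rw [← e] at d1
        have h3 := hmax _ hnv _ (WOK.cons hi (hw1.snoc hi)) d1
        omega
      | _ :: _ :: _ :: _, _, _, _, _, _, _, hlen, _ => simp at hlen

end Cfsg.Agent.Helper27.Tw6
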