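import Mathlib
import Cfsg.Agent.Lib.Helper27.Tw6Defs
import Cfsg.Agent.Lib.Helper28.Tw6UVA
import Cfsg.Agent.Lib.Lead.TwCore
import Cfsg.Agent.Lib.Lead.TwU

/-!
S2182, pieces UVB and DECF: the decomposition `U = UV v · X_v` for a class `v`, its uniqueness, and the fixed points.
-/

set_option autoImplicit false
set_option linter.unusedSectionVars false
set_option linter.unusedVariables false

namespace Cfsg.Agent.Helper27.Tw6

open Cfsg Cfsg.Lie Cfsg.Agent.Lead.Chev Cfsg.Agent.Lead.Tw Cfsg.Agent.Helper13.InvN Cfsg.Agent.Helper6.ChevL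

variable {K : Type*} [Field K] [Fintype K] [CharP K 2] {D : ChevalleyDatum} {hF : ChevFacts D K}
  {T : Twist D K hF.xadd} {π' : ℕ → ℕ} {S l₀ : List (List ℕ)} {f : K ≃+* K} (hX : Ctx hF T π' S l₀ f)
include hX

/-- PIECE UVB (1): `U = UV v · X_v` -/
theorem uv_decomp (v : List ℕ) (hv : v ∈ S) (u : GL D.Idx K) (hu : u ∈ D.posUnipotent K) :
    ∃ a' ∈ UV D K v, ∃ φ : ℕ → K, u = a' * xs hF v φ := by
  have hcl := hX.orth.cls v hv
  unfold ChevalleyDatum.posUnipotent at hu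
  induction hu using Subgroup.closure_induction with
  | mem x hx =>
    obtain ⟨r, t, hr, hxe⟩ := hx
    have hxe' : x = xGL D hF.xadd r t := Units.ext (by rw [hxe, xGL_val])
    by_cases hsub : D.InRootSub (letters v) r
    · obtain ⟨i, hi, rfl⟩ := hX.sub v hv r hr hsub
      refine ⟨1, one_mem _, fun j => if j = i then t else 0, ?_⟩
      rw [one_mul, xs_single hF v hcl.nodup i hi, hxe']
    · refine ⟨x, Subgroup.subset_closure ⟨r, t, hr, hsub, hxe⟩, fun _ => 0, ?_⟩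
      rw [xs_zero, mul_one]
  | one => exact ⟨1, one_mem _, fun _ => 0, by rw [xs_zero, mul_one]⟩
  | mul x y _ _ hx hy =>
    obtain ⟨a, ha, φ, rfl⟩ := hx
    obtain ⟨b, hb, ψ, rfl⟩ := hy
    refine ⟨a * (xs hF v φ * b * (xs hF v φ)⁻¹), mul_mem ha (uv_conj hX v _ (par_xs hX v hv φ) b hb),
      fun i => φ i + ψ i, ?_⟩
    rw [xs_add hF hcl]
    group
  | inv x _ hx =>
    obtain ⟨a, ha, φ, rfl⟩ := hx
    refine ⟨(xs hF v φ)⁻¹ * a⁻¹ * ((xs hF v φ)⁻¹)⁻¹, uv_conj hX v _ (inv_mem (par_xs hX v hv φ)) _ (inv_mem ha),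
      fun i => - φ i, ?_⟩
    rw [← xs_inv hF hcl]
    group

/-- PIECE UVB (2): `UV v ∩ X_v = 1` -/
theorem uv_xs_zero (v : List ℕ) (hv : v ∈ S) (φ : ℕ → K) (h : xs hF v φ ∈ UV D K v) : ∀ i ∈ v, φ i = 0 := by
  have hcl := hX.orth.cls v hv
  have hvv := hX.valid v hv
  have h1 : nWordGL D hF.xadd v * xs hF v φ * (nWordGL D hF.xadd v)⁻¹ ∈ D.borelSubgroup K :=
    posUnipotent_le_borel D (uv_le hX v (uv_conj hX v _ (par_nWord hX v hv) _ h))
  have h2 : nWordGL D hF.xadd v * xs hF v φ * (nWordGL D hF.xadd v)⁻¹ ∈ D.negUnipotent K :=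
    ChevFacts'.conj_negPart_mem_negUnipotent hF v hvv _ (xs_mem_negPart hF hcl φ (hX.orth.neg_simple v hv))
  have h3 : nWordGL D hF.xadd v * xs hF v φ * (nWordGL D hF.xadd v)⁻¹ ∈
      D.borelSubgroup K ⊓ D.negUnipotent K := ⟨h1, h2⟩
  rw [hF.borel_inf_negUnipotent, Subgroup.mem_bot] at h3
  have h4 : xs hF v φ = 1 := by
    calc xs hF v φ = (nWordGL D hF.xadd v)⁻¹ * (nWordGL D hF.xadd v * xs hF v φ * (nWordGL D hF.xadd v)⁻¹) *
          nWordGL D hF.xadd v := by group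
      _ = 1 := by rw [h3]; group
  exact xs_eq_one hF hcl φ h4

/-- PIECE DECF (1): `σ` preserves `UV v` -/
theorem uv_map (v : List ℕ) (hv : v ∈ S) (a : GL D.Idx K) (ha : a ∈ UV D K v) : T.σ a ∈ UV D K v := by
  have key : ∀ a ∈ UV D K v, a ∈ D.group K ∧ T.σ a ∈ UV D K v := by
    intro a ha
    induction ha using Subgroup.closure_induction with
    | mem x hx =>
      obtain ⟨r, t, hr, hsub, hxe⟩ := hx
      have hxe' : x = xGL D hF.xadd r t := Units.ext (by rw [hxe, xGL_val])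
      rw [hxe', T.map_x r hr.1]
      refine ⟨xGL_mem_group D hF.xadd _ _, Subgroup.subset_closure ⟨_, _, T.ρ_pos r hr, ?_, xGL_val D hF.xadd _ _⟩⟩
      intro h
      exact hsub (hX.rsub v hv r hr.1 h)
    | one => exact ⟨one_mem _, by rw [T.map_one hF]; exact one_mem _⟩
    | mul x y _ _ hx hy =>
      refine ⟨mul_mem hx.1 hy.1, ?_⟩
      rw [T.map_mul x y hx.1 hy.1]
      exact mul_mem hx.2 hy.2
    | inv x _ hx =>
      refine ⟨inv_mem hx.1, ?_⟩
      rw [T.map_inv hF x hx.1]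
      exact inv_mem hx.2
  exact (key a ha).2

/-- PIECE DECF (2): a fixed element of `U` is `a' x_v(φ)` with `a' ∈ UV v` fixed and `φ` fixed -/
theorem fixed_class_decomp (v : List ℕ) (hv : v ∈ S) (u : GL D.Idx K) (hu : u ∈ D.posUnipotent K)
    (hfix : T.σ u = u) :
    ∃ a' ∈ UV D K v, ∃ φ : ℕ → K, T.σ a' = a' ∧ FixPos hF T v φ ∧ u = a' * xs hF v φ := by
  have hcl := hX.orth.cls v hv
  have hpm := hX.orth.perm v hv
  have hvv := hX.valid v hv
  obtain ⟨a', ha', φ, e⟩ := uv_decomp hX v hv u hu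
  have ha'U := uv_le hX v ha'
  have ha'G := hF.posUnipotent_le_group ha'U
  have hxG := xs_mem_group hF v φ
  -- the image of `x_v(φ)`
  set φ' : ℕ → K := fun j => T.c (D.simple (π' j)) (φ (π' j)) with hφ'
  have hmap : T.σ (xs hF v φ) = xs hF v φ' := by
    apply T.map_xs hF hcl hpm φ φ'
    intro i hi
    show T.c (D.simple (π' (T.π i))) (φ (π' (T.π i))) = _
    rw [hpm.left i hi]
  have e1 : a' * xs hF v φ = T.σ a' * xs hF v φ' := by
    rw [← hmap, ← T.map_mul _ _ ha'G hxG, ← e, hfix]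
  have hσa' := uv_map hX v hv a' ha'
  -- `x_v(φ' - φ) ∈ UV v`
  have e2 : xs hF v (fun i => φ' i + - φ i) = (T.σ a')⁻¹ * a' := by
    rw [xs_add hF hcl, ← xs_inv hF hcl]
    calc xs hF v φ' * (xs hF v φ)⁻¹ = (T.σ a')⁻¹ * (T.σ a' * xs hF v φ') * (xs hF v φ)⁻¹ := by group
      _ = (T.σ a')⁻¹ * (a' * xs hF v φ) * (xs hF v φ)⁻¹ := by rw [e1]
      _ = _ := by group
  have h0 := uv_xs_zero hX v hv _ (by rw [e2]; exact mul_mem (inv_mem hσa') ha')
  have hφeq : ∀ i ∈ v, φ' i = φ i := by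
    intro i hi
    have := h0 i hi
    exact add_neg_eq_zero.1 this
  have hxeq : xs hF v φ' = xs hF v φ := xs_congr hF v φ' φ hφeq
  refine ⟨a', ha', φ, ?_, ?_, e⟩
  · rw [hxeq] at e1
    exact (mul_right_cancel e1).symm
  · intro i hi
    rw [← hφeq (T.π i) (hpm.mem i hi)]
    show T.c (D.simple (π' (T.π i))) (φ (π' (T.π i))) = _
    rw [hpm.left i hi]

end Cfsg.Agent.Helper27.Tw6
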