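import Mathlib
import Cfsg.Agent.Lib.Helper27.Tw6Defs
import Cfsg.Agent.Lib.Lead.TwE6Grp

/-!
The context record of `²E₆(q)`.
-/

set_option autoImplicit false
set_option linter.unusedSectionVars false
set_option linter.unusedVariables false

namespace Cfsg.Agent.Helper27.Tw6

open Cfsg Cfsg.Lie Cfsg.Agent.Lead.Chev Cfsg.Agent.Lead.Tw Cfsg.Agent.Helper13.InvN Cfsg.Agent.Helper6.ChevL
  Cfsg.Agent.Helper6.ChevC

theorem e6_len2 : ∀ v ∈ E6.S, v.length ≤ 2 := by decide

theorem e6_orb : ∀ v ∈ E6.S, ∀ i ∈ v, ∀ j ∈ v, j = i ∨ j = E6.πs i := by decide +kernel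

theorem e6_sub : ∀ v ∈ E6.S, ∀ r < 72, chevE6.IsPosRoot r → chevE6.InRootSub (letters v) r →
    ∃ i ∈ v, r = chevE6.simple i := by
  unfold ChevalleyDatum.InRootSub ChevalleyDatum.IsPosRoot
  decide +kernel

theorem e6_rsub : ∀ v ∈ E6.S, ∀ r < 72, chevE6.InRootSub (letters v) (GE6.gp.π r) →
    chevE6.InRootSub (letters v) r := by
  unfold ChevalleyDatum.InRootSub
  decide +kernel

theorem e6_orthRefl : ∀ v ∈ E6.S, ∀ i ∈ v, ∀ j ∈ v, i ≠ j →
    chevE6.reflectRoot i (chevE6.simple j) = chevE6.simple j := by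
  decide +kernel

variable {K : Type*} [Field K] [Fintype K]

/-- the Frobenius map `t ↦ t ^ q` of a field with `q ^ 2` elements is not the identity -/
theorem e6_frob_ne {q : ℕ} (hK : Fintype.card K = q ^ 2) : ∃ t : K, t ^ q ≠ t := by
  classical
  by_contra hcon
  push Not at hcon
  have hq : 1 < q := by
    have h1 : 1 < Fintype.card K := Fintype.one_lt_card
    rw [hK] at h1
    by_contra h
    have : q ≤ 1 := not_lt.1 h
    interval_cases q <;> simp at h1
  have hp : (Polynomial.X ^ q - Polynomial.X : Polynomial K) ≠ 0 :=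
    FiniteField.X_pow_card_sub_X_ne_zero K hq
  have hdeg : (Polynomial.X ^ q - Polynomial.X : Polynomial K).natDegree = q :=
    FiniteField.X_pow_card_sub_X_natDegree_eq K hq
  have hsub : (Finset.univ : Finset K).val ⊆ (Polynomial.X ^ q - Polynomial.X : Polynomial K).roots := by
    intro t _
    rw [Polynomial.mem_roots hp]
    simp [hcon t]
  have h2 := Polynomial.card_le_degree_of_subset_roots hsub
  rw [hdeg, Finset.card_univ, hK] at h2
  nlinarith

/-- the context record of `²E₆(q)` -/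
theorem ctxE6 {q : ℕ} (hK : Fintype.card K = q ^ 2) (f : K ≃+* K) (hf : ∀ t, f t = t ^ q) :
    Ctx (E6.hF (K := K)) (E6.tw f) E6.πs E6.S E6.l₀ f where
  orth := E6.orthData f
  mem := E6.hmem
  len2 := e6_len2
  orb := e6_orb
  cpos := fun i hi t => E6.c_simple f i hi t
  cneg := fun i hi t => E6.c_neg_simple f i hi t
  ff := fun t => by rw [hf, hf, E6.frob_sq hK f hf]
  fne := by
    obtain ⟨t, ht⟩ := e6_frob_ne hK
    exact ⟨t, by rw [hf]; exact ht⟩
  sub := fun v hv r hr hsub => e6_sub v hv r hr.1 hr hsub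
  rsub := fun v hv r hr h => e6_rsub v hv r hr h
  orthRefl := e6_orthRefl

end Cfsg.Agent.Helper27.Tw6
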