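import Mathlib
import Cfsg.Agent.Lib.Helper27.Tw6Defs
import Cfsg.Agent.Lib.Helper27.Tw6E6
import Cfsg.Agent.Lib.Helper27.Tw6FIXA
import Cfsg.Agent.Lib.Helper27.Tw6DECF
import Cfsg.Agent.Lib.Helper27.Tw6CONDT
import Cfsg.Agent.Lib.Helper13.InvNAsmA
import Cfsg.Agent.Lib.Lead.TwE6Grp
import Cfsg.Agent.Lib.Helper11.Tw6CELLV
import Cfsg.Agent.Lib.Helper11.Tw6SWAPB
import Cfsg.Agent.Lib.Helper15.Tw6LONGT
import Cfsg.Agent.Lib.Helper16.Tw6LENV
import Cfsg.Agent.Lib.Helper16.Tw6MAXT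
import Cfsg.Agent.Lib.Helper19.Tw6FORMT
import Cfsg.Agent.Lib.Helper28.Tw6NVW
import Cfsg.Agent.Lib.Helper28.Tw6OSTEP1
import Cfsg.Agent.Lib.Helper28.Tw6OSTEP1Core
import Cfsg.Agent.Lib.Helper28.Tw6OSTEP3
import Cfsg.Agent.Lib.Helper28.Tw6UVA

/-!
S2182, Part A assembled: every element of square 1 of the twisted group `G₁` of an orthogonal twisting datum with classes
of length at most 2 is conjugate under `G₁` to an element `h n_w` of the monomial subgroup; the instance `²E₆(q)`.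
-/

set_option autoImplicit false
set_option linter.unusedSectionVars false
set_option linter.unusedVariables false

namespace Cfsg.Agent.Helper27.Tw6

open Cfsg Cfsg.Lie Cfsg.Agent.Lead.Chev Cfsg.Agent.Lead.Tw Cfsg.Agent.Helper13.InvN Cfsg.Agent.Helper6.ChevL

variable {K : Type*} [Field K] [Fintype K] [CharP K 2] {D : ChevalleyDatum} {hF : ChevFacts D K}
  {T : Twist D K hF.xadd} {π' : ℕ → ℕ} {S l₀ : List (List ℕ)} {f : K ≃+* K} (hX : Ctx hF T π' S l₀ f)
include hX

/-! ### COORDT and WORDT (helper27) -/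

/-- PIECE COORDT (1): the coordinates of a permuted class vanish -/
theorem coord_zero_perm (t : GL D.Idx K) (ht : t ∈ orthGroup hF T S) (htt : t * t = 1) (w : List ℕ) (hw : WOK D w)
    (hmax : IsMaxCellT hF (orthGroup hF T S) t w) (a h : GL D.Idx K) (hG : Good hF t w a h)
    (v : List ℕ) (hv : v ∈ S) (hp : PermV D v w) : a ∈ UV D K v := by
  obtain ⟨hfa, -⟩ := good_fixed hX t ht w hw a h hG
  obtain ⟨a', ha', φ, -, hφ, e⟩ := fixed_class_decomp hX v hv a hG.2.1 hfa
  by_cases hz : ∀ i ∈ v, φ i = 0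
  · have h1 : xs hF v φ = 1 := by rw [xs_congr hF v φ (fun _ => 0) hz, xs_zero]
    rw [e, h1, mul_one]
    exact ha'
  · exfalso
    push Not at hz
    obtain ⟨i₀, hi₀, hne₀⟩ := hz
    have hall : ∀ i ∈ v, φ i ≠ 0 := by
      intro i hi
      rcases hX.orb v hv i₀ hi₀ i hi with rfl | rfl
      · exact hne₀
      · rw [hφ i₀ hi₀]
        exact T.c_ne _ (hF.simple_lt i₀ (hX.valid v hv i₀ hi₀)) _ hne₀
    have hcell := step_cellT hX v hv t w hw a h hG hp a' ha' φ hall e
    have h1 := hmax.2 _ (hX.orth.s_mem v hv) (v ++ w) (WOK.append (hX.valid v hv) hw) hcell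
    have h2 := len_class_lt hX v hv w hw hp
    omega

/-- PIECE COORDT (2): both sides -/
theorem coord_zeroT (t : GL D.Idx K) (ht : t ∈ orthGroup hF T S) (htt : t * t = 1) (w : List ℕ) (hw : WOK D w)
    (hmax : IsMaxCellT hF (orthGroup hF T S) t w) (a h : GL D.Idx K) (hG : Good hF t w a h)
    (v : List ℕ) (hv : v ∈ S) (hfix : ∀ i ∈ v, reflWord D w (D.simple i) = D.simple i) :
    a ∈ UV D K v ∧ (nWordGL D hF.xadd w)⁻¹ * a * nWordGL D hF.xadd w ∈ UV D K v := by
  have hS := hX.corS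
  have hI := hX.corI
  have hp : PermV D v w := PermV.of_fix hfix
  refine ⟨coord_zero_perm hX t ht htt w hw hmax a h hG v hv hp, ?_⟩
  have hinv := (invol_of_sq hF hS hI t htt w hw hmax.1).1
  obtain ⟨k, hk, h', hG'⟩ := good_mirror hF hS hI t htt w hw hinv a h hG
  have h1 := coord_zero_perm hX t ht htt w hw hmax _ h' hG' v hv hp
  have hkP : k⁻¹ ∈ PV D K v := par_borel hX v (diagonal_le_borel D (inv_mem hk))
  have h2 := uv_conj hX v k⁻¹ hkP _ h1
  have e : k⁻¹ * (k * ((nWordGL D hF.xadd w)⁻¹ * a⁻¹ * nWordGL D hF.xadd w) * k⁻¹) * k⁻¹⁻¹ =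
      ((nWordGL D hF.xadd w)⁻¹ * a * nWordGL D hF.xadd w)⁻¹ := by group
  rw [e] at h2
  exact (Subgroup.inv_mem_iff _).1 h2

/-- a product of class words lies in `G₁` -/
theorem tw6wordt_flatten_mem (l : List (List ℕ)) (hl : ∀ v ∈ l, v ∈ S) :
    nWordGL D hF.xadd l.flatten ∈ orthGroup hF T S := by
  rw [nWordGL_flatten hF l]
  apply Subgroup.list_prod_mem
  intro x hx
  obtain ⟨v, hv, rfl⟩ := List.mem_map.1 hx
  exact hX.orth.s_mem v (hl v hv)

/-- PIECE WORDT: conjugation by a product of classes fixed by `w` -/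
theorem good_wordT (l : List (List ℕ)) (w : List ℕ) (hw : WOK D w)
    (hl : ∀ v ∈ l, v ∈ S ∧ ∀ i ∈ v, reflWord D w (D.simple i) = D.simple i) :
    ∀ (t : GL D.Idx K), t ∈ orthGroup hF T S → t * t = 1 → IsMaxCellT hF (orthGroup hF T S) t w →
      ∀ (a h : GL D.Idx K), Good hF t w a h →
      ∃ h', Good hF (nWordGL D hF.xadd l.flatten * t * (nWordGL D hF.xadd l.flatten)⁻¹) w
        (nWordGL D hF.xadd l.flatten * a * (nWordGL D hF.xadd l.flatten)⁻¹) h' := by
  have hS := hX.corS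
  have hI := hX.corI
  induction l with
  | nil =>
    intro t ht htt hmax a h hG
    refine ⟨h, ?_⟩
    simpa [nWordGL_nil] using hG
  | cons v l ih =>
    intro t ht htt hmax a h hG
    have hlv := hl v List.mem_cons_self
    have hl' : ∀ x ∈ l, x ∈ S ∧ ∀ i ∈ x, reflWord D w (D.simple i) = D.simple i :=
      fun x hx => hl x (List.mem_cons_of_mem _ hx)
    obtain ⟨h1, hG1⟩ := ih hl' t ht htt hmax a h hG
    have hcG : nWordGL D hF.xadd l.flatten ∈ orthGroup hF T S :=
      tw6wordt_flatten_mem hX l (fun x hx => (hl' x hx).1)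
    set t1 := nWordGL D hF.xadd l.flatten * t * (nWordGL D hF.xadd l.flatten)⁻¹ with ht1
    have ht1G : t1 ∈ orthGroup hF T S := mul_mem (mul_mem hcG ht) (inv_mem hcG)
    have ht1sq : t1 * t1 = 1 := by
      have : t1 * t1 = nWordGL D hF.xadd l.flatten * (t * t) * (nWordGL D hF.xadd l.flatten)⁻¹ := by rw [ht1]; group
      rw [this, htt]
      group
    have hmax1 : IsMaxCellT hF (orthGroup hF T S) t1 w :=
      hmax.conj _ hcG (asm_good_cell hF hS hI t1 w _ h1 hG1)
    obtain ⟨hz1, hz2⟩ := coord_zeroT hX t1 ht1G ht1sq w hw hmax1 _ h1 hG1 v hlv.1 hlv.2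
    obtain ⟨h2, hG2⟩ := good_conjT hX t1 w hw _ h1 hG1 v hlv.1 hlv.2 hz1 hz2
    refine ⟨h2, ?_⟩
    have e1 : nWordGL D hF.xadd (v :: l).flatten * t * (nWordGL D hF.xadd (v :: l).flatten)⁻¹ =
        nWordGL D hF.xadd v * t1 * (nWordGL D hF.xadd v)⁻¹ := by
      rw [List.flatten_cons, nWordGL_append, ht1]; group
    have e2 : nWordGL D hF.xadd (v :: l).flatten * a * (nWordGL D hF.xadd (v :: l).flatten)⁻¹ =
        nWordGL D hF.xadd v * (nWordGL D hF.xadd l.flatten * a * (nWordGL D hF.xadd l.flatten)⁻¹) *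
          (nWordGL D hF.xadd v)⁻¹ := by
      rw [List.flatten_cons, nWordGL_append]; group
    rw [e1, e2]
    exact hG2

/-! ### the assembly (helper27) -/

omit hX in
theorem tw6asm_list_two {v : List ℕ} (hlen : v.length ≤ 2) {i j : ℕ} (hi : i ∈ v) (hj : j ∈ v) (hne : i ≠ j) :
    v = [i, j] ∨ v = [j, i] := by
  match v, hlen, hi, hj with
  | [], _, hi, _ => simp at hi
  | [a], _, hi, hj =>
    simp only [List.mem_singleton] at hi hj
    exact absurd (hi.trans hj.symm) hne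
  | [a, b], _, hi, hj =>
    simp only [List.mem_cons, List.not_mem_nil, or_false] at hi hj
    rcases hi with rfl | rfl <;> rcases hj with rfl | rfl
    · exact absurd rfl hne
    · exact Or.inl rfl
    · exact Or.inr rfl
    · exact absurd rfl hne
  | a :: b :: c :: l, hlen, _, _ => simp at hlen

omit [Fintype K] [CharP K 2] hX in
theorem tw6asm_sq_conj (c g : GL D.Idx K) (hgg : g * g = 1) : (c * g * c⁻¹) * (c * g * c⁻¹) = 1 := by
  have : (c * g * c⁻¹) * (c * g * c⁻¹) = c * (g * g) * c⁻¹ := by group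
  rw [this, hgg]; group

/-- NOSWAP: a maximal cell does not swap a class -/
theorem no_swap (t : GL D.Idx K) (ht : t ∈ orthGroup hF T S) (htt : t * t = 1) (w : List ℕ) (hw : WOK D w)
    (hmax : IsMaxCellT hF (orthGroup hF T S) t w) (a h : GL D.Idx K) (hG : Good hF t w a h)
    (v : List ℕ) (hv : v ∈ S) (i j : ℕ) (hi : i ∈ v) (hj : j ∈ v) (hne : i ≠ j)
    (hij : reflWord D w (D.simple i) = D.simple j) : False := by
  have hS := hX.corS
  have hI := hX.corI
  have hinv := (invol_of_sq hF hS hI t htt w hw hmax.1).1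
  have hvalid := hX.valid v hv
  have hji : reflWord D w (D.simple j) = D.simple i := by
    rw [← hij, hinv _ (hF.simple_lt i (hvalid i hi))]
  have hfa := (good_fixed hX t ht w hw a h hG).1
  have key : ∀ i j : ℕ, [i, j] ∈ S → reflWord D w (D.simple i) = D.simple j →
      reflWord D w (D.simple j) = D.simple i → False := by
    intro i j hv hij hji
    have hvalid := hX.valid _ hv
    have hp : PermV D [i, j] w := by
      intro k hk
      simp only [List.mem_cons, List.not_mem_nil, or_false] at hk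
      rcases hk with rfl | rfl
      · exact ⟨j, by simp, hij, hji⟩
      · exact ⟨i, by simp, hji, hij⟩
    have hav := coord_zero_perm hX t ht htt w hw hmax a h hG [i, j] hv hp
    obtain ⟨g, hg, hcell⟩ := swap_cell hX t ht w hw a h hG hfa i j hv hij hji hav
    have h1 := hmax.2 g hg ([i, j] ++ w) (WOK.append hvalid hw) hcell
    have h2 := len_class_lt hX [i, j] hv w hw hp
    omega
  rcases tw6asm_list_two (hX.len2 v hv) hi hj hne with rfl | rfl
  · exact key i j hv hij hji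
  · exact key j i hv hji hij

/-- CONDMT: the ambient condition `CondM` -/
theorem condM_of_maxT (g : GL D.Idx K) (hg : g ∈ orthGroup hF T S) (hgg : g * g = 1) (w : List ℕ) (hw : WOK D w)
    (h : IsMaxCellT hF (orthGroup hF T S) g w) : CondM D w := by
  have hS := hX.corS
  have hI := hX.corI
  have hT := condT_of_max hX g hg hgg w hw h
  obtain ⟨u, huU, hu, a, h', hG⟩ := good_formT hX g hg hgg w hw h.1
  have ht : u * g * u⁻¹ ∈ orthGroup hF T S := mul_mem (mul_mem hu hg) (inv_mem hu)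
  have htt := tw6asm_sq_conj u g hgg
  have hmaxt : IsMaxCellT hF (orthGroup hF T S) (u * g * u⁻¹) w :=
    h.conj u hu (asm_good_cell hF hS hI _ w a h' hG)
  intro i hi
  obtain ⟨v, hv, hiv, -⟩ := hX.orth.gen.cover i hi
  rcases hT v hv with hneg | hperm
  · exact Or.inl (hneg i hiv)
  · obtain ⟨j, hjv, e⟩ := hperm i hiv
    by_cases hij : i = j
    · right
      rw [e, ← hij]
    · exact (no_swap hX _ ht htt w hw hmaxt a h' hG v hv i j hiv hjv hij e).elim

/-- the unipotent part vanishes -/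
theorem v_eq_oneT (t : GL D.Idx K) (ht : t ∈ orthGroup hF T S) (htt : t * t = 1) (w : List ℕ) (hw : WOK D w)
    (hmax : IsMaxCellT hF (orthGroup hF T S) t w) (a h : GL D.Idx K) (hG : Good hF t w a h) : a = 1 := by
  have hS := hX.corS
  have hI := hX.corI
  have hinv := (invol_of_sq hF hS hI t htt w hw hmax.1).1
  have hM := condM_of_maxT hX t ht htt w hw hmax
  have hrc := cell_rhoComm hX t ht w hw hmax.1
  have hJ : ∀ v ∈ S, (∀ i ∈ v, i ∈ fixJ D w) ∨ (∀ i ∈ v, i ∉ fixJ D w) := by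
    intro v hv
    by_cases hex : ∃ i ∈ v, i ∈ fixJ D w
    · left
      obtain ⟨i, hiv, hiJ⟩ := hex
      intro k hk
      rcases hX.orb v hv i hiv k hk with rfl | rfl
      · exact hiJ
      · refine ⟨T.π_lt i hiJ.1, ?_⟩
        rw [← T.ρ_simple i hiJ.1, hrc _ (hF.simple_lt i hiJ.1), hiJ.2]
    · right
      intro i hi hiJ
      exact hex ⟨i, hi, hiJ⟩
  obtain ⟨l, hl, hcneg⟩ := exists_longT hX (fixJ D w) hJ
  have hc : WOK D l.flatten := by
    intro i hi
    obtain ⟨v, hv, hiv⟩ := List.mem_flatten.1 hi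
    exact hX.valid v (hl v hv).1 i hiv
  have hcJ : ∀ i ∈ l.flatten, i ∈ fixJ D w := by
    intro i hi
    obtain ⟨v, hv, hiv⟩ := List.mem_flatten.1 hi
    exact (hl v hv).2 i hiv
  have hl' : ∀ v ∈ l, v ∈ S ∧ ∀ i ∈ v, reflWord D w (D.simple i) = D.simple i :=
    fun v hv => ⟨(hl v hv).1, fun i hi => ((hl v hv).2 i hi).2⟩
  obtain ⟨h', hG'⟩ := good_wordT hX l w hw hl' t ht htt hmax a h hG
  set c := l.flatten with hcdef
  have hy : WOK D (c ++ w) := hc.append hw
  have hneg : ∀ r, D.IsPosRoot r → D.IsNegRoot (reflWord D (c ++ w) r) := by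
    intro r hr
    rw [reflWord_append]
    by_cases hrJ : D.InRootSub (fixJ D w) r
    · rw [fix_sub hF hS hI w hw hinv hM r hrJ]
      exact jword_neg hF hS hI (fixJ D w) c hc hcJ hcneg r hr hrJ
    · obtain ⟨h1, h2⟩ := neg_out hF hS hI w hw hinv hM r hr hrJ
      exact jword_out hF hS hI (fixJ D w) c hc hcJ _ h1 h2
  have h1 := asm_conj_neg hF hS hI (c ++ w) hy hneg _ hG.2.2.2
  have e : nWordGL D hF.xadd (c ++ w) * ((nWordGL D hF.xadd w)⁻¹ * a * nWordGL D hF.xadd w) *
      (nWordGL D hF.xadd (c ++ w))⁻¹ = nWordGL D hF.xadd c * a * (nWordGL D hF.xadd c)⁻¹ := by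
    rw [nWordGL_append]; group
  rw [e] at h1
  have h2 : nWordGL D hF.xadd c * a * (nWordGL D hF.xadd c)⁻¹ ∈ D.borelSubgroup K ⊓ D.negUnipotent K :=
    ⟨posUnipotent_le_borel D hG'.2.1, h1⟩
  rw [hF.borel_inf_negUnipotent, Subgroup.mem_bot] at h2
  calc a = (nWordGL D hF.xadd c)⁻¹ * (nWordGL D hF.xadd c * a * (nWordGL D hF.xadd c)⁻¹) *
        nWordGL D hF.xadd c := by group
    _ = 1 := by rw [h2]; group

/-- ASMT (Part A): every element of square 1 of `G₁` is conjugate under `G₁` to an element `h n_w` of `N`, where `w`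
acts as an involution on the roots and fixes or makes negative every fundamental root. -/
theorem conj_into_NT (g : GL D.Idx K) (hg : g ∈ orthGroup hF T S) (hgg : g * g = 1) :
    ∃ c ∈ orthGroup hF T S, ∃ w, WOK D w ∧ Invol D w ∧ CondM D w ∧
      ∃ h ∈ D.diagonalSubgroup K, c * g * c⁻¹ = h * nWordGL D hF.xadd w := by
  have hS := hX.corS
  have hI := hX.corI
  obtain ⟨c, hc, w, hw, hmax⟩ := exists_maxT hX g hg
  have ht0 : c * g * c⁻¹ ∈ orthGroup hF T S := mul_mem (mul_mem hc hg) (inv_mem hc)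
  have ht0sq := tw6asm_sq_conj c g hgg
  obtain ⟨u, huU, hu, a, h', hG⟩ := good_formT hX _ ht0 ht0sq w hw hmax.1
  have ht : u * (c * g * c⁻¹) * u⁻¹ ∈ orthGroup hF T S := mul_mem (mul_mem hu ht0) (inv_mem hu)
  have htsq := tw6asm_sq_conj u _ ht0sq
  have hmaxt : IsMaxCellT hF (orthGroup hF T S) (u * (c * g * c⁻¹) * u⁻¹) w :=
    hmax.conj u hu (asm_good_cell hF hS hI _ w a h' hG)
  have ha1 := v_eq_oneT hX _ ht htsq w hw hmaxt a h' hG
  refine ⟨u * c, mul_mem hu hc, w, hw, (invol_of_sq hF hS hI _ htsq w hw hmaxt.1).1,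
    condM_of_maxT hX _ ht htsq w hw hmaxt, h', hG.2.2.1, ?_⟩
  have e : u * c * g * (u * c)⁻¹ = u * (c * g * c⁻¹) * u⁻¹ := by group
  rw [e, hG.1, ha1, one_mul]

omit hX

/-- Part A for `²E₆(q)`: every element of square 1 is conjugate under `²E₆(q)` to an element `h n_w` -/
theorem e6_conj_into_N {q : ℕ} (hK : Fintype.card K = q ^ 2) (f : K ≃+* K) (hf : ∀ t, f t = t ^ q) :
    ∀ g ∈ twistedE6 K q, g * g = 1 →
      ∃ c ∈ twistedE6 K q, ∃ w, WOK chevE6 w ∧ Invol chevE6 w ∧ CondM chevE6 w ∧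
        ∃ h ∈ chevE6.diagonalSubgroup K, c * g * c⁻¹ = h * nWordGL chevE6 (E6.hF (K := K)).xadd w := by
  intro g hg hgg
  rw [E6.twisted_eq hK f hf] at hg ⊢
  exact conj_into_NT (ctxE6 hK f hf) g hg hgg

end Cfsg.Agent.Helper27.Tw6
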