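import Mathlib
import Cfsg.Agent.Lib.Helper22.TwoMaxDefs

/-!
# S4383 piece KEY: an `r`-subgroup contained in no conjugate of `M₂` lies in a unique coatom
-/

set_option autoImplicit false
open Pointwise

namespace Cfsg.Agent.Helper27.TwoMaxK

variable {G : Type*} [Group G] [Finite G]

/-- Normalizer growth inside a finite `r`-subgroup. -/
theorem exists_normalizing {r : ℕ} [Fact r.Prime] (P Y : Subgroup G) (hP : IsPGroup r P)
    (hYP : Y ≤ P) (hne : Y ≠ P) :
    ∃ x ∈ P, x ∉ Y ∧ x ∈ Subgroup.normalizer (Y : Set G) := by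
  have hnil : Group.IsNilpotent ↥P := hP.isNilpotent
  have hnc : NormalizerCondition ↥P := Group.normalizerCondition_of_isNilpotent
  have hlt : Y.subgroupOf P < ⊤ := by
    rw [lt_top_iff_ne_top, Ne, Subgroup.subgroupOf_eq_top]
    intro hle
    exact hne (le_antisymm hYP hle)
  obtain ⟨x, hxn, hxY⟩ := SetLike.exists_of_lt (hnc _ hlt)
  refine ⟨x.1, x.2, ?_, ?_⟩
  · intro hx
    exact hxY (Subgroup.mem_subgroupOf.2 hx)
  · rw [Subgroup.mem_normalizer_iff] at hxn ⊢
    intro y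
    constructor
    · intro hy
      have := (hxn ⟨y, hYP hy⟩).1 (Subgroup.mem_subgroupOf.2 hy)
      exact Subgroup.mem_subgroupOf.1 this
    · intro hy
      have hyP : y ∈ P := by
        have h1 : x.1⁻¹ * (x.1 * y * x.1⁻¹) * x.1 ∈ P :=
          P.mul_mem (P.mul_mem (P.inv_mem x.2) (hYP hy)) x.2
        have h2 : x.1⁻¹ * (x.1 * y * x.1⁻¹) * x.1 = y := by group
        rwa [h2] at h1
      have := (hxn ⟨y, hyP⟩).2 (Subgroup.mem_subgroupOf.2 hy)
      exact Subgroup.mem_subgroupOf.1 this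

omit [Finite G] in
theorem mem_normalizer_of_smul_eq {Y : Subgroup G} {n : G} (h : MulAut.conj n • Y = Y) :
    n ∈ Subgroup.normalizer (Y : Set G) := by
  rw [Subgroup.mem_normalizer_iff]
  intro y
  have h1 : n * y * n⁻¹ ∈ MulAut.conj n • Y ↔ y ∈ Y := by
    rw [Cfsg.Agent.Helper22.TwoMax.mem_conj_smul]
    have : n⁻¹ * (n * y * n⁻¹) * n = y := by group
    rw [this]
  rw [h] at h1
  exact h1.symm

end Cfsg.Agent.Helper27.TwoMaxK

namespace Cfsg.Agent.Helper22.TwoMax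

open Cfsg.Agent.Helper27.TwoMaxK

variable {G : Type*} [Group G] [Finite G]

/-- Piece KEY (standalone: imports Mathlib + TwoMaxDefs only). -/
theorem unique_coatom_of_pgroup {M₁ M₂ : Subgroup G} (h : TwoCls M₁ M₂)
    (hs : ∀ N : Subgroup G, N.Normal → N = ⊥ ∨ N = ⊤)
    (hcop : Nat.Coprime M₁.index M₂.index)
    {r : ℕ} [Fact r.Prime] (hr : r ∣ M₂.index)
    (Y : Subgroup G) (hY : IsPGroup r Y) (hY1 : Y ≠ ⊥)
    (hY2 : ∀ g : G, ¬ Y ≤ MulAut.conj g • M₂)
    (L L' : Subgroup G) (hL : IsCoatom L) (hL' : IsCoatom L') (hYL : Y ≤ L) (hYL' : Y ≤ L') :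
    L = L' := by
  revert hY hY1 hY2 L L'
  induction Y using WellFoundedGT.induction with
  | ind Y ih =>
  intro hY hY1 hY2 L L' hL hL' hYL hYL'
  -- the normalizer of `Y` is proper
  have hYtop : Y ≠ ⊤ := by
    rintro rfl
    exact hL.1 (top_le_iff.1 hYL)
  have hNtop : Subgroup.normalizer (Y : Set G) ≠ ⊤ := by
    intro hN
    rcases hs Y (Subgroup.normalizer_eq_top_iff.1 hN) with h0 | h0
    · exact hY1 h0
    · exact hYtop h0
  obtain ⟨K, hK, hNK⟩ := (eq_top_or_exists_le_coatom _).resolve_left hNtop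
  have hYK : Y ≤ K := le_trans Subgroup.le_normalizer hNK
  -- every coatom over `Y` is a conjugate of `M₁`
  have hconj : ∀ L : Subgroup G, IsCoatom L → Y ≤ L → ∃ g : G, L = MulAut.conj g • M₁ := by
    intro L hL hYL
    obtain ⟨g, hg | hg⟩ := h.hall L hL
    · exact ⟨g, hg⟩
    · exact absurd (hg ▸ hYL) (hY2 g)
  suffices hmain : ∀ L : Subgroup G, IsCoatom L → Y ≤ L → L = K by
    rw [hmain L hL hYL, hmain L' hL' hYL']
  clear hL hL' hYL hYL' L L'
  intro L hL hYL
  obtain ⟨g, hLg⟩ := hconj L hL hYL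
  obtain ⟨k, hKk⟩ := hconj K hK hYK
  -- a Sylow `r`-subgroup of `L` over `Y`
  obtain ⟨P, hP⟩ := IsPGroup.exists_le_sylow (p := r) (P := Y.subgroupOf L) hY.comap_subtype
  obtain ⟨PG, hPGdef⟩ : ∃ PG : Subgroup G, PG = (P : Subgroup L).map L.subtype := ⟨_, rfl⟩
  have hPGr : IsPGroup r PG := by
    rw [hPGdef]; exact P.isPGroup'.map _
  have hPGL : PG ≤ L := by
    rw [hPGdef]; exact Subgroup.map_subtype_le _
  have hYPG : Y ≤ PG := by
    intro y hy
    rw [hPGdef]
    exact ⟨⟨y, hYL hy⟩, hP (Subgroup.mem_subgroupOf.2 hy), rfl⟩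
  by_cases hcase : Y = PG
  · -- `Y` is a Sylow subgroup of `L`
    obtain ⟨c, hc⟩ : ∃ c : G, K = MulAut.conj c • L := by
      refine ⟨k * g⁻¹, ?_⟩
      rw [hKk, hLg, smul_smul, ← map_mul, inv_mul_cancel_right]
    have hZL : MulAut.conj c⁻¹ • Y ≤ L := by
      have h1 : MulAut.conj c⁻¹ • Y ≤ MulAut.conj c⁻¹ • K :=
        Subgroup.pointwise_smul_le_pointwise_smul_iff.2 hYK
      have h2 : MulAut.conj c⁻¹ • K = L := by rw [hc, map_inv, inv_smul_smul]
      rwa [h2] at h1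
    have hZr : IsPGroup r ↥(MulAut.conj c⁻¹ • Y) := hY.map _
    obtain ⟨P', hP'⟩ := IsPGroup.exists_le_sylow (p := r)
      (P := (MulAut.conj c⁻¹ • Y).subgroupOf L) hZr.comap_subtype
    obtain ⟨l, hl⟩ := MulAction.exists_smul_eq L P P'
    have hle : MulAut.conj c⁻¹ • Y ≤ MulAut.conj (l : G) • Y := by
      intro z hz
      have hz1 : (⟨z, hZL hz⟩ : L) ∈ (P' : Subgroup L) := hP' (Subgroup.mem_subgroupOf.2 hz)
      rw [← hl, Sylow.coe_subgroup_smul, mem_conj_smul] at hz1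
      rw [mem_conj_smul, hcase, hPGdef]
      exact ⟨_, hz1, by simp⟩
    have heq : MulAut.conj c⁻¹ • Y = MulAut.conj (l : G) • Y := by
      apply Subgroup.eq_of_le_of_card_ge hle
      rw [card_conj_smul, card_conj_smul]
    have hn : MulAut.conj (c * l) • Y = Y := by
      rw [map_mul, mul_smul, ← heq, map_inv, smul_inv_smul]
    have hnK : c * (l : G) ∈ K := hNK (mem_normalizer_of_smul_eq hn)
    have hK2 : K = MulAut.conj (c * l) • L := by
      rw [map_mul, mul_smul, Subgroup.conj_smul_eq_self_of_mem l.2, hc]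
    have hK3 : MulAut.conj (c * (l : G))⁻¹ • K = K :=
      Subgroup.conj_smul_eq_self_of_mem (K.inv_mem hnK)
    rw [← hK3, hK2, map_inv, inv_smul_smul]
  · -- `Y` is not Sylow in `L`: normalizer growth
    obtain ⟨x, hxP, hxY, hxN⟩ := exists_normalizing PG Y hPGr hYPG hcase
    have hYY₂ : Y ≤ PG ⊓ Subgroup.normalizer (Y : Set G) := le_inf hYPG Subgroup.le_normalizer
    have hlt : Y < PG ⊓ Subgroup.normalizer (Y : Set G) := by
      refine lt_of_le_of_ne hYY₂ ?_
      intro he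
      apply hxY
      rw [he]
      exact ⟨hxP, hxN⟩
    exact ih _ hlt (hPGr.to_le inf_le_left) (ne_bot_of_le_ne_bot hY1 hYY₂)
      (fun g hle => hY2 g (le_trans hYY₂ hle)) L K hL hK (le_trans inf_le_left hPGL)
      (le_trans inf_le_right hNK)

end Cfsg.Agent.Helper22.TwoMax
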