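import Mathlib
import Cfsg.Agent.Lib.Helper22.TwoMaxDefs

/-!
# S4383 piece REL: `[G:M₂]` divides `[M₁ : M₁ ⊓ gM₁g⁻¹]` for `gM₁g⁻¹ ≠ M₁`
-/

set_option autoImplicit false
open Pointwise

namespace Cfsg.Agent.Helper27.TwoMaxR

/-- Arithmetic: `t * D = d * n` and, for every prime `r ∣ n`, the `r`-part of `D` divides `d`;
then `n ∣ t`. -/
theorem dvd_of_parts {t D d n : ℕ} (hD : D ≠ 0) (hd : d ≠ 0) (hn : n ≠ 0)
    (heq : t * D = d * n)
    (hpart : ∀ r : ℕ, r.Prime → r ∣ n → r ^ D.factorization r ∣ d) : n ∣ t := by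
  have ht : t ≠ 0 := by
    rintro rfl
    rw [zero_mul] at heq
    exact (mul_ne_zero hd hn) heq.symm
  rw [← Nat.factorization_prime_le_iff_dvd hn ht]
  intro r hr
  by_cases hrn : r ∣ n
  · have h1 : D.factorization r ≤ d.factorization r :=
      (hr.pow_dvd_iff_le_factorization hd).1 (hpart r hr hrn)
    have h2 : t.factorization r + D.factorization r = d.factorization r + n.factorization r := by
      have := congrArg (fun m => m.factorization r) heq
      simpa [Nat.factorization_mul ht hD, Nat.factorization_mul hd hn] using this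
    omega
  · rw [Nat.factorization_eq_zero_of_not_dvd hrn]
    exact Nat.zero_le _

end Cfsg.Agent.Helper27.TwoMaxR

namespace Cfsg.Agent.Helper22.TwoMax

open Cfsg.Agent.Helper27.TwoMaxR

variable {G : Type*} [Group G] [Finite G]

/-- Piece REL (standalone: the two inputs are hypotheses). -/
theorem index_dvd_relIndex {M₁ M₂ : Subgroup G} (h : TwoCls M₁ M₂)
    (hcard : ∀ a b : G, Nat.card ↥(MulAut.conj a • M₁ ⊓ MulAut.conj b • M₂) *
      (M₁.index * M₂.index) = Nat.card G)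
    (hkey : ∀ r : ℕ, r.Prime → r ∣ M₂.index → ∀ Y : Subgroup G, IsPGroup r Y → Y ≠ ⊥ →
      (∀ g : G, ¬ Y ≤ MulAut.conj g • M₂) → ∀ L L' : Subgroup G, IsCoatom L → IsCoatom L' →
      Y ≤ L → Y ≤ L' → L = L')
    (g : G) (hg : MulAut.conj g • M₁ ≠ M₁) :
    M₂.index ∣ (MulAut.conj g • M₁).relIndex M₁ := by
  obtain ⟨D, hDdef⟩ : ∃ D : Subgroup G, D = MulAut.conj g • M₁ ⊓ M₁ := ⟨_, rfl⟩
  obtain ⟨d, hddef⟩ : ∃ d : ℕ, d = Nat.card ↥(MulAut.conj (1 : G) • M₁ ⊓ MulAut.conj (1 : G) • M₂) :=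
    ⟨_, rfl⟩
  have hGpos : Nat.card G ≠ 0 := Nat.card_pos.ne'
  have hn1 : M₁.index ≠ 0 := Subgroup.index_ne_zero_of_finite
  have hn2 : M₂.index ≠ 0 := Subgroup.index_ne_zero_of_finite
  have hd0 : d * (M₁.index * M₂.index) = Nat.card G := by rw [hddef]; exact hcard 1 1
  have hdb : ∀ b : G, Nat.card ↥(M₁ ⊓ MulAut.conj b • M₂) = d := by
    intro b
    have h1 := hcard 1 b
    rw [map_one, one_smul] at h1
    have h2 : Nat.card ↥(M₁ ⊓ MulAut.conj b • M₂) * (M₁.index * M₂.index)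
        = d * (M₁.index * M₂.index) := by rw [h1, hd0]
    exact Nat.eq_of_mul_eq_mul_right (Nat.pos_of_ne_zero (mul_ne_zero hn1 hn2)) h2
  have hdne : d ≠ 0 := by
    rintro rfl
    rw [zero_mul] at hd0
    exact hGpos hd0.symm
  -- `|M₁| = d * n₂`
  have hM1 : Nat.card ↥M₁ = d * M₂.index := by
    have h1 := Subgroup.card_mul_index M₁
    have h2 : Nat.card ↥M₁ * M₁.index = d * M₂.index * M₁.index := by
      rw [h1, ← hd0]; ring
    exact Nat.eq_of_mul_eq_mul_right (Nat.pos_of_ne_zero hn1) h2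
  -- `t * |D| = |M₁|`
  have hDM : D ≤ M₁ := by rw [hDdef]; exact inf_le_right
  have ht : (MulAut.conj g • M₁).relIndex M₁ * Nat.card ↥D = Nat.card ↥M₁ := by
    have h1 : D.relIndex M₁ = (MulAut.conj g • M₁).relIndex M₁ := by
      rw [hDdef, Subgroup.inf_relIndex_right]
    have h2 := Subgroup.relIndex_mul_index hDM
    have h3 := Subgroup.card_mul_index D
    have h4 := Subgroup.card_mul_index M₁
    rw [← h1]
    have h5 : D.relIndex M₁ * Nat.card ↥D * M₁.index = Nat.card ↥M₁ * M₁.index := by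
      rw [h4, ← h3, ← h2]; ring
    exact Nat.eq_of_mul_eq_mul_right (Nat.pos_of_ne_zero hn1) h5
  have hDne : Nat.card ↥D ≠ 0 := Nat.card_pos.ne'
  apply dvd_of_parts hDne hdne hn2 (ht.trans hM1)
  intro r hr hrn
  have : Fact r.Prime := ⟨hr⟩
  -- a Sylow `r`-subgroup of `D`
  obtain ⟨P⟩ : Nonempty (Sylow r ↥D) := inferInstance
  obtain ⟨Y, hYdef⟩ : ∃ Y : Subgroup G, Y = (P : Subgroup D).map D.subtype := ⟨_, rfl⟩
  have hYcard : Nat.card ↥Y = r ^ (Nat.card ↥D).factorization r := by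
    rw [hYdef, Subgroup.card_map_of_injective D.subtype_injective, P.card_eq_multiplicity]
  have hYr : IsPGroup r ↥Y := by rw [hYdef]; exact P.isPGroup'.map _
  have hYD : Y ≤ D := by rw [hYdef]; exact Subgroup.map_subtype_le _
  rw [← hYcard]
  by_cases hY1 : Y = ⊥
  · rw [hY1, Subgroup.card_bot]; exact one_dvd _
  · have hex : ∃ b : G, Y ≤ MulAut.conj b • M₂ := by
      by_contra hno
      push Not at hno
      apply hg
      exact hkey r hr hrn Y hYr hY1 hno _ _ (isCoatom_conj_smul h.h1 g) h.h1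
        (le_trans hYD (by rw [hDdef]; exact inf_le_left)) (le_trans hYD hDM)
    obtain ⟨b, hb⟩ := hex
    rw [← hdb b]
    exact Subgroup.card_dvd_of_le (le_inf (le_trans hYD hDM) hb)

end Cfsg.Agent.Helper22.TwoMax
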