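import Mathlib

set_option autoImplicit false

/-!
Piece CONGR of S2347.
-/

namespace Cfsg.Agent.Helper6.Weil

open Matrix

variable {n : ℕ} {F : Type*} [Field F] [Fintype F]

/-- PIECE CONGR: if `w ⬝ T w = l ≠ 0` and `w ⬝ z = l` then some matrix congruent to `T` maps `w` to `z`
(with `h = 1 + l⁻¹ • (z - T w) wᵀ`, a transvection) -/
theorem exists_congr_mulVec_eq (T : Matrix (Fin n) (Fin n) F) (l : F) (hl : l ≠ 0)
    (w : Fin n → F) (hw : w ⬝ᵥ (T *ᵥ w) = l) (z : Fin n → F) (hz : w ⬝ᵥ z = l) :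
    ∃ h : GL (Fin n) F,
      ((h : Matrix (Fin n) (Fin n) F) * T * (h : Matrix (Fin n) (Fin n) F)ᵀ) *ᵥ w = z := by
  obtain ⟨u, hu⟩ : ∃ u, u = z - T *ᵥ w := ⟨_, rfl⟩
  have hwu : w ⬝ᵥ u = 0 := by rw [hu, dotProduct_sub, hz, hw, sub_self]
  have huw : u ⬝ᵥ w = 0 := by rw [dotProduct_comm]; exact hwu
  have hvv : vecMulVec u w * vecMulVec u w = 0 := by
    rw [vecMulVec_mul_vecMulVec, hwu, zero_smul]
    ext i j
    simp [vecMulVec_apply]
  obtain ⟨N, hN⟩ : ∃ N : Matrix (Fin n) (Fin n) F, N = l⁻¹ • vecMulVec u w := ⟨_, rfl⟩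
  have hNN : N * N = 0 := by
    rw [hN, Matrix.smul_mul, Matrix.mul_smul, hvv, smul_zero, smul_zero]
  have h1 : (1 + N) * (1 - N) = 1 := by
    have : (1 + N) * (1 - N) = 1 - N * N := by noncomm_ring
    rw [this, hNN, sub_zero]
  have h2 : (1 - N) * (1 + N) = 1 := by
    have : (1 - N) * (1 + N) = 1 - N * N := by noncomm_ring
    rw [this, hNN, sub_zero]
  refine ⟨⟨1 + N, 1 - N, h1, h2⟩, ?_⟩
  show ((1 + N) * T * (1 + N)ᵀ) *ᵥ w = z
  have hNt : Nᵀ *ᵥ w = 0 := by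
    rw [hN, transpose_smul, transpose_vecMulVec, smul_mulVec, vecMulVec_mulVec, huw]
    simp
  have h3 : (1 + N)ᵀ *ᵥ w = w := by
    rw [transpose_add, transpose_one, add_mulVec, one_mulVec, hNt, add_zero]
  have hNT : N *ᵥ (T *ᵥ w) = u := by
    rw [hN, smul_mulVec, vecMulVec_mulVec, hw]
    simp [smul_smul, hl]
  rw [← mulVec_mulVec, ← mulVec_mulVec, h3, add_mulVec, one_mulVec, hNT, hu]
  abel

end Cfsg.Agent.Helper6.Weil
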