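import Mathlib
import Cfsg.Agent.Lib.Helper12.SLVecTrans

set_option autoImplicit false

/-!
Piece ORBIT of S2347.
-/

namespace Cfsg.Agent.Helper27.WeilO

open Matrix

variable {n : ℕ} {F : Type*} [Field F]

/-- Polarization: a nonzero symmetric matrix in characteristic not two has a nonzero value. -/
theorem exists_quad_ne_zero (h2 : (2 : F) ≠ 0) (T : Matrix (Fin n) (Fin n) F) (hT : Tᵀ = T)
    (hT0 : T ≠ 0) : ∃ w0 : Fin n → F, w0 ⬝ᵥ (T *ᵥ w0) ≠ 0 := by
  classical
  obtain ⟨i, j, hij⟩ : ∃ i j, T i j ≠ 0 := by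
    by_contra hcon
    push Not at hcon
    apply hT0
    ext i j
    exact hcon i j
  have hQ : ∀ a b : Fin n, (Pi.single a 1 : Fin n → F) ⬝ᵥ (T *ᵥ Pi.single b 1) = T a b := by
    intro a b
    rw [mulVec_single_one, single_one_dotProduct]
    rfl
  by_cases hii : T i i ≠ 0
  · exact ⟨Pi.single i 1, by rw [hQ]; exact hii⟩
  by_cases hjj : T j j ≠ 0
  · exact ⟨Pi.single j 1, by rw [hQ]; exact hjj⟩
  push Not at hii hjj
  refine ⟨Pi.single i 1 + Pi.single j 1, ?_⟩
  rw [mulVec_add, dotProduct_add, add_dotProduct, add_dotProduct, hQ, hQ, hQ, hQ, hii, hjj]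
  have hji : T j i = T i j := congrFun (congrFun hT i) j
  rw [hji, zero_add, add_zero, ← two_mul]
  exact mul_ne_zero h2 hij

variable [Fintype F]

/-- An affine hyperplane of `F^n` has at least `q^(n-1)` points. -/
theorem card_hyperplane_ge [DecidableEq F] (w : Fin n → F) (hw : w ≠ 0) (l : F) :
    Fintype.card F ^ (n - 1) ≤
      (Finset.univ.filter (fun z : Fin n → F => w ⬝ᵥ z = l)).card := by
  classical
  obtain ⟨i, hi⟩ : ∃ i, w i ≠ 0 := by
    by_contra hcon
    push Not at hcon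
    exact hw (funext hcon)
  have hK : Fintype.card {j : Fin n // j ≠ i} = n - 1 := by
    rw [Fintype.card_subtype_compl, Fintype.card_fin, Fintype.card_subtype_eq]
  have hsurj : Set.SurjOn (fun (z : Fin n → F) (j : {j : Fin n // j ≠ i}) => z j)
      (Finset.univ.filter (fun z : Fin n → F => w ⬝ᵥ z = l) : Finset (Fin n → F))
      (Finset.univ : Finset ({j : Fin n // j ≠ i} → F)) := by
    intro a _
    let z0 : Fin n → F := fun j => if h : j = i then 0 else a ⟨j, h⟩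
    refine ⟨z0 + ((l - w ⬝ᵥ z0) / w i) • Pi.single i 1, ?_, ?_⟩
    · rw [Finset.coe_filter]
      refine ⟨Finset.mem_univ _, ?_⟩
      rw [dotProduct_add, dotProduct_smul, dotProduct_single_one, smul_eq_mul,
        div_mul_cancel₀ _ hi]
      ring
    · funext j
      have hj : (j : Fin n) ≠ i := j.2
      simp only [Pi.add_apply, Pi.smul_apply, smul_eq_mul, Pi.single_eq_of_ne hj, mul_zero,
        add_zero, z0, dif_neg hj]
  have h1 := Finset.card_le_card_of_surjOn _ hsurj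
  rw [Finset.card_univ, Fintype.card_fun, hK] at h1
  exact h1

end Cfsg.Agent.Helper27.WeilO

namespace Cfsg.Agent.Helper6.Weil

open Matrix

variable {n : ℕ} {F : Type*} [Field F] [Fintype F]

/-- PIECE ORBIT: a nonzero symmetric matrix has at least `(q^n - 1)/2` congruent matrices -/
theorem ncard_orbit_ge (hn : 2 ≤ n) (h2 : (2 : F) ≠ 0)
    (T : Matrix (Fin n) (Fin n) F) (hT : Tᵀ = T) (hT0 : T ≠ 0)
    (hrepr : ∀ (T' : Matrix (Fin n) (Fin n) F) (l : F), l ≠ 0 →
      {w : Fin n → F | w ⬝ᵥ (T' *ᵥ w) = l}.ncard ≤ 2 * Fintype.card F ^ (n - 1))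
    (hcongr : ∀ (T' : Matrix (Fin n) (Fin n) F) (l : F), l ≠ 0 →
      ∀ w : Fin n → F, w ⬝ᵥ (T' *ᵥ w) = l → ∀ z : Fin n → F, w ⬝ᵥ z = l →
      ∃ h : GL (Fin n) F,
        ((h : Matrix (Fin n) (Fin n) F) * T' * (h : Matrix (Fin n) (Fin n) F)ᵀ) *ᵥ w = z) :
    (Fintype.card F ^ n - 1) / 2 ≤
      {T' : Matrix (Fin n) (Fin n) F | ∃ h : GL (Fin n) F,
        T' = (h : Matrix (Fin n) (Fin n) F) * T * (h : Matrix (Fin n) (Fin n) F)ᵀ}.ncard := by
  classical
  obtain ⟨w0, hw0⟩ := Cfsg.Agent.Helper27.WeilO.exists_quad_ne_zero h2 T hT hT0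
  obtain ⟨l, hl'⟩ : ∃ l, l = w0 ⬝ᵥ (T *ᵥ w0) := ⟨_, rfl⟩
  have hl : l ≠ 0 := by rw [hl']; exact hw0
  have hw0ne : w0 ≠ 0 := by
    intro h0
    rw [h0, zero_dotProduct] at hl'
    exact hl hl'
  rw [Set.ncard_eq_toFinset_card']
  obtain ⟨sO, hsO⟩ : ∃ sO : Finset (Matrix (Fin n) (Fin n) F),
      sO = {T' : Matrix (Fin n) (Fin n) F | ∃ h : GL (Fin n) F,
        T' = (h : Matrix (Fin n) (Fin n) F) * T * (h : Matrix (Fin n) (Fin n) F)ᵀ}.toFinset :=
    ⟨_, rfl⟩
  rw [← hsO]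
  have hmem : ∀ T' : Matrix (Fin n) (Fin n) F, T' ∈ sO ↔ ∃ h : GL (Fin n) F,
      T' = (h : Matrix (Fin n) (Fin n) F) * T * (h : Matrix (Fin n) (Fin n) F)ᵀ := by
    intro T'
    rw [hsO, Set.mem_toFinset]
    exact Iff.rfl
  have hq : 0 < Fintype.card F := Fintype.card_pos
  -- double counting
  have hdc := Finset.sum_card_bipartiteAbove_eq_sum_card_bipartiteBelow (s := sO)
    (t := (Finset.univ : Finset (Fin n → F)))
    (fun (T' : Matrix (Fin n) (Fin n) F) (w : Fin n → F) => w ⬝ᵥ (T' *ᵥ w) = l)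
  -- upper bound
  have hup : ∑ T' ∈ sO, (Finset.bipartiteAbove
      (fun (T' : Matrix (Fin n) (Fin n) F) (w : Fin n → F) => w ⬝ᵥ (T' *ᵥ w) = l)
      (Finset.univ : Finset (Fin n → F)) T').card ≤ sO.card * (2 * Fintype.card F ^ (n - 1)) := by
    rw [← smul_eq_mul, ← Finset.sum_const]
    apply Finset.sum_le_sum
    intro T' _
    have h1 := hrepr T' l hl
    rw [Set.ncard_eq_toFinset_card'] at h1
    refine le_trans (le_of_eq ?_) h1
    congr 1
    ext w
    simp [Finset.bipartiteAbove]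
  -- lower bound
  have hlow : (Fintype.card F ^ n - 1) * Fintype.card F ^ (n - 1) ≤
      ∑ w ∈ (Finset.univ : Finset (Fin n → F)), (Finset.bipartiteBelow
      (fun (T' : Matrix (Fin n) (Fin n) F) (w : Fin n → F) => w ⬝ᵥ (T' *ᵥ w) = l) sO w).card := by
    have hnz : (Finset.univ.filter (fun w : Fin n → F => w ≠ 0)).card =
        Fintype.card F ^ n - 1 := by
      rw [Finset.filter_ne', Finset.card_erase_of_mem (Finset.mem_univ _), Finset.card_univ,
        Fintype.card_fun, Fintype.card_fin]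
    rw [← hnz, ← smul_eq_mul, ← Finset.sum_const]
    refine le_trans ?_ (Finset.sum_le_sum_of_subset
      (Finset.filter_subset (fun w : Fin n → F => w ≠ 0) Finset.univ))
    apply Finset.sum_le_sum
    intro w hw
    have hwne : w ≠ 0 := (Finset.mem_filter.1 hw).2
    -- move w to w0
    obtain ⟨g, hg⟩ := Cfsg.Agent.Helper12.exists_SL_smul_eq (F := F) (ι := Fin n) (κ := Unit)
      (fun _ => w) (fun _ => w0)
      (linearIndependent_unique_iff.2 hwne) (linearIndependent_unique_iff.2 hw0ne)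
      (by rw [Fintype.card_unit, Fintype.card_fin]; omega)
    have hgw : (g : Matrix (Fin n) (Fin n) F) *ᵥ w = w0 := by
      have := hg ()
      rwa [Matrix.SpecialLinearGroup.smul_def, Matrix.smul_eq_mulVec] at this
    obtain ⟨A, hA⟩ : ∃ A : Matrix (Fin n) (Fin n) F, A = (g : Matrix (Fin n) (Fin n) F) :=
      ⟨_, rfl⟩
    rw [← hA] at hgw
    have hdetA : A.det = 1 := by rw [hA]; exact g.det_coe
    let h1 : GL (Fin n) F := Matrix.GeneralLinearGroup.mkOfDetNeZero Aᵀ (by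
      rw [det_transpose, hdetA]; exact one_ne_zero)
    have hh1 : (h1 : Matrix (Fin n) (Fin n) F) = Aᵀ := rfl
    have hw1 : w ⬝ᵥ ((Aᵀ * T * A) *ᵥ w) = l := by
      rw [← mulVec_mulVec, ← mulVec_mulVec, hgw, dotProduct_mulVec, vecMul_transpose, hgw, hl']
    have hle1 := Cfsg.Agent.Helper27.WeilO.card_hyperplane_ge w hwne l
    refine le_trans hle1 ?_
    apply Finset.card_le_card_of_surjOn (fun T'' : Matrix (Fin n) (Fin n) F => T'' *ᵥ w)
    intro z hz
    have hz' : w ⬝ᵥ z = l := by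
      have := hz
      rw [Finset.coe_filter] at this
      exact this.2
    obtain ⟨h', hh'⟩ := hcongr (Aᵀ * T * A) l hl w hw1 z hz'
    refine ⟨(h' : Matrix (Fin n) (Fin n) F) * (Aᵀ * T * A) * (h' : Matrix (Fin n) (Fin n) F)ᵀ,
      ?_, hh'⟩
    rw [Finset.mem_coe, Finset.bipartiteBelow, Finset.mem_filter]
    refine ⟨(hmem _).2 ⟨h' * h1, ?_⟩, ?_⟩
    · rw [Units.val_mul, hh1, transpose_mul, transpose_transpose]
      simp only [Matrix.mul_assoc]
    · show w ⬝ᵥ (((h' : Matrix (Fin n) (Fin n) F) * (Aᵀ * T * A) *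
        (h' : Matrix (Fin n) (Fin n) F)ᵀ) *ᵥ w) = l
      rw [hh', hz']
  rw [hdc] at hup
  have hfin := le_trans hlow hup
  have hpos : 0 < Fintype.card F ^ (n - 1) := Nat.pos_of_ne_zero (pow_ne_zero _ hq.ne')
  have h3 : Fintype.card F ^ n - 1 ≤ 2 * sO.card := by
    apply Nat.le_of_mul_le_mul_right _ hpos
    calc (Fintype.card F ^ n - 1) * Fintype.card F ^ (n - 1)
        ≤ sO.card * (2 * Fintype.card F ^ (n - 1)) := hfin
      _ = 2 * sO.card * Fintype.card F ^ (n - 1) := by ring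
  exact Nat.div_le_of_le_mul h3

end Cfsg.Agent.Helper6.Weil
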