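import Mathlib

set_option autoImplicit false

/-!
Piece REPRLE of S2347.
-/

namespace Cfsg.Agent.Helper27.WeilR

open Matrix Polynomial

variable {F : Type*} [Field F]

/-- A quadratic equation with nonzero leading coefficient has at most two solutions. -/
theorem card_quadratic_roots_le [DecidableEq F] (c2 c1 c0 : F) (h2 : c2 ≠ 0) (s : Finset F)
    (hs : ∀ t ∈ s, c2 * t ^ 2 + c1 * t + c0 = 0) : s.card ≤ 2 := by
  have hdeg : (C c2 * X ^ 2 + C c1 * X + C c0 : F[X]).natDegree = 2 :=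
    natDegree_quadratic h2
  have hp0 : (C c2 * X ^ 2 + C c1 * X + C c0 : F[X]) ≠ 0 := by
    intro h0
    rw [h0, natDegree_zero] at hdeg
    omega
  have hsub : s ⊆ (C c2 * X ^ 2 + C c1 * X + C c0 : F[X]).roots.toFinset := by
    intro t ht
    rw [Multiset.mem_toFinset, mem_roots hp0, IsRoot.def]
    simp only [eval_add, eval_mul, eval_C, eval_pow, eval_X]
    exact hs t ht
  calc s.card ≤ (C c2 * X ^ 2 + C c1 * X + C c0 : F[X]).roots.toFinset.card :=
        Finset.card_le_card hsub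
    _ ≤ Multiset.card (C c2 * X ^ 2 + C c1 * X + C c0 : F[X]).roots :=
        Multiset.toFinset_card_le _
    _ ≤ (C c2 * X ^ 2 + C c1 * X + C c0 : F[X]).natDegree := card_roots' _
    _ = 2 := hdeg

end Cfsg.Agent.Helper27.WeilR

namespace Cfsg.Agent.Helper6.Weil

open Matrix

variable {n : ℕ} {F : Type*} [Field F] [Fintype F]

/-- PIECE REPRLE: a nonzero value of a quadratic form is taken at most `2 q^(n-1)` times -/
theorem ncard_repr_le (T : Matrix (Fin n) (Fin n) F) (l : F) (hl : l ≠ 0) :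
    {w : Fin n → F | w ⬝ᵥ (T *ᵥ w) = l}.ncard ≤ 2 * Fintype.card F ^ (n - 1) := by
  classical
  by_cases hne : {w : Fin n → F | w ⬝ᵥ (T *ᵥ w) = l} = ∅
  · rw [hne, Set.ncard_empty]; exact Nat.zero_le _
  obtain ⟨w0, hw0⟩ := Set.nonempty_iff_ne_empty.2 hne
  have hw0' : w0 ⬝ᵥ (T *ᵥ w0) = l := hw0
  obtain ⟨i, hi⟩ : ∃ i, w0 i ≠ 0 := by
    by_contra hcon
    push Not at hcon
    have : w0 = 0 := funext hcon
    rw [this, zero_dotProduct] at hw0'
    exact hl hw0'.symm
  rw [Set.ncard_eq_toFinset_card']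
  obtain ⟨s, hs⟩ : ∃ s : Finset (Fin n → F),
      s = {w : Fin n → F | w ⬝ᵥ (T *ᵥ w) = l}.toFinset := ⟨_, rfl⟩
  rw [← hs]
  have hmem : ∀ w, w ∈ s ↔ w ⬝ᵥ (T *ᵥ w) = l := by
    intro w
    rw [hs, Set.mem_toFinset]; exact Iff.rfl
  let f : (Fin n → F) → ({j : Fin n // j ≠ i} → F) := fun w j => w j - (w i / w0 i) * w0 j
  have hfib : ∀ a ∈ s.image f, (s.filter fun w => f w = a).card ≤ 2 := by
    intro a _
    let y : Fin n → F := fun j => if h : j = i then 0 else a ⟨j, h⟩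
    have hdecomp : ∀ w ∈ s.filter (fun w => f w = a), w = y + (w i / w0 i) • w0 := by
      intro w hw
      rw [Finset.mem_filter] at hw
      funext j
      by_cases hj : j = i
      · subst hj
        have hy0 : y j = 0 := dif_pos rfl
        rw [Pi.add_apply, Pi.smul_apply, smul_eq_mul, hy0, zero_add, div_mul_cancel₀ _ hi]
      · have h1 := congrFun hw.2 ⟨j, hj⟩
        simp only [f] at h1
        simp only [y, Pi.add_apply, Pi.smul_apply, smul_eq_mul, dif_neg hj]
        rw [← h1]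
        ring
    have hinj : Set.InjOn (fun w : Fin n → F => w i / w0 i)
        (s.filter (fun w => f w = a) : Set (Fin n → F)) := by
      intro w hw w' hw' hww
      have hww' : w i / w0 i = w' i / w0 i := hww
      rw [hdecomp w hw, hdecomp w' hw', hww']
    have hroots : ∀ t ∈ (s.filter (fun w => f w = a)).image (fun w : Fin n → F => w i / w0 i),
        l * t ^ 2 + (y ⬝ᵥ (T *ᵥ w0) + w0 ⬝ᵥ (T *ᵥ y)) * t + (y ⬝ᵥ (T *ᵥ y) - l) = 0 := by
      intro t ht
      rw [Finset.mem_image] at ht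
      obtain ⟨w, hw, rfl⟩ := ht
      have h1 := hdecomp w hw
      have h2 : w ⬝ᵥ (T *ᵥ w) = l := (hmem w).1 (Finset.mem_filter.1 hw).1
      rw [h1] at h2
      have h3 : (y + (w i / w0 i) • w0) ⬝ᵥ (T *ᵥ (y + (w i / w0 i) • w0)) =
          y ⬝ᵥ (T *ᵥ y) + (w i / w0 i) * (y ⬝ᵥ (T *ᵥ w0)) + (w i / w0 i) * (w0 ⬝ᵥ (T *ᵥ y)) +
            (w i / w0 i) ^ 2 * (w0 ⬝ᵥ (T *ᵥ w0)) := by
        simp only [mulVec_add, mulVec_smul, dotProduct_add, add_dotProduct, smul_dotProduct,
          dotProduct_smul, smul_eq_mul]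
        ring
      rw [h3, hw0'] at h2
      linear_combination h2
    have h4 := Cfsg.Agent.Helper27.WeilR.card_quadratic_roots_le l
      (y ⬝ᵥ (T *ᵥ w0) + w0 ⬝ᵥ (T *ᵥ y)) (y ⬝ᵥ (T *ᵥ y) - l) hl _ hroots
    rw [Finset.card_image_of_injOn hinj] at h4
    exact h4
  have hcard := Finset.card_le_mul_card_image (f := f) s 2 hfib
  have hK : Fintype.card {j : Fin n // j ≠ i} = n - 1 := by
    rw [Fintype.card_subtype_compl, Fintype.card_fin, Fintype.card_subtype_eq]
  calc s.card ≤ 2 * (s.image f).card := hcard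
    _ ≤ 2 * Fintype.card ({j : Fin n // j ≠ i} → F) :=
        Nat.mul_le_mul_left _ (Finset.card_le_univ _)
    _ = 2 * Fintype.card F ^ (n - 1) := by rw [Fintype.card_fun, hK]

end Cfsg.Agent.Helper6.Weil
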