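import Mathlib
import Cfsg.Agent.Lib.Helper27.WittData21

set_option autoImplicit false
set_option linter.unusedSectionVars false
set_option maxRecDepth 100000
set_option maxHeartbeats 0

/-! The three classes of hyperovals of the standard plane, the search classifying them, and collineations permuting the classes. -/

namespace Cfsg.Agent.Helper27.Witt


/-- Class 0 of hyperovals of the standard plane. -/
def hyp0 : List (List ℕ) :=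
  [[5, 4, 3, 2, 1, 0], [20, 17, 12, 9, 1, 0], [19, 15, 14, 10, 1, 0], [18, 16, 13, 11, 1, 0], [19, 16, 12, 6, 2, 0], [20, 15, 13, 7, 2, 0],
   [18, 17, 14, 8, 2, 0], [18, 15, 9, 6, 3, 0], [19, 17, 11, 7, 3, 0], [20, 16, 10, 8, 3, 0], [20, 14, 11, 6, 4, 0], [18, 12, 10, 7, 4, 0],
   [19, 13, 9, 8, 4, 0], [17, 13, 10, 6, 5, 0], [16, 14, 9, 7, 5, 0], [15, 12, 11, 8, 5, 0], [14, 13, 9, 6, 2, 1], [17, 16, 10, 7, 2, 1],
   [20, 19, 11, 8, 2, 1], [12, 11, 10, 6, 3, 1], [20, 18, 14, 7, 3, 1], [17, 15, 13, 8, 3, 1], [19, 18, 17, 6, 4, 1], [15, 11, 9, 7, 4, 1],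
   [16, 14, 12, 8, 4, 1], [20, 16, 15, 6, 5, 1], [19, 13, 12, 7, 5, 1], [18, 10, 9, 8, 5, 1], [12, 9, 8, 7, 3, 2], [19, 18, 13, 10, 3, 2],
   [16, 15, 14, 11, 3, 2], [15, 10, 8, 6, 4, 2], [20, 18, 16, 9, 4, 2], [17, 13, 12, 11, 4, 2], [18, 11, 7, 6, 5, 2], [19, 17, 15, 9, 5, 2],
   [20, 14, 12, 10, 5, 2], [16, 13, 7, 6, 4, 3], [17, 14, 10, 9, 4, 3], [20, 19, 15, 12, 4, 3], [19, 14, 8, 6, 5, 3], [20, 13, 11, 9, 5, 3],
   [18, 17, 16, 12, 5, 3], [20, 17, 8, 7, 5, 4], [19, 16, 11, 10, 5, 4], [18, 15, 14, 13, 5, 4], [20, 19, 10, 9, 7, 6], [17, 15, 14, 12, 7, 6],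
   [17, 16, 11, 9, 8, 6], [20, 18, 13, 12, 8, 6], [14, 13, 11, 10, 8, 7], [19, 18, 16, 15, 8, 7], [16, 15, 13, 12, 10, 9], [19, 18, 14, 12, 11, 9],
   [20, 18, 17, 15, 11, 10], [20, 19, 17, 16, 14, 13]]

/-- Class 1 of hyperovals of the standard plane. -/
def hyp1 : List (List ℕ) :=
  [[19, 17, 13, 2, 1, 0], [20, 15, 11, 3, 1, 0], [18, 14, 9, 4, 1, 0], [16, 12, 10, 5, 1, 0], [18, 16, 7, 3, 2, 0], [20, 12, 8, 4, 2, 0],
   [15, 14, 6, 5, 2, 0], [19, 10, 6, 4, 3, 0], [17, 9, 8, 5, 3, 0], [13, 11, 7, 5, 4, 0], [20, 16, 13, 9, 6, 0], [18, 17, 12, 11, 6, 0],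
   [19, 15, 12, 9, 7, 0], [20, 17, 14, 10, 7, 0], [18, 15, 13, 10, 8, 0], [19, 16, 14, 11, 8, 0], [14, 10, 8, 3, 2, 1], [16, 11, 6, 4, 2, 1],
   [20, 9, 7, 5, 2, 1], [17, 12, 7, 4, 3, 1], [18, 13, 6, 5, 3, 1], [19, 15, 8, 5, 4, 1], [17, 15, 10, 9, 6, 1], [20, 19, 14, 12, 6, 1],
   [19, 18, 11, 10, 7, 1], [16, 15, 14, 13, 7, 1], [13, 12, 11, 9, 8, 1], [20, 18, 17, 16, 8, 1], [15, 13, 9, 4, 3, 2], [19, 12, 11, 5, 3, 2],
   [18, 17, 10, 5, 4, 2], [13, 12, 10, 7, 6, 2], [19, 18, 9, 8, 6, 2], [17, 15, 11, 8, 7, 2], [17, 16, 14, 12, 9, 2], [20, 19, 16, 15, 10, 2],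
   [20, 18, 14, 13, 11, 2], [20, 16, 14, 5, 4, 3], [14, 11, 9, 7, 6, 3], [16, 15, 12, 8, 6, 3], [20, 19, 13, 8, 7, 3], [20, 18, 12, 10, 9, 3],
   [17, 16, 13, 11, 10, 3], [19, 18, 17, 15, 14, 3], [20, 18, 15, 7, 6, 4], [17, 14, 13, 8, 6, 4], [16, 10, 9, 8, 7, 4], [20, 19, 17, 11, 9, 4],
   [15, 14, 12, 11, 10, 4], [19, 18, 16, 13, 12, 4], [19, 17, 16, 7, 6, 5], [20, 11, 10, 8, 6, 5], [18, 14, 12, 8, 7, 5], [19, 14, 13, 10, 9, 5],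
   [18, 16, 15, 11, 9, 5], [20, 17, 15, 13, 12, 5]]

/-- Class 2 of hyperovals of the standard plane. -/
def hyp2 : List (List ℕ) :=
  [[20, 16, 14, 2, 1, 0], [18, 17, 10, 3, 1, 0], [19, 12, 11, 4, 1, 0], [15, 13, 9, 5, 1, 0], [19, 15, 8, 3, 2, 0], [18, 13, 6, 4, 2, 0],
   [17, 12, 7, 5, 2, 0], [20, 9, 7, 4, 3, 0], [16, 11, 6, 5, 3, 0], [14, 10, 8, 5, 4, 0], [19, 17, 14, 9, 6, 0], [20, 15, 12, 10, 6, 0],
   [19, 16, 13, 10, 7, 0], [18, 15, 14, 11, 7, 0], [18, 16, 12, 9, 8, 0], [20, 17, 13, 11, 8, 0], [13, 11, 7, 3, 2, 1], [17, 9, 8, 4, 2, 1],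
   [19, 10, 6, 5, 2, 1], [15, 14, 6, 4, 3, 1], [20, 12, 8, 5, 3, 1], [18, 16, 7, 5, 4, 1], [20, 18, 11, 9, 6, 1], [17, 16, 13, 12, 6, 1],
   [14, 12, 10, 9, 7, 1], [20, 19, 17, 15, 7, 1], [16, 15, 11, 10, 8, 1], [19, 18, 14, 13, 8, 1], [16, 12, 10, 4, 3, 2], [18, 14, 9, 5, 3, 2],
   [20, 15, 11, 5, 4, 2], [16, 15, 9, 7, 6, 2], [14, 12, 11, 8, 6, 2], [20, 18, 10, 8, 7, 2], [20, 19, 13, 12, 9, 2], [17, 15, 14, 13, 10, 2],
   [19, 18, 17, 16, 11, 2], [19, 17, 13, 5, 4, 3], [19, 18, 12, 7, 6, 3], [13, 10, 9, 8, 6, 3], [17, 16, 14, 8, 7, 3], [17, 15, 12, 11, 9, 3],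
   [20, 19, 14, 11, 10, 3], [20, 18, 16, 15, 13, 3], [17, 11, 10, 7, 6, 4], [20, 19, 16, 8, 6, 4], [15, 13, 12, 8, 7, 4], [19, 18, 15, 10, 9, 4],
   [16, 14, 13, 11, 9, 4], [20, 18, 17, 14, 12, 4], [20, 14, 13, 7, 6, 5], [18, 17, 15, 8, 6, 5], [19, 11, 9, 8, 7, 5], [20, 17, 16, 10, 9, 5],
   [18, 13, 12, 11, 10, 5], [19, 16, 15, 14, 12, 5]]

def LP22 : List (ℕ × ℕ × ℕ) :=
  [(0, 31, 2097151), (1, 481, 2097151), (2, 3618, 2097151), (3, 12868, 2097151), (4, 21640, 2097151), (5, 26896, 2097151), (6, 115201, 2097151), (7, 402433, 2097151), (8, 1579009, 2097151), (9, 671810, 2097150), (10, 1089666, 2097150), (11, 332034, 2097150), (12, 1327140, 2097148), (13, 198788, 2080764), (14, 558340, 2080764), (15, 598056, 2080760), (16, 297032, 2072568), (17, 1180424, 2070520), (18, 167984, 2070256), (19, 1115216, 1902288), (20, 787088, 787088)]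

theorem LP22_eq : LP22 = mkLP (DL21.map (fun ys => 21 :: ys)) (List.range 21) := by decide +kernel

theorem tgt22_eq : 0 = tgtR (DL21.map (fun ys => 21 :: ys)) false := by decide +kernel

theorem dfs22 : dfs 0 (hyp0 ++ (hyp1 ++ hyp2)) LP22 6 0 [] = true := by decide +kernel

theorem valid_hyp0 : validAllB 22 hyp0 = true := by decide +kernel

theorem valid_hyp1 : validAllB 22 hyp1 = true := by decide +kernel

theorem valid_hyp2 : validAllB 22 hyp2 = true := by decide +kernel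

/-- Allowed intersection sizes of distinct blocks of an `S(3,6,22)`. -/
def okA22 (n : ℕ) : Bool := Nat.beq n 0 || Nat.beq n 2

theorem cross22_01 : crossB okA22 hyp0 hyp1 = true := by decide +kernel

theorem cross22_02 : crossB okA22 hyp0 hyp2 = true := by decide +kernel

theorem cross22_10 : crossB okA22 hyp1 hyp0 = true := by decide +kernel

theorem cross22_12 : crossB okA22 hyp1 hyp2 = true := by decide +kernel

theorem cross22_20 : crossB okA22 hyp2 hyp0 = true := by decide +kernel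

theorem cross22_21 : crossB okA22 hyp2 hyp1 = true := by decide +kernel

def g22_1 : List ℕ := [10, 14, 12, 15, 11, 4, 18, 16, 6, 8, 17, 19, 3, 5, 7, 0, 9, 2, 13, 20, 1, 21]

def g22_1_inv : List ℕ := [15, 20, 17, 12, 5, 13, 8, 14, 9, 16, 0, 4, 2, 18, 1, 3, 7, 10, 6, 11, 19, 21]

theorem perm22_1 : permB 22 g22_1 g22_1_inv = true := by decide +kernel

theorem map22_1_K : mapIdxB g22_1 g22_1_inv (DL21.map (fun ys => 21 :: ys)) (DL21.map (fun ys => 21 :: ys)) [15, 20, 13, 1, 7, 2, 19, 8, 10, 5, 18, 14, 16, 3, 12, 17, 4, 11, 6, 0, 9] = true := by decide +kernel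

theorem map22_1_K' : mapIdxB g22_1_inv g22_1 (DL21.map (fun ys => 21 :: ys)) (DL21.map (fun ys => 21 :: ys)) [19, 3, 5, 13, 16, 9, 18, 4, 7, 20, 8, 17, 14, 2, 11, 0, 12, 15, 10, 6, 1] = true := by decide +kernel

theorem map22_1_E : mapIdxB g22_1 g22_1_inv hyp1 hyp0 [36, 2, 50, 38, 52, 19, 11, 54, 31, 44, 27, 29, 9, 17, 13, 46, 47, 53, 24, 30, 45, 10, 6, 20, 55, 14, 40, 16, 15, 39, 33, 42, 49, 4, 28, 1, 26, 23, 51, 7, 25, 21, 35, 5, 3, 34, 48, 18, 8, 41, 32, 22, 37, 43, 12, 0] = true := by decide +kernel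

theorem map22_1_E' : mapIdxB g22_1_inv g22_1 hyp0 hyp1 [55, 35, 1, 44, 33, 43, 22, 39, 48, 12, 21, 6, 54, 14, 25, 28, 27, 13, 47, 5, 23, 41, 51, 37, 18, 40, 36, 10, 34, 11, 19, 8, 50, 30, 45, 42, 0, 52, 3, 29, 26, 49, 31, 53, 9, 20, 15, 16, 46, 32, 2, 38, 4, 17, 7, 24] = true := by decide +kernel

def g22_2 : List ℕ := [10, 14, 12, 1, 7, 9, 18, 16, 6, 17, 19, 8, 13, 4, 20, 3, 5, 15, 0, 11, 2, 21]

def g22_2_inv : List ℕ := [18, 3, 20, 15, 13, 16, 8, 4, 11, 5, 0, 19, 2, 12, 1, 17, 7, 9, 6, 10, 14, 21]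

theorem perm22_2 : permB 22 g22_2 g22_2_inv = true := by decide +kernel

theorem map22_2_K : mapIdxB g22_2 g22_2_inv (DL21.map (fun ys => 21 :: ys)) (DL21.map (fun ys => 21 :: ys)) [15, 20, 7, 13, 1, 2, 8, 10, 19, 5, 18, 14, 0, 6, 17, 4, 12, 3, 11, 9, 16] = true := by decide +kernel

theorem map22_2_K' : mapIdxB g22_2_inv g22_2 (DL21.map (fun ys => 21 :: ys)) (DL21.map (fun ys => 21 :: ys)) [12, 4, 5, 17, 15, 9, 13, 2, 6, 19, 7, 18, 16, 3, 11, 0, 20, 14, 10, 8, 1] = true := by decide +kernel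

theorem map22_2_E : mapIdxB g22_2 g22_2_inv hyp2 hyp0 [36, 2, 50, 38, 19, 11, 52, 17, 27, 46, 54, 29, 44, 9, 13, 31, 24, 47, 53, 20, 16, 14, 6, 45, 55, 30, 40, 10, 26, 1, 28, 42, 49, 4, 33, 39, 15, 23, 3, 22, 25, 21, 18, 0, 51, 34, 37, 8, 43, 5, 32, 7, 48, 35, 12, 41] = true := by decide +kernel

theorem map22_2_E' : mapIdxB g22_2_inv g22_2 hyp0 hyp2 [43, 29, 1, 38, 33, 49, 22, 51, 47, 13, 27, 5, 54, 14, 21, 36, 20, 7, 42, 4, 19, 41, 39, 37, 16, 40, 28, 8, 30, 11, 25, 15, 50, 34, 45, 53, 0, 46, 3, 35, 26, 55, 31, 48, 12, 23, 9, 17, 52, 32, 2, 44, 6, 18, 10, 24] = true := by decide +kernel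

/-- The standard Steiner system `S(3,6,22)`. -/
def DL22 : List (List ℕ) := DL21.map (fun ys => 21 :: ys) ++ hyp0


end Cfsg.Agent.Helper27.Witt
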