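import Mathlib
import Cfsg.Agent.Lib.Helper27.WittData22

set_option autoImplicit false
set_option linter.unusedSectionVars false
set_option maxRecDepth 100000
set_option maxHeartbeats 0

/-! The 168 hyperovals of the standard plane: checks that they are arcs and pairwise distinct. -/

namespace Cfsg.Agent.Helper27.Witt


/-- All 168 hyperovals of the standard plane. -/
def hypAll : List (List ℕ) := hyp0 ++ (hyp1 ++ hyp2)

theorem LP22_eq' : LP22 = mkLP DL21 (List.range 21) := by decide +kernel

theorem tgt22_eq' : 0 = tgtR DL21 false := by decide +kernel

/-- Every listed hyperoval has six points and meets every line in at most two points. -/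
def arcAllB (E D : List (List ℕ)) (k : ℕ) : Bool :=
  E.all (fun xs => Nat.beq xs.length k && D.all (fun ys => Nat.ble (cntL xs ys) 2))

theorem hypAll_arc : arcAllB hypAll DL21 6 = true := by decide +kernel

theorem valid_hypAll : validAllB 21 hypAll = true := by decide +kernel

theorem valid_DL21 : validAllB 21 DL21 = true := by decide +kernel

/-- The lists of a family are pairwise distinct. -/
def nodupB : List (List ℕ) → Bool
  | [] => true
  | xs :: rest => !(lmem xs rest) && nodupB rest

theorem nodupB_spec (D : List (List ℕ)) (h : nodupB D = true) : D.Nodup := by
  induction D with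
  | nil => exact List.nodup_nil
  | cons xs rest ih =>
    rw [nodupB, Bool.and_eq_true] at h
    refine List.nodup_cons.mpr ⟨?_, ih h.2⟩
    intro hx
    have := (lmem_iff xs rest).mpr hx
    rw [this] at h
    simp at h

theorem nodup_hypAll : nodupB hypAll = true := by decide +kernel

theorem length_hypAll : hypAll.length = 168 := by decide +kernel


end Cfsg.Agent.Helper27.Witt
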