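import Mathlib
import Cfsg.Agent.Lib.Helper27.WittStd
import Cfsg.Agent.Lib.Helper27.WittAut

set_option autoImplicit false
set_option linter.unusedSectionVars false

/-! Collineations of a plane of order 4 and hyperovals: every permutation of a hyperoval extends, and a collineation fixing a hyperoval pointwise is trivial. -/

namespace Cfsg.Agent.Helper27.Witt


open Finset

section Plane

variable {α : Type*} [Fintype α] [DecidableEq α]

/-- Existence of a collineation extending a permutation of a hyperoval. -/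
theorem exists_collineation {L : Set (Finset α)} (hL : Cfsg.IsSteinerSystem 2 5 L)
    (hα : Fintype.card α = 21) (H : Finset α) (hH6 : H.card = 6)
    (hH : ∀ l ∈ L, (l ∩ H).card ≤ 2) (σ : Equiv.Perm ↥H) :
    ∃ g : Equiv.Perm α, g ∈ Cfsg.setSystemAut L ∧ ∀ p : ↥H, g p = σ p := by
  set eq6 := Finset.equivFinOfCardEq hH6
  set h1 : Fin 6 → α := fun k => (eq6.symm k).val with hh1
  set h2 : Fin 6 → α := fun k => (σ (eq6.symm k)).val with hh2
  have inj1 : Function.Injective h1 := fun a b hab => eq6.symm.injective (Subtype.ext hab)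
  have inj2 : Function.Injective h2 := fun a b hab =>
    eq6.symm.injective (σ.injective (Subtype.ext hab))
  obtain ⟨e1, he1, hL1⟩ := plane_label hL hα H hH6 hH h1 inj1 (fun k => (eq6.symm k).2)
  obtain ⟨e2, he2, hL2⟩ := plane_label hL hα H hH6 hH h2 inj2 (fun k => (σ (eq6.symm k)).2)
  refine ⟨e1.trans e2.symm, ?_, ?_⟩
  · rw [mem_setSystemAut_iff]
    intro b
    have : (b.image (e1.trans e2.symm)).image e2 = b.image e1 := by
      rw [image_image]
      apply image_congr
      intro x _
      simp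
    rw [← image_mem_iff e2 hL2, this, image_mem_iff e1 hL1]
  · intro p
    obtain ⟨k, rfl⟩ : ∃ k, eq6.symm k = p := ⟨eq6 p, eq6.symm_apply_apply p⟩
    show e2.symm (e1 (h1 k)) = h2 k
    rw [Equiv.symm_apply_eq]
    apply Fin.ext
    rw [he1, he2]

/-- A collineation fixing a hyperoval pointwise is the identity. -/
theorem collineation_eq_one {L : Set (Finset α)} (hL : Cfsg.IsSteinerSystem 2 5 L)
    (hα : Fintype.card α = 21) (H : Finset α) (hH6 : H.card = 6)
    (hH : ∀ l ∈ L, (l ∩ H).card ≤ 2) (f : Equiv.Perm α) (hf : f ∈ Cfsg.setSystemAut L)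
    (hfix : ∀ x ∈ H, f x = x) : f = 1 := by
  obtain ⟨Bf, rfl⟩ := exists_finset_blocks L
  have hHarc : IsArc Bf H := fun l hl => hH l (by exact_mod_cast hl)
  rw [mem_setSystemAut_iff] at hf
  have hline : ∀ l ∈ Bf, l.image f ∈ Bf := by
    intro l hl
    have := (hf l).mpr (by exact_mod_cast hl)
    exact_mod_cast this
  -- a line through two hyperoval points is mapped to itself
  have hsec : ∀ l ∈ Bf, ∀ a ∈ H, ∀ b ∈ H, a ≠ b → a ∈ l → b ∈ l → l.image f = l := by
    intro l hl a ha b hb hab hal hbl
    apply line_unique hL (hline l hl) hl hab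
    · rw [mem_image]; exact ⟨a, hal, hfix a ha⟩
    · rw [mem_image]; exact ⟨b, hbl, hfix b hb⟩
    · exact hal
    · exact hbl
  ext x
  show f x = x
  by_cases hxH : x ∈ H
  · exact hfix x hxH
  · obtain ⟨a, haH⟩ : H.Nonempty := card_pos.mp (by omega)
    have hxa : x ≠ a := fun e => hxH (e ▸ haH)
    obtain ⟨l, hl, hxl, hal⟩ := exists_line hL hxa
    obtain ⟨b, hbH, hba, hbl⟩ := hyperoval_second_point hL hα hHarc hH6 hl haH hal
    obtain ⟨c, hcH, hca, hcb⟩ : ∃ c ∈ H, c ≠ a ∧ c ≠ b := by
      by_contra hcon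
      push Not at hcon
      have : H ⊆ {a, b} := by
        intro c hc
        by_cases hca : c = a
        · simp [hca]
        · simp [hcon c hc hca]
      have := card_le_card this
      have h2 : ({a, b} : Finset α).card ≤ 2 := card_le_two
      omega
    have hxc : x ≠ c := fun e => hxH (e ▸ hcH)
    obtain ⟨m, hm, hxm, hcm⟩ := exists_line hL hxc
    obtain ⟨d, hdH, hdc, hdm⟩ := hyperoval_second_point hL hα hHarc hH6 hm hcH hcm
    have hlm : l ≠ m := by
      intro e
      exact hHarc.not_three hl haH hbH hcH hba.symm hca.symm hcb.symm hal hbl (e ▸ hcm)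
    have h1 : f x ∈ l := by
      rw [← hsec l hl a haH b hbH hba.symm hal hbl, mem_image]
      exact ⟨x, hxl, rfl⟩
    have h2 : f x ∈ m := by
      rw [← hsec m hm c hcH d hdH hdc.symm hcm hdm, mem_image]
      exact ⟨x, hxm, rfl⟩
    obtain ⟨y, hy⟩ := lines_meet hL hα hl hm hlm
    have e1 : f x = y := by
      have : f x ∈ l ∩ m := mem_inter.mpr ⟨h1, h2⟩
      rwa [hy, mem_singleton] at this
    have e2 : x = y := by
      have : x ∈ l ∩ m := mem_inter.mpr ⟨hxl, hxm⟩
      rwa [hy, mem_singleton] at this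
    rw [e1, ← e2]

end Plane


end Cfsg.Agent.Helper27.Witt
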