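import Mathlib
import Cfsg.Agent.Lib.Helper27.WittPlane3
import Cfsg.Agent.Lib.Helper27.WittData21b

set_option autoImplicit false
set_option linter.unusedSectionVars false

/-! Counting in a plane of order 4: 168 hyperovals, every 4-arc in a unique hyperoval, 15 four-arcs per hyperoval. -/

namespace Cfsg.Agent.Helper27.Witt


open Finset

theorem validB_sorted (n : ℕ) (xs : List ℕ) (h : validB n xs = true) :
    xs.Pairwise (· > ·) := by
  induction xs generalizing n with
  | nil => exact List.Pairwise.nil
  | cons x rest ih =>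
    rw [validB, Bool.and_eq_true, Nat.blt_eq] at h
    refine List.pairwise_cons.mpr ⟨?_, ih x h.2⟩
    intro y hy
    exact (validB_spec x rest h.2).2 y hy

/-- On valid lists, `ofL` is injective. -/
theorem ofL_injOn (n : ℕ) (xs ys : List ℕ) (hx : validB n xs = true) (hy : validB n ys = true)
    (h : ofL n xs = ofL n ys) : xs = ys := by
  have hmem : ∀ a, a ∈ xs ↔ a ∈ ys := by
    intro a
    constructor
    · intro ha
      have hlt := (validB_spec n xs hx).2 a ha
      have : (⟨a, hlt⟩ : Fin n) ∈ ofL n xs := mem_ofL.mpr ha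
      rw [h] at this
      exact mem_ofL.mp this
    · intro ha
      have hlt := (validB_spec n ys hy).2 a ha
      have : (⟨a, hlt⟩ : Fin n) ∈ ofL n ys := mem_ofL.mpr ha
      rw [← h] at this
      exact mem_ofL.mp this
  have hperm : xs.Perm ys :=
    (List.perm_ext_iff_of_nodup (validB_spec n xs hx).1 (validB_spec n ys hy).1).mpr hmem
  exact List.Perm.eq_of_pairwise (fun a b _ _ hab hba => absurd hab (not_lt.mpr hba.le))
    (validB_sorted n xs hx) (validB_sorted n ys hy) hperm

/-- The number of sets in a listed family of valid, pairwise distinct lists. -/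
theorem ncard_famO_eq (n : ℕ) (D : List (List ℕ)) (hv : validAllB n D = true) (hnd : D.Nodup) :
    (famO n D).ncard = D.length := by
  classical
  have : famO n D = ((D.map (ofL n)).toFinset : Set (Finset (Fin n))) := by
    ext X
    simp only [mem_famO, Finset.mem_coe, List.mem_toFinset, List.mem_map]
    constructor
    · rintro ⟨ys, hys, rfl⟩; exact ⟨ys, hys, rfl⟩
    · rintro ⟨ys, hys, rfl⟩; exact ⟨ys, hys, rfl⟩
  rw [this, Set.ncard_coe_finset, List.toFinset_card_of_nodup, List.length_map]
  rw [List.nodup_map_iff_inj_on hnd]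
  intro xs hxs ys hys hxy
  exact ofL_injOn n xs ys (List.all_eq_true.mp hv xs hxs) (List.all_eq_true.mp hv ys hys) hxy

section Plane

variable {α : Type*} [Fintype α] [DecidableEq α]

/-- A plane of order 4 has exactly 168 hyperovals. -/
theorem ncard_hyperovals {L : Set (Finset α)} (hL : Cfsg.IsSteinerSystem 2 5 L)
    (hα : Fintype.card α = 21) :
    {H : Finset α | (H.card = 6 ∧ ∀ l ∈ L, (l ∩ H).card ≤ 2)}.ncard = 168 := by
  classical
  obtain ⟨e, he⟩ := std21 hL hα
  obtain ⟨Bf, rfl⟩ := exists_finset_blocks L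
  have hinj : Function.Injective (fun b : Finset α => b.image e) :=
    Finset.image_injective e.injective
  have himg : (fun b : Finset α => b.image e) ''
      {H : Finset α | (H.card = 6 ∧ ∀ l ∈ (Bf : Set (Finset α)), (l ∩ H).card ≤ 2)}
      = famO 21 hypAll := by
    ext X
    constructor
    · rintro ⟨H, ⟨hH6, hH⟩, rfl⟩
      have hHarc : IsArc Bf H := fun l hl => hH l (by exact_mod_cast hl)
      apply classify 6 (List.range 21) DL21 hypAll false LP22 0 List.nodup_range LP22_eq'
        tgt22_eq' dfs22 (H.image e)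
      · intro i _
        exact List.mem_range.mpr i.isLt
      · rw [card_image_of_injective _ e.injective, hH6]
      · intro ys hys
        have : ofL 21 ys ∈ famO 21 DL21 := ⟨ys, hys, rfl⟩
        rw [← he] at this
        obtain ⟨l, hl, hl'⟩ := this
        have hl'' : l.image e = ofL 21 ys := hl'
        rw [← hl'', ← image_inter _ _ e.injective, card_image_of_injective _ e.injective]
        have hlB : l ∈ Bf := by exact_mod_cast hl
        have hle : (H ∩ l).card ≤ 2 := by rw [inter_comm]; exact hHarc l hlB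
        have hne1 : (H ∩ l).card ≠ 1 := by
          intro h1
          obtain ⟨x, hx⟩ := card_eq_one.mp h1
          have hxm : x ∈ H ∩ l := by rw [hx]; exact mem_singleton_self x
          obtain ⟨y, hyH, hyx, hyl⟩ := hyperoval_second_point hL hα hHarc hH6 hlB
            (mem_inter.mp hxm).1 (mem_inter.mp hxm).2
          have : y ∈ H ∩ l := mem_inter.mpr ⟨hyH, hyl⟩
          rw [hx, mem_singleton] at this
          exact hyx this
        have : (H ∩ l).card = 0 ∨ (H ∩ l).card = 2 := by omega
        rcases this with h | h <;> rw [h] <;> rfl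
    · rintro ⟨xs, hxs, rfl⟩
      have harc := List.all_eq_true.mp hypAll_arc xs hxs
      rw [Bool.and_eq_true, nbeq_iff, List.all_eq_true] at harc
      obtain ⟨hnd, hlt⟩ := validAllB_spec 21 hypAll valid_hypAll xs hxs
      refine ⟨(ofL 21 xs).image e.symm, ⟨?_, ?_⟩, ?_⟩
      · rw [card_image_of_injective _ e.symm.injective, card_ofL xs hnd hlt, harc.1]
      · intro l hl
        have : l.image e ∈ famO 21 DL21 := by rw [← he]; exact ⟨l, hl, rfl⟩
        obtain ⟨ys, hys, hys'⟩ := this
        have h1 : (l ∩ (ofL 21 xs).image e.symm).card = (l.image e ∩ ofL 21 xs).card := by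
          have : l.image e ∩ ofL 21 xs = (l ∩ (ofL 21 xs).image e.symm).image e := by
            rw [image_inter _ _ e.injective, image_image]
            congr 1
            conv_lhs => rw [← image_id (s := ofL 21 xs)]
            apply image_congr
            intro x _
            simp
          rw [this, card_image_of_injective _ e.injective]
        rw [h1, hys', inter_comm, card_inter_ofL xs ys hnd hlt]
        have := harc.2 ys hys
        exact Nat.le_of_ble_eq_true this
      · show ((ofL 21 xs).image e.symm).image e = ofL 21 xs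
        rw [image_image]
        conv_rhs => rw [← image_id (s := ofL 21 xs)]
        apply image_congr
        intro x _
        simp
  rw [← Set.ncard_image_of_injective _ hinj, himg,
    ncard_famO_eq 21 hypAll valid_hypAll (nodupB_spec _ nodup_hypAll), length_hypAll]

end Plane




open Finset

section Plane

variable {α : Type*} [Fintype α] [DecidableEq α]

theorem isArc_iff_set {Bf : Finset (Finset α)} (S : Finset α) :
    (∀ l ∈ (Bf : Set (Finset α)), (l ∩ S).card ≤ 2) ↔ IsArc Bf S := by
  constructor
  · intro h l hl; exact h l (by exact_mod_cast hl)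
  · intro h l hl; exact h l (by exact_mod_cast hl)

/-- Every 4-arc lies in a unique hyperoval. -/
theorem existsUnique_hyperoval {L : Set (Finset α)} (hL : Cfsg.IsSteinerSystem 2 5 L)
    (hα : Fintype.card α = 21) (S : Finset α) (hS4 : S.card = 4)
    (hS : ∀ l ∈ L, (l ∩ S).card ≤ 2) :
    ∃! H : Finset α, (H.card = 6 ∧ ∀ l ∈ L, (l ∩ H).card ≤ 2) ∧ S ⊆ H := by
  obtain ⟨Bf, rfl⟩ := exists_finset_blocks L
  have hSarc : IsArc Bf S := (isArc_iff_set S).mp hS
  obtain ⟨h6, harc⟩ := hyperoval_of_arc hL hα hSarc hS4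
  refine ⟨S ∪ offSec Bf S, ⟨⟨h6, (isArc_iff_set _).mpr harc⟩, subset_union_left⟩, ?_⟩
  rintro H ⟨⟨hH6, hH⟩, hSH⟩
  exact hyperoval_unique hL hα hS4 ((isArc_iff_set H).mp hH) hH6 hSH

/-- A plane of order 4 has 15 times as many 4-arcs as hyperovals. -/
theorem ncard_four_arcs {L : Set (Finset α)} (hL : Cfsg.IsSteinerSystem 2 5 L)
    (hα : Fintype.card α = 21) :
    {S : Finset α | (S.card = 4 ∧ ∀ l ∈ L, (l ∩ S).card ≤ 2)}.ncard
      = 15 * {H : Finset α | (H.card = 6 ∧ ∀ l ∈ L, (l ∩ H).card ≤ 2)}.ncard := by
  classical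
  obtain ⟨Bf, rfl⟩ := exists_finset_blocks L
  set Arc4 : Finset (Finset α) := (univ.powersetCard 4).filter (IsArc Bf) with hArc4
  set Hyp : Finset (Finset α) := (univ.powersetCard 6).filter (IsArc Bf) with hHyp
  have hA : {S : Finset α | (S.card = 4 ∧ ∀ l ∈ (Bf : Set (Finset α)), (l ∩ S).card ≤ 2)}
      = (Arc4 : Set (Finset α)) := by
    ext S
    simp only [Set.mem_ofPred_eq, hArc4, coe_filter, mem_powersetCard, subset_univ, true_and,
      isArc_iff_set]
  have hH : {H : Finset α | (H.card = 6 ∧ ∀ l ∈ (Bf : Set (Finset α)), (l ∩ H).card ≤ 2)}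
      = (Hyp : Set (Finset α)) := by
    ext S
    simp only [Set.mem_ofPred_eq, hHyp, coe_filter, mem_powersetCard, subset_univ, true_and,
      isArc_iff_set]
  rw [hA, hH, Set.ncard_coe_finset, Set.ncard_coe_finset]
  have hmaps : ∀ S ∈ Arc4, S ∪ offSec Bf S ∈ Hyp := by
    intro S hS
    rw [hArc4, mem_filter, mem_powersetCard] at hS
    obtain ⟨h6, harc⟩ := hyperoval_of_arc hL hα hS.2 hS.1.2
    rw [hHyp, mem_filter, mem_powersetCard]
    exact ⟨⟨subset_univ _, h6⟩, harc⟩
  rw [card_eq_sum_card_fiberwise hmaps]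
  have hfib : ∀ H ∈ Hyp, (Arc4.filter (fun S => S ∪ offSec Bf S = H)).card = 15 := by
    intro H hH'
    rw [hHyp, mem_filter, mem_powersetCard] at hH'
    have : Arc4.filter (fun S => S ∪ offSec Bf S = H) = H.powersetCard 4 := by
      ext S
      rw [mem_filter, hArc4, mem_filter, mem_powersetCard, mem_powersetCard]
      constructor
      · rintro ⟨⟨⟨_, hS4⟩, _⟩, hSH⟩
        exact ⟨hSH ▸ subset_union_left, hS4⟩
      · rintro ⟨hSH, hS4⟩
        refine ⟨⟨⟨subset_univ _, hS4⟩, hH'.2.subset hSH⟩, ?_⟩
        exact (hyperoval_unique hL hα hS4 hH'.2 hH'.1.2 hSH).symm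
    rw [this, card_powersetCard, hH'.1.2]
    rfl
  rw [sum_congr rfl hfib, sum_const, smul_eq_mul, mul_comm]

end Plane


end Cfsg.Agent.Helper27.Witt
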