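import Mathlib
import Cfsg.Prelude.Def_JComponents
import Cfsg.Agent.Lib.Helper4.ZNDefs

/-!
# S0518, piece FUS: the conjugates of `t₁` in `S` lie in `t₁ D`   (helper27)

Proves `Cfsg.Agent.Helper4.ZN.fusion` with the signature of `plans/S0518_Skel.lean.txt`.
Auxiliary lemmas live in the sub-namespace `Cfsg.Agent.Helper4.ZN.FUS`.
-/

set_option autoImplicit false
open Cfsg

namespace Cfsg.Agent.Helper4.ZN

variable {G : Type*} [Group G]

namespace FUS

variable {P₁ P₂ T : Subgroup G} {t₁ t₂ : G} {E₁ E₂ V₁ V₂ : Subgroup G}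

theorem inv_self_of_sq {t : G} (h : t * t = 1) : t⁻¹ = t := inv_eq_of_mul_eq_one_left h

/-- elements of a subgroup of exponent 2 commute -/
theorem comm_of_sq {E : Subgroup G} (hE : ∀ x ∈ E, x * x = 1) {x y : G} (hx : x ∈ E) (hy : y ∈ E) :
    x * y = y * x := by
  have hx' : x⁻¹ = x := inv_self_of_sq (hE x hx)
  have hy' : y⁻¹ = y := inv_self_of_sq (hE y hy)
  have h3 : (x * y)⁻¹ = x * y := inv_self_of_sq (hE (x * y) (E.mul_mem hx hy))
  calc x * y = (x * y)⁻¹ := h3.symm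
    _ = y⁻¹ * x⁻¹ := mul_inv_rev x y
    _ = y * x := by rw [hx', hy']

theorem V_le_E {P : Subgroup G} {t : G} {E V : Subgroup G} (b : PB P t E V) : V ≤ E := by
  rw [b.V_eq]; exact inf_le_left

theorem V_le_P {P : Subgroup G} {t : G} {E V : Subgroup G} (b : PB P t E V) : V ≤ P :=
  (V_le_E b).trans b.E_le

/-- local copy of `swap_mul_mem` (piece NT) -/
theorem swap_mul (c : Ctx P₁ P₂ T t₁ t₂ E₁ E₂ V₁ V₂) {g h : G}
    (hg : Swap g P₁ P₂ t₁ t₂ E₁ E₂ V₁ V₂) (hh : Swap h P₁ P₂ t₁ t₂ E₁ E₂ V₁ V₂) : g⁻¹ * h ∈ T := by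
  rw [← c.inter, Subgroup.mem_inf]
  refine ⟨?_, ?_⟩
  · rw [← c.nE₁, Subgroup.mem_normalizer_iff]
    intro x
    have key : (g⁻¹ * h) * x * (g⁻¹ * h)⁻¹ = g⁻¹ * (h * x * h⁻¹) * g := by group
    have key2 : g * (g⁻¹ * (h * x * h⁻¹) * g) * g⁻¹ = h * x * h⁻¹ := by group
    rw [key, hg.E₁₂ (g⁻¹ * (h * x * h⁻¹) * g), key2]
    exact hh.E₁₂ x
  · rw [← c.nE₂, Subgroup.mem_normalizer_iff]
    intro x
    have key : (g⁻¹ * h) * x * (g⁻¹ * h)⁻¹ = g⁻¹ * (h * x * h⁻¹) * g := by group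
    have key2 : g * (g⁻¹ * (h * x * h⁻¹) * g) * g⁻¹ = h * x * h⁻¹ := by group
    rw [key, hg.E₂₁ (g⁻¹ * (h * x * h⁻¹) * g), key2]
    exact hh.E₂₁ x

/-- `z` is not conjugate to `t₁`. -/
theorem no_fus_z [Finite G] (c : Ctx P₁ P₂ T t₁ t₂ E₁ E₂ V₁ V₂) (e : TE T E₁ E₂) {z : G}
    (v : TV T t₁ t₂ z E₁ E₂ V₁ V₂) (S : Sylow 2 G)
    (hS : (S : Subgroup G) = T ∨ SB2 S P₁ P₂ T t₁ t₂ z E₁ E₂ V₁ V₂)
    (h : G) (hh : h * t₁ * h⁻¹ = z) : False := by
  have hzD : z ∈ V₁ ⊔ V₂ := (le_sup_left : V₁ ≤ V₁ ⊔ V₂) v.z_V₁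
  have hTP₁ : T ≤ P₁ := c.syl₁.1
  rcases hS with hST | hSB
  · -- Burnside: `z` and `t₁` are conjugate under `N_G(T)`
    have : Fact (Nat.Prime 2) := ⟨Nat.prime_two⟩
    have hx : t₁ ∈ Subgroup.centralizer ((S : Subgroup G) : Set G) := by
      rw [Subgroup.mem_centralizer_iff]
      intro s hs
      have hs' : s ∈ T := by rw [← hST]; exact hs
      exact c.b₁.t_comm s (hTP₁ hs')
    have hy : (h⁻¹)⁻¹ * t₁ * h⁻¹ ∈ Subgroup.centralizer ((S : Subgroup G) : Set G) := by
      rw [inv_inv, hh, Subgroup.mem_centralizer_iff]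
      intro s hs
      have hs' : s ∈ T := by rw [← hST]; exact hs
      exact (v.z_central s hs').symm
    obtain ⟨n, hn, hnz⟩ := Sylow.conj_eq_normalizer_conj_of_mem_centralizer S t₁ h⁻¹ hx hy
    rw [inv_inv, hh] at hnz
    -- m := n⁻¹ normalizes T and z = m t₁ m⁻¹
    have hm : n⁻¹ ∈ Subgroup.normalizer (T : Set G) := by
      rw [← hST]; exact inv_mem hn
    set m := n⁻¹ with hm_def
    have hzm : z = m * t₁ * m⁻¹ := by rw [hnz, hm_def, inv_inv]
    have hmT : ∀ x, x ∈ T ↔ m * x * m⁻¹ ∈ T := Subgroup.mem_normalizer_iff.mp hm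
    -- the image A of E₁ under conjugation by m
    let A : Subgroup G := E₁.map (MulAut.conj m).toMonoidHom
    have hA_mem : ∀ y, y ∈ A ↔ ∃ x ∈ E₁, m * x * m⁻¹ = y := by
      intro y
      simp only [A, Subgroup.mem_map, MulEquiv.coe_toMonoidHom, MulAut.conj_apply]
    have hAT : A ≤ T := by
      intro y hy
      obtain ⟨x, hx, rfl⟩ := (hA_mem y).mp hy
      exact (hmT x).mp (e.E₁_le hx)
    have hAcard : Nat.card ↥A = 8 := by
      rw [Subgroup.card_map_of_injective (MulAut.conj m).injective]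
      exact c.b₁.card_E
    have hAsq : ∀ a ∈ A, a * a = 1 := by
      intro y hy
      obtain ⟨x, hx, rfl⟩ := (hA_mem y).mp hy
      have := c.b₁.E_sq x hx
      calc m * x * m⁻¹ * (m * x * m⁻¹) = m * (x * x) * m⁻¹ := by group
        _ = 1 := by rw [this]; group
    have hconj_iff : ∀ (F : Subgroup G), A = F → ∀ x, x ∈ E₁ ↔ m * x * m⁻¹ ∈ F := by
      intro F hF x
      rw [← hF, hA_mem]
      constructor
      · intro hx; exact ⟨x, hx, rfl⟩
      · rintro ⟨x', hx', hxx⟩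
        have : x' = x := by
          have := mul_right_cancel hxx
          exact mul_left_cancel this
        rw [← this]; exact hx'
    rcases e.e8 A hAT hAcard hAsq with hA1 | hA2
    · -- m ∈ N(E₁) = P₁ = C(t₁), so z = t₁
      have hmP : m ∈ P₁ := by
        rw [← c.nE₁, Subgroup.mem_normalizer_iff]
        exact hconj_iff E₁ hA1
      have hcomm := c.b₁.t_comm m hmP
      have : z = t₁ := by
        rw [hzm, hcomm]; group
      exact v.t₁_D (this ▸ hzD)
    · -- m P₁ m⁻¹ = P₂, so z is central in P₂, z = t₂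
      have hE := hconj_iff E₂ hA2
      have hzP₂ : z ∈ P₂ := V_le_P c.b₂ v.z_V₂
      have hzc : ∀ p ∈ P₂, z * p = p * z := by
        intro p hp
        have hpN : p ∈ Subgroup.normalizer (E₂ : Set G) := by rw [c.nE₂]; exact hp
        have hpN' := Subgroup.mem_normalizer_iff.mp hpN
        have hq : m⁻¹ * p * m ∈ P₁ := by
          rw [← c.nE₁, Subgroup.mem_normalizer_iff]
          intro x
          rw [hE x, hpN' (m * x * m⁻¹), hE ((m⁻¹ * p * m) * x * (m⁻¹ * p * m)⁻¹)]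
          have : m * (m⁻¹ * p * m * x * (m⁻¹ * p * m)⁻¹) * m⁻¹ = p * (m * x * m⁻¹) * p⁻¹ := by group
          rw [this]
        have hcomm := c.b₁.t_comm _ hq
        -- (m⁻¹ p m) t₁ = t₁ (m⁻¹ p m)  ⟹  p (m t₁ m⁻¹) = (m t₁ m⁻¹) p
        rw [hzm]
        calc m * t₁ * m⁻¹ * p = m * (t₁ * (m⁻¹ * p * m)) * m⁻¹ := by group
          _ = m * ((m⁻¹ * p * m) * t₁) * m⁻¹ := by rw [hcomm]
          _ = p * (m * t₁ * m⁻¹) := by group
      rcases c.b₂.center z hzP₂ (fun y hy => hzc y hy) with h1 | h2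
      · exact v.z_ne h1
      · have hzD₂ : z ∈ V₁ ⊔ V₂ := hzD
        exact v.t₂_D (h2 ▸ hzD₂)
  · -- |C_G(z)| = |C_G(t₁)| = 48 > 32 = |S|
    let B : Subgroup G := P₁.map (MulAut.conj h).toMonoidHom
    have hBcard : Nat.card ↥B = 48 := by
      rw [Subgroup.card_map_of_injective (MulAut.conj h).injective]
      exact c.b₁.card_P
    have hBle : B ≤ Subgroup.centralizer ({z} : Set G) := by
      intro y hy
      simp only [B, Subgroup.mem_map, MulEquiv.coe_toMonoidHom, MulAut.conj_apply] at hy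
      obtain ⟨x, hx, rfl⟩ := hy
      rw [Subgroup.mem_centralizer_iff]
      intro w hw
      rw [Set.mem_singleton_iff] at hw
      subst hw
      have hcomm := c.b₁.t_comm x hx
      rw [← hh]
      calc h * t₁ * h⁻¹ * (h * x * h⁻¹) = h * (t₁ * x) * h⁻¹ := by group
        _ = h * (x * t₁) * h⁻¹ := by rw [hcomm]
        _ = h * x * h⁻¹ * (h * t₁ * h⁻¹) := by group
    have hle : Nat.card ↥B ≤ Nat.card ↥(S : Subgroup G) :=
      Subgroup.card_le_of_le (hBle.trans hSB.cent_z)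
    rw [hBcard, hSB.card_S] at hle
    omega

end FUS

/-! ## Piece FUS: the conjugates of `t₁` in `S` -/

section CaseB

variable {P₁ P₂ T : Subgroup G} {t₁ t₂ : G} {E₁ E₂ V₁ V₂ : Subgroup G}

theorem fusion [Finite G] (c : Ctx P₁ P₂ T t₁ t₂ E₁ E₂ V₁ V₂) (e : TE T E₁ E₂) {z : G}
    (v : TV T t₁ t₂ z E₁ E₂ V₁ V₂) (S : Sylow 2 G) (hTS : T ≤ (S : Subgroup G))
    (hS : (S : Subgroup G) = T ∨ SB2 S P₁ P₂ T t₁ t₂ z E₁ E₂ V₁ V₂) :
    ∀ g : G, g * t₁ * g⁻¹ ∈ (S : Subgroup G) → g * t₁ * g⁻¹ * t₁⁻¹ ∈ V₁ ⊔ V₂ := by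
  intro g haS
  have hTP₁ : T ≤ P₁ := c.syl₁.1
  have ht₁inv : t₁⁻¹ = t₁ := FUS.inv_self_of_sq c.b₁.t_sq
  set a := g * t₁ * g⁻¹ with ha_def
  have ha_sq : a * a = 1 := by
    rw [ha_def]
    calc g * t₁ * g⁻¹ * (g * t₁ * g⁻¹) = g * (t₁ * t₁) * g⁻¹ := by group
      _ = 1 := by rw [c.b₁.t_sq]; group
  have ha_ne : a ≠ 1 := by
    intro h1
    apply c.b₁.t_ne
    have : t₁ = g⁻¹ * a * g := by rw [ha_def]; group
    rw [this, h1]; group
  -- case (i): a ∈ D is impossible
  have hnotD : a ∉ V₁ ⊔ V₂ := by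
    intro haD
    have hz : ∃ h : G, h * t₁ * h⁻¹ = z := by
      rcases v.D_inv a haD ha_sq with h1 | h2
      · obtain ⟨k, _, hk⟩ := c.b₁.V_trans a h1 z v.z_V₁ ha_ne v.z_ne
        refine ⟨k * g, ?_⟩
        rw [← hk, ha_def]; group
      · obtain ⟨k, _, hk⟩ := c.b₂.V_trans a h2 z v.z_V₂ ha_ne v.z_ne
        refine ⟨k * g, ?_⟩
        rw [← hk, ha_def]; group
    obtain ⟨h, hh⟩ := hz
    exact FUS.no_fus_z c e v S hS h hh
  by_cases haT : a ∈ T
  · -- case (ii)
    rcases v.T_cover a haT with h1 | h2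
    · exact absurd h1 hnotD
    · have hcomm : a * t₁ = t₁ * a := c.b₁.t_comm a (hTP₁ haT)
      rw [ht₁inv, hcomm]; exact h2
  · -- case (iii): a ∉ T, only possible under SB2
    exfalso
    rcases hS with hST | hSB
    · apply haT; rw [← hST]; exact haS
    have hsw := hSB.swap a haS haT
    -- z commutes with a
    have haz : a * z * a⁻¹ = z := by
      have h1 : a * z * a⁻¹ ∈ V₂ := (hsw.V₁₂ z).mp v.z_V₁
      have h2 : a * z * a⁻¹ ∈ V₁ := (hsw.V₂₁ z).mp v.z_V₂
      rcases v.V_inf _ (Subgroup.mem_inf.mpr ⟨h2, h1⟩) with h3 | h3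
      · exfalso; apply v.z_ne
        have : z = a⁻¹ * (a * z * a⁻¹) * a := by group
        rw [this, h3]; group
      · exact h3
    have haz' : a * z = z * a := by
      calc a * z = a * z * a⁻¹ * a := by group
        _ = z * a := by rw [haz]
    -- y := g⁻¹ z g lies in P₁ = C(t₁)
    set y := g⁻¹ * z * g with hy_def
    have hz_sq : z * z = 1 := c.b₁.E_sq z (FUS.V_le_E c.b₁ v.z_V₁)
    have hy_sq : y * y = 1 := by
      rw [hy_def]
      calc g⁻¹ * z * g * (g⁻¹ * z * g) = g⁻¹ * (z * z) * g := by group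
        _ = 1 := by rw [hz_sq]; group
    have hyt : t₁ * y = y * t₁ := by
      rw [hy_def]
      have h1 : t₁ * (g⁻¹ * z * g) = g⁻¹ * (a * z) * g := by rw [ha_def]; group
      have h2 : g⁻¹ * z * g * t₁ = g⁻¹ * (z * a) * g := by rw [ha_def]; group
      rw [h1, h2, haz']
    have hyP : y ∈ P₁ := by
      rw [← c.cT₁, Subgroup.mem_centralizer_iff]
      intro w hw
      rw [Set.mem_singleton_iff] at hw
      subst hw; exact hyt
    -- the key claim
    have hclaim : ∀ x ∈ P₁, x * x = 1 → x * y = y * x → x = 1 ∨ x = t₁ ∨ x = y ∨ x = t₁ * y := by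
      intro x hxP hx_sq hxy
      have hxt : x * t₁ = t₁ * x := c.b₁.t_comm x hxP
      set b := g * x * g⁻¹ with hb_def
      have hb_sq : b * b = 1 := by
        rw [hb_def]
        calc g * x * g⁻¹ * (g * x * g⁻¹) = g * (x * x) * g⁻¹ := by group
          _ = 1 := by rw [hx_sq]; group
      have hba : b * a = a * b := by
        rw [hb_def, ha_def]
        calc g * x * g⁻¹ * (g * t₁ * g⁻¹) = g * (x * t₁) * g⁻¹ := by group
          _ = g * (t₁ * x) * g⁻¹ := by rw [hxt]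
          _ = g * t₁ * g⁻¹ * (g * x * g⁻¹) := by group
      have hbz : z * b = b * z := by
        have hz : z = g * y * g⁻¹ := by rw [hy_def]; group
        rw [hb_def, hz]
        calc g * y * g⁻¹ * (g * x * g⁻¹) = g * (y * x) * g⁻¹ := by group
          _ = g * (x * y) * g⁻¹ := by rw [hxy]
          _ = g * x * g⁻¹ * (g * y * g⁻¹) := by group
      have hbS : b ∈ (S : Subgroup G) := by
        apply hSB.cent_z
        rw [Subgroup.mem_centralizer_iff]
        intro w hw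
        rw [Set.mem_singleton_iff] at hw
        subst hw; exact hbz
      have hxb : x = g⁻¹ * b * g := by rw [hb_def]; group
      by_cases hbT : b ∈ T
      · rcases hSB.inv_fix a haS haT b hbT hb_sq hba with h1 | h1
        · left; rw [hxb, h1]; group
        · right; right; left; rw [hxb, h1]
      · have hswb := hSB.swap b hbS hbT
        have habT : a⁻¹ * b ∈ T := FUS.swap_mul c hsw hswb
        have ha_inv : a⁻¹ = a := FUS.inv_self_of_sq ha_sq
        rw [ha_inv] at habT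
        have hab_sq : (a * b) * (a * b) = 1 := by
          calc a * b * (a * b) = a * (b * a) * b := by group
            _ = a * (a * b) * b := by rw [hba]
            _ = (a * a) * (b * b) := by group
            _ = 1 := by rw [ha_sq, hb_sq]; group
        have hab_comm : (a * b) * a = a * (a * b) := by
          rw [mul_assoc, hba]
        have htx : t₁ * x = g⁻¹ * (a * b) * g := by rw [ha_def, hb_def]; group
        have hx_eq : x = t₁ * (t₁ * x) := by
          rw [← mul_assoc, c.b₁.t_sq, one_mul]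
        rcases hSB.inv_fix a haS haT (a * b) habT hab_sq hab_comm with h1 | h1
        · right; left
          rw [hx_eq, htx, h1]; group
        · right; right; right
          rw [hx_eq, htx, h1]
    -- now the contradiction
    obtain ⟨w, hwV, hw1, hwy⟩ := c.b₁.inv_comm y hyP hy_sq
    have hwE : w ∈ E₁ := FUS.V_le_E c.b₁ hwV
    have hyE : y ∈ E₁ := by
      rcases hclaim w (c.b₁.E_le hwE) (c.b₁.E_sq w hwE) hwy with h1 | h1 | h1 | h1
      · exact absurd h1 hw1
      · exfalso; apply c.b₁.t_V; rw [← h1]; exact hwV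
      · rw [← h1]; exact hwE
      · have : y = t₁ * w := by
          rw [h1, ← mul_assoc, c.b₁.t_sq, one_mul]
        rw [this]; exact E₁.mul_mem c.b₁.t_E hwE
    have hsub : (E₁ : Set G) ⊆ ({1, t₁, y, t₁ * y} : Set G) := by
      intro x hx
      have hx' : x ∈ E₁ := hx
      have := hclaim x (c.b₁.E_le hx') (c.b₁.E_sq x hx') (FUS.comm_of_sq c.b₁.E_sq hx' hyE)
      simpa using this
    have hcard : Nat.card ↥E₁ ≤ 4 := by
      have h1 : (E₁ : Set G).ncard ≤ ({1, t₁, y, t₁ * y} : Set G).ncard :=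
        Set.ncard_le_ncard hsub (Set.toFinite _)
      have h2 : ({1, t₁, y, t₁ * y} : Set G).ncard ≤ 4 := by
        refine (Set.ncard_insert_le _ _).trans ?_
        refine Nat.succ_le_succ ((Set.ncard_insert_le _ _).trans ?_)
        refine Nat.succ_le_succ ((Set.ncard_insert_le _ _).trans ?_)
        rw [Set.ncard_singleton]
      have h3 : Nat.card ↥E₁ = (E₁ : Set G).ncard := (Nat.card_coe_set_eq _)
      omega
    rw [c.b₁.card_E] at hcard
    omega

end CaseB

end Cfsg.Agent.Helper4.ZN
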