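import Mathlib
import Cfsg.Agent.Lib.Helper27.Zs3B

set_option autoImplicit false
set_option linter.unusedSectionVars false
set_option linter.style.haveILetI false

/-! Sharply triply transitive groups, continued. The unpacked form `Sh3.S3`, absence of regular normal subgroups in degree at least five (`S3.no_regular`), hence the Zassenhaus property (`S3.isZassenhaus`) and the data `ZD` (`S3.exists_zd`); for degree `p ^ f + 1` with `p` odd the subgroup of index two of the two-point stabiliser inverted by an exchanging element (`ZD.exists_half`), and the hypotheses of helper18 for its action on the Frobenius kernel (`ZD.hyp_conjN`). -/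

namespace Cfsg.Agent.Helper27.ZQ

open MulAction

namespace Sh3

/-- sharp triple transitivity, unpacked -/
structure S3 (G : Type*) [Group G] (Ω : Type*) [MulAction G Ω] : Prop where
  tr : ∀ a b c a' b' c' : Ω, a ≠ b → a ≠ c → b ≠ c → a' ≠ b' → a' ≠ c' → b' ≠ c' →
    ∃ g : G, g • a = a' ∧ g • b = b' ∧ g • c = c'
  uq : ∀ g : G, ∀ a b c : Ω, a ≠ b → b ≠ c → a ≠ c → g • a = a → g • b = b → g • c = c → g = 1

variable {G : Type*} [Group G] {Ω : Type*} [MulAction G Ω]

/-- the embedding of three distinct points -/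
def emb3 (a b c : Ω) (hab : a ≠ b) (hac : a ≠ c) (hbc : b ≠ c) : Fin 3 ↪ Ω where
  toFun := ![a, b, c]
  inj' := by
    intro i j hij
    fin_cases i <;> fin_cases j <;> simp_all

theorem emb3_zero (a b c : Ω) (hab : a ≠ b) (hac : a ≠ c) (hbc : b ≠ c) :
    emb3 a b c hab hac hbc 0 = a := rfl

theorem emb3_one (a b c : Ω) (hab : a ≠ b) (hac : a ≠ c) (hbc : b ≠ c) :
    emb3 a b c hab hac hbc 1 = b := rfl

theorem emb3_two (a b c : Ω) (hab : a ≠ b) (hac : a ≠ c) (hbc : b ≠ c) :
    emb3 a b c hab hac hbc 2 = c := rfl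

theorem s3_of_sharp (h3 : MulAction.IsMultiplyPretransitive G Ω 3)
    (hsharp : ∀ e : Fin 3 ↪ Ω, MulAction.stabilizer G e = ⊥) : S3 G Ω := by
  refine ⟨?_, ?_⟩
  · intro a b c a' b' c' hab hac hbc hab' hac' hbc'
    obtain ⟨g, hg⟩ := h3.exists_smul_eq (emb3 a b c hab hac hbc) (emb3 a' b' c' hab' hac' hbc')
    have h := fun i => congrArg (fun e : Fin 3 ↪ Ω => e i) hg
    refine ⟨g, ?_, ?_, ?_⟩
    · have := h 0
      simpa [Function.Embedding.smul_apply, emb3_zero] using this
    · have := h 1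
      simpa [Function.Embedding.smul_apply, emb3_one] using this
    · have := h 2
      simpa [Function.Embedding.smul_apply, emb3_two] using this
  · intro g a b c hab hbc hac ha hb hc
    have hmem : g ∈ MulAction.stabilizer G (emb3 a b c hab hac hbc) := by
      rw [mem_stabilizer_iff]
      ext i
      rw [Function.Embedding.smul_apply]
      fin_cases i
      · exact ha
      · exact hb
      · exact hc
    rw [hsharp, Subgroup.mem_bot] at hmem
    exact hmem

/-- a point outside a small finite set -/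
theorem exists_notMem [Finite Ω] (s : Finset Ω) (hs : s.card < Nat.card Ω) : ∃ z : Ω, z ∉ s := by
  classical
  letI : Fintype Ω := Fintype.ofFinite Ω
  by_contra hcon
  push Not at hcon
  have : s = Finset.univ := Finset.eq_univ_iff_forall.2 hcon
  rw [this, Finset.card_univ, Nat.card_eq_fintype_card] at hs
  exact lt_irrefl _ hs

end Sh3

end Cfsg.Agent.Helper27.ZQ

namespace Cfsg.Agent.Helper27.ZQ

open MulAction

namespace Sh3

variable {G : Type*} [Group G] {Ω : Type*} [MulAction G Ω]

theorem S3.two (h : S3 G Ω) [Finite Ω] (h3 : 3 ≤ Nat.card Ω) {a b c d : Ω} (hab : a ≠ b)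
    (hcd : c ≠ d) : ∃ g : G, g • a = c ∧ g • b = d := by
  classical
  obtain ⟨e, he⟩ := exists_notMem ({a, b} : Finset Ω)
    (lt_of_le_of_lt Finset.card_le_two (by omega))
  obtain ⟨e', he'⟩ := exists_notMem ({c, d} : Finset Ω)
    (lt_of_le_of_lt Finset.card_le_two (by omega))
  simp only [Finset.mem_insert, Finset.mem_singleton, not_or] at he he'
  obtain ⟨g, h1, h2, -⟩ := h.tr a b e c d e' hab (Ne.symm he.1) (Ne.symm he.2) hcd
    (Ne.symm he'.1) (Ne.symm he'.2)
  exact ⟨g, h1, h2⟩

/-- a sharply triply transitive group of degree at least five has no regular normal subgroup -/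
theorem S3.no_regular (h : S3 G Ω) [Finite Ω] (h5 : 5 ≤ Nat.card Ω) (N : Subgroup G)
    [hN : N.Normal] (htr : ∀ a b : Ω, ∃ n ∈ N, n • a = b)
    (hfree : ∀ n ∈ N, ∀ a : Ω, n • a = a → n = 1) : False := by
  classical
  obtain ⟨x⟩ : Nonempty Ω := (Nat.card_pos_iff.1 (by omega)).1
  obtain ⟨a, ha⟩ := exists_notMem ({x} : Finset Ω) (by rw [Finset.card_singleton]; omega)
  obtain ⟨b, hb⟩ := exists_notMem ({x, a} : Finset Ω)
    (lt_of_le_of_lt Finset.card_le_two (by omega))
  simp only [Finset.mem_singleton, Finset.mem_insert, not_or] at ha hb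
  have hinj : ∀ m ∈ N, ∀ m' ∈ N, ∀ z : Ω, m • z = m' • z → m = m' := by
    intro m hm m' hm' z hz
    have h1 : (m'⁻¹ * m) • z = z := by rw [mul_smul, hz, inv_smul_smul]
    have h2 := hfree _ (N.mul_mem (N.inv_mem hm') hm) z h1
    have := congrArg (fun w => m' * w) h2
    simpa using this
  have hconj : ∀ (g m : G), g • x = x → (g * m * g⁻¹) • x = g • m • x := by
    intro g m hg
    have : g⁻¹ • x = x := by rw [inv_smul_eq_iff, hg]
    rw [mul_smul, mul_smul, this]
  -- exponent two
  have hexp : ∀ u ∈ N, u * u = 1 := by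
    intro u hu
    by_contra hne
    have hu1 : u ≠ 1 := by
      rintro rfl
      exact hne (one_mul 1)
    have hux : u • x ≠ x := fun h0 => hu1 (hfree u hu x h0)
    have hix : u⁻¹ • x ≠ x := fun h0 => hu1 (by
      have := hfree u⁻¹ (N.inv_mem hu) x h0
      simpa using this)
    have hiu : u⁻¹ • x ≠ u • x := by
      intro h0
      apply hne
      have h1 := hinj u⁻¹ (N.inv_mem hu) u hu x h0
      calc u * u = u⁻¹ * u := by rw [h1]
        _ = 1 := inv_mul_cancel u
    obtain ⟨w, hw⟩ := exists_notMem ({x, u • x, u⁻¹ • x} : Finset Ω)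
      (lt_of_le_of_lt Finset.card_le_three (by omega))
    simp only [Finset.mem_insert, Finset.mem_singleton, not_or] at hw
    obtain ⟨g, hgx, hgu, hgi⟩ := h.tr x (u • x) (u⁻¹ • x) x (u • x) w (Ne.symm hux)
      (Ne.symm hix) (Ne.symm hiu) (Ne.symm hux) (Ne.symm hw.1) (Ne.symm hw.2.1)
    have h1 : g * u * g⁻¹ = u := by
      apply hinj _ (hN.conj_mem u hu g) u hu x
      rw [hconj g u hgx, hgu]
    have h2 : g * u⁻¹ * g⁻¹ = u⁻¹ := by
      have : g * u⁻¹ * g⁻¹ = (g * u * g⁻¹)⁻¹ := by group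
      rw [this, h1]
    have h3 : g • u⁻¹ • x = u⁻¹ • x := by
      rw [← hconj g u⁻¹ hgx, h2]
    rw [hgi] at h3
    exact hw.2.2 h3
  have hcomm : ∀ u ∈ N, ∀ v ∈ N, u * v = v * u := by
    intro u hu v hv
    have h1 := hexp (u * v) (N.mul_mem hu hv)
    have hu' : u⁻¹ = u := inv_eq_of_mul_eq_one_left (hexp u hu)
    have hv' : v⁻¹ = v := inv_eq_of_mul_eq_one_left (hexp v hv)
    calc u * v = (u * v)⁻¹ := (inv_eq_of_mul_eq_one_left h1).symm
      _ = v⁻¹ * u⁻¹ := mul_inv_rev u v
      _ = v * u := by rw [hu', hv']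
  obtain ⟨u, hu, hua⟩ := htr x a
  obtain ⟨v, hv, hvb⟩ := htr x b
  obtain ⟨g, hgx, hga, hgb⟩ := h.tr x a b x b a (Ne.symm ha) (Ne.symm hb.1) (Ne.symm hb.2)
    (Ne.symm hb.1) (Ne.symm ha) hb.2
  have hgu : g * u * g⁻¹ = v :=
    hinj _ (hN.conj_mem u hu g) v hv x (by rw [hconj g u hgx, hua, hga, hvb])
  have hgv : g * v * g⁻¹ = u :=
    hinj _ (hN.conj_mem v hv g) u hu x (by rw [hconj g v hgx, hvb, hgb, hua])
  have hg1 : g ≠ 1 := by
    rintro rfl
    rw [one_smul] at hga
    exact hb.2 hga.symm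
  have hwN : u * v ∈ N := N.mul_mem hu hv
  have huv : u ≠ v := by
    rintro rfl
    rw [hua] at hvb
    exact hb.2 hvb.symm
  have hw1 : u * v ≠ 1 := by
    intro h0
    apply huv
    have hv' : v * v = 1 := hexp v hv
    calc u = u * (v * v) := by rw [hv', mul_one]
      _ = (u * v) * v := by rw [mul_assoc]
      _ = v := by rw [h0, one_mul]
  have hwx : (u * v) • x ≠ x := fun h0 => hw1 (hfree _ hwN x h0)
  have hgw : g • (u * v) • x = (u * v) • x := by
    rw [← hconj g _ hgx]
    have : g * (u * v) * g⁻¹ = (g * u * g⁻¹) * (g * v * g⁻¹) := by group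
    rw [this, hgu, hgv, hcomm v hv u hu]
  have hfix : ∀ z : Ω, g • z = z → z = x ∨ z = (u * v) • x := by
    intro z hz
    by_contra hcon
    push Not at hcon
    exact hg1 (h.uq g x ((u * v) • x) z (Ne.symm hwx) (Ne.symm hcon.2) (Ne.symm hcon.1)
      hgx hgw hz)
  obtain ⟨c, hc⟩ := exists_notMem ({x, (u * v) • x, a, b} : Finset Ω)
    (lt_of_le_of_lt Finset.card_le_four (by omega))
  simp only [Finset.mem_insert, Finset.mem_singleton, not_or] at hc
  obtain ⟨m, hm, hmc⟩ := htr x c
  have hgm : g * m * g⁻¹ ∈ N := hN.conj_mem m hm g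
  have hgg : g * g = 1 := by
    apply h.uq (g * g) x a b (Ne.symm ha) (Ne.symm hb.2) (Ne.symm hb.1)
    · rw [mul_smul, hgx, hgx]
    · rw [mul_smul, hga, hgb]
    · rw [mul_smul, hgb, hga]
  have hcm : g • (m * (g * m * g⁻¹)) • x = (m * (g * m * g⁻¹)) • x := by
    rw [← hconj g _ hgx]
    have : g * (m * (g * m * g⁻¹)) * g⁻¹ = (g * m * g⁻¹) * ((g * g) * m * (g * g)⁻¹) := by
      group
    rw [this, hgg, one_mul, inv_one, mul_one, hcomm _ hgm m hm]
  rcases hfix _ hcm with h0 | h0
  · have h1 : m * (g * m * g⁻¹) = 1 := hfree _ (N.mul_mem hm hgm) x h0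
    have h2 : g * m * g⁻¹ = m := mul_left_cancel (h1.trans (hexp m hm).symm)
    have h3 : g • c = c := by rw [← hmc, ← hconj g m hgx, h2]
    rcases hfix c h3 with h4 | h4
    · exact hc.1 h4
    · exact hc.2.1 h4
  · have h1 : m * (g * m * g⁻¹) = u * v := hinj _ (N.mul_mem hm hgm) _ hwN x h0
    have h2 : g * m * g⁻¹ = m * (u * v) := by
      apply mul_left_cancel (a := m)
      rw [h1, ← mul_assoc, hexp m hm, one_mul]
    have h3 : g * (u * m) * g⁻¹ = u * m := by
      have e1 : g * (u * m) * g⁻¹ = (g * u * g⁻¹) * (g * m * g⁻¹) := by group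
      rw [e1, hgu, h2]
      calc v * (m * (u * v)) = v * ((u * v) * m) := by rw [hcomm m hm _ hwN]
        _ = (v * (u * v)) * m := (mul_assoc v (u * v) m).symm
        _ = ((v * u) * v) * m := by rw [mul_assoc v u v]
        _ = ((u * v) * v) * m := by rw [hcomm v hv u hu]
        _ = (u * (v * v)) * m := by rw [mul_assoc u v v]
        _ = u * m := by rw [hexp v hv, mul_one]
    have h4 : g • (u * m) • x = (u * m) • x := by rw [← hconj g _ hgx, h3]
    rcases hfix _ h4 with h5 | h5
    · have h6 : u * m = 1 := hfree _ (N.mul_mem hu hm) x h5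
      have h7 : m = u := mul_left_cancel (h6.trans (hexp u hu).symm)
      apply hc.2.2.1
      rw [← hmc, h7, hua]
    · have h6 : u * m = u * v := hinj _ (N.mul_mem hu hm) _ hwN x h5
      have h7 : m = v := mul_left_cancel h6
      apply hc.2.2.2
      rw [← hmc, h7, hvb]

theorem S3.isZassenhaus (h : S3 G Ω) [Finite Ω] (h5 : 5 ≤ Nat.card Ω) :
    Cfsg.IsZassenhausGroup G Ω := by
  classical
  obtain ⟨x⟩ : Nonempty Ω := (Nat.card_pos_iff.1 (by omega)).1
  obtain ⟨a, ha⟩ := exists_notMem ({x} : Finset Ω) (by rw [Finset.card_singleton]; omega)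
  obtain ⟨b, hb⟩ := exists_notMem ({x, a} : Finset Ω)
    (lt_of_le_of_lt Finset.card_le_two (by omega))
  obtain ⟨c, hc⟩ := exists_notMem ({x, a, b} : Finset Ω)
    (lt_of_le_of_lt Finset.card_le_three (by omega))
  simp only [Finset.mem_singleton, Finset.mem_insert, not_or] at ha hb hc
  refine ⟨⟨?_⟩, ?_, ?_, ?_, ?_⟩
  · intro g g' hgg'
    have h1 : g'⁻¹ * g = 1 := h.uq _ x a b (Ne.symm ha) (Ne.symm hb.2) (Ne.symm hb.1)
      (by rw [mul_smul, hgg', inv_smul_smul]) (by rw [mul_smul, hgg', inv_smul_smul])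
      (by rw [mul_smul, hgg', inv_smul_smul])
    exact (inv_mul_eq_one.1 h1).symm
  · rw [MulAction.is_two_pretransitive_iff]
    intro p q r s hpq hrs
    exact h.two (by omega) hpq hrs
  · exact h.uq
  · obtain ⟨g, hgx, hga, hgb⟩ := h.tr x a b x a c (Ne.symm ha) (Ne.symm hb.1) (Ne.symm hb.2)
      (Ne.symm ha) (Ne.symm hc.1) (Ne.symm hc.2.1)
    refine ⟨g, ?_, x, a, Ne.symm ha, hgx, hga⟩
    rintro rfl
    rw [one_smul] at hgb
    exact hc.2.2 hgb.symm
  · intro N hN htr
    by_contra hcon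
    push Not at hcon
    apply h.no_regular h5 N
    · intro p q
      obtain ⟨n, hn⟩ := htr.exists_smul_eq p q
      exact ⟨n, n.2, hn⟩
    · intro n hn p hp
      have : (⟨n, hn⟩ : N) ∈ stabilizer N p := by
        rw [mem_stabilizer_iff]
        exact hp
      rw [hcon p, Subgroup.mem_bot] at this
      exact congrArg Subtype.val this

end Sh3

end Cfsg.Agent.Helper27.ZQ

namespace Cfsg.Agent.Helper27.ZQ

open MulAction

namespace Sh3

variable {G : Type*} [Group G] {Ω : Type*} [MulAction G Ω]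

theorem card_compl_pair [Finite Ω] {x y : Ω} (hxy : x ≠ y) :
    Nat.card {z : Ω // z ≠ x ∧ z ≠ y} + 2 = Nat.card Ω := by
  have h1 : Nat.card {z : Ω // z ≠ x ∧ z ≠ y} = ({x, y} : Set Ω)ᶜ.ncard := by
    rw [← Nat.card_coe_set_eq]
    apply Nat.card_congr
    refine Equiv.subtypeEquivRight ?_
    intro z
    rw [Set.mem_compl_iff, Set.mem_insert_iff, Set.mem_singleton_iff, not_or]
  have h2 := Set.ncard_add_ncard_compl ({x, y} : Set Ω)
  rw [Set.ncard_pair hxy] at h2
  omega

theorem S3.le_card_HH (h : S3 G Ω) [Finite G] [Finite Ω] (h3 : 3 ≤ Nat.card Ω) {x y : Ω}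
    (hxy : x ≠ y) : Nat.card Ω - 2 ≤ Nat.card (ZD.HH G x y) := by
  classical
  obtain ⟨z0, hz0⟩ := exists_notMem ({x, y} : Finset Ω)
    (lt_of_le_of_lt Finset.card_le_two (by omega))
  simp only [Finset.mem_insert, Finset.mem_singleton, not_or] at hz0
  have hex : ∀ z : {z : Ω // z ≠ x ∧ z ≠ y}, ∃ g : G, g • x = x ∧ g • y = y ∧ g • z0 = z := by
    intro z
    exact h.tr x y z0 x y z hxy (Ne.symm hz0.1) (Ne.symm hz0.2) hxy (Ne.symm z.2.1)
      (Ne.symm z.2.2)
  let f : {z : Ω // z ≠ x ∧ z ≠ y} → ZD.HH G x y := fun z =>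
    ⟨(hex z).choose, ZD.mem_HH.2 ⟨(hex z).choose_spec.1, (hex z).choose_spec.2.1⟩⟩
  have hf : Function.Injective f := by
    intro z z' hzz
    apply Subtype.ext
    have h1 : ((f z : ZD.HH G x y) : G) • z0 = (z : Ω) := (hex z).choose_spec.2.2
    have h2 : ((f z' : ZD.HH G x y) : G) • z0 = (z' : Ω) := (hex z').choose_spec.2.2
    rw [← h1, ← h2, hzz]
  have hle := Nat.card_le_card_of_injective f hf
  have := card_compl_pair hxy
  omega

theorem S3.exists_zd (h : S3 G Ω) [Finite G] [Finite Ω] (h5 : 5 ≤ Nat.card Ω) {x y : Ω}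
    (hxy : x ≠ y) :
    ∃ F : Subgroup G, ZD G Ω x y F ∧ Nat.card (ZD.HH G x y) = Nat.card F - 1 ∧
      NoRegN G (Nat.card F) := by
  classical
  letI : Fintype Ω := Fintype.ofFinite Ω
  have hZ := h.isZassenhaus h5
  obtain ⟨F, hFle, hFn, hreg⟩ := exists_frob_kernel hZ hxy
  have hle := h.le_card_HH (by omega) hxy
  have hbound : Fintype.card Ω - 2 ≤
      2 * Nat.card ↥(MulAction.stabilizer G x ⊓ MulAction.stabilizer G y) := by
    rw [← Nat.card_eq_fintype_card]
    have : Nat.card (ZD.HH G x y) ≤ 2 * Nat.card (ZD.HH G x y) := by omega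
    exact le_trans hle this
  obtain ⟨hFab, -⟩ := Cfsg.Agent.S0738.result hZ hxy hbound F hFle hFn hreg
  have hcomm : ∀ u ∈ F, ∀ v ∈ F, u * v = v * u := by
    intro u hu v hv
    have := hFab.is_comm.comm (⟨u, hu⟩ : F) ⟨v, hv⟩
    exact congrArg Subtype.val this
  have D := zd_of_zassenhaus hZ hxy F hFle hFn hcomm hreg
  refine ⟨F, D, ?_, D.noReg_of_zassenhaus hZ⟩
  have h1 := D.card_HH_le
  have h2 := D.card_Omega
  omega

end Sh3

end Cfsg.Agent.Helper27.ZQ

namespace Cfsg.Agent.Helper27.ZQ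

open MulAction

universe u v

namespace ZD

variable {G : Type v} [Group G] {Ω : Type u} [MulAction G Ω] {x y : Ω} {F : Subgroup G}

/-- in a sharply triply transitive group of degree `p ^ f + 1`, `p` odd: a subgroup of index two
of the two-point stabiliser, inverted by an element exchanging the two points -/
theorem exists_half (h729 : S729.{u}) (D : ZD G Ω x y F) [Finite G] [Finite Ω] (p : ℕ)
    [hp : Fact p.Prime] (hp2 : p ≠ 2) (hFp : IsPGroup p F) (hnr : NoRegN G (Nat.card F))
    (hd : Nat.card (HH G x y) = Nat.card F - 1) :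
    ∃ (N : Subgroup G) (t : G), N ≤ HH G x y ∧ 2 * Nat.card N = Nat.card F - 1 ∧
      (∀ h ∈ HH G x y, ∀ n ∈ N, h * n * h⁻¹ ∈ N) ∧ (∀ h ∈ HH G x y, h * h ∈ N) ∧
      t • x = y ∧ t • y = x ∧ ∀ n ∈ N, t * n * t⁻¹ = n⁻¹ := by
  classical
  obtain ⟨k, hk⟩ := (IsPGroup.iff_card.1 hFp)
  have hpodd : Odd p := hp.out.odd_of_ne_two hp2
  have hFodd : Odd (Nat.card F) := by
    rw [hk]
    exact hpodd.pow
  have hn2 := D.two_le_card_F
  have hev : Even (Nat.card (HH G x y)) := by
    rw [hd]
    rcases hFodd with ⟨j, hj⟩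
    exact ⟨j, by omega⟩
  obtain ⟨G0, N, hG0n, hG0i, hNle, hrel, hG0⟩ := D.exists_index_two_of_sharp h729 hd hev
  haveI := hG0n
  have hFG0 : F ≤ G0 := by
    intro u hu
    obtain ⟨j, hj⟩ := hFodd
    have h1 : u ^ (2 * j + 1) = 1 := by
      have h2 : (⟨u, hu⟩ : F) ^ Nat.card F = 1 := pow_card_eq_one'
      rw [hj] at h2
      exact congrArg Subtype.val h2
    have h3 : u = (u * u) ^ (j + 1) := by
      calc u = u ^ (2 * j + 1) * u := by rw [h1, one_mul]
        _ = u ^ (2 * (j + 1)) := by rw [← pow_succ]; congr 1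
        _ = (u ^ 2) ^ (j + 1) := pow_mul u 2 (j + 1)
        _ = (u * u) ^ (j + 1) := by rw [pow_two]
    rw [h3]
    exact G0.pow_mem (Subgroup.mul_self_mem_of_index_two hG0i u) _
  have D0 := D.sub G0 hFG0 (D.exists_move_of_normal G0 hFG0)
  have hcF0 : Nat.card (F.subgroupOf G0) = Nat.card F := card_subgroupOf G0 hFG0
  -- the order of `N`
  have hcN : 2 * Nat.card N = Nat.card (HH G x y) := by
    have h1 := Subgroup.card_mul_index (N.subgroupOf (HH G x y))
    have h2 : (N.subgroupOf (HH G x y)).index = 2 := hrel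
    have h3 : Nat.card (N.subgroupOf (HH G x y)) = Nat.card N :=
      Nat.card_congr (Subgroup.subgroupOfEquivOfLe hNle).toEquiv
    rw [h2, h3] at h1
    omega
  -- the two-point stabiliser of `G0`
  have hmemN : ∀ g : G0, g ∈ HH G0 x y ↔ (g : G) ∈ N := by
    intro g
    rw [mem_HH]
    constructor
    · intro hg
      have : (g : G) ∈ HH G x y := mem_HH.2 hg
      exact (hG0 _ this).1 g.2
    · intro hg
      exact mem_HH.1 (hNle hg)
  have hcHH0 : Nat.card (HH G0 x y) = Nat.card N := by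
    let e : HH G0 x y → N := fun g => ⟨((g : G0) : G), (hmemN g).1 g.2⟩
    have he : Function.Bijective e := by
      refine ⟨?_, ?_⟩
      · intro a b hab
        apply Subtype.ext
        apply Subtype.ext
        have h1 : ((e a : N) : G) = ((e b : N) : G) := congrArg Subtype.val hab
        exact h1
      · intro n
        have hnG0 : (n : G) ∈ G0 := (hG0 _ (hNle n.2)).2 n.2
        exact ⟨⟨⟨n, hnG0⟩, (hmemN _).2 n.2⟩, rfl⟩
    exact Nat.card_congr (Equiv.ofBijective e he)
  have h2d0 : 2 * Nat.card (HH G0 x y) = Nat.card (F.subgroupOf G0) - 1 := by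
    rw [hcHH0, hcF0, hcN, hd]
  have hnr0 : NoRegN G0 (Nat.card (F.subgroupOf G0)) := by
    intro M hM hMc
    rw [hcF0] at hMc
    obtain ⟨h1, h2⟩ := D.normal_of_normal_sub G0 hFG0 M hMc
    exact hnr _ h1 h2
  have hFp0 : IsPGroup p (F.subgroupOf G0) := IsPGroup.of_card (n := k) (by rw [hcF0, hk])
  obtain ⟨t0, ht0x, ht0y⟩ := D0.twoTrans D0.hxy D0.hxy.symm
  have hinv0 := D0.inv_of_half p hFp0 hnr0 h2d0 t0 ht0x ht0y
  refine ⟨N, (t0 : G), hNle, by rw [hcN, hd], ?_, ?_, ht0x, ht0y, ?_⟩
  · intro h hh n hn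
    have hnG0 : n ∈ G0 := (hG0 _ (hNle hn)).2 hn
    have h1 : h * n * h⁻¹ ∈ G0 := hG0n.conj_mem n hnG0 h
    have h2 : h * n * h⁻¹ ∈ HH G x y :=
      (HH G x y).mul_mem ((HH G x y).mul_mem hh (hNle hn)) ((HH G x y).inv_mem hh)
    exact (hG0 _ h2).1 h1
  · intro h hh
    exact (hG0 _ ((HH G x y).mul_mem hh hh)).1 (Subgroup.mul_self_mem_of_index_two hG0i h)
  · intro n hn
    have hnG0 : n ∈ G0 := (hG0 _ (hNle hn)).2 hn
    have h1 := hinv0 ⟨n, hnG0⟩ ((hmemN _).2 hn)
    exact congrArg Subtype.val h1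

end ZD

end Cfsg.Agent.Helper27.ZQ

namespace Cfsg.Agent.Helper27.ZQ

open MulAction Cfsg.Agent.Helper18.SolvEP

namespace ZD

variable {G : Type*} [Group G] {Ω : Type*} [MulAction G Ω] {x y : Ω} {F : Subgroup G}

/-- the action of a subgroup of the two-point stabiliser on `F` -/
def conjN (D : ZD G Ω x y F) (N : Subgroup G) (hN : N ≤ HH G x y) :
    N →* AddMonoid.End (Additive F) :=
  D.conjF.comp (Subgroup.inclusion hN)

theorem conjN_apply (D : ZD G Ω x y F) (N : Subgroup G) (hN : N ≤ HH G x y) (n : N)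
    (v : Additive F) : D.conjN N hN n v = D.conjF (Subgroup.inclusion hN n) v := rfl

theorem conjN_inv_apply (D : ZD G Ω x y F) (N : Subgroup G) (hN : N ≤ HH G x y) (n : N)
    (v : Additive F) : D.conjN N hN n⁻¹ (D.conjN N hN n v) = v := by
  have : (D.conjN N hN n⁻¹ * D.conjN N hN n) v = v := by
    rw [← map_mul, inv_mul_cancel, map_one]
    rfl
  exact this

theorem hyp_conjN (D : ZD G Ω x y F) [Finite G] [Finite Ω] (N : Subgroup G)
    (hN : N ≤ HH G x y) (hNab : ∀ a ∈ N, ∀ b ∈ N, a * b = b * a)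
    (h2d : 2 * Nat.card N = Nat.card F - 1) :
    letI := commGroupOfComm F D.hFab
    Hyp (D.conjN N hN) (⊤ : Subgroup N) := by
  letI := commGroupOfComm F D.hFab
  have himp : ∀ (a b : N) (v : Additive F), v ≠ 0 → D.conjN N hN a v = D.conjN N hN b v →
      a = b := by
    intro a b v hv hab
    rw [conjN_apply, conjN_apply] at hab
    have := D.conjF_eq_imp _ _ v hv hab
    exact Subgroup.inclusion_injective hN this
  refine ⟨?_, ?_, ?_, ?_⟩
  · intro a b hab
    obtain ⟨v, hv⟩ := D.exists_ne_zero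
    exact himp a b v hv (by rw [hab])
  · intro a _ b _
    exact Subtype.ext (hNab a a.2 b b.2)
  · intro L hinv
    by_cases hL : L = ⊥
    · exact Or.inl hL
    · right
      obtain ⟨v, hvL, hv0⟩ : ∃ v ∈ L, v ≠ 0 := by
        by_contra hcon
        push Not at hcon
        apply hL
        rw [AddSubgroup.eq_bot_iff_forall]
        exact hcon
      let f : Option N → L := fun o =>
        Option.elim o 0 (fun h => ⟨D.conjN N hN h v, hinv h (Subgroup.mem_top _) v hvL⟩)
      have hf : Function.Injective f := by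
        intro a b hab
        cases a with
        | none =>
          cases b with
          | none => rfl
          | some h' =>
            exfalso
            have h1 : (0 : Additive F) = D.conjN N hN h' v := congrArg Subtype.val hab
            have h4 := D.conjN_inv_apply N hN h' v
            rw [← h1, map_zero] at h4
            exact hv0 h4.symm
        | some h =>
          cases b with
          | none =>
            exfalso
            have h1 : D.conjN N hN h v = (0 : Additive F) := congrArg Subtype.val hab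
            have h4 := D.conjN_inv_apply N hN h v
            rw [h1, map_zero] at h4
            exact hv0 h4.symm
          | some h' =>
            have h1 : D.conjN N hN h v = D.conjN N hN h' v := congrArg Subtype.val hab
            rw [himp h h' v hv0 h1]
      have hcard := Nat.card_le_card_of_injective f hf
      rw [Finite.card_option] at hcard
      have hmul := AddSubgroup.card_mul_index L
      have hcA : Nat.card (Additive F) = Nat.card F := rfl
      rw [hcA] at hmul
      have hn2 := D.two_le_card_F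
      have hidx : L.index = 1 := by
        by_contra hne
        have hpos : L.index ≠ 0 := AddSubgroup.index_ne_zero_of_finite
        have h2 : 2 ≤ L.index := by omega
        have : Nat.card L * 2 ≤ Nat.card L * L.index := Nat.mul_le_mul_left _ h2
        omega
      exact AddSubgroup.index_eq_one.1 hidx
  · intro h v
    exact ⟨h, Subgroup.mem_top _, rfl⟩

end ZD

end Cfsg.Agent.Helper27.ZQ
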