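import Mathlib
import Cfsg.Agent.Lib.Helper27.Zs3C
import Cfsg.Agent.Lib.Helper27.PGL2Mobius
import Cfsg.Agent.Lib.Helper27.Zp1G

set_option autoImplicit false
set_option linter.unusedSectionVars false
set_option linter.style.haveILetI false

/-! Sharply triply transitive groups of degree `p ^ f + 1` with `p`, `f` odd are `PGL₂`: a finite field of odd degree over its prime field has no involutory automorphism, semilinear maps with scalar square are scalars (`scalar_of_semilinear`), coordinates in which the whole two-point stabiliser acts by multiplications (`ZD.exists_coords_sharp`), the order of `PGL₂` over a finite field, recognition of `PGL₂` from a context (`QCtx.equiv_pgl_of_form`), and the core `s0730_core` of the statement, conditional on the statement `S729`. -/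

namespace Cfsg.Agent.Helper27.ZQ

/-- a field of order `p ^ f` with `f` odd has no involutory automorphism -/
theorem ringHom_eq_id_of_odd (p f : ℕ) [hp : Fact p.Prime] (hf : Odd f)
    (φ : GaloisField p f →+* GaloisField p f) (h2 : ∀ k, φ (φ k) = k) : ∀ k, φ k = k := by
  classical
  have hf0 : f ≠ 0 := by
    rintro rfl
    rcases hf with ⟨j, hj⟩
    omega
  have hinv : Function.Involutive φ := h2
  let e : GaloisField p f ≃+* GaloisField p f := RingEquiv.ofBijective φ hinv.bijective
  have he : ∀ k, e k = φ k := fun k => rfl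
  let σ : GaloisField p f ≃ₐ[ZMod p] GaloisField p f := AlgEquiv.ofRingEquiv (f := e) (by
    intro r
    rw [he]
    exact RingHom.congr_fun (Subsingleton.elim (φ.comp (algebraMap (ZMod p) (GaloisField p f)))
      (algebraMap (ZMod p) (GaloisField p f))) r)
  have hσ : ∀ k, σ k = φ k := fun k => rfl
  have hσ2 : σ * σ = 1 := by
    ext k
    rw [AlgEquiv.mul_apply, hσ, hσ, h2]
    rfl
  have hcard : Nat.card (GaloisField p f ≃ₐ[ZMod p] GaloisField p f) = f := by
    rw [IsGalois.card_aut_eq_finrank, GaloisField.finrank p hf0]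
  have h1 : orderOf σ ∣ 2 := orderOf_dvd_of_pow_eq_one (by rw [pow_two, hσ2])
  have h3 : orderOf σ ∣ f := by
    have := orderOf_dvd_natCard σ
    rwa [hcard] at this
  have h4 : orderOf σ = 1 := by
    have h5 := Nat.dvd_gcd h1 h3
    have h6 : Nat.gcd 2 f = 1 := Nat.coprime_two_left.2 hf
    rw [h6] at h5
    exact Nat.dvd_one.1 h5
  have h7 : σ = 1 := orderOf_eq_one_iff.1 h4
  intro k
  rw [← hσ, h7]
  rfl

end Cfsg.Agent.Helper27.ZQ

namespace Cfsg.Agent.Helper27.ZQ

/-- an additive map normalising an irreducible group of scalars, with square a scalar, is a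
scalar when the field has order `p ^ f` with `f` odd -/
theorem scalar_of_semilinear {A : Type*} [AddCommGroup A] {H : Type*} [Group H]
    (ρ : H →* AddMonoid.End A)
    (hirr : ∀ L : AddSubgroup A, (∀ m : H, ∀ x ∈ L, ρ m x ∈ L) → L = ⊥ ∨ L = ⊤)
    (p f : ℕ) [hp : Fact p.Prime] (hf : Odd f)
    (E : A ≃ GaloisField p f) (hEadd : ∀ u v, E (u + v) = E u + E v)
    (hEmul : ∀ n : H, ∃ a : GaloisField p f, a ≠ 0 ∧ ∀ v, E (ρ n v) = a * E v)
    (T : AddMonoid.End A) (hT0 : ∀ v, T v = 0 → v = 0)
    (hTn : ∀ n : H, ∃ n' : H, ∀ v, T (ρ n v) = ρ n' (T v))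
    (hT2 : ∃ n2 : H, ∀ v, T (T v) = ρ n2 v) :
    ∃ c : GaloisField p f, c ≠ 0 ∧ ∀ v, E (T v) = c * E v := by
  classical
  have hE0 : E 0 = 0 := by
    have := hEadd 0 0
    rw [add_zero] at this
    exact left_eq_add.mp this
  have hEs : ∀ a b : GaloisField p f, E.symm (a + b) = E.symm a + E.symm b := by
    intro a b
    apply E.injective
    rw [hEadd, Equiv.apply_symm_apply, Equiv.apply_symm_apply, Equiv.apply_symm_apply]
  have hEs0 : E.symm 0 = 0 := by
    rw [Equiv.symm_apply_eq, hE0]
  have hEneg : ∀ u : A, E (-u) = - E u := by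
    intro u
    have := hEadd u (-u)
    rw [add_neg_cancel, hE0] at this
    exact (neg_eq_of_add_eq_zero_right this.symm).symm
  -- the map in coordinates
  let g : GaloisField p f →+ GaloisField p f :=
    { toFun := fun k => E (T (E.symm k))
      map_zero' := by
        show E (T (E.symm 0)) = 0
        rw [hEs0, map_zero, hE0]
      map_add' := by
        intro a b
        show E (T (E.symm (a + b))) = E (T (E.symm a)) + E (T (E.symm b))
        rw [hEs, map_add, hEadd] }
  have hg : ∀ k, g k = E (T (E.symm k)) := fun k => rfl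
  have hgE : ∀ v : A, g (E v) = E (T v) := by
    intro v
    rw [hg, Equiv.symm_apply_apply]
  have hg_ne : ∀ k, k ≠ 0 → g k ≠ 0 := by
    intro k hk h0
    rw [hg, ← hE0] at h0
    have h1 := hT0 _ (E.injective h0)
    apply hk
    rw [← hEs0] at h1
    exact E.symm.injective h1
  set c : GaloisField p f := g 1 with hc
  have hc0 : c ≠ 0 := hg_ne 1 one_ne_zero
  let lam : GaloisField p f →+ GaloisField p f := (AddMonoidHom.mulLeft c⁻¹).comp g
  have hlam : ∀ k, lam k = c⁻¹ * g k := fun k => rfl
  have hglam : ∀ k, g k = c * lam k := by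
    intro k
    rw [hlam, ← mul_assoc, mul_inv_cancel₀ hc0, one_mul]
  have hlam1 : lam 1 = 1 := by
    rw [hlam, ← hc, inv_mul_cancel₀ hc0]
  have hlam_ne : ∀ k, k ≠ 0 → lam k ≠ 0 := by
    intro k hk
    rw [hlam]
    exact mul_ne_zero (inv_ne_zero hc0) (hg_ne k hk)
  -- multipliers
  have hS : ∀ n : H, ∃ a : GaloisField p f, a ≠ 0 ∧ (∀ v, E (ρ n v) = a * E v) ∧
      ∀ k, lam (a * k) = lam a * lam k := by
    intro n
    obtain ⟨a, ha0, ha⟩ := hEmul n
    obtain ⟨n', hn'⟩ := hTn n
    obtain ⟨a', -, ha'⟩ := hEmul n'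
    have h1 : ∀ k, g (a * k) = a' * g k := by
      intro k
      have h2 : E.symm (a * k) = ρ n (E.symm k) := by
        rw [Equiv.symm_apply_eq, ha, Equiv.apply_symm_apply]
      rw [hg, h2, hn', ha', ← hg]
    have h3 : lam a = a' := by
      have := h1 1
      rw [mul_one, ← hc] at this
      rw [hlam, this, mul_comm a' c, ← mul_assoc, inv_mul_cancel₀ hc0, one_mul]
    refine ⟨a, ha0, ha, ?_⟩
    intro k
    rw [hlam (a * k), h1, h3, hlam k]
    ring
  -- the set of multiplicative elements
  let L : AddSubgroup A :=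
    { carrier := {w | ∀ k, lam (E w * k) = lam (E w) * lam k}
      zero_mem' := by
        intro k
        rw [hE0, zero_mul, map_zero, zero_mul]
      add_mem' := by
        intro u v hu hv k
        rw [hEadd, add_mul, map_add, map_add, hu k, hv k, add_mul]
      neg_mem' := by
        intro u hu k
        rw [hEneg, neg_mul, map_neg, map_neg, hu k, neg_mul] }
  have hLinv : ∀ m : H, ∀ w ∈ L, ρ m w ∈ L := by
    intro m w hw k
    obtain ⟨a, -, ha, hmul⟩ := hS m
    rw [ha, mul_assoc, hmul, hw k, hmul, mul_assoc]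
  have h1L : E.symm 1 ∈ L := by
    intro k
    rw [Equiv.apply_symm_apply, one_mul, hlam1, one_mul]
  have hLtop : L = ⊤ := by
    rcases hirr L hLinv with h | h
    · exfalso
      rw [h, AddSubgroup.mem_bot] at h1L
      have : E (E.symm 1) = E 0 := by rw [h1L]
      rw [Equiv.apply_symm_apply, hE0] at this
      exact one_ne_zero this
    · exact h
  have hmul : ∀ a k, lam (a * k) = lam a * lam k := by
    intro a k
    have : E.symm a ∈ L := by rw [hLtop]; exact AddSubgroup.mem_top _
    have h1 := this k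
    rwa [Equiv.apply_symm_apply] at h1
  let φ : GaloisField p f →+* GaloisField p f :=
    { toFun := lam
      map_one' := hlam1
      map_mul' := hmul
      map_zero' := map_zero lam
      map_add' := map_add lam }
  have hφ : ∀ k, φ k = lam k := fun k => rfl
  have hφ2 : ∀ k, φ (φ k) = k := by
    obtain ⟨n2, hn2⟩ := hT2
    obtain ⟨a2, -, ha2⟩ := hEmul n2
    have hgg : ∀ k, g (g k) = a2 * k := by
      intro k
      rw [hg (g k), hg k, Equiv.symm_apply_apply, hn2, ha2, Equiv.apply_symm_apply]
    have hgg' : ∀ k, g (g k) = c * lam c * lam (lam k) := by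
      intro k
      rw [hglam (g k), hglam k, hmul, mul_assoc]
    have ha2' : a2 = c * lam c := by
      have h1 := hgg 1
      rw [hgg' 1, hlam1, hlam1, mul_one, mul_one] at h1
      exact h1.symm
    intro k
    rw [hφ, hφ]
    have h1 := hgg k
    rw [hgg' k, ha2'] at h1
    exact mul_left_cancel₀ (mul_ne_zero hc0 (hlam_ne c hc0)) h1
  have hid := ringHom_eq_id_of_odd p f hf φ hφ2
  refine ⟨c, hc0, ?_⟩
  intro v
  rw [← hgE, hglam, ← hφ, hid]

end Cfsg.Agent.Helper27.ZQ

namespace Cfsg.Agent.Helper27.ZQ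

open MulAction Cfsg.Agent.Helper18.SolvEP

namespace ZD

variable {G : Type*} [Group G] {Ω : Type*} [MulAction G Ω] {x y : Ω} {F : Subgroup G}

theorem conjF_mul_apply (D : ZD G Ω x y F) (a b : HH G x y) (v : Additive F) :
    D.conjF a (D.conjF b v) = D.conjF (a * b) v := by
  rw [map_mul]
  rfl

/-- coordinates in which the whole two-point stabiliser acts by multiplications -/
theorem exists_coords_sharp (D : ZD G Ω x y F) [Finite G] [Finite Ω] (p f : ℕ)
    [hp : Fact p.Prime] (hf : Odd f) (hcF : Nat.card F = p ^ f)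
    (N : Subgroup G) (hN : N ≤ HH G x y) (hNab : ∀ a ∈ N, ∀ b ∈ N, a * b = b * a)
    (h2d : 2 * Nat.card N = Nat.card F - 1)
    (hNn : ∀ h ∈ HH G x y, ∀ n ∈ N, h * n * h⁻¹ ∈ N) (hsq : ∀ h ∈ HH G x y, h * h ∈ N) :
    ∃ E : Additive F ≃ GaloisField p f, (∀ u v, E (u + v) = E u + E v) ∧
      ∀ h : HH G x y, ∃ a : GaloisField p f, a ≠ 0 ∧
        ∀ v : Additive F, E (D.conjF h v) = a * E v := by
  classical
  letI := commGroupOfComm F D.hFab
  have hyp := D.hyp_conjN N hN hNab h2d
  haveI : Nontrivial (Additive F) := by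
    obtain ⟨v, hv⟩ := D.exists_ne_zero
    exact ⟨⟨v, 0, hv⟩⟩
  haveI : Finite (Additive F) := inferInstanceAs (Finite F)
  have hcA : Nat.card (Additive F) = Nat.card F := rfl
  have hf0 : f ≠ 0 := by
    rintro rfl
    rcases hf with ⟨j, hj⟩
    omega
  letI : Fintype (GaloisField p f) := Fintype.ofFinite _
  have hK0 : Fintype.card (GaloisField p f) = Nat.card (Additive F) := by
    rw [← Nat.card_eq_fintype_card, GaloisField.card p f hf0, hcA, hcF]
  obtain ⟨E, hEadd, hEmulN⟩ := coords hyp (GaloisField p f) hK0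
  refine ⟨E, hEadd, ?_⟩
  intro h
  refine scalar_of_semilinear (D.conjN N hN)
    (fun L hL => hyp.irr L (fun m _ w hw => hL m w hw)) p f hf E hEadd hEmulN (D.conjF h)
    ?_ ?_ ?_
  · intro v hv
    have h1 : D.conjF h⁻¹ (D.conjF h v) = v := by
      rw [conjF_mul_apply, inv_mul_cancel, map_one]
      rfl
    rw [hv, map_zero] at h1
    exact h1.symm
  · intro n
    have hmem : (h : G) * (n : G) * (h : G)⁻¹ ∈ N := hNn h h.2 n n.2
    refine ⟨⟨(h : G) * (n : G) * (h : G)⁻¹, hmem⟩, ?_⟩
    intro v
    rw [conjN_apply, conjN_apply, conjF_mul_apply, conjF_mul_apply]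
    congr 2
    apply Subtype.ext
    show (h : G) * (n : G) = (h : G) * (n : G) * (h : G)⁻¹ * (h : G)
    group
  · refine ⟨⟨(h : G) * (h : G), hsq h h.2⟩, ?_⟩
    intro v
    rw [conjN_apply, conjF_mul_apply]
    congr 2

end ZD

end Cfsg.Agent.Helper27.ZQ

namespace Cfsg.Agent.Helper27.PGL

open Matrix

theorem card_GLq (K : Type*) [Field K] [Fintype K] :
    Nat.card (GL (Fin 2) K) =
      (Fintype.card K ^ 2 - 1) * (Fintype.card K ^ 2 - Fintype.card K) := by
  rw [Matrix.card_GL_field, Fin.prod_univ_two]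
  simp

theorem card_centerq (K : Type*) [Field K] [Fintype K] :
    Nat.card (Subgroup.center (GL (Fin 2) K)) = Fintype.card K - 1 := by
  classical
  rw [GeneralLinearGroup.center_eq_range_scalar]
  have hinj : Function.Injective (GeneralLinearGroup.scalar (Fin 2) (R := K)) := by
    intro a b hab
    have h1 := congrArg (fun g : GL (Fin 2) K => g 0 0) hab
    simp at h1
    exact Units.ext h1
  rw [← Nat.card_congr (MonoidHom.ofInjective hinj).toEquiv, Nat.card_eq_fintype_card,
    Fintype.card_units]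

theorem card_pglq (K : Type*) [Field K] [Fintype K] :
    Nat.card (GL (Fin 2) K ⧸ Subgroup.center (GL (Fin 2) K)) =
      (Fintype.card K + 1) * Fintype.card K * (Fintype.card K - 1) := by
  have h := Subgroup.card_eq_card_quotient_mul_card_subgroup (Subgroup.center (GL (Fin 2) K))
  rw [card_GLq, card_centerq] at h
  have hq2 : 2 ≤ Fintype.card K := Fintype.one_lt_card
  obtain ⟨k, hk⟩ : ∃ k, Fintype.card K = k + 2 := ⟨Fintype.card K - 2, by omega⟩
  rw [hk] at h ⊢
  have e1 : (k + 2) ^ 2 - 1 = (k + 3) * (k + 1) := by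
    apply Nat.sub_eq_of_eq_add; ring
  have e2 : (k + 2) ^ 2 - (k + 2) = (k + 2) * (k + 1) := by
    apply Nat.sub_eq_of_eq_add; ring
  have e3 : k + 2 - 1 = k + 1 := by omega
  rw [e1, e2, e3] at h
  rw [e3]
  have h2 : (k + 2 + 1) * (k + 2) * (k + 1) * (k + 1) =
      Nat.card (GL (Fin 2) K ⧸ Subgroup.center (GL (Fin 2) K)) * (k + 1) := by
    rw [← h]; ring
  exact (Nat.eq_of_mul_eq_mul_right (Nat.succ_pos k) h2).symm

/-- the quotient of `GL` by its centre is the projective general linear group -/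
def pglReflq (K : Type*) [Field K] :
    (GL (Fin 2) K ⧸ Subgroup.center (GL (Fin 2) K)) ≃*
      Matrix.ProjGenLinGroup (Fin 2) K := MulEquiv.refl _

end Cfsg.Agent.Helper27.PGL

namespace Cfsg.Agent.Helper27.ZQ

open Cfsg.Agent.Helper27.PGL Matrix

/-- in the group of units of a finite field a subgroup contains every element whose order
divides its order -/
theorem mem_of_pow_card {K : Type*} [Field K] [Fintype K] (R : Subgroup Kˣ) (u : Kˣ)
    (hu : u ^ Nat.card R = 1) : u ∈ R := by
  classical
  set d := Nat.card R with hd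
  have hd0 : 0 < d := Nat.card_pos
  have hsub : (Finset.univ.filter (fun a : Kˣ => a ∈ R)) ⊆
      Finset.univ.filter (fun a : Kˣ => a ^ d = 1) := by
    intro a ha
    rw [Finset.mem_filter] at ha ⊢
    refine ⟨Finset.mem_univ _, ?_⟩
    have := pow_card_eq_one' (G := R) (x := ⟨a, ha.2⟩)
    rw [← hd] at this
    exact congrArg Subtype.val this
  have hle : (Finset.univ.filter (fun a : Kˣ => a ^ d = 1)).card ≤
      (Finset.univ.filter (fun a : Kˣ => a ∈ R)).card := by
    have h1 : (Finset.univ.filter (fun a : Kˣ => a ∈ R)).card = d := by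
      rw [hd, Nat.card_eq_fintype_card, Fintype.card_subtype]
    rw [h1]
    exact IsCyclic.card_pow_eq_one_le hd0
  have heq := Finset.eq_of_subset_of_card_le hsub hle
  have hmem : u ∈ Finset.univ.filter (fun a : Kˣ => a ∈ R) := by
    rw [heq, Finset.mem_filter]
    exact ⟨Finset.mem_univ _, hu⟩
  rw [Finset.mem_filter] at hmem
  exact hmem.2

namespace QCtx

variable {G : Type*} [Group G] [Finite G] {K : Type*} [Field K] [Fintype K] (C : QCtx G K)

/-- every root of unity of the order of a subgroup of the two-point stabiliser is the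
multiplier of an element of that subgroup -/
theorem exists_mult_of_pow_sub (N : Subgroup G) (hN : N ≤ C.Hs) (μ : K)
    (hμ : μ ^ Nat.card N = 1) : ∃ h ∈ N, C.mult h = μ := by
  classical
  have hd0 : 0 < Nat.card N := Nat.card_pos
  have hμ0 : μ ≠ 0 := by
    intro h
    rw [h, zero_pow hd0.ne'] at hμ
    exact zero_ne_one hμ
  set u : Kˣ := Units.mk0 μ hμ0 with hu
  let ψ : N →* Kˣ := C.multHom.comp (Subgroup.inclusion hN)
  have hψ : Function.Injective ψ :=
    C.multHom_injective.comp (Subgroup.inclusion_injective hN)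
  have hRcard : Nat.card ψ.range = Nat.card N :=
    (Nat.card_congr (MonoidHom.ofInjective hψ).toEquiv).symm
  have hud : u ^ Nat.card ψ.range = 1 := by
    rw [hRcard]
    apply Units.ext
    rw [Units.val_pow_eq_pow_val, Units.val_one, hu, Units.val_mk0, hμ]
  obtain ⟨n, hn⟩ := mem_of_pow_card ψ.range u hud
  refine ⟨n.1, n.2, ?_⟩
  have h1 := congrArg Units.val hn
  have h2 : ((ψ n : Kˣ) : K) = C.mult (n : G) := rfl
  rw [h2, hu, Units.val_mk0] at h1
  exact h1

theorem equiv_pgl_of_form
    (hG : Nat.card G = (Fintype.card K + 1) * Fintype.card K * (Fintype.card K - 1)) (t : G)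
    (hTI : C.ρ t OnePoint.infty = ((0 : K) : OnePoint K))
    (hT0 : C.ρ t ((0 : K) : OnePoint K) = OnePoint.infty) (c : K) (hc0 : c ≠ 0)
    (hform : ∀ k : K, k ≠ 0 → C.ρ t (k : OnePoint K) = ((c / k : K) : OnePoint K)) :
    Nonempty (G ≃* Matrix.ProjGenLinGroup (Fin 2) K) := by
  classical
  have key : Nonempty (G ≃* (GL (Fin 2) K ⧸ Subgroup.center (GL (Fin 2) K))) := by
    refine equiv_pgl_of_mobiusGL C.ρ C.hinj _ (C.closure_eq_top t hTI) ?_ ?_
    · rintro s (hs | hs)
      · obtain ⟨μ, β, hμ0, ha⟩ := C.aff s hs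
        refine ⟨affMat μ β hμ0, ?_⟩
        ext q
        induction q using OnePoint.rec with
        | infty => rw [affMat_infty, hs]
        | coe i => rw [affMat_coe, ha]
      · rw [Set.mem_singleton_iff] at hs
        rw [hs]
        refine ⟨antiMatGL c hc0, ?_⟩
        ext q
        induction q using OnePoint.rec with
        | infty => rw [antiMatGL_infty, hTI]
        | coe i =>
          by_cases hi : i = 0
          · rw [hi, antiMatGL_zero, hT0]
          · rw [antiMatGL_coe _ _ _ hi, hform i hi]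
    · rw [card_pglq, hG]
  obtain ⟨e⟩ := key
  exact ⟨e.trans (pglReflq K)⟩

end QCtx

end Cfsg.Agent.Helper27.ZQ

namespace Cfsg.Agent.Helper27.ZQ

open MulAction

universe u v

namespace ZD

variable {G : Type v} [Group G] {Ω : Type u} [MulAction G Ω] {x y : Ω} {F : Subgroup G}

/-- a sharply triply transitive group of degree `p ^ f + 1` with `p` and `f` odd is the
projective general linear group -/
theorem pgl_of_sharp (h729 : S729.{u}) (D : ZD G Ω x y F) [Finite G] [Finite Ω] (p f : ℕ)
    [hp : Fact p.Prime] (hp2 : p ≠ 2) (hf : Odd f) (hcF : Nat.card F = p ^ f)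
    (hnr : NoRegN G (Nat.card F)) (hd : Nat.card (HH G x y) = Nat.card F - 1) :
    Nonempty (G ≃* Matrix.ProjGenLinGroup (Fin 2) (GaloisField p f)) := by
  classical
  have hFp : IsPGroup p F := IsPGroup.of_card hcF
  obtain ⟨N, t, hNle, h2d, hNn, hsq, htx, hty, hinv⟩ := D.exists_half h729 p hp2 hFp hnr hd
  have hNab : ∀ a ∈ N, ∀ b ∈ N, a * b = b * a :=
    fun a ha b hb => comm_of_inv t N hinv a b ha hb
  obtain ⟨E, hEadd, hEmul⟩ := D.exists_coords_sharp p f hf hcF N hNle hNab h2d hNn hsq
  obtain ⟨C, hCH, hCt⟩ := D.exists_qctx (GaloisField p f) E hEadd hEmul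
  letI : Fintype (GaloisField p f) := Fintype.ofFinite _
  have hf0 : f ≠ 0 := by
    rintro rfl
    rcases hf with ⟨j, hj⟩
    omega
  have hK : Fintype.card (GaloisField p f) = Nat.card F := by
    rw [← Nat.card_eq_fintype_card, GaloisField.card p f hf0, hcF]
  have hn2 := D.two_le_card_F
  have hHs : C.Hs = HH G x y := Subgroup.ext hCH
  obtain ⟨hTI, hT0⟩ := hCt t htx hty
  have hq : Fintype.card (GaloisField p f) = 2 * Nat.card N + 1 := by
    rw [hK]
    omega
  have hNle' : N ≤ C.Hs := by
    rw [hHs]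
    exact hNle
  have hINV : ∀ μ : GaloisField p f, μ ^ Nat.card N = 1 →
      ∃ h ∈ C.Hs, C.mult h = μ ∧ t * h * t⁻¹ = h⁻¹ := by
    intro μ hμ
    obtain ⟨h, hhN, hm⟩ := C.exists_mult_of_pow_sub N hNle' μ hμ
    exact ⟨h, hNle' hhN, hm, hinv h hhN⟩
  obtain ⟨c, hc0, hform, -⟩ := C.form_of_inv hq t hTI hT0 hINV
  have hG : Nat.card G = (Fintype.card (GaloisField p f) + 1) *
      Fintype.card (GaloisField p f) * (Fintype.card (GaloisField p f) - 1) := by
    rw [D.card_G, hd, hK, mul_assoc]
  exact C.equiv_pgl_of_form hG t hTI hT0 c hc0 hform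

end ZD

end Cfsg.Agent.Helper27.ZQ

namespace Cfsg.Agent.Helper27.ZQ

open MulAction Cfsg.Agent.Helper27.PSLp Cfsg.Agent.Helper27.ZP

universe u

/-- the order of a sharply triply transitive group -/
theorem card_of_sharp {α : Type u} [Fintype α] [DecidableEq α] (G : Subgroup (Equiv.Perm α))
    (h3 : MulAction.IsMultiplyPretransitive G α 3)
    (hsharp : ∀ e : Fin 3 ↪ α, MulAction.stabilizer G e = ⊥) (hα : 3 ≤ Fintype.card α) :
    Nat.card G = (Fintype.card α).descFactorial 3 := by
  classical
  obtain ⟨e0⟩ : Nonempty (Fin 3 ↪ α) :=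
    Function.Embedding.nonempty_of_card_le (by rw [Fintype.card_fin]; exact hα)
  let φ : G → (Fin 3 ↪ α) := fun g => g • e0
  have hφ : Function.Bijective φ := by
    refine ⟨?_, ?_⟩
    · intro g g' hgg
      have h1 : g'⁻¹ * g ∈ MulAction.stabilizer G e0 := by
        rw [mem_stabilizer_iff]
        have hgg' : g • e0 = g' • e0 := hgg
        calc (g'⁻¹ * g) • e0 = g'⁻¹ • (g • e0) := mul_smul _ _ _
          _ = g'⁻¹ • (g' • e0) := congrArg (fun z => g'⁻¹ • z) hgg'
          _ = e0 := inv_smul_smul _ _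
      rw [hsharp, Subgroup.mem_bot] at h1
      exact (inv_mul_eq_one.1 h1).symm
    · intro e
      exact h3.exists_smul_eq e0 e
  rw [Nat.card_congr (Equiv.ofBijective φ hφ), Nat.card_eq_fintype_card,
    Fintype.card_embedding_eq, Fintype.card_fin]

theorem s0730_core (h729 : S729.{u}) {α : Type u} [Fintype α] [DecidableEq α] {p f : ℕ}
    (hp : p.Prime) (hp2 : p ≠ 2) (hfo : Odd f) (hα : Fintype.card α = p ^ f + 1)
    (G : Subgroup (Equiv.Perm α)) (h3 : MulAction.IsMultiplyPretransitive G α 3)
    (hsharp : ∀ x : Fin 3 ↪ α, MulAction.stabilizer G x = ⊥) :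
    ∃ (F : Type) (_ : Field F) (_ : Fintype F), Fintype.card F = p ^ f ∧
      Nonempty (G ≃* Matrix.ProjGenLinGroup (Fin 2) F) := by
  classical
  haveI : Fact p.Prime := ⟨hp⟩
  have hf0 : f ≠ 0 := by
    rintro rfl
    rcases hfo with ⟨j, hj⟩
    omega
  have hp3 : 3 ≤ p := by
    have := hp.two_le
    omega
  have hpf : p ≤ p ^ f := Nat.le_self_pow hf0 p
  by_cases h5 : 5 ≤ Fintype.card α
  · have hS := Sh3.s3_of_sharp h3 hsharp
    have h5' : 5 ≤ Nat.card α := by rwa [Nat.card_eq_fintype_card]
    obtain ⟨x⟩ : Nonempty α := (Nat.card_pos_iff.1 (by omega)).1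
    obtain ⟨y, hy⟩ := Sh3.exists_notMem ({x} : Finset α)
      (by rw [Finset.card_singleton]; omega)
    rw [Finset.mem_singleton] at hy
    obtain ⟨F, D, hd, hnr⟩ := hS.exists_zd h5' (Ne.symm hy)
    have hcF : Nat.card F = p ^ f := by
      have := D.card_Omega
      rw [Nat.card_eq_fintype_card, hα] at this
      omega
    letI : Fintype (GaloisField p f) := Fintype.ofFinite _
    refine ⟨GaloisField p f, inferInstance, inferInstance, ?_,
      D.pgl_of_sharp h729 p f hp2 hfo hcF hnr hd⟩
    rw [← Nat.card_eq_fintype_card, GaloisField.card p f hf0]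
  · -- the case of degree four
    have hpf3 : p ^ f = 3 := by omega
    have hp3' : p = 3 := by omega
    subst hp3'
    have hf1 : f = 1 := by
      rcases Nat.lt_or_ge f 2 with h | h
      · omega
      · have : 3 ^ 2 ≤ 3 ^ f := Nat.pow_le_pow_right (by norm_num) h
        omega
    subst hf1
    have hα' : Fintype.card α = 3 + 1 := by rw [hα]; norm_num
    have hG : Nat.card G = (3 + 1) * 3 * 2 := by
      rw [card_of_sharp G h3 hsharp (by omega), hα']
      rfl
    haveI : MulAction.IsPretransitive G α := by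
      have h13 : MulAction.IsMultiplyPretransitive G α 1 :=
        MulAction.isMultiplyPretransitive_of_le (n := 3) (by norm_num)
          (by rw [Nat.card_eq_fintype_card, hα']; norm_num)
      exact (MulAction.is_one_pretransitive_iff).1 h13
    have D : Data G 3 2 := ⟨hα', hG, by norm_num, by norm_num, inferInstance⟩
    obtain ⟨C, hinj, hHs⟩ := exists_ctx D
    exact ⟨ZMod 3, inferInstance, inferInstance, by rw [ZMod.card]; norm_num,
      C.pgl_of_card_Hs hinj hHs⟩

end Cfsg.Agent.Helper27.ZQ
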